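import Cfsg.Agent.Lib.helper3.GfDefs

/-!
# S4395, piece VQ: the quotient `P/N` of a cover as an irreducible module
-/

set_option autoImplicit false

namespace Cfsg.Agent.Lib.helper3.Gf

universe u

/-- abstract form: a commutative quotient `Q` of `P` with kernel `N` and the automorphism induced
by `y`. -/
theorem helper46_vq_aux (p q r : ℕ) {K : Type u} [Group K] [Finite K]
    (N P : Subgroup K) (y : K) (h : Cov p q r N P y)
    (Q : Type u) [CommGroup Q] [Finite Q] (π : ↥P →* Q) (hπs : Function.Surjective π)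
    (hπk : ∀ u : ↥P, π u = 1 ↔ (u : K) ∈ N) (τ : Q ≃* Q)
    (hτ : ∀ (u : ↥P) (hu : y * (u : K) * y⁻¹ ∈ P), τ (π u) = π ⟨y * (u : K) * y⁻¹, hu⟩) :
    ∃ (V : Type u) (_ : AddCommGroup V) (_ : Finite V) (T : V ≃+ V) (pr : ↥P → V), Irr p q T ∧
      Function.Surjective pr ∧ (∀ u v : ↥P, pr (u * v) = pr u + pr v) ∧
      (∀ u : ↥P, pr u = 0 ↔ (u : K) ∈ N) ∧
      (∀ (u : ↥P) (hu : y * (u : K) * y⁻¹ ∈ P), pr ⟨y * (u : K) * y⁻¹, hu⟩ = T (pr u)) := by
  have hPn := h.P_normal
  have hconj : ∀ (k : ℕ) (u : K), u ∈ P → y ^ k * u * (y ^ k)⁻¹ ∈ P := fun k u hu =>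
    hPn.conj_mem u hu (y ^ k)
  have hconj1 : ∀ (u : K), u ∈ P → y * u * y⁻¹ ∈ P := fun u hu => hPn.conj_mem u hu y
  -- iterates of τ
  have hiter : ∀ (k : ℕ) (u : ↥P), (⇑τ)^[k] (π u) = π ⟨y ^ k * (u : K) * (y ^ k)⁻¹, hconj k u u.2⟩ := by
    intro k
    induction k with
    | zero =>
      intro u
      rw [Function.iterate_zero, id]
      congr 1
      apply Subtype.ext
      simp
    | succ k ih =>
      intro u
      rw [Function.iterate_succ_apply', ih u, hτ _ (hconj1 _ (hconj k u u.2))]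
      congr 1
      apply Subtype.ext
      simp only [pow_succ']
      group
  have hsurj : ∀ v : Additive Q, ∃ u : ↥P, v = Additive.ofMul (π u) := by
    intro v
    obtain ⟨u, hu⟩ := hπs (Additive.toMul v)
    exact ⟨u, by rw [hu]; rfl⟩
  refine ⟨Additive Q, inferInstance, inferInstance, MulEquiv.toAdditive τ,
    fun u => Additive.ofMul (π u), ⟨?_, ?_, ?_, ?_⟩, ?_, ?_, ?_, ?_⟩
  · -- exponent p
    intro v
    obtain ⟨u, rfl⟩ := hsurj v
    change Additive.ofMul ((π u) ^ p) = Additive.ofMul 1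
    congr 1
    rw [← map_pow, hπk]
    exact h.pow_mem u u.2
  · -- T^q = 1
    intro v
    obtain ⟨u, rfl⟩ := hsurj v
    change Additive.ofMul ((⇑τ)^[q] (π u)) = Additive.ofMul (π u)
    · congr 1
      rw [hiter q u]
      have h1 := h.yq u u.2
      have h2 : π (⟨y ^ q * (u : K) * (y ^ q)⁻¹, hconj q u u.2⟩ * u⁻¹) = 1 := by
        rw [hπk]
        exact h1
      rw [map_mul, map_inv, mul_inv_eq_one] at h2
      exact h2
  · -- T ≠ 1
    obtain ⟨u, hu, hne⟩ := h.nontriv
    refine ⟨Additive.ofMul (π ⟨u, hu⟩), ?_⟩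
    intro heq
    have h1 : τ (π ⟨u, hu⟩) = π ⟨u, hu⟩ := congrArg Additive.toMul heq
    rw [hτ _ (hconj1 u hu)] at h1
    apply hne
    have h2 : π (⟨y * u * y⁻¹, hconj1 u hu⟩ * (⟨u, hu⟩ : ↥P)⁻¹) = 1 := by
      rw [map_mul, map_inv, h1, mul_inv_cancel]
    rw [hπk] at h2
    exact h2
  · -- irreducible
    intro W hW
    let W' : Subgroup K :=
      { carrier := {k | ∃ hk : k ∈ P, Additive.ofMul (π ⟨k, hk⟩) ∈ W}
        mul_mem' := by
          rintro a b ⟨ha, haW⟩ ⟨hb, hbW⟩
          refine ⟨P.mul_mem ha hb, ?_⟩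
          have h1 : Additive.ofMul (π ⟨a * b, P.mul_mem ha hb⟩)
              = Additive.ofMul (π ⟨a, ha⟩) + Additive.ofMul (π ⟨b, hb⟩) := by
            rw [← ofMul_mul, ← map_mul]
            rfl
          rw [h1]
          exact W.add_mem haW hbW
        one_mem' := by
          refine ⟨P.one_mem, ?_⟩
          have h1 : Additive.ofMul (π ⟨1, P.one_mem⟩) = (0 : Additive Q) := by
            have : (⟨1, P.one_mem⟩ : ↥P) = 1 := rfl
            rw [this, map_one]
            rfl
          rw [h1]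
          exact W.zero_mem
        inv_mem' := by
          rintro a ⟨ha, haW⟩
          refine ⟨P.inv_mem ha, ?_⟩
          have h1 : Additive.ofMul (π ⟨a⁻¹, P.inv_mem ha⟩) = - Additive.ofMul (π ⟨a, ha⟩) := by
            rw [← ofMul_inv, ← map_inv]
            rfl
          rw [h1]
          exact W.neg_mem haW }
    have hW'mem : ∀ k : K, k ∈ W' ↔ ∃ hk : k ∈ P, Additive.ofMul (π ⟨k, hk⟩) ∈ W := fun k => Iff.rfl
    have hNW : N ≤ W' := by
      intro n hn
      rw [hW'mem]
      refine ⟨h.N_le_P hn, ?_⟩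
      have h1 : π ⟨n, h.N_le_P hn⟩ = 1 := by
        rw [hπk]
        exact hn
      rw [h1]
      exact W.zero_mem
    have hWP : W' ≤ P := fun k hk => hk.1
    have hWy : ∀ w ∈ W', y * w * y⁻¹ ∈ W' := by
      rintro w ⟨hw, hwW⟩
      refine ⟨hconj1 w hw, ?_⟩
      rw [← hτ ⟨w, hw⟩ (hconj1 w hw)]
      exact hW _ hwW
    rcases h.irr W' hNW hWP hWy with h1 | h1
    · left
      rw [eq_bot_iff]
      intro v hv
      obtain ⟨u, rfl⟩ := hsurj v
      have h2 : (u : K) ∈ W' := ⟨u.2, hv⟩
      rw [h1] at h2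
      have h3 : π u = 1 := (hπk u).2 h2
      rw [AddSubgroup.mem_bot]
      change Additive.ofMul (π u) = Additive.ofMul 1
      rw [h3]
    · right
      rw [eq_top_iff]
      intro v _
      obtain ⟨u, rfl⟩ := hsurj v
      have h2 : (u : K) ∈ W' := by
        rw [h1]
        exact u.2
      obtain ⟨_, h3⟩ := h2
      exact h3
  · -- surjective
    intro v
    obtain ⟨u, rfl⟩ := hsurj v
    exact ⟨u, rfl⟩
  · intro u v
    change Additive.ofMul (π (u * v)) = Additive.ofMul (π u) + Additive.ofMul (π v)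
    rw [map_mul]
    rfl
  · intro u
    rw [← hπk u]
    constructor
    · intro h1
      exact congrArg Additive.toMul h1
    · intro h1
      change Additive.ofMul (π u) = Additive.ofMul 1
      rw [h1]
  · intro u hu
    change Additive.ofMul (π ⟨y * (u : K) * y⁻¹, hu⟩) = Additive.ofMul (τ (π u))
    rw [hτ u hu]

/-- VQ : the quotient `P/N` as an irreducible module (helper for COVQ and GOURSAT) -/
theorem vq (p q r : ℕ) [Fact p.Prime] [Fact q.Prime] (hpq : p ≠ q) {K : Type u} [Group K] [Finite K]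
    (N P : Subgroup K) (y : K) (h : Cov p q r N P y) :
    ∃ (V : Type u) (_ : AddCommGroup V) (_ : Finite V) (T : V ≃+ V) (pr : ↥P → V), Irr p q T ∧
      Function.Surjective pr ∧ (∀ u v : ↥P, pr (u * v) = pr u + pr v) ∧ (∀ u : ↥P, pr u = 0 ↔ (u : K) ∈ N) ∧
      (∀ (u : ↥P) (hu : y * (u : K) * y⁻¹ ∈ P), pr ⟨y * (u : K) * y⁻¹, hu⟩ = T (pr u)) := by
  have hPn : P.Normal := h.P_normal
  have hcen : ∀ n ∈ N, ∀ g : K, g * n * g⁻¹ = n := by
    intro n hn g
    have hc := h.N_central hn
    rw [Subgroup.mem_center_iff] at hc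
    rw [hc g, mul_inv_cancel_right]
  have hN'n : (N.subgroupOf P).Normal := by
    constructor
    intro n hn g
    rw [Subgroup.mem_subgroupOf] at hn ⊢
    have h1 : ((g * n * g⁻¹ : ↥P) : K) = (n : K) := by
      push_cast
      exact hcen _ hn _
    rw [h1]
    exact hn
  let cg : CommGroup (↥P ⧸ N.subgroupOf P) :=
    { (QuotientGroup.Quotient.group (N.subgroupOf P)) with
      mul_comm := by
        intro a b
        induction a using QuotientGroup.induction_on with
        | H a =>
          induction b using QuotientGroup.induction_on with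
          | H b =>
            rw [← QuotientGroup.mk_mul, ← QuotientGroup.mk_mul, QuotientGroup.eq,
              Subgroup.mem_subgroupOf]
            have h1 := h.comm_mem _ (P.inv_mem b.2) _ (P.inv_mem a.2)
            have h2 : (((a * b)⁻¹ * (b * a) : ↥P) : K)
                = (b : K)⁻¹ * (a : K)⁻¹ * ((b : K)⁻¹)⁻¹ * ((a : K)⁻¹)⁻¹ := by
              push_cast
              group
            rw [h2]
            exact h1 }
  have hmap : (N.subgroupOf P).map ((MulAut.conjNormal y : ↥P ≃* ↥P) : ↥P →* ↥P)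
      = N.subgroupOf P := by
    ext u
    constructor
    · rintro ⟨n, hn, rfl⟩
      have hn' : (n : K) ∈ N := Subgroup.mem_subgroupOf.1 hn
      rw [Subgroup.mem_subgroupOf]
      have h1 : ((((MulAut.conjNormal y : ↥P ≃* ↥P) : ↥P →* ↥P) n : ↥P) : K) = (n : K) := by
        change ((MulAut.conjNormal y n : ↥P) : K) = (n : K)
        rw [MulAut.conjNormal_apply]
        exact hcen _ hn' _
      rw [h1]
      exact hn'
    · intro hu
      have hu' : (u : K) ∈ N := Subgroup.mem_subgroupOf.1 hu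
      refine ⟨u, hu, ?_⟩
      apply Subtype.ext
      change ((MulAut.conjNormal y u : ↥P) : K) = (u : K)
      rw [MulAut.conjNormal_apply]
      exact hcen _ hu' _
  exact @helper46_vq_aux p q r K _ _ N P y h (↥P ⧸ N.subgroupOf P) cg inferInstance
    (QuotientGroup.mk' (N.subgroupOf P))
    (QuotientGroup.mk'_surjective _)
    (fun u => by
      rw [QuotientGroup.mk'_apply, QuotientGroup.eq_one_iff, Subgroup.mem_subgroupOf])
    (QuotientGroup.congr (N.subgroupOf P) (N.subgroupOf P) (MulAut.conjNormal y) hmap)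
    (fun u hu => by
      rw [QuotientGroup.mk'_apply, QuotientGroup.congr_mk]
      congr 1)

end Cfsg.Agent.Lib.helper3.Gf
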