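import Mathlib
import Cfsg.Agent.Lib.helper24.SfuDefs

/-!
# S5982, piece ONB: orthonormal bases for unitary forms over a field with `q₀²` elements
-/

set_option autoImplicit false

namespace Cfsg.Agent.Lib.helper24

open Module Matrix Cfsg.Geo

theorem h46_sfu_two_le {F : Type*} [Field F] [Fintype F] (q₀ : ℕ)
    (hcard : Fintype.card F = q₀ ^ 2) : 2 ≤ q₀ := by
  have h1 : 1 < Fintype.card F := Fintype.one_lt_card
  rw [hcard] at h1
  by_contra h
  push Not at h
  interval_cases q₀ <;> simp at h1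

theorem h46_sfu_pow_pow {F : Type*} [Field F] [Fintype F] (q₀ : ℕ)
    (hcard : Fintype.card F = q₀ ^ 2) (c : F) : (c ^ q₀) ^ q₀ = c := by
  rw [← pow_mul, ← sq, ← hcard, FiniteField.pow_card]

theorem h46_sfu_add_pow {F : Type*} [Field F] [Fintype F] (q₀ : ℕ)
    (hcard : Fintype.card F = q₀ ^ 2) (a b : F) : (a + b) ^ q₀ = a ^ q₀ + b ^ q₀ := by
  obtain ⟨p, hp⟩ := CharP.exists F
  obtain ⟨k, hprime, hcard'⟩ := FiniteField.card F p
  have hdvd : q₀ ∣ p ^ (k : ℕ) := by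
    rw [← hcard', hcard]
    exact dvd_pow_self _ two_ne_zero
  obtain ⟨j, -, rfl⟩ := (Nat.dvd_prime_pow hprime).1 hdvd
  have : Fact p.Prime := ⟨hprime⟩
  exact add_pow_char_pow a b p j

theorem h46_sfu_gen {F : Type*} [Field F] [Fintype F] (q₀ : ℕ)
    (hcard : Fintype.card F = q₀ ^ 2) :
    ∃ g : Fˣ, orderOf g = q₀ ^ 2 - 1 ∧ ∀ x : Fˣ, ∃ k : ℕ, g ^ k = x := by
  classical
  obtain ⟨g, hg⟩ := IsCyclic.exists_generator (α := Fˣ)
  refine ⟨g, ?_, ?_⟩
  · rw [orderOf_eq_card_of_forall_mem_zpowers hg, Nat.card_eq_fintype_card, Fintype.card_units,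
      hcard]
  · intro x
    exact (Submonoid.mem_powers_iff _ _).1 (mem_powers_iff_mem_zpowers.2 (hg x))

theorem h46_sfu_not_all_fixed {F : Type*} [Field F] [Fintype F] (q₀ : ℕ)
    (hcard : Fintype.card F = q₀ ^ 2) : ∃ c : F, c ^ q₀ ≠ c := by
  by_contra hall
  push Not at hall
  have h2 := h46_sfu_two_le q₀ hcard
  obtain ⟨g, hg, -⟩ := h46_sfu_gen q₀ hcard
  have h1 : g ^ (q₀ - 1) = 1 := by
    apply Units.ext
    rw [Units.val_pow_eq_pow_val, Units.val_one]
    have h3 : (g : F) ^ (q₀ - 1) * g = g := by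
      rw [← pow_succ, Nat.sub_add_cancel (by omega), hall]
    exact mul_right_cancel₀ (Units.ne_zero g) (by rw [h3, one_mul])
  have hdvd : q₀ ^ 2 - 1 ∣ q₀ - 1 := by
    rw [← hg]
    exact orderOf_dvd_of_pow_eq_one h1
  have hle := Nat.le_of_dvd (by omega) hdvd
  have h4 : 1 ≤ q₀ ^ 2 := Nat.one_le_pow _ _ (by omega)
  have h5 : q₀ ^ 2 ≤ q₀ := by omega
  nlinarith

theorem h46_sfu_norm_surj {F : Type*} [Field F] [Fintype F] (q₀ : ℕ)
    (hcard : Fintype.card F = q₀ ^ 2) (a : F) (ha : a ≠ 0) (ha' : a ^ q₀ = a) :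
    ∃ c : F, c ≠ 0 ∧ c ^ (q₀ + 1) = a := by
  have h2 := h46_sfu_two_le q₀ hcard
  obtain ⟨g, hg, hgen⟩ := h46_sfu_gen q₀ hcard
  obtain ⟨k, hk⟩ := hgen (Units.mk0 a ha)
  have h1 : (Units.mk0 a ha) ^ (q₀ - 1) = 1 := by
    apply Units.ext
    rw [Units.val_pow_eq_pow_val, Units.val_one, Units.val_mk0]
    have h3 : a ^ (q₀ - 1) * a = a := by
      rw [← pow_succ, Nat.sub_add_cancel (by omega), ha']
    exact mul_right_cancel₀ ha (by rw [h3, one_mul])
  rw [← hk, ← pow_mul] at h1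
  have hdvd : q₀ ^ 2 - 1 ∣ k * (q₀ - 1) := by
    rw [← hg]
    exact orderOf_dvd_of_pow_eq_one h1
  have hfac : q₀ ^ 2 - 1 = (q₀ + 1) * (q₀ - 1) := by
    obtain ⟨t, rfl⟩ : ∃ t, q₀ = t + 1 := ⟨q₀ - 1, by omega⟩
    simp only [Nat.add_sub_cancel]
    have : (t + 1) ^ 2 = (t + 1 + 1) * t + 1 := by ring
    rw [this, Nat.add_sub_cancel]
  rw [hfac] at hdvd
  have hdvd' : q₀ + 1 ∣ k := Nat.dvd_of_mul_dvd_mul_right (by omega) hdvd
  obtain ⟨m, rfl⟩ := hdvd'
  refine ⟨((g ^ m : Fˣ) : F), Units.ne_zero _, ?_⟩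
  have h6 := congrArg (fun u : Fˣ => (u : F)) hk
  simp only [Units.val_mk0] at h6
  rw [← h6]
  push_cast
  rw [← pow_mul, mul_comm]

/-- the linear functional `x ↦ f x v` -/
def h46_sfuL {F : Type*} [Field F] {n : ℕ} (q₀ : ℕ) (f : (Fin n → F) → (Fin n → F) → F)
    (hf : IsUnitaryFormPow q₀ f) (v : Fin n → F) : (Fin n → F) →ₗ[F] F where
  toFun x := f x v
  map_add' x y := hf.add_left x y v
  map_smul' c x := by simpa using hf.smul_left c x v

theorem h46_sfuL_apply {F : Type*} [Field F] {n : ℕ} (q₀ : ℕ)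
    (f : (Fin n → F) → (Fin n → F) → F) (hf : IsUnitaryFormPow q₀ f) (v x : Fin n → F) :
    h46_sfuL q₀ f hf v x = f x v := rfl

theorem h46_sfu_add_right {F : Type*} [Field F] [Fintype F] {n : ℕ} (q₀ : ℕ)
    (hcard : Fintype.card F = q₀ ^ 2) (f : (Fin n → F) → (Fin n → F) → F)
    (hf : IsUnitaryFormPow q₀ f) (v x y : Fin n → F) : f v (x + y) = f v x + f v y := by
  rw [hf.herm v (x + y), hf.add_left, h46_sfu_add_pow q₀ hcard, ← hf.herm, ← hf.herm]

theorem h46_sfu_smul_right {F : Type*} [Field F] {n : ℕ} (q₀ : ℕ)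
    (f : (Fin n → F) → (Fin n → F) → F)
    (hf : IsUnitaryFormPow q₀ f) (c : F) (v x : Fin n → F) : f v (c • x) = c ^ q₀ * f v x := by
  rw [hf.herm v (c • x), hf.smul_left, mul_pow, ← hf.herm]

/-- The key step: an orthonormal family of fewer than `n` vectors has a vector of norm one
orthogonal to it. -/
theorem h46_sfu_step {F : Type*} [Field F] [Fintype F] {n : ℕ} (q₀ : ℕ)
    (hcard : Fintype.card F = q₀ ^ 2) (f : (Fin n → F) → (Fin n → F) → F)
    (hf : IsUnitaryFormPow q₀ f) {k : ℕ} (hk : k < n) (e : Fin k → (Fin n → F))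
    (he : ∀ i j, f (e i) (e j) = if i = j then 1 else 0) :
    ∃ u : Fin n → F, f u u = 1 ∧ ∀ i, f u (e i) = 0 := by
  have h2 := h46_sfu_two_le q₀ hcard
  have hq0 : q₀ ≠ 0 := by omega
  have hLapp := h46_sfuL_apply q₀ f hf
  have hR_add := h46_sfu_add_right q₀ hcard f hf
  have hR_smul := h46_sfu_smul_right q₀ f hf
  -- the map to `Fin k → F`
  let Φ : (Fin n → F) →ₗ[F] (Fin k → F) := LinearMap.pi (fun i => h46_sfuL q₀ f hf (e i))
  have hΦ : ∀ x i, Φ x i = f x (e i) := fun x i => rfl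
  have hker : LinearMap.ker Φ ≠ ⊥ := by
    apply LinearMap.ker_ne_bot_of_finrank_lt
    rw [Module.finrank_fin_fun, Module.finrank_fin_fun]
    exact hk
  obtain ⟨u, hu, hu0⟩ := (Submodule.ne_bot_iff _).1 hker
  have hue : ∀ i, f u (e i) = 0 := by
    intro i
    have := congrFun (LinearMap.mem_ker.1 hu) i
    rw [hΦ] at this
    simpa using this
  -- the projection
  have hP : ∀ x j, f (x - ∑ i, f x (e i) • e i) (e j) = 0 := by
    intro x j
    rw [← hLapp, map_sub, map_sum]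
    simp only [hLapp, hf.smul_left, he, mul_ite, mul_one, mul_zero,
      Finset.sum_ite_eq', Finset.mem_univ, if_true, sub_self]
  have hP2 : ∀ x w, (∀ i, f w (e i) = 0) → f (x - ∑ i, f x (e i) • e i) w = f x w := by
    intro x w hw
    rw [← hLapp, map_sub, map_sum]
    have h0 : ∀ i, f (e i) w = 0 := by
      intro i
      rw [hf.herm, hw i, zero_pow hq0]
    simp only [hLapp, hf.smul_left, h0, mul_zero, Finset.sum_const_zero, sub_zero]
  by_contra hcon
  push Not at hcon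
  -- every vector orthogonal to the family is isotropic
  have hiso : ∀ w, (∀ i, f w (e i) = 0) → f w w = 0 := by
    intro w hw
    by_contra hne
    have hfix : (f w w) ^ q₀ = f w w := (hf.herm w w).symm
    obtain ⟨c, hc0, hc⟩ := h46_sfu_norm_surj q₀ hcard (f w w) hne hfix
    obtain ⟨i, hi⟩ := hcon (c⁻¹ • w) (by
      rw [hf.smul_left, hR_smul, ← hc, inv_pow, pow_succ]
      field_simp)
    apply hi
    rw [hf.smul_left, hw i, mul_zero]
  obtain ⟨x, hx⟩ := (hf.nondegenerate u hu0).1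
  set x' := x - ∑ i, f x (e i) • e i with hx'
  have hx'e : ∀ i, f x' (e i) = 0 := hP x
  have ha : f x' u ≠ 0 := by rw [hP2 x u hue]; exact hx
  have key : ∀ c : F, c ^ q₀ * f x' u + c * (f x' u) ^ q₀ = 0 := by
    intro c
    have hmem : ∀ i, f (x' + c • u) (e i) = 0 := by
      intro i
      rw [hf.add_left, hf.smul_left, hx'e i, hue i, mul_zero, add_zero]
    have h0 := hiso _ hmem
    rw [hf.add_left, hf.smul_left, hR_add, hR_add, hR_smul, hR_smul, hiso x' hx'e, hiso u hue,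
      hf.herm u x'] at h0
    rw [← h0]
    ring
  have h1 := key 1
  rw [one_pow, one_mul, one_mul] at h1
  have h3 : (f x' u) ^ q₀ = - f x' u := by linear_combination h1
  obtain ⟨c, hc⟩ := h46_sfu_not_all_fixed q₀ hcard
  apply hc
  have h4 := key c
  rw [h3] at h4
  have h5 : (c ^ q₀ - c) * f x' u = 0 := by linear_combination h4
  rcases mul_eq_zero.1 h5 with h6 | h6
  · exact sub_eq_zero.1 h6
  · exact absurd h6 ha

theorem h46_sfu_li {F : Type*} [Field F] {n : ℕ} (q₀ : ℕ)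
    (f : (Fin n → F) → (Fin n → F) → F) (hf : IsUnitaryFormPow q₀ f) {k : ℕ}
    (e : Fin k → (Fin n → F))
    (he : ∀ i j, f (e i) (e j) = if i = j then 1 else 0) : LinearIndependent F e := by
  rw [Fintype.linearIndependent_iff]
  intro g hg j
  have h := congrArg (fun x => h46_sfuL q₀ f hf (e j) x) hg
  simp only [map_sum, map_smul, map_zero, smul_eq_mul, h46_sfuL_apply, he, mul_ite, mul_one,
    mul_zero, Finset.sum_ite_eq', Finset.mem_univ, if_true] at h
  exact h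

theorem h46_sfu_cons {F : Type*} [Field F] {n : ℕ} (q₀ : ℕ) (hq0 : q₀ ≠ 0)
    (f : (Fin n → F) → (Fin n → F) → F) (hf : IsUnitaryFormPow q₀ f) {k : ℕ}
    (e : Fin k → (Fin n → F))
    (he : ∀ i j, f (e i) (e j) = if i = j then 1 else 0) (u : Fin n → F) (huu : f u u = 1)
    (hue : ∀ i, f u (e i) = 0) :
    ∀ i j : Fin (k + 1), f ((Fin.cons u e : Fin (k + 1) → (Fin n → F)) i)
      ((Fin.cons u e : Fin (k + 1) → (Fin n → F)) j) = if i = j then 1 else 0 := by
  intro i j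
  refine Fin.cases ?_ (fun i' => ?_) i <;> refine Fin.cases ?_ (fun j' => ?_) j
  · simp [huu]
  · rw [Fin.cons_zero, Fin.cons_succ, hue, if_neg (Fin.succ_ne_zero j').symm]
  · rw [Fin.cons_zero, Fin.cons_succ, hf.herm, hue, zero_pow hq0, if_neg (Fin.succ_ne_zero i')]
  · rw [Fin.cons_succ, Fin.cons_succ, he]
    simp only [Fin.succ_inj]

theorem h46_sfu_onb_aux {F : Type*} [Field F] [Fintype F] {n : ℕ} (q₀ : ℕ)
    (hcard : Fintype.card F = q₀ ^ 2) (f : (Fin n → F) → (Fin n → F) → F)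
    (hf : IsUnitaryFormPow q₀ f) : ∀ k, k ≤ n → ∃ e : Fin k → (Fin n → F),
      ∀ i j, f (e i) (e j) = if i = j then 1 else 0 := by
  have h2 := h46_sfu_two_le q₀ hcard
  intro k
  induction k with
  | zero => intro _; exact ⟨Fin.elim0, fun i => i.elim0⟩
  | succ k ih =>
    intro hk
    obtain ⟨e, he⟩ := ih (by omega)
    obtain ⟨u, huu, hue⟩ := h46_sfu_step q₀ hcard f hf (by omega) e he
    exact ⟨Fin.cons u e, h46_sfu_cons q₀ (by omega) f hf e he u huu hue⟩

/-- ONB -/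
theorem sfu_onb {F : Type*} [Field F] [Fintype F] {n : ℕ} (q₀ : ℕ)
    (hcard : Fintype.card F = q₀ ^ 2) (f : (Fin n → F) → (Fin n → F) → F)
    (hf : IsUnitaryFormPow q₀ f) :
    ∃ e : Fin n → (Fin n → F), LinearIndependent F e ∧
      ∀ i j, f (e i) (e j) = if i = j then 1 else 0 := by
  obtain ⟨e, he⟩ := h46_sfu_onb_aux q₀ hcard f hf n le_rfl
  exact ⟨e, h46_sfu_li q₀ f hf e he, he⟩

theorem h46_sfu_ext_aux {F : Type*} [Field F] [Fintype F] {n : ℕ} (q₀ : ℕ)
    (hcard : Fintype.card F = q₀ ^ 2) (f : (Fin n → F) → (Fin n → F) → F)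
    (hf : IsUnitaryFormPow q₀ f) (v : Fin n → F) (hv : f v v = 1) :
    ∀ k, k + 1 ≤ n → ∃ e : Fin (k + 1) → (Fin n → F),
      (∀ i j, f (e i) (e j) = if i = j then 1 else 0) ∧ e (Fin.last k) = v := by
  have h2 := h46_sfu_two_le q₀ hcard
  intro k
  induction k with
  | zero =>
    intro _
    refine ⟨fun _ => v, ?_, rfl⟩
    intro i j
    have hij : i = j := Fin.ext (by have := i.isLt; have := j.isLt; omega)
    rw [hv, if_pos hij]
  | succ k ih =>
    intro hk
    obtain ⟨e, he, hlast⟩ := ih (by omega)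
    obtain ⟨u, huu, hue⟩ := h46_sfu_step q₀ hcard f hf (by omega) e he
    refine ⟨Fin.cons u e, h46_sfu_cons q₀ (by omega) f hf e he u huu hue, ?_⟩
    rw [← Fin.succ_last, Fin.cons_succ, hlast]

/-- EXT (spare copy under a prefixed name) -/
theorem h46_sfu_onb_extend {F : Type*} [Field F] [Fintype F] {m : ℕ} (q₀ : ℕ)
    (hcard : Fintype.card F = q₀ ^ 2) (f : (Fin (m + 1) → F) → (Fin (m + 1) → F) → F)
    (hf : IsUnitaryFormPow q₀ f) (v : Fin (m + 1) → F) (hv : f v v = 1) :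
    ∃ e : Fin (m + 1) → (Fin (m + 1) → F), LinearIndependent F e ∧
      (∀ i j, f (e i) (e j) = if i = j then 1 else 0) ∧ e (Fin.last m) = v := by
  obtain ⟨e, he, hlast⟩ := h46_sfu_ext_aux q₀ hcard f hf v hv m le_rfl
  exact ⟨e, h46_sfu_li q₀ f hf e he, he, hlast⟩

end Cfsg.Agent.Lib.helper24
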