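import Mathlib

/-!
# S4441 / S0960 piece GS (helper46): group structure around a Sylow subgroup of prime order

`P` a Sylow `p`-subgroup of order `p`, `C = C_G(P)`, `N = N_G(P)`.
* `d1_sylow_gen`: `P = ⟨x⟩`.
* `d1_exists_K`: the `p`-regular elements of `C` form a subgroup `K`, `C = P K`, `|C| = p |K|`.
* `d1_conj_inter_pregular`: `g ∉ N`, `c ∈ C ∩ g⁻¹ C g` ⟹ `c` is `p`-regular.
* `d1_normalizer_cyclic`, `d1_relIndex_dvd`: `N / C` is cyclic of order dividing `p - 1`.
* `d1_psingular_conj`: every `p`-singular element is conjugate to `x ^ u * k`.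
* `d1_conj_mem_P`, `d1_conj_in_P`: fusion of `P` is controlled by `N`.
-/

set_option autoImplicit false

namespace Cfsg.Agent.Lib.helper46

variable {G : Type*} [Group G] [Fintype G]

/-- A subgroup of prime order is generated by each of its nontrivial elements. -/
theorem d1gs_eq_zpowers (p : ℕ) [Fact p.Prime] (H : Subgroup G) (hH : Nat.card H = p) (z : G)
    (hz : z ∈ H) (hz1 : z ≠ 1) : H = Subgroup.zpowers z ∧ orderOf z = p := by
  have hp : p.Prime := Fact.out
  have hord : orderOf z = p := by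
    have h := orderOf_dvd_natCard (⟨z, hz⟩ : H)
    rw [hH, Subgroup.orderOf_mk] at h
    rcases (Nat.dvd_prime hp).mp h with h1 | h1
    · exact absurd (orderOf_eq_one_iff.mp h1) hz1
    · exact h1
  refine ⟨(Subgroup.eq_of_le_of_card_ge ((Subgroup.zpowers_le).mpr hz) ?_).symm, hord⟩
  rw [Nat.card_zpowers, hord, hH]

omit [Fintype G] in
/-- An element with `z ^ p = 1` normalizing a Sylow `p`-subgroup lies in it. -/
theorem d1gs_mem_of_pow (p : ℕ) [Fact p.Prime] (P : Sylow p G) (z : G) (hz : z ^ p = 1)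
    (hzN : z ∈ Subgroup.normalizer ((P : Subgroup G) : Set G)) : z ∈ (P : Subgroup G) := by
  have hp : p.Prime := Fact.out
  have hpg : IsPGroup p (Subgroup.zpowers z) := by
    have hc : Nat.card (Subgroup.zpowers z) ∣ p := by
      rw [Nat.card_zpowers]
      exact orderOf_dvd_of_pow_eq_one hz
    rcases (Nat.dvd_prime hp).mp hc with h | h
    · exact IsPGroup.of_card (n := 0) (by rw [h, pow_zero])
    · exact IsPGroup.of_card (n := 1) (by rw [h, pow_one])
  have h := hpg.inf_normalizer_sylow P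
  have hz' : z ∈ Subgroup.zpowers z ⊓ Subgroup.normalizer ((P : Subgroup G) : Set G) :=
    ⟨Subgroup.mem_zpowers z, hzN⟩
  have hz'' : z ∈ Subgroup.zpowers z ⊓ (P : Subgroup G) := by
    rw [← h]
    exact hz'
  exact hz''.2

/-- An element with `z ^ p = 1` is conjugate into any Sylow `p`-subgroup. -/
theorem d1gs_conj_mem (p : ℕ) [Fact p.Prime] (P : Sylow p G) (z : G) (hz : z ^ p = 1) :
    ∃ h : G, h * z * h⁻¹ ∈ (P : Subgroup G) := by
  have hp : p.Prime := Fact.out
  have hpg : IsPGroup p (Subgroup.zpowers z) := by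
    have hc : Nat.card (Subgroup.zpowers z) ∣ p := by
      rw [Nat.card_zpowers]
      exact orderOf_dvd_of_pow_eq_one hz
    rcases (Nat.dvd_prime hp).mp hc with h | h
    · exact IsPGroup.of_card (n := 0) (by rw [h, pow_zero])
    · exact IsPGroup.of_card (n := 1) (by rw [h, pow_one])
  obtain ⟨Q, hQ⟩ := hpg.exists_le_sylow
  obtain ⟨g, hg⟩ := MulAction.exists_smul_eq G Q P
  refine ⟨g, ?_⟩
  have hzQ : z ∈ (Q : Subgroup G) := hQ (Subgroup.mem_zpowers z)
  have h : g * z * g⁻¹ ∈ ((g • Q : Sylow p G) : Subgroup G) := by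
    rw [Sylow.coe_subgroup_smul]
    exact Subgroup.mem_pointwise_smul_iff_inv_smul_mem.mpr (by
      rw [MulAut.smul_def, ← map_inv, MulAut.conj_apply]
      have e : g⁻¹ * (g * z * g⁻¹) * g⁻¹⁻¹ = z := by group
      rw [e]
      exact hzQ)
  rwa [hg] at h

/-- If `a` conjugates a nontrivial element of `P` into `P`, then `a` normalizes `P`. -/
theorem d1gs_mem_normalizer (p : ℕ) [Fact p.Prime] (P : Sylow p G) (hP : Nat.card P = p)
    (a y : G) (hy : y ∈ (P : Subgroup G)) (hy1 : y ≠ 1) (hay : a * y * a⁻¹ ∈ (P : Subgroup G)) :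
    a ∈ Subgroup.normalizer ((P : Subgroup G) : Set G) := by
  apply Sylow.smul_eq_iff_mem_normalizer.mp
  have hz1 : a * y * a⁻¹ ≠ 1 := by
    intro h
    apply hy1
    have e : y = a⁻¹ * (a * y * a⁻¹) * a := by group
    rw [e, h]
    group
  have hmem : a * y * a⁻¹ ∈ ((a • P : Sylow p G) : Subgroup G) := by
    rw [Sylow.coe_subgroup_smul]
    exact Subgroup.mem_pointwise_smul_iff_inv_smul_mem.mpr (by
      rw [MulAut.smul_def, ← map_inv, MulAut.conj_apply]
      have e : a⁻¹ * (a * y * a⁻¹) * a⁻¹⁻¹ = y := by group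
      rw [e]
      exact hy)
  have hcard : Nat.card ((a • P : Sylow p G) : Subgroup G) = p :=
    (Sylow.card_eq_multiplicity (a • P)).trans ((Sylow.card_eq_multiplicity P).symm.trans hP)
  apply Sylow.ext
  rw [(d1gs_eq_zpowers p _ hcard _ hmem hz1).1, (d1gs_eq_zpowers p _ hP _ hay hz1).1]

/-- `p ^ 2` does not divide the order of `G`. -/
theorem d1gs_not_sq_dvd (p : ℕ) [Fact p.Prime] (P : Sylow p G) (hP : Nat.card P = p) :
    ¬ p ^ 2 ∣ Nat.card G := by
  have hp : p.Prime := Fact.out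
  intro h2
  have h3 := P.pow_dvd_card_of_pow_dvd_card h2
  rw [hP] at h3
  have h4 := Nat.le_of_dvd hp.pos h3
  nlinarith [hp.two_le]

/-- The automorphism group of a group of prime order `p` is cyclic of order `p - 1`. -/
theorem d1gs_mulAut (p : ℕ) [Fact p.Prime] {H : Type*} [Group H] (hH : Nat.card H = p) :
    IsCyclic (MulAut H) ∧ Nat.card (MulAut H) = p - 1 := by
  have hcyc : IsCyclic H := isCyclic_of_prime_card hH
  have e := IsCyclic.mulAutMulEquiv H
  rw [hH] at e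
  refine ⟨isCyclic_of_surjective e.symm e.symm.surjective, ?_⟩
  rw [Nat.card_congr e.toEquiv, Nat.card_eq_fintype_card, ZMod.card_units]

theorem d1_sylow_gen (p : ℕ) [Fact p.Prime] (P : Sylow p G) (hP : Nat.card P = p) :
    ∃ x : G, x ∈ (P : Subgroup G) ∧ x ≠ 1 ∧ orderOf x = p ∧
      (P : Subgroup G) = Subgroup.zpowers x := by
  have hp : p.Prime := Fact.out
  have hnt : Nontrivial (P : Subgroup G) := by
    rw [← Finite.one_lt_card_iff_nontrivial, hP]
    exact hp.one_lt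
  obtain ⟨⟨x, hx⟩, hx1⟩ := exists_ne (1 : (P : Subgroup G))
  have hx1' : x ≠ 1 := fun h => hx1 (Subtype.ext h)
  obtain ⟨h1, h2⟩ := d1gs_eq_zpowers p (P : Subgroup G) hP x hx hx1'
  exact ⟨x, hx, hx1', h2, h1⟩

theorem d1_exists_K (p : ℕ) [Fact p.Prime] (P : Sylow p G) (hP : Nat.card P = p) :
    ∃ K : Subgroup G,
      (∀ g : G, g ∈ K ↔ g ∈ Subgroup.centralizer ((P : Subgroup G) : Set G) ∧ ¬ p ∣ orderOf g) ∧
      (∀ c ∈ Subgroup.centralizer ((P : Subgroup G) : Set G),
        ∃ y ∈ (P : Subgroup G), ∃ k ∈ K, c = y * k) ∧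
      Nat.card (Subgroup.centralizer ((P : Subgroup G) : Set G)) = p * Nat.card K := by
  have hp : p.Prime := Fact.out
  obtain ⟨C, hC⟩ : ∃ C : Subgroup G, C = Subgroup.centralizer ((P : Subgroup G) : Set G) :=
    ⟨_, rfl⟩
  rw [← hC]
  have hcomm : ∀ c ∈ C, ∀ y ∈ (P : Subgroup G), y * c = c * y := by
    intro c hc y hy
    rw [hC] at hc
    exact Subgroup.mem_centralizer_iff.mp hc y hy
  have hPC : (P : Subgroup G) ≤ C := by
    have hcyc : IsCyclic (P : Subgroup G) := isCyclic_of_prime_card hP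
    obtain ⟨gen, hgen⟩ := hcyc.exists_generator
    intro q hq
    rw [hC, Subgroup.mem_centralizer_iff]
    intro r hr
    obtain ⟨i, hi⟩ := Subgroup.mem_zpowers_iff.mp (hgen ⟨r, hr⟩)
    obtain ⟨j, hj⟩ := Subgroup.mem_zpowers_iff.mp (hgen ⟨q, hq⟩)
    have h : (⟨r, hr⟩ : (P : Subgroup G)) * ⟨q, hq⟩ = ⟨q, hq⟩ * ⟨r, hr⟩ := by
      rw [← hi, ← hj]
      exact zpow_mul_comm gen i j
    exact congrArg Subtype.val h
  obtain ⟨N, hN⟩ : ∃ N : Subgroup C, N = (P : Subgroup G).subgroupOf C := ⟨_, rfl⟩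
  have hmemN : ∀ n : C, n ∈ N ↔ (n : G) ∈ (P : Subgroup G) := by
    intro n
    rw [hN, Subgroup.mem_subgroupOf]
  have hNn : N.Normal := by
    constructor
    intro n hn g
    have e : g * n * g⁻¹ = n := by
      apply Subtype.ext
      have h := hcomm (g : G) g.2 (n : G) ((hmemN n).mp hn)
      simp only [Subgroup.coe_mul, InvMemClass.coe_inv]
      rw [← h, mul_inv_cancel_right]
    rw [e]
    exact hn
  have hNcard : Nat.card N = p := by
    rw [hN, Nat.card_congr (Subgroup.subgroupOfEquivOfLe hPC).toEquiv]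
    exact hP
  have hnot : ¬ p ^ 2 ∣ Nat.card C := fun h =>
    d1gs_not_sq_dvd p P hP (h.trans (Subgroup.card_subgroup_dvd_card C))
  have hcop : Nat.Coprime (Nat.card N) N.index := by
    rw [hNcard, Nat.Prime.coprime_iff_not_dvd hp]
    intro h
    apply hnot
    have h1 := Subgroup.card_mul_index N
    rw [hNcard] at h1
    rw [← h1, pow_two]
    exact Nat.mul_dvd_mul_left p h
  obtain ⟨H, hH⟩ := Subgroup.exists_right_complement'_of_coprime hcop
  have hcard := hH.card_mul_card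
  rw [hNcard] at hcard
  have hpH : ¬ p ∣ Nat.card H := by
    intro h
    apply hnot
    rw [← hcard, pow_two]
    exact Nat.mul_dvd_mul_left p h
  have hdisj : ∀ n : C, n ∈ N → n ∈ H → n = 1 := by
    intro n h1 h2
    have h3 := hH.disjoint
    rw [Subgroup.disjoint_def] at h3
    exact h3 h1 h2
  have hdecomp : ∀ c : C, ∃ n ∈ N, ∃ h ∈ H, n * h = c := by
    intro c
    obtain ⟨x, hx, -⟩ := (Subgroup.isComplement_iff_existsUnique.mp hH) c
    exact ⟨x.1.1, x.1.2, x.2.1, x.2.2, hx⟩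
  refine ⟨H.map C.subtype, ?_, ?_, ?_⟩
  · intro g
    constructor
    · rintro ⟨h, hh, rfl⟩
      refine ⟨h.2, ?_⟩
      have h1 := orderOf_dvd_natCard (⟨h, hh⟩ : H)
      rw [Subgroup.orderOf_mk] at h1
      have h2 : orderOf ((C.subtype h : G)) = orderOf h := Subgroup.orderOf_coe h
      rw [h2]
      exact fun h3 => hpH (h3.trans h1)
    · rintro ⟨hgC, hgo⟩
      obtain ⟨n, hn, h, hh, hnh⟩ := hdecomp ⟨g, hgC⟩
      have hcm : Commute n h := by
        have h1 := hcomm (h : G) h.2 (n : G) ((hmemN n).mp hn)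
        exact Subtype.ext h1
      have hpow : n ^ orderOf g * h ^ orderOf g = 1 := by
        rw [← hcm.mul_pow, hnh]
        apply Subtype.ext
        simp only [Subgroup.coe_pow, Subgroup.coe_one]
        exact pow_orderOf_eq_one g
      have hn1 : n ^ orderOf g = 1 := by
        apply hdisj _ (pow_mem hn _)
        have e : n ^ orderOf g = (h ^ orderOf g)⁻¹ := eq_inv_of_mul_eq_one_left hpow
        rw [e]
        exact inv_mem (pow_mem hh _)
      have hnp : n ^ p = 1 := by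
        have h1 := pow_card_eq_one' (G := N) (x := ⟨n, hn⟩)
        rw [hNcard] at h1
        exact congrArg Subtype.val h1
      have hn' : n = 1 := by
        have h1 : orderOf n ∣ Nat.gcd (orderOf g) p :=
          Nat.dvd_gcd (orderOf_dvd_of_pow_eq_one hn1) (orderOf_dvd_of_pow_eq_one hnp)
        have h2 : Nat.gcd (orderOf g) p = 1 := by
          have h3 : Nat.Coprime p (orderOf g) := (Nat.Prime.coprime_iff_not_dvd hp).mpr hgo
          exact h3.symm
        rw [h2] at h1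
        exact orderOf_eq_one_iff.mp (Nat.dvd_one.mp h1)
      rw [hn', one_mul] at hnh
      refine ⟨h, hh, ?_⟩
      rw [hnh]
      rfl
  · intro c hc
    obtain ⟨n, hn, h, hh, hnh⟩ := hdecomp ⟨c, hc⟩
    refine ⟨(n : G), (hmemN n).mp hn, (h : G), ⟨h, hh, rfl⟩, ?_⟩
    have h1 := congrArg Subtype.val hnh
    exact h1.symm
  · rw [Subgroup.card_map_of_injective (Subgroup.subtype_injective _)]
    exact hcard.symm

theorem d1_conj_inter_pregular (p : ℕ) [Fact p.Prime] (P : Sylow p G) (hP : Nat.card P = p)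
    (g : G) (hg : g ∉ Subgroup.normalizer ((P : Subgroup G) : Set G))
    (c : G) (hc : c ∈ Subgroup.centralizer ((P : Subgroup G) : Set G))
    (hc' : g * c * g⁻¹ ∈ Subgroup.centralizer ((P : Subgroup G) : Set G)) : ¬ p ∣ orderOf c := by
  intro hdvd
  apply hg
  have hp : p.Prime := Fact.out
  obtain ⟨z, hz⟩ : ∃ z : G, z = c ^ (orderOf c / p) := ⟨_, rfl⟩
  have hzo : orderOf z = p := by
    rw [hz]
    exact orderOf_pow_orderOf_div (orderOf_pos c).ne' hdvd
  have hzp : z ^ p = 1 := by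
    rw [← hzo]
    exact pow_orderOf_eq_one z
  have hz1 : z ≠ 1 := by
    intro h
    rw [h, orderOf_one] at hzo
    exact hp.one_lt.ne hzo
  have hzC : z ∈ Subgroup.centralizer ((P : Subgroup G) : Set G) := by
    rw [hz]
    exact pow_mem hc _
  have hzP : z ∈ (P : Subgroup G) :=
    d1gs_mem_of_pow p P z hzp (Subgroup.centralizer_le_normalizer _ hzC)
  have hconj : g * z * g⁻¹ = (g * c * g⁻¹) ^ (orderOf c / p) := by
    rw [conj_pow, hz]
  have hgzC : g * z * g⁻¹ ∈ Subgroup.centralizer ((P : Subgroup G) : Set G) := by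
    rw [hconj]
    exact pow_mem hc' _
  have hgzp : (g * z * g⁻¹) ^ p = 1 := by
    rw [conj_pow, hzp]
    group
  have hgzP : g * z * g⁻¹ ∈ (P : Subgroup G) :=
    d1gs_mem_of_pow p P _ hgzp (Subgroup.centralizer_le_normalizer _ hgzC)
  exact d1gs_mem_normalizer p P hP g z hzP hz1 hgzP

theorem d1_normalizer_cyclic (p : ℕ) [Fact p.Prime] (P : Sylow p G) (hP : Nat.card P = p) :
    ∃ n₀ ∈ Subgroup.normalizer ((P : Subgroup G) : Set G),
      (∀ n ∈ Subgroup.normalizer ((P : Subgroup G) : Set G),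
        ∃ i : ℕ, ∃ c ∈ Subgroup.centralizer ((P : Subgroup G) : Set G), n = n₀ ^ i * c) ∧
      n₀ ^ (p - 1) ∈ Subgroup.centralizer ((P : Subgroup G) : Set G) := by
  obtain ⟨hA, hcard⟩ := d1gs_mulAut p (H := (P : Subgroup G)) hP
  obtain ⟨f, hf⟩ : ∃ f : Subgroup.normalizer ((P : Subgroup G) : Set G) →* MulAut (P : Subgroup G),
      f = (P : Subgroup G).normalizerMonoidHom := ⟨_, rfl⟩
  have hker : f.ker = (Subgroup.centralizer ((P : Subgroup G) : Set G)).subgroupOf
      (Subgroup.normalizer ((P : Subgroup G) : Set G)) := by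
    rw [hf]
    exact Subgroup.normalizerMonoidHom_ker _
  have hrc : IsCyclic f.range := inferInstance
  obtain ⟨⟨a, ha⟩, hgen⟩ := hrc.exists_generator
  obtain ⟨n₀, rfl⟩ := ha
  refine ⟨(n₀ : G), n₀.2, ?_, ?_⟩
  · intro n hn
    have h1 := hgen ⟨f ⟨n, hn⟩, ⟨_, rfl⟩⟩
    obtain ⟨i, hi⟩ := (mem_powers_iff_mem_zpowers).mpr h1
    have hi' : f n₀ ^ i = f ⟨n, hn⟩ := congrArg Subtype.val hi
    have hmem : (n₀ ^ i)⁻¹ * ⟨n, hn⟩ ∈ f.ker := by
      rw [MonoidHom.mem_ker, map_mul, map_inv, map_pow, hi', inv_mul_cancel]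
    rw [hker, Subgroup.mem_subgroupOf] at hmem
    refine ⟨i, _, hmem, ?_⟩
    simp
  · have h1 : f n₀ ^ (p - 1) = 1 := by
      rw [← hcard]
      exact pow_card_eq_one'
    have hmem : n₀ ^ (p - 1) ∈ f.ker := by
      rw [MonoidHom.mem_ker, map_pow, h1]
    rw [hker, Subgroup.mem_subgroupOf] at hmem
    exact hmem

theorem d1_relIndex_dvd (p : ℕ) [Fact p.Prime] (P : Sylow p G) (hP : Nat.card P = p) :
    (Subgroup.centralizer ((P : Subgroup G) : Set G)).relIndex
      (Subgroup.normalizer ((P : Subgroup G) : Set G)) ∣ p - 1 := by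
  obtain ⟨hA, hcard⟩ := d1gs_mulAut p (H := (P : Subgroup G)) hP
  have h := Subgroup.index_ker (P : Subgroup G).normalizerMonoidHom
  rw [Subgroup.normalizerMonoidHom_ker] at h
  have h' : (Subgroup.centralizer ((P : Subgroup G) : Set G)).relIndex
      (Subgroup.normalizer ((P : Subgroup G) : Set G)) =
      Nat.card (P : Subgroup G).normalizerMonoidHom.range := h
  rw [h', ← hcard]
  exact Subgroup.card_subgroup_dvd_card _

theorem d1_psingular_conj (p : ℕ) [Fact p.Prime] (P : Sylow p G) (hP : Nat.card P = p)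
    (x : G) (hx : x ∈ (P : Subgroup G)) (hx1 : x ≠ 1) (g : G) (hg : p ∣ orderOf g) :
    ∃ h : G, ∃ u : ℕ, ¬ p ∣ u ∧ ∃ k ∈ Subgroup.centralizer ((P : Subgroup G) : Set G),
      ¬ p ∣ orderOf k ∧ h * g * h⁻¹ = x ^ u * k := by
  have hp : p.Prime := Fact.out
  obtain ⟨hPx, hxo⟩ := d1gs_eq_zpowers p (P : Subgroup G) hP x hx hx1
  obtain ⟨m, hm⟩ := hg
  have hpm : ¬ p ∣ m := by
    intro h
    apply d1gs_not_sq_dvd p P hP
    have h1 := orderOf_dvd_natCard g
    rw [hm] at h1
    refine Dvd.dvd.trans ?_ h1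
    rw [pow_two]
    exact Nat.mul_dvd_mul_left p h
  obtain ⟨a, -, ha⟩ := Nat.exists_mul_mod_eq_one_of_coprime
    ((Nat.Prime.coprime_iff_not_dvd hp).mpr hpm).symm hp.one_lt
  obtain ⟨t, ht⟩ : ∃ t, m * a = p * t + 1 := ⟨m * a / p, by
    have := Nat.div_add_mod (m * a) p
    omega⟩
  have hgpm : g ^ (p * m) = 1 := by
    rw [← hm]
    exact pow_orderOf_eq_one g
  obtain ⟨y, hy⟩ : ∃ y : G, y = g ^ (m * a) := ⟨_, rfl⟩
  have hyp : y ^ p = 1 := by
    rw [hy, ← pow_mul]
    have e : m * a * p = p * m * a := by ring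
    rw [e, pow_mul, hgpm, one_pow]
  have hym : y ^ m = g ^ m := by
    rw [hy, ← pow_mul, ht]
    have e : (p * t + 1) * m = p * m * t + m := by ring
    rw [e, pow_add, pow_mul, hgpm, one_pow, one_mul]
  have hcomm : Commute y g := by
    rw [hy]
    exact (Commute.refl g).pow_left _
  obtain ⟨k', hk'⟩ : ∃ k' : G, k' = y⁻¹ * g := ⟨_, rfl⟩
  have hk'm : k' ^ m = 1 := by
    rw [hk', (hcomm.inv_left).mul_pow, inv_pow, hym, inv_mul_cancel]
  have hgyk : g = y * k' := by
    rw [hk', mul_inv_cancel_left]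
  have hcomm' : Commute y k' := by
    rw [hk']
    exact (Commute.refl y).inv_right.mul_right hcomm
  have hy1 : y ≠ 1 := by
    intro h
    rw [h, one_mul] at hgyk
    rw [← hgyk] at hk'm
    have h1 := orderOf_dvd_of_pow_eq_one hk'm
    rw [hm] at h1
    have hmpos : 0 < m := by
      rcases Nat.eq_zero_or_pos m with h0 | h0
      · exact absurd (h0 ▸ dvd_zero p) hpm
      · exact h0
    have h2 := Nat.le_of_dvd hmpos h1
    nlinarith [hp.two_le]
  obtain ⟨h, hh⟩ := d1gs_conj_mem p P y hyp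
  have hz1 : h * y * h⁻¹ ≠ 1 := by
    intro h0
    apply hy1
    have e : y = h⁻¹ * (h * y * h⁻¹) * h := by group
    rw [e, h0]
    group
  have hhx : h * y * h⁻¹ ∈ Subgroup.zpowers x := by
    rw [← hPx]
    exact hh
  obtain ⟨u, hu⟩ := (mem_powers_iff_mem_zpowers).mpr hhx
  have hu' : x ^ u = h * y * h⁻¹ := hu
  have hpu : ¬ p ∣ u := by
    rintro ⟨v, rfl⟩
    apply hz1
    rw [← hu', pow_mul, ← hxo, pow_orderOf_eq_one, one_pow]
  obtain ⟨hPz, -⟩ := d1gs_eq_zpowers p (P : Subgroup G) hP _ hh hz1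
  refine ⟨h, u, hpu, h * k' * h⁻¹, ?_, ?_, ?_⟩
  · rw [Subgroup.mem_centralizer_iff]
    intro w hw
    have hw' : w ∈ Subgroup.zpowers (h * y * h⁻¹) := by
      rw [← hPz]
      exact hw
    obtain ⟨j, rfl⟩ := Subgroup.mem_zpowers_iff.mp hw'
    have hc : Commute (h * y * h⁻¹) (h * k' * h⁻¹) := by
      have e1 : h * y * h⁻¹ * (h * k' * h⁻¹) = h * (y * k') * h⁻¹ := by group
      have e2 : h * k' * h⁻¹ * (h * y * h⁻¹) = h * (k' * y) * h⁻¹ := by group
      show h * y * h⁻¹ * (h * k' * h⁻¹) = h * k' * h⁻¹ * (h * y * h⁻¹)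
      rw [e1, e2, hcomm'.eq]
    exact (hc.zpow_left j).eq
  · intro hdvd
    apply hpm
    refine hdvd.trans (orderOf_dvd_of_pow_eq_one ?_)
    rw [conj_pow, hk'm]
    group
  · rw [hu', hgyk]
    group

theorem d1_conj_mem_P (p : ℕ) [Fact p.Prime] (P : Sylow p G) (hP : Nat.card P = p)
    (x : G) (hx : x ∈ (P : Subgroup G)) (g : G) (hg : IsConj x g)
    (hgc : g ∈ Subgroup.centralizer ((P : Subgroup G) : Set G)) : g ∈ (P : Subgroup G) := by
  obtain ⟨a, rfl⟩ := isConj_iff.mp hg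
  have hxp : x ^ p = 1 := by
    have h1 := pow_card_eq_one' (G := (P : Subgroup G)) (x := ⟨x, hx⟩)
    rw [hP] at h1
    exact congrArg Subtype.val h1
  apply d1gs_mem_of_pow p P _ _ (Subgroup.centralizer_le_normalizer _ hgc)
  rw [conj_pow, hxp]
  group

theorem d1_conj_in_P (p : ℕ) [Fact p.Prime] (P : Sylow p G) (hP : Nat.card P = p)
    (y z : G) (hy : y ∈ (P : Subgroup G)) (hz : z ∈ (P : Subgroup G)) (hy1 : y ≠ 1)
    (h : IsConj y z) :
    ∃ n ∈ Subgroup.normalizer ((P : Subgroup G) : Set G), n * y * n⁻¹ = z := by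
  obtain ⟨a, rfl⟩ := isConj_iff.mp h
  exact ⟨a, d1gs_mem_normalizer p P hP a y hy hy1 hz, rfl⟩

end Cfsg.Agent.Lib.helper46
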