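import Mathlib
import Cfsg.Agent.Lib.helper46.D1GS

/-!
# S4441 / S0960, sub-project SP-E, piece GK (helper46)

`P` a Sylow `p`-subgroup of order `p`, `C = C_G(P)`: `|C| = p · #(p-regular elements of C)`,
every `p`-singular element of `C` is `x ^ u * y` with `p ∤ u` and `y ∈ C` `p`-regular, and every
nonidentity element of `P` is `x ^ u` with `p ∤ u`.
-/

set_option autoImplicit false

namespace Cfsg.Agent.Lib.helper46.D1E

open Cfsg.Agent.Lib.helper46

/-- PIECE GK1 : `|C_G(P)| = p * #(p-regular elements of C_G(P))`. -/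
theorem card_centralizer {G : Type*} [Group G] [Fintype G] (p : ℕ) [Fact p.Prime]
    (P : Sylow p G) (hP : Nat.card P = p) :
    Nat.card (Subgroup.centralizer ((P : Subgroup G) : Set G)) =
      p * Nat.card {c : G // c ∈ Subgroup.centralizer ((P : Subgroup G) : Set G) ∧
        ¬ p ∣ orderOf c} := by
  obtain ⟨K, hK, -, hcard⟩ := d1_exists_K p P hP
  rw [hcard]
  congr 1
  exact Nat.card_congr (Equiv.subtypeEquivRight hK)

/-- PIECE GK3 : a nonidentity element of `P` is `x^u`, `p ∤ u`. -/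
theorem exists_pow_eq {G : Type*} [Group G] [Fintype G] (p : ℕ) [Fact p.Prime]
    (P : Sylow p G) (hP : Nat.card P = p) (x : G) (hx : x ∈ (P : Subgroup G)) (hx1 : x ≠ 1)
    (z : G) (hz : z ∈ (P : Subgroup G)) (hz1 : z ≠ 1) : ∃ u : ℕ, ¬ p ∣ u ∧ z = x ^ u := by
  obtain ⟨hPx, hxo⟩ := d1gs_eq_zpowers p (P : Subgroup G) hP x hx hx1
  have hzx : z ∈ Subgroup.zpowers x := by
    rw [← hPx]
    exact hz
  obtain ⟨u, hu⟩ := (mem_powers_iff_mem_zpowers).mpr hzx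
  have hu' : x ^ u = z := hu
  refine ⟨u, ?_, hu'.symm⟩
  rintro ⟨v, rfl⟩
  apply hz1
  rw [← hu', pow_mul, ← hxo, pow_orderOf_eq_one, one_pow]

/-- PIECE GK2 : a `p`-singular element of `C_G(P)` is `x^u * y`, `p ∤ u`, `y ∈ C_G(P)`
`p`-regular. -/
theorem exists_decomp {G : Type*} [Group G] [Fintype G] (p : ℕ) [Fact p.Prime]
    (P : Sylow p G) (hP : Nat.card P = p) (x : G) (hx : x ∈ (P : Subgroup G)) (hx1 : x ≠ 1)
    (g : G) (hg : g ∈ Subgroup.centralizer ((P : Subgroup G) : Set G)) (hpg : p ∣ orderOf g) :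
    ∃ u : ℕ, ¬ p ∣ u ∧ ∃ y ∈ Subgroup.centralizer ((P : Subgroup G) : Set G),
      ¬ p ∣ orderOf y ∧ g = x ^ u * y := by
  obtain ⟨K, hK, hdec, -⟩ := d1_exists_K p P hP
  obtain ⟨y₀, hy₀, k, hk, hgk⟩ := hdec g hg
  have hk' := (hK k).mp hk
  have hy₀1 : y₀ ≠ 1 := by
    intro h
    rw [h, one_mul] at hgk
    rw [hgk] at hpg
    exact hk'.2 hpg
  obtain ⟨u, hu, hy₀u⟩ := exists_pow_eq p P hP x hx hx1 y₀ hy₀ hy₀1
  exact ⟨u, hu, k, hk'.1, hk'.2, by rw [hgk, hy₀u]⟩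

end Cfsg.Agent.Lib.helper46.D1E
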