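import Mathlib
import Cfsg.Agent.Lib.helper46.D1EGK

/-!
# S4441 / S0960, sub-project SP-E, piece GH (helper46)

The image `H` of `N_G(P)` in `(ℤ/p)ˣ` (`n x n⁻¹ = x ^ r`), of order `|N_G(P) : C_G(P)|`.
-/

set_option autoImplicit false

namespace Cfsg.Agent.Lib.helper46.D1E

open Cfsg.Agent.Lib.helper46

/-- `x ^ (a b) = (x ^ a) ^ b` for units `a`, `b` of `ℤ/p` when `x` has order `p`. -/
theorem d1egh_pow_mul {G : Type*} [Group G] (p : ℕ) (x : G) (hxo : orderOf x = p)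
    (a b : (ZMod p)ˣ) :
    x ^ (((a * b : (ZMod p)ˣ) : ZMod p).val) = (x ^ ((a : ZMod p).val)) ^ ((b : ZMod p).val) := by
  rw [Units.val_mul, ZMod.val_mul, ← pow_mul]
  have h := pow_mod_orderOf x ((a : ZMod p).val * (b : ZMod p).val)
  rw [hxo] at h
  exact h

/-- `x ^ r.val` determines the unit `r` when `x` has order `p`. -/
theorem d1egh_pow_inj {G : Type*} [Group G] (p : ℕ) [Fact p.Prime] (x : G)
    (hxo : orderOf x = p) (a b : (ZMod p)ˣ)
    (h : x ^ ((a : ZMod p).val) = x ^ ((b : ZMod p).val)) : a = b := by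
  have ha : (a : ZMod p).val < orderOf x := by
    rw [hxo]
    exact ZMod.val_lt _
  have hb : (b : ZMod p).val < orderOf x := by
    rw [hxo]
    exact ZMod.val_lt _
  have h1 := pow_injOn_Iio_orderOf (Set.mem_Iio.mpr ha) (Set.mem_Iio.mpr hb) h
  exact Units.ext (ZMod.val_injective p h1)

/-- PIECE GH : the image `H` of `N_G(P)` in `(ℤ/p)ˣ`, of order `|N_G(P) : C_G(P)|`. -/
theorem exists_H {G : Type*} [Group G] [Fintype G] (p : ℕ) [Fact p.Prime]
    (P : Sylow p G) (hP : Nat.card P = p) (x : G) (hx : x ∈ (P : Subgroup G)) (hx1 : x ≠ 1) :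
    ∃ H : Subgroup (ZMod p)ˣ,
      (∀ r : (ZMod p)ˣ, r ∈ H ↔ ∃ n : G, n * x * n⁻¹ = x ^ ((r : ZMod p).val)) ∧
      Nat.card H = (Subgroup.centralizer ((P : Subgroup G) : Set G)).relIndex
        (Subgroup.normalizer ((P : Subgroup G) : Set G)) := by
  have hp : p.Prime := Fact.out
  obtain ⟨hPx, hxo⟩ := d1gs_eq_zpowers p (P : Subgroup G) hP x hx hx1
  have hone : x ^ (((1 : (ZMod p)ˣ) : ZMod p).val) = x := by
    rw [Units.val_one, ZMod.val_one_eq_one_mod, Nat.mod_eq_of_lt hp.one_lt, pow_one]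
  obtain ⟨H, hH⟩ : ∃ H : Subgroup (ZMod p)ˣ,
      ∀ r : (ZMod p)ˣ, r ∈ H ↔ ∃ n : G, n * x * n⁻¹ = x ^ ((r : ZMod p).val) := by
    refine ⟨{ carrier := {r | ∃ n : G, n * x * n⁻¹ = x ^ ((r : ZMod p).val)}
              mul_mem' := ?_
              one_mem' := ?_
              inv_mem' := ?_ }, fun r => Iff.rfl⟩
    · rintro a b ⟨n, hn⟩ ⟨m, hm⟩
      refine ⟨n * m, ?_⟩
      rw [d1egh_pow_mul p x hxo a b, ← hn, conj_pow, ← hm]
      group
    · exact ⟨1, by rw [hone]; group⟩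
    · rintro a ⟨n, hn⟩
      refine ⟨n⁻¹, ?_⟩
      have h1 : n * x ^ (((a⁻¹ : (ZMod p)ˣ) : ZMod p).val) * n⁻¹ = x := by
        rw [← conj_pow, hn, ← d1egh_pow_mul p x hxo a a⁻¹, mul_inv_cancel, hone]
      calc n⁻¹ * x * n⁻¹⁻¹
          = n⁻¹ * (n * x ^ (((a⁻¹ : (ZMod p)ˣ) : ZMod p).val) * n⁻¹) * n := by
            rw [h1]
            group
        _ = x ^ (((a⁻¹ : (ZMod p)ˣ) : ZMod p).val) := by group
  refine ⟨H, hH, ?_⟩
  obtain ⟨C, hC⟩ : ∃ C : Subgroup G, C = Subgroup.centralizer ((P : Subgroup G) : Set G) :=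
    ⟨_, rfl⟩
  obtain ⟨N, hN⟩ : ∃ N : Subgroup G, N = Subgroup.normalizer ((P : Subgroup G) : Set G) :=
    ⟨_, rfl⟩
  rw [← hC, ← hN]
  have hCN : C ≤ N := by
    rw [hC, hN]
    exact Subgroup.centralizer_le_normalizer _
  -- membership in `C` is commuting with `x`
  have hCx : ∀ c : G, c ∈ C ↔ c * x * c⁻¹ = x := by
    intro c
    rw [hC, Subgroup.mem_centralizer_iff]
    constructor
    · intro h
      rw [← h x hx, mul_inv_cancel_right]
    · intro h w hw
      rw [hPx] at hw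
      obtain ⟨j, rfl⟩ := Subgroup.mem_zpowers_iff.mp hw
      have hc : Commute c x := by
        have e : c * x = c * x * c⁻¹ * c := by group
        show c * x = x * c
        rw [e, h]
      exact ((hc.zpow_right j).eq).symm
  -- a section of `n ↦ r`
  have hsec : ∀ r : H, ∃ n : G, n * x * n⁻¹ = x ^ (((r : (ZMod p)ˣ) : ZMod p).val) :=
    fun r => (hH r).mp r.2
  choose σ hσ using hsec
  have hσN : ∀ r : H, σ r ∈ N := by
    intro r
    rw [hN]
    apply d1gs_mem_normalizer p P hP (σ r) x hx hx1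
    rw [hσ r]
    exact pow_mem hx _
  have hbij : Function.Bijective
      (fun rc : H × C => (⟨σ rc.1 * (rc.2 : G), mul_mem (hσN rc.1) (hCN rc.2.2)⟩ : N)) := by
    constructor
    · rintro ⟨r, c⟩ ⟨r', c'⟩ h
      have h' : σ r * (c : G) = σ r' * (c' : G) := congrArg Subtype.val h
      have e1 : σ r * (c : G) * x * (σ r * (c : G))⁻¹ = x ^ (((r : (ZMod p)ˣ) : ZMod p).val) := by
        have h2 := (hCx c).mp c.2
        calc σ r * (c : G) * x * (σ r * (c : G))⁻¹
            = σ r * ((c : G) * x * (c : G)⁻¹) * (σ r)⁻¹ := by group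
          _ = x ^ (((r : (ZMod p)ˣ) : ZMod p).val) := by rw [h2, hσ r]
      have e2 : σ r' * (c' : G) * x * (σ r' * (c' : G))⁻¹
          = x ^ (((r' : (ZMod p)ˣ) : ZMod p).val) := by
        have h2 := (hCx c').mp c'.2
        calc σ r' * (c' : G) * x * (σ r' * (c' : G))⁻¹
            = σ r' * ((c' : G) * x * (c' : G)⁻¹) * (σ r')⁻¹ := by group
          _ = x ^ (((r' : (ZMod p)ˣ) : ZMod p).val) := by rw [h2, hσ r']
      rw [h'] at e1
      have hrr : (r : (ZMod p)ˣ) = r' := d1egh_pow_inj p x hxo _ _ (e1.symm.trans e2)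
      have hrr' : r = r' := Subtype.ext hrr
      subst hrr'
      have hcc : (c : G) = c' := mul_left_cancel h'
      rw [Subtype.ext hcc]
    · rintro ⟨n, hn⟩
      have hnx : n * x * n⁻¹ ∈ (P : Subgroup G) := by
        rw [hN] at hn
        exact (Subgroup.mem_normalizer_iff.mp hn x).mp hx
      have hnx1 : n * x * n⁻¹ ≠ 1 := by
        intro h
        apply hx1
        have e : x = n⁻¹ * (n * x * n⁻¹) * n := by group
        rw [e, h]
        group
      obtain ⟨u, hu, hnu⟩ := exists_pow_eq p P hP x hx hx1 _ hnx hnx1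
      have hcop : Nat.Coprime u p := ((Nat.Prime.coprime_iff_not_dvd hp).mpr hu).symm
      obtain ⟨r, hr⟩ : ∃ r : (ZMod p)ˣ, x ^ ((r : ZMod p).val) = x ^ u := by
        refine ⟨ZMod.unitOfCoprime u hcop, ?_⟩
        rw [ZMod.coe_unitOfCoprime, ZMod.val_natCast]
        have h := pow_mod_orderOf x u
        rw [hxo] at h
        exact h
      have hrH : r ∈ H := (hH r).mpr ⟨n, by rw [hnu, hr]⟩
      have hc : (σ ⟨r, hrH⟩)⁻¹ * n ∈ C := by
        rw [hCx]
        have h1 := hσ ⟨r, hrH⟩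
        have h2 : n * x * n⁻¹ = σ ⟨r, hrH⟩ * x * (σ ⟨r, hrH⟩)⁻¹ := by
          rw [h1, hnu, hr]
        calc (σ ⟨r, hrH⟩)⁻¹ * n * x * ((σ ⟨r, hrH⟩)⁻¹ * n)⁻¹
            = (σ ⟨r, hrH⟩)⁻¹ * (n * x * n⁻¹) * σ ⟨r, hrH⟩ := by group
          _ = x := by rw [h2]; group
      refine ⟨(⟨r, hrH⟩, ⟨_, hc⟩), ?_⟩
      apply Subtype.ext
      show σ ⟨r, hrH⟩ * ((σ ⟨r, hrH⟩)⁻¹ * n) = n
      group
  have hcard : Nat.card H * Nat.card C = Nat.card N := by
    rw [← Nat.card_prod]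
    exact Nat.card_eq_of_bijective _ hbij
  have hrel : Nat.card C * C.relIndex N = Nat.card N := by
    have h1 := Subgroup.card_mul_index (C.subgroupOf N)
    rw [Nat.card_congr (Subgroup.subgroupOfEquivOfLe hCN).toEquiv] at h1
    exact h1
  have hCpos : 0 < Nat.card C := Nat.card_pos
  have : Nat.card C * Nat.card H = Nat.card C * C.relIndex N := by
    rw [hrel, mul_comm, hcard]
  exact Nat.eq_of_mul_eq_mul_left hCpos this

end Cfsg.Agent.Lib.helper46.D1E
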