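import Mathlib
import Cfsg.Agent.Lib.helper46.DicksonMain

/-!
# Subgroups of `SL₂(q)` with more than one Sylow `p`-subgroup contain `SL₂(p)` (helper46)

Consequences of Dickson's lemma (`dk_contains_SL2p`): a subgroup of `SL₂(F)` (`F` a finite field
of odd characteristic `p`) containing two non-commuting unipotent elements, or having more than
one Sylow `p`-subgroup, contains an isomorphic copy of `SL₂(𝔽_p)`.
-/

set_option autoImplicit false
set_option linter.unusedSectionVars false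

namespace Cfsg.Agent.Lib.helper46

open Matrix OnePoint

section DicksonSylow

variable {F : Type*} [Field F] [DecidableEq F]

/-- A `p`-element of `SL₂` in characteristic `p` has trace `2`. -/
theorem trace_of_pow_char_pow (p : ℕ) [Fact p.Prime] [CharP F p]
    (g : Matrix.SpecialLinearGroup (Fin 2) F) (k : ℕ) (hg : g ^ p ^ k = 1) :
    g.1 0 0 + g.1 1 1 = 2 := by
  have hdet := sl_det g
  have h1 : (g.1 - 1) ^ p ^ k = 0 := by
    rw [sub_pow_char_pow_of_commute p k (Commute.one_right g.1), one_pow,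
      ← Matrix.SpecialLinearGroup.coe_pow, hg, Matrix.SpecialLinearGroup.coe_one, sub_self]
  have h2 : (g.1 - 1).det ^ p ^ k = 0 := by
    rw [← Matrix.det_pow, h1, Matrix.det_zero]
  have h3 : (g.1 - 1).det = 0 := by
    exact pow_eq_zero_iff (pow_ne_zero k (Fact.out : p.Prime).ne_zero) |>.mp h2
  rw [Matrix.det_fin_two] at h3
  simp only [Matrix.sub_apply, Matrix.one_apply_eq, Matrix.one_apply_ne, ne_eq, Fin.isValue,
    zero_ne_one, one_ne_zero, not_false_eq_true, sub_zero] at h3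
  linear_combination hdet - h3

/-- An upper triangular element of trace `2` is `dkX`. -/
theorem eq_dkX_of_trace (g : Matrix.SpecialLinearGroup (Fin 2) F) (htr : g.1 0 0 + g.1 1 1 = 2)
    (hγ : g.1 1 0 = 0) : g = dkX (g.1 0 1) := by
  have hdet := sl_det g
  rw [hγ, mul_zero, sub_zero] at hdet
  have ha : (g.1 0 0 - 1) ^ 2 = 0 := by linear_combination (g.1 0 0) * htr - hdet
  have ha1 : g.1 0 0 = 1 := sub_eq_zero.mp (pow_eq_zero_iff two_ne_zero |>.mp ha)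
  have hd1 : g.1 1 1 = 1 := by linear_combination htr - ha1
  apply sl_ext <;> simp [dkX_coe, ha1, hd1, hγ]

/-- A lower triangular element of trace `2` is `dkY`. -/
theorem eq_dkY_of_trace (g : Matrix.SpecialLinearGroup (Fin 2) F) (htr : g.1 0 0 + g.1 1 1 = 2)
    (hb : g.1 0 1 = 0) : g = dkY (g.1 1 0) := by
  have hdet := sl_det g
  rw [hb, zero_mul, sub_zero] at hdet
  have ha : (g.1 0 0 - 1) ^ 2 = 0 := by linear_combination (g.1 0 0) * htr - hdet
  have ha1 : g.1 0 0 = 1 := sub_eq_zero.mp (pow_eq_zero_iff two_ne_zero |>.mp ha)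
  have hd1 : g.1 1 1 = 1 := by linear_combination htr - ha1
  apply sl_ext <;> simp [dkY_coe, ha1, hd1, hb]

/-- Every point of the projective line can be moved to `∞`. -/
theorem exists_smul_eq_infty (x : OnePoint F) :
    ∃ A : Matrix.SpecialLinearGroup (Fin 2) F, A • x = ∞ := by
  cases x with
  | infty => exact ⟨1, one_smul _ _⟩
  | coe k =>
    refine ⟨mkSL 0 1 (-1) k (by ring), ?_⟩
    rw [sl_smul_coe]
    simp [mkSL_coe]

/-- Two non-commuting elements of trace `2` can be simultaneously conjugated to an upper and a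
lower unitriangular matrix. -/
theorem exists_conj_dkX_dkY (h2 : (2 : F) ≠ 0) (u₁ u₂ : Matrix.SpecialLinearGroup (Fin 2) F)
    (ht₁ : u₁.1 0 0 + u₁.1 1 1 = 2) (ht₂ : u₂.1 0 0 + u₂.1 1 1 = 2)
    (hnc : u₁ * u₂ ≠ u₂ * u₁) :
    ∃ (A : Matrix.SpecialLinearGroup (Fin 2) F) (s t : F), s ≠ 0 ∧ t ≠ 0 ∧
      A * u₁ * A⁻¹ = dkX s ∧ A * u₂ * A⁻¹ = dkY t := by
  have h4 : (4 : F) ≠ 0 := by
    have : (4 : F) = 2 * 2 := by norm_num
    rw [this]
    exact mul_ne_zero h2 h2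
  have hne1 : ∀ u : Matrix.SpecialLinearGroup (Fin 2) F, u.1 0 0 + u.1 1 1 = 2 → u ≠ -1 := by
    intro u hu h
    rw [h] at hu
    simp only [Matrix.SpecialLinearGroup.coe_neg, Matrix.SpecialLinearGroup.coe_one,
      Matrix.neg_apply, Matrix.one_apply_eq] at hu
    apply h4
    linear_combination (-1 : F) * hu
  have hu₁ : u₁ ≠ 1 := by
    intro h
    apply hnc
    rw [h, one_mul, mul_one]
  have hu₂ : u₂ ≠ 1 := by
    intro h
    apply hnc
    rw [h, one_mul, mul_one]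
  have htr1 : (u₁.1 0 0 + u₁.1 1 1) ^ 2 = 4 := by rw [ht₁]; norm_num
  obtain ⟨x₁, hx₁⟩ := exists_unique_fix_of_trace_sq h2 u₁ htr1 hu₁ (hne1 u₁ ht₁)
  obtain ⟨A₁, hA₁⟩ := exists_smul_eq_infty x₁
  -- first conjugation
  have hv₁fix : (A₁ * u₁ * A₁⁻¹) • (∞ : OnePoint F) = ∞ := by
    rw [← hA₁, mul_smul, mul_smul, inv_smul_smul, (hx₁ x₁).mpr rfl]
  have hv₁tr : (A₁ * u₁ * A₁⁻¹).1 0 0 + (A₁ * u₁ * A₁⁻¹).1 1 1 = 2 := by
    rw [dk_trace_conj, ht₁]
  have hv₂tr : (A₁ * u₂ * A₁⁻¹).1 0 0 + (A₁ * u₂ * A₁⁻¹).1 1 1 = 2 := by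
    rw [dk_trace_conj, ht₂]
  have hv₁ := eq_dkX_of_trace _ hv₁tr ((sl_fix_infty_iff _).mp hv₁fix)
  set s := (A₁ * u₁ * A₁⁻¹).1 0 1 with hs_def
  have hv₂γ : (A₁ * u₂ * A₁⁻¹).1 1 0 ≠ 0 := by
    intro h
    have hv₂ := eq_dkX_of_trace _ hv₂tr h
    apply hnc
    have hcomm : (A₁ * u₁ * A₁⁻¹) * (A₁ * u₂ * A₁⁻¹) = (A₁ * u₂ * A₁⁻¹) * (A₁ * u₁ * A₁⁻¹) := by
      rw [hv₁, hv₂, ← dkX_add, ← dkX_add, add_comm]
    have e1 : (A₁ * u₁ * A₁⁻¹) * (A₁ * u₂ * A₁⁻¹) = A₁ * (u₁ * u₂) * A₁⁻¹ := by group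
    have e2 : (A₁ * u₂ * A₁⁻¹) * (A₁ * u₁ * A₁⁻¹) = A₁ * (u₂ * u₁) * A₁⁻¹ := by group
    rw [e1, e2] at hcomm
    exact mul_left_cancel (mul_right_cancel hcomm)
  have hv₂ne1 : A₁ * u₂ * A₁⁻¹ ≠ 1 := by
    intro h
    rw [h] at hv₂γ
    simp at hv₂γ
  have htr2 : ((A₁ * u₂ * A₁⁻¹).1 0 0 + (A₁ * u₂ * A₁⁻¹).1 1 1) ^ 2 = 4 := by
    rw [hv₂tr]; norm_num
  obtain ⟨x₂, hx₂⟩ := exists_unique_fix_of_trace_sq h2 _ htr2 hv₂ne1 (hne1 _ hv₂tr)
  have hx₂ne : x₂ ≠ ∞ := by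
    intro h
    have := (hx₂ ∞).mpr h.symm
    exact hv₂γ ((sl_fix_infty_iff _).mp this)
  obtain ⟨k, rfl⟩ : ∃ k : F, x₂ = (k : OnePoint F) := by
    cases x₂ with
    | infty => exact absurd rfl hx₂ne
    | coe k => exact ⟨k, rfl⟩
  -- second conjugation
  have hBk : dkX (-k) • (k : OnePoint F) = ((0 : F) : OnePoint F) := by
    rw [dkX_smul_coe, add_neg_cancel]
  have hw₂fix : (dkX (-k) * (A₁ * u₂ * A₁⁻¹) * (dkX (-k))⁻¹) • ((0 : F) : OnePoint F)
      = ((0 : F) : OnePoint F) := by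
    rw [← hBk, mul_smul, mul_smul, inv_smul_smul, (hx₂ _).mpr rfl]
  have hw₂tr : (dkX (-k) * (A₁ * u₂ * A₁⁻¹) * (dkX (-k))⁻¹).1 0 0
      + (dkX (-k) * (A₁ * u₂ * A₁⁻¹) * (dkX (-k))⁻¹).1 1 1 = 2 := by
    rw [dk_trace_conj, hv₂tr]
  have hw₂b : (dkX (-k) * (A₁ * u₂ * A₁⁻¹) * (dkX (-k))⁻¹).1 0 1 = 0 := by
    have := (sl_fix_coe_iff _ 0).mp hw₂fix
    simp only [ne_eq, OfNat.ofNat_ne_zero, not_false_eq_true, zero_pow, mul_zero, add_zero,
      zero_sub, neg_eq_zero] at this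
    exact this
  have hw₂ := eq_dkY_of_trace _ hw₂tr hw₂b
  set t := (dkX (-k) * (A₁ * u₂ * A₁⁻¹) * (dkX (-k))⁻¹).1 1 0 with ht_def
  refine ⟨dkX (-k) * A₁, s, t, ?_, ?_, ?_, ?_⟩
  · intro h
    rw [h, dkX_zero] at hv₁
    apply hu₁
    have : A₁ * u₁ = A₁ := by
      have := congrArg (fun g => g * A₁) hv₁
      simpa using this
    exact mul_left_cancel (a := A₁) (by rw [this, mul_one])
  · intro h
    rw [h, dkY_zero] at hw₂
    apply hv₂ne1
    have h' : dkX (-k) * (A₁ * u₂ * A₁⁻¹) = dkX (-k) := by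
      have := congrArg (fun g => g * dkX (-k)) hw₂
      simpa using this
    exact mul_left_cancel (a := dkX (-k)) (by rw [h', mul_one])
  · have e : dkX (-k) * A₁ * u₁ * (dkX (-k) * A₁)⁻¹
        = dkX (-k) * (A₁ * u₁ * A₁⁻¹) * (dkX (-k))⁻¹ := by group
    rw [e, hv₁, ← dkX_neg, neg_neg, ← dkX_add, ← dkX_add]
    congr 1
    ring
  · have e : dkX (-k) * A₁ * u₂ * (dkX (-k) * A₁)⁻¹
        = dkX (-k) * (A₁ * u₂ * A₁⁻¹) * (dkX (-k))⁻¹ := by group
    rw [e]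
    exact hw₂

/-- The automorphism of `SL₂(F)` induced by conjugation with `diag(1, s)`. -/
def dkDiag (s : F) (hs : s ≠ 0) :
    Matrix.SpecialLinearGroup (Fin 2) F ≃* Matrix.SpecialLinearGroup (Fin 2) F where
  toFun g := mkSL (g.1 0 0) (g.1 0 1 / s) (g.1 1 0 * s) (g.1 1 1) (by
    have := sl_det g
    field_simp
    linear_combination this)
  invFun g := mkSL (g.1 0 0) (g.1 0 1 * s) (g.1 1 0 / s) (g.1 1 1) (by
    have := sl_det g
    field_simp
    linear_combination this)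
  left_inv g := by apply sl_ext <;> simp [mkSL_coe, hs]
  right_inv g := by apply sl_ext <;> simp [mkSL_coe, hs]
  map_mul' g h := by
    apply sl_ext <;>
      simp only [mkSL_coe, Matrix.SpecialLinearGroup.coe_mul, Matrix.mul_apply, Fin.sum_univ_two,
        Matrix.of_apply, Matrix.cons_val', Matrix.cons_val_zero, Matrix.cons_val_one,
        Matrix.cons_val_fin_one] <;> field_simp

theorem dkDiag_apply (s : F) (hs : s ≠ 0) (g : Matrix.SpecialLinearGroup (Fin 2) F) :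
    (dkDiag s hs g).1 = !![g.1 0 0, g.1 0 1 / s; g.1 1 0 * s, g.1 1 1] := rfl

theorem dkDiag_dkX (s : F) (hs : s ≠ 0) : dkDiag s hs (dkX s) = dkX 1 := by
  apply sl_ext <;> simp [dkDiag_apply, dkX_coe, hs]

theorem dkDiag_dkY (s : F) (hs : s ≠ 0) (t : F) : dkDiag s hs (dkY t) = dkY (t * s) := by
  apply sl_ext <;> simp [dkDiag_apply, dkY_coe]

/-- **Dickson**: a subgroup of `SL₂(F)` (`F` finite of odd characteristic `p`) containing two
non-commuting elements of trace `2` contains an isomorphic copy of `SL₂(𝔽_p)`. -/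
theorem dk_exists_hom [Fintype F] (p : ℕ) [Fact p.Prime] [CharP F p] (hp2 : p ≠ 2)
    (H : Subgroup (Matrix.SpecialLinearGroup (Fin 2) F))
    (u₁ u₂ : Matrix.SpecialLinearGroup (Fin 2) F) (h₁ : u₁ ∈ H) (h₂ : u₂ ∈ H)
    (ht₁ : u₁.1 0 0 + u₁.1 1 1 = 2) (ht₂ : u₂.1 0 0 + u₂.1 1 1 = 2)
    (hnc : u₁ * u₂ ≠ u₂ * u₁) :
    ∃ φ : Matrix.SpecialLinearGroup (Fin 2) (ZMod p) →* Matrix.SpecialLinearGroup (Fin 2) F,
      Function.Injective φ ∧ ∀ h, φ h ∈ H := by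
  obtain ⟨A, s, t, hs, ht, hA₁, hA₂⟩ :=
    exists_conj_dkX_dkY (two_ne_zero_of_char p hp2) u₁ u₂ ht₁ ht₂ hnc
  let Θ : Matrix.SpecialLinearGroup (Fin 2) F ≃* Matrix.SpecialLinearGroup (Fin 2) F :=
    (MulAut.conj A).trans (dkDiag s hs)
  have hΘ₁ : Θ u₁ = dkX 1 := by
    show dkDiag s hs (A * u₁ * A⁻¹) = _
    rw [hA₁, dkDiag_dkX]
  have hΘ₂ : Θ u₂ = dkY (t * s) := by
    show dkDiag s hs (A * u₂ * A⁻¹) = _
    rw [hA₂, dkDiag_dkY]
  have hx : dkX 1 ∈ H.map Θ.toMonoidHom := by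
    rw [← hΘ₁]
    exact Subgroup.mem_map_of_mem _ h₁
  have hy : dkY (t * s) ∈ H.map Θ.toMonoidHom := by
    rw [← hΘ₂]
    exact Subgroup.mem_map_of_mem _ h₂
  obtain ⟨B, hB⟩ := dk_contains_SL2p p hp2 (H.map Θ.toMonoidHom) hx (t * s) (mul_ne_zero ht hs) hy
  refine ⟨Θ.symm.toMonoidHom.comp ((MulAut.conj B).toMonoidHom.comp
    (Matrix.SpecialLinearGroup.map (ZMod.castHom (dvd_refl p) F))), ?_, ?_⟩
  · exact Θ.symm.injective.comp ((MulAut.conj B).injective.comp (sl_map_injective _))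
  · intro h
    obtain ⟨g, hg, hgeq⟩ := Subgroup.mem_map.mp (hB h)
    have : Θ.symm (B * Matrix.SpecialLinearGroup.map (ZMod.castHom (dvd_refl p) F) h * B⁻¹)
        = g := by
      rw [← hgeq]
      exact Θ.symm_apply_apply g
    show Θ.symm (B * Matrix.SpecialLinearGroup.map (ZMod.castHom (dvd_refl p) F) h * B⁻¹) ∈ H
    rw [this]
    exact hg

/-- **Dickson**: a subgroup of `SL₂(F)` (`F` finite of odd characteristic `p`) with more than one
Sylow `p`-subgroup contains an isomorphic copy of `SL₂(𝔽_p)`. -/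
theorem dk_exists_hom_of_sylow [Fintype F] (p : ℕ) [Fact p.Prime] [CharP F p] (hp2 : p ≠ 2)
    (H : Subgroup (Matrix.SpecialLinearGroup (Fin 2) F)) (hH : 1 < Nat.card (Sylow p H)) :
    ∃ φ : Matrix.SpecialLinearGroup (Fin 2) (ZMod p) →* Matrix.SpecialLinearGroup (Fin 2) F,
      Function.Injective φ ∧ ∀ h, φ h ∈ H := by
  have : Nontrivial (Sylow p H) := Finite.one_lt_card_iff_nontrivial.mp hH
  obtain ⟨P, Q, hPQ⟩ := exists_pair_ne (Sylow p H)
  by_cases hcomm : ∀ u ∈ (P : Subgroup H), ∀ v ∈ (Q : Subgroup H), u * v = v * u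
  · exfalso
    apply hPQ
    have hle : (P : Subgroup H) ≤ Subgroup.normalizer ((Q : Subgroup H) : Set H) := by
      rw [Subgroup.le_normalizer_iff]
      intro u hu v hv
      rw [hcomm u hu v hv, mul_inv_cancel_right]
      exact hv
    have hsup : IsPGroup p ((P : Subgroup H) ⊔ (Q : Subgroup H) : Subgroup H) :=
      IsPGroup.to_sup_of_normal_right' P.isPGroup' Q.isPGroup' hle
    have e1 : (P : Subgroup H) ⊔ (Q : Subgroup H) = P := P.is_maximal' hsup le_sup_left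
    have e2 : (P : Subgroup H) ⊔ (Q : Subgroup H) = Q := Q.is_maximal' hsup le_sup_right
    exact Sylow.ext (e1.symm.trans e2)
  · push Not at hcomm
    obtain ⟨u, hu, v, hv, huv⟩ := hcomm
    obtain ⟨k₁, hk₁⟩ := P.isPGroup' ⟨u, hu⟩
    obtain ⟨k₂, hk₂⟩ := Q.isPGroup' ⟨v, hv⟩
    have hu' : (u : Matrix.SpecialLinearGroup (Fin 2) F) ^ p ^ k₁ = 1 := by
      have := congrArg (fun x : (P : Subgroup H) => ((x : H) : Matrix.SpecialLinearGroup (Fin 2) F)) hk₁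
      simpa using this
    have hv' : (v : Matrix.SpecialLinearGroup (Fin 2) F) ^ p ^ k₂ = 1 := by
      have := congrArg (fun x : (Q : Subgroup H) => ((x : H) : Matrix.SpecialLinearGroup (Fin 2) F)) hk₂
      simpa using this
    refine dk_exists_hom p hp2 H u v u.2 v.2 (trace_of_pow_char_pow p _ k₁ hu')
      (trace_of_pow_char_pow p _ k₂ hv') ?_
    intro h
    apply huv
    exact Subtype.ext h

end DicksonSylow

end Cfsg.Agent.Lib.helper46
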