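import Mathlib
import Cfsg.Agent.Lib.helper46.SL2
import Cfsg.Agent.Lib.helper46.Dicyclic

/-!
# Tori of `SL₂(F)` and their normalizers (helper46)
-/

set_option autoImplicit false

namespace Cfsg.Agent.Lib.helper46

open Matrix

section General

variable {F : Type*} [Field F]

/-- In characteristic `≠ 2`, a determinant-one `2 × 2` matrix with square `1` is `±1`. -/
theorem sq_eq_one_cases (h2 : (2 : F) ≠ 0) (M : Matrix (Fin 2) (Fin 2) F) (hdet : M.det = 1)
    (hM : M * M = 1) : M = 1 ∨ M = -1 := by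
  have hCH := cayley_two M hdet
  rw [hM] at hCH
  have h1 : (M 0 0 + M 1 1) • M = 1 + 1 := by
    rw [eq_sub_iff_add_eq] at hCH
    exact hCH.symm
  have hτ : M 0 0 + M 1 1 ≠ 0 := by
    intro h0
    rw [h0, zero_smul] at h1
    have := congrFun (congrFun h1 0) 0
    simp at this
    exact h2 (by linear_combination -this)
  have hM' : M = (2 / (M 0 0 + M 1 1)) • (1 : Matrix (Fin 2) (Fin 2) F) := by
    calc M = (M 0 0 + M 1 1)⁻¹ • ((M 0 0 + M 1 1) • M) := by
          rw [smul_smul, inv_mul_cancel₀ hτ, one_smul]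
      _ = (M 0 0 + M 1 1)⁻¹ • (1 + 1) := by rw [h1]
      _ = (2 / (M 0 0 + M 1 1)) • (1 : Matrix (Fin 2) (Fin 2) F) := by
          rw [div_eq_mul_inv, mul_comm, mul_smul, two_smul]
  have hc : (2 / (M 0 0 + M 1 1)) ^ 2 = 1 := by
    have := hdet
    rw [hM', Matrix.det_smul, Matrix.det_one, Fintype.card_fin, mul_one] at this
    exact this
  have hc' : (2 / (M 0 0 + M 1 1)) = 1 ∨ (2 / (M 0 0 + M 1 1)) = -1 := by
    have : ((2 / (M 0 0 + M 1 1)) - 1) * ((2 / (M 0 0 + M 1 1)) + 1) = 0 := by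
      linear_combination hc
    rcases mul_eq_zero.mp this with h | h
    · left; exact sub_eq_zero.mp h
    · right; exact eq_neg_of_add_eq_zero_left h
  rcases hc' with h | h
  · left; rw [hM', h, one_smul]
  · right; rw [hM', h, neg_smul, one_smul]

/-- The trace is invariant under conjugation in `SL₂`. -/
theorem trace_conj (g t : Matrix.SpecialLinearGroup (Fin 2) F) :
    ((g * t * g⁻¹ : Matrix.SpecialLinearGroup (Fin 2) F) : Matrix (Fin 2) (Fin 2) F) 0 0
      + ((g * t * g⁻¹ : Matrix.SpecialLinearGroup (Fin 2) F) : Matrix (Fin 2) (Fin 2) F) 1 1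
      = (t : Matrix (Fin 2) (Fin 2) F) 0 0 + (t : Matrix (Fin 2) (Fin 2) F) 1 1 := by
  rw [← Matrix.trace_fin_two, ← Matrix.trace_fin_two, Matrix.SpecialLinearGroup.coe_mul,
    Matrix.trace_mul_comm, ← Matrix.SpecialLinearGroup.coe_mul, inv_mul_cancel_left]

/-- The diagonal element `diag(x, x⁻¹)`. -/
def diagSL (x : Fˣ) : Matrix.SpecialLinearGroup (Fin 2) F :=
  mkSL (x : F) 0 0 ((x⁻¹ : Fˣ) : F) (by simp)

theorem diagSL_mul (x y : Fˣ) : diagSL (x * y) = diagSL x * diagSL y := by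
  apply Subtype.ext
  simp only [diagSL, Matrix.SpecialLinearGroup.coe_mul, mkSL_coe]
  ext i j
  fin_cases i <;> fin_cases j <;> simp [Matrix.mul_apply, Fin.sum_univ_two, mul_comm]

/-- `diagSL` as a homomorphism. -/
def diagHom : Fˣ →* Matrix.SpecialLinearGroup (Fin 2) F := MonoidHom.mk' diagSL diagSL_mul

theorem diagHom_apply (x : Fˣ) :
    ((diagHom x : Matrix.SpecialLinearGroup (Fin 2) F) : Matrix (Fin 2) (Fin 2) F)
      = !![(x : F), 0; 0, ((x⁻¹ : Fˣ) : F)] := rfl

theorem diagHom_injective : Function.Injective (diagHom : Fˣ →* Matrix.SpecialLinearGroup (Fin 2) F) := by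
  intro x y h
  have h1 := congrArg (fun g : Matrix.SpecialLinearGroup (Fin 2) F =>
    (g : Matrix (Fin 2) (Fin 2) F) 0 0) h
  simp only [diagHom_apply] at h1
  exact Units.ext (by simpa using h1)

theorem mem_range_diagHom (g : Matrix.SpecialLinearGroup (Fin 2) F) :
    g ∈ (diagHom : Fˣ →* Matrix.SpecialLinearGroup (Fin 2) F).range ↔
      (g : Matrix (Fin 2) (Fin 2) F) 0 1 = 0 ∧ (g : Matrix (Fin 2) (Fin 2) F) 1 0 = 0 := by
  constructor
  · rintro ⟨x, rfl⟩
    simp [diagHom_apply]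
  · rintro ⟨h01, h10⟩
    have hdet := g.det_coe
    rw [Matrix.det_fin_two, h01, h10] at hdet
    have hdet' : (g : Matrix (Fin 2) (Fin 2) F) 0 0 * (g : Matrix (Fin 2) (Fin 2) F) 1 1 = 1 := by
      linear_combination hdet
    refine ⟨Units.mkOfMulEqOne _ _ hdet', ?_⟩
    apply Subtype.ext
    rw [diagHom_apply]
    ext i j
    fin_cases i <;> fin_cases j
    · simp
    · simp [h01]
    · simp [h10]
    · simp
      exact (eq_inv_of_mul_eq_one_right hdet').symm

/-- The centralizer of a diagonal element `diag(a, a⁻¹)` with `a² ≠ 1` is the diagonal torus. -/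
theorem mem_centralizer_diag (d : Matrix.SpecialLinearGroup (Fin 2) F)
    (hd01 : (d : Matrix (Fin 2) (Fin 2) F) 0 1 = 0) (hd10 : (d : Matrix (Fin 2) (Fin 2) F) 1 0 = 0)
    (hda : (d : Matrix (Fin 2) (Fin 2) F) 0 0 ^ 2 ≠ 1) (g : Matrix.SpecialLinearGroup (Fin 2) F) :
    g ∈ Subgroup.centralizer ({d} : Set (Matrix.SpecialLinearGroup (Fin 2) F)) ↔
      ((g : Matrix (Fin 2) (Fin 2) F) 0 1 = 0 ∧ (g : Matrix (Fin 2) (Fin 2) F) 1 0 = 0) := by
  have hdet := d.det_coe
  rw [Matrix.det_fin_two, hd01, hd10] at hdet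
  have hab : (d : Matrix (Fin 2) (Fin 2) F) 0 0 * (d : Matrix (Fin 2) (Fin 2) F) 1 1 = 1 := by
    linear_combination hdet
  have hne : (d : Matrix (Fin 2) (Fin 2) F) 0 0 - (d : Matrix (Fin 2) (Fin 2) F) 1 1 ≠ 0 := by
    intro h
    apply hda
    have : (d : Matrix (Fin 2) (Fin 2) F) 0 0 = (d : Matrix (Fin 2) (Fin 2) F) 1 1 :=
      sub_eq_zero.mp h
    rw [pow_two]
    nth_rewrite 2 [this]
    exact hab
  rw [Subgroup.mem_centralizer_iff]
  constructor
  · intro h
    have h1 := h d (Set.mem_singleton d)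
    have h2 := congrArg (fun x : Matrix.SpecialLinearGroup (Fin 2) F =>
      (x : Matrix (Fin 2) (Fin 2) F)) h1
    simp only [Matrix.SpecialLinearGroup.coe_mul] at h2
    have e01 := congrFun (congrFun h2 0) 1
    have e10 := congrFun (congrFun h2 1) 0
    simp only [Matrix.mul_apply, Fin.sum_univ_two, hd01, hd10, zero_mul, mul_zero, add_zero,
      zero_add] at e01 e10
    constructor
    · have : ((d : Matrix (Fin 2) (Fin 2) F) 0 0 - (d : Matrix (Fin 2) (Fin 2) F) 1 1)
          * (g : Matrix (Fin 2) (Fin 2) F) 0 1 = 0 := by linear_combination e01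
      exact (mul_eq_zero.mp this).resolve_left hne
    · have : ((d : Matrix (Fin 2) (Fin 2) F) 0 0 - (d : Matrix (Fin 2) (Fin 2) F) 1 1)
          * (g : Matrix (Fin 2) (Fin 2) F) 1 0 = 0 := by linear_combination -e10
      exact (mul_eq_zero.mp this).resolve_left hne
  · rintro ⟨h01, h10⟩ h hh
    rw [Set.mem_singleton_iff] at hh
    subst hh
    apply Subtype.ext
    simp only [Matrix.SpecialLinearGroup.coe_mul]
    ext i j
    fin_cases i <;> fin_cases j <;>
      simp [Matrix.mul_apply, Fin.sum_univ_two, hd01, hd10, h01, h10, mul_comm]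

end General

section Split

variable {F : Type*} [Field F] [Fintype F]

theorem two_ne_zero_of_odd_card (hodd : Odd (Fintype.card F)) : (2 : F) ≠ 0 := by
  apply Ring.two_ne_zero
  intro h
  have := FiniteField.even_card_iff_char_two.mp h
  rcases hodd with ⟨k, hk⟩
  omega

/-- The split torus of `SL₂(F)`, `|F| = q ≥ 5` odd: a generator `t` of the diagonal subgroup
and the Weyl element `w`, with all the properties needed to analyse the normalizer. -/
theorem split_torus_data (hodd : Odd (Fintype.card F)) (h5 : 5 ≤ Fintype.card F) :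
    ∃ t w : Matrix.SpecialLinearGroup (Fin 2) F,
      orderOf t = 2 * ((Fintype.card F - 1) / 2) ∧
      (∀ g : Matrix.SpecialLinearGroup (Fin 2) F, g ∈ Subgroup.zpowers t ↔
        ((g : Matrix (Fin 2) (Fin 2) F) 0 1 = 0 ∧ (g : Matrix (Fin 2) (Fin 2) F) 1 0 = 0)) ∧
      (∀ g : Matrix.SpecialLinearGroup (Fin 2) F, g * t = t * g → g ∈ Subgroup.zpowers t) ∧
      (∀ g : Matrix.SpecialLinearGroup (Fin 2) F, g * t * g⁻¹ ∈ Subgroup.zpowers t →
        g * t * g⁻¹ = t ∨ g * t * g⁻¹ = t⁻¹) ∧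
      (∀ g : Matrix.SpecialLinearGroup (Fin 2) F, g * g = 1 →
        g = 1 ∨ g = t ^ ((Fintype.card F - 1) / 2)) ∧
      w * t * w⁻¹ = t⁻¹ ∧
      ((t ^ ((Fintype.card F - 1) / 2) : Matrix.SpecialLinearGroup (Fin 2) F) :
        Matrix (Fin 2) (Fin 2) F) = -1 := by
  classical
  obtain ⟨k, hk⟩ := hodd
  have hn : (Fintype.card F - 1) / 2 = k := by omega
  have hq1 : Fintype.card F - 1 = 2 * k := by omega
  have hk2 : 2 ≤ k := by omega
  rw [hn]
  obtain ⟨ζ, hζ⟩ := IsCyclic.exists_generator (α := Fˣ)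
  have hord : orderOf ζ = 2 * k := by
    rw [orderOf_eq_card_of_forall_mem_zpowers hζ, Nat.card_eq_fintype_card, Fintype.card_units, hq1]
  have hord' : orderOf (ζ : F) = 2 * k := by rw [orderOf_units]; exact hord
  have h2 : (2 : F) ≠ 0 := two_ne_zero_of_odd_card ⟨k, hk⟩
  have hζ2 : (ζ : F) ^ 2 ≠ 1 := by
    intro h
    have h3 := orderOf_dvd_of_pow_eq_one h
    rw [hord'] at h3
    have := Nat.le_of_dvd (by norm_num) h3
    omega
  have hζk : (ζ : F) ^ k = -1 := by
    have h1 : ((ζ : F) ^ k) ^ 2 = 1 := by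
      rw [← pow_mul, mul_comm, ← hord']
      exact pow_orderOf_eq_one _
    have h3 : (ζ : F) ^ k ≠ 1 := pow_ne_one_of_lt_orderOf (by omega) (by rw [hord']; omega)
    have : ((ζ : F) ^ k - 1) * ((ζ : F) ^ k + 1) = 0 := by linear_combination h1
    rcases mul_eq_zero.mp this with h | h
    · exact absurd (sub_eq_zero.mp h) h3
    · exact eq_neg_of_add_eq_zero_left h
  have hrange : Subgroup.zpowers (diagHom ζ) = (diagHom : Fˣ →* _).range := by
    rw [← MonoidHom.map_zpowers, MonoidHom.range_eq_map]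
    congr 1
    exact (Subgroup.eq_top_iff' _).mpr hζ
  have hdiag : ∀ g : Matrix.SpecialLinearGroup (Fin 2) F, g ∈ Subgroup.zpowers (diagHom ζ) ↔
      ((g : Matrix (Fin 2) (Fin 2) F) 0 1 = 0 ∧ (g : Matrix (Fin 2) (Fin 2) F) 1 0 = 0) := by
    intro g
    rw [hrange, mem_range_diagHom]
  have ht01 : ((diagHom ζ : Matrix.SpecialLinearGroup (Fin 2) F) : Matrix (Fin 2) (Fin 2) F) 0 1 = 0 := by
    simp [diagHom_apply]
  have ht10 : ((diagHom ζ : Matrix.SpecialLinearGroup (Fin 2) F) : Matrix (Fin 2) (Fin 2) F) 1 0 = 0 := by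
    simp [diagHom_apply]
  have ht00 : ((diagHom ζ : Matrix.SpecialLinearGroup (Fin 2) F) : Matrix (Fin 2) (Fin 2) F) 0 0 = ζ := by
    simp [diagHom_apply]
  have ht11 : ((diagHom ζ : Matrix.SpecialLinearGroup (Fin 2) F) : Matrix (Fin 2) (Fin 2) F) 1 1
      = ((ζ⁻¹ : Fˣ) : F) := by
    simp [diagHom_apply]
  have htk : ((diagHom ζ ^ k : Matrix.SpecialLinearGroup (Fin 2) F) :
      Matrix (Fin 2) (Fin 2) F) = -1 := by
    rw [← map_pow, diagHom_apply]
    have e1 : ((ζ ^ k : Fˣ) : F) = -1 := by rw [Units.val_pow_eq_pow_val]; exact hζk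
    have e2 : (((ζ ^ k)⁻¹ : Fˣ) : F) = -1 := by
      rw [Units.val_inv_eq_inv_val, e1]
      norm_num
    rw [e1, e2]
    ext i j
    fin_cases i <;> fin_cases j <;> simp
  refine ⟨diagHom ζ, mkSL 0 1 (-1) 0 (by ring), ?_, hdiag, ?_, ?_, ?_, ?_, htk⟩
  · rw [orderOf_injective diagHom diagHom_injective, hord]
  · intro g hg
    rw [hdiag]
    refine (mem_centralizer_diag (diagHom ζ) ht01 ht10 (by rw [ht00]; exact hζ2) g).mp ?_
    rw [Subgroup.mem_centralizer_iff]
    intro h hh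
    rw [Set.mem_singleton_iff] at hh
    rw [hh]
    exact hg.symm
  · intro g hg
    rw [hrange] at hg
    obtain ⟨x, hx⟩ := hg
    have htr := trace_conj g (diagHom ζ)
    rw [← hx, ht00, ht11] at htr
    simp only [diagHom_apply] at htr
    have htr' : (x : F) + ((x⁻¹ : Fˣ) : F) = (ζ : F) + ((ζ⁻¹ : Fˣ) : F) := by simpa using htr
    have hx0 : (x : F) ≠ 0 := x.ne_zero
    have hζ0 : (ζ : F) ≠ 0 := ζ.ne_zero
    have hfac : ((x : F) - ζ) * ((x : F) - ((ζ⁻¹ : Fˣ) : F)) = 0 := by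
      rw [Units.val_inv_eq_inv_val, Units.val_inv_eq_inv_val] at htr'
      rw [Units.val_inv_eq_inv_val]
      have e : (x : F)⁻¹ * (x : F) = 1 := inv_mul_cancel₀ hx0
      have e' : (ζ : F) * (ζ : F)⁻¹ = 1 := mul_inv_cancel₀ hζ0
      linear_combination (x : F) * htr' - e + e'
    rcases mul_eq_zero.mp hfac with h | h
    · left
      rw [← hx]
      exact congrArg diagHom (Units.ext (sub_eq_zero.mp h))
    · right
      rw [← hx, ← map_inv]
      exact congrArg diagHom (Units.ext (sub_eq_zero.mp h))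
  · intro g hg
    have hg' : (g : Matrix (Fin 2) (Fin 2) F) * (g : Matrix (Fin 2) (Fin 2) F) = 1 := by
      rw [← Matrix.SpecialLinearGroup.coe_mul, hg, Matrix.SpecialLinearGroup.coe_one]
    rcases sq_eq_one_cases h2 _ g.det_coe hg' with h | h
    · left
      exact Subtype.ext h
    · right
      apply Subtype.ext
      rw [htk]
      exact h
  · rw [mul_inv_eq_iff_eq_mul, ← map_inv]
    apply Subtype.ext
    simp only [Matrix.SpecialLinearGroup.coe_mul, diagHom_apply, mkSL_coe]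
    ext i j
    fin_cases i <;> fin_cases j <;> simp [Matrix.mul_apply, Fin.sum_univ_two]

end Split

end Cfsg.Agent.Lib.helper46
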