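import Mathlib
import Cfsg.Agent.Lib.helper46.SL2
import Cfsg.Agent.Lib.helper46.Dicyclic
import Cfsg.Agent.Lib.helper46.SL2Tori

/-!
# The non-split torus of `SL₂(F)` and conjugacy of regular semisimple elements (helper46)
-/

set_option autoImplicit false

namespace Cfsg.Agent.Lib.helper46

open Matrix

section Ext

variable {F : Type*} [Field F] {K : Type*} [Field K]

theorem map_lin (f : F →+* K) (a b : F) (M : Matrix (Fin 2) (Fin 2) F) :
    (a • (1 : Matrix (Fin 2) (Fin 2) F) + b • M).map f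
      = f a • (1 : Matrix (Fin 2) (Fin 2) K) + f b • M.map f := by
  ext i j
  simp only [Matrix.map_apply, Matrix.add_apply, Matrix.smul_apply, Matrix.one_apply, smul_eq_mul,
    map_add, map_mul]
  split_ifs <;> simp

theorem map_det_one (f : F →+* K) (M : Matrix (Fin 2) (Fin 2) F) (hdet : M.det = 1) :
    (M.map f).det = 1 := by
  have h1 := RingHom.map_det f M
  rw [hdet, map_one, RingHom.mapMatrix_apply] at h1
  exact h1.symm

/-- The eigenvalue of `a • 1 + b • M` on the `l`-eigen-matrix `M_K - l⁻¹`. -/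
theorem eigen_lin (f : F →+* K) (M : Matrix (Fin 2) (Fin 2) F) (hdet : M.det = 1) (l : K)
    (hl0 : l ≠ 0) (htr : f (M 0 0 + M 1 1) = l + l⁻¹) (a b : F) :
    (a • (1 : Matrix (Fin 2) (Fin 2) F) + b • M).map f
        * (M.map f - l⁻¹ • (1 : Matrix (Fin 2) (Fin 2) K))
      = (f a + f b * l) • (M.map f - l⁻¹ • (1 : Matrix (Fin 2) (Fin 2) K)) := by
  have hsum : l + l⁻¹ = (M.map f) 0 0 + (M.map f) 1 1 := by
    rw [Matrix.map_apply, Matrix.map_apply, ← map_add, htr]
  have hP := mul_sub_smul_eq (M.map f) (map_det_one f M hdet) l l⁻¹ hsum (mul_inv_cancel₀ hl0)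
  rw [map_lin, add_mul, smul_mul_assoc, smul_mul_assoc, one_mul, hP, smul_smul, add_smul]

theorem eigenMatrix_ne_zero (f : F →+* K) (M : Matrix (Fin 2) (Fin 2) F) (l : K)
    (htr : f (M 0 0 + M 1 1) = l + l⁻¹) (hne : l ≠ l⁻¹) :
    M.map f - l⁻¹ • (1 : Matrix (Fin 2) (Fin 2) K) ≠ 0 := by
  intro h0
  have hM : M.map f = l⁻¹ • (1 : Matrix (Fin 2) (Fin 2) K) := sub_eq_zero.mp h0
  have h00 : f (M 0 0) = l⁻¹ := by
    have := congrFun (congrFun hM 0) 0
    simpa using this
  have h11 : f (M 1 1) = l⁻¹ := by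
    have := congrFun (congrFun hM 1) 1
    simpa using this
  rw [map_add, h00, h11] at htr
  exact hne (by linear_combination -htr)

/-- `1` and `l` are linearly independent over `F` when `l ∉ F`. -/
theorem lin_indep_of_not_mem (f : F →+* K) (l : K) (hlF : l ∉ Set.range f) (a b : F)
    (h : f a + f b * l = 0) : a = 0 ∧ b = 0 := by
  have hb : b = 0 := by
    by_contra hb
    apply hlF
    have hfb : f b ≠ 0 := (map_ne_zero f).mpr hb
    refine ⟨-a / b, ?_⟩
    rw [map_div₀, map_neg]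
    field_simp
    linear_combination -h
  subst hb
  simp only [map_zero, zero_mul, add_zero] at h
  exact ⟨(map_eq_zero f).mp h, rfl⟩

theorem ne_inv_of_not_mem (f : F →+* K) (l : K) (hlF : l ∉ Set.range f) : l ≠ l⁻¹ := by
  intro h
  have hl0 : l ≠ 0 := by
    rintro rfl
    exact hlF ⟨0, map_zero f⟩
  have h1 : l * l = 1 := by
    nth_rewrite 2 [h]
    exact mul_inv_cancel₀ hl0
  have h2 : (l - 1) * (l + 1) = 0 := by linear_combination h1
  rcases mul_eq_zero.mp h2 with h3 | h3
  · exact hlF ⟨1, by rw [map_one]; exact (sub_eq_zero.mp h3).symm⟩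
  · exact hlF ⟨-1, by rw [map_neg, map_one]; exact (eq_neg_of_add_eq_zero_left h3).symm⟩

/-- If `X = a • 1 + b • M` acts on the eigen-matrix by the scalar `c`, then `c = f a + f b * l`. -/
theorem eigen_unique (f : F →+* K) (M : Matrix (Fin 2) (Fin 2) F) (hdet : M.det = 1) (l : K)
    (hl0 : l ≠ 0) (htr : f (M 0 0 + M 1 1) = l + l⁻¹) (hne : l ≠ l⁻¹) (a b : F) (c : K)
    (hc : (a • (1 : Matrix (Fin 2) (Fin 2) F) + b • M).map f
        * (M.map f - l⁻¹ • (1 : Matrix (Fin 2) (Fin 2) K))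
      = c • (M.map f - l⁻¹ • (1 : Matrix (Fin 2) (Fin 2) K))) :
    c = f a + f b * l := by
  rw [eigen_lin f M hdet l hl0 htr] at hc
  have h0 : ((f a + f b * l) - c) • (M.map f - l⁻¹ • (1 : Matrix (Fin 2) (Fin 2) K)) = 0 := by
    rw [sub_smul, hc, sub_self]
  rcases smul_eq_zero.mp h0 with h | h
  · exact (sub_eq_zero.mp h).symm
  · exact absurd h (eigenMatrix_ne_zero f M l htr hne)

/-- Two elements of the span of `1, M` with the same eigenvalue are equal. -/
theorem eq_of_eigen_eq (f : F →+* K) (l : K) (hlF : l ∉ Set.range f)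
    (M : Matrix (Fin 2) (Fin 2) F) (a b a' b' : F)
    (h : f a + f b * l = f a' + f b' * l) :
    a • (1 : Matrix (Fin 2) (Fin 2) F) + b • M = a' • (1 : Matrix (Fin 2) (Fin 2) F) + b' • M := by
  have h0 : f (a - a') + f (b - b') * l = 0 := by
    rw [map_sub, map_sub]
    linear_combination h
  obtain ⟨h1, h2⟩ := lin_indep_of_not_mem f l hlF _ _ h0
  rw [sub_eq_zero.mp h1, sub_eq_zero.mp h2]

/-- The norm: the product of the two eigenvalues is the determinant. -/
theorem eigen_norm (f : F →+* K) (M : Matrix (Fin 2) (Fin 2) F) (hdet : M.det = 1) (l : K)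
    (hl0 : l ≠ 0) (htr : f (M 0 0 + M 1 1) = l + l⁻¹) (a b : F) :
    (f a + f b * l) * (f a + f b * l⁻¹)
      = f ((a • (1 : Matrix (Fin 2) (Fin 2) F) + b • M).det) := by
  rw [det_lin M hdet, map_add, map_add, map_pow, map_pow, map_mul, map_mul, htr]
  have := mul_inv_cancel₀ hl0
  linear_combination (f b) ^ 2 * this

/-- The eigenvalue of `M ^ j`. -/
theorem eigen_pow (f : F →+* K) (M : Matrix (Fin 2) (Fin 2) F) (hdet : M.det = 1) (l : K)
    (hl0 : l ≠ 0) (htr : f (M 0 0 + M 1 1) = l + l⁻¹) (hne : l ≠ l⁻¹) (j : ℕ) (a b : F)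
    (hab : M ^ j = a • (1 : Matrix (Fin 2) (Fin 2) F) + b • M) : f a + f b * l = l ^ j := by
  have hsum : l + l⁻¹ = (M.map f) 0 0 + (M.map f) 1 1 := by
    rw [Matrix.map_apply, Matrix.map_apply, ← map_add, htr]
  have hP := mul_sub_smul_eq (M.map f) (map_det_one f M hdet) l l⁻¹ hsum (mul_inv_cancel₀ hl0)
  have h1 := pow_mul_of_mul_eq_smul (M.map f) _ l hP j
  rw [← map_pow', hab] at h1
  exact (eigen_unique f M hdet l hl0 htr hne a b (l ^ j) h1).symm

end Ext

section Conj

variable {F : Type*} [Field F]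

/-- An element of `SL₂` with no eigenvector has characteristic polynomial without roots. -/
theorem noroot_of_no_eigenvector (g : Matrix.SpecialLinearGroup (Fin 2) F)
    (hg : ∀ (c : F) (v : Fin 2 → F), v ≠ 0 → (g : Matrix (Fin 2) (Fin 2) F).mulVec v ≠ c • v) :
    ∀ x : F, x ^ 2 - ((g : Matrix (Fin 2) (Fin 2) F) 0 0 + (g : Matrix (Fin 2) (Fin 2) F) 1 1) * x
      + 1 ≠ 0 := by
  intro x hx
  have hP := mul_sub_smul_eq (g : Matrix (Fin 2) (Fin 2) F) g.det_coe x
    ((g : Matrix (Fin 2) (Fin 2) F) 0 0 + (g : Matrix (Fin 2) (Fin 2) F) 1 1 - x) (by ring)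
    (by linear_combination -hx)
  by_cases hA : (g : Matrix (Fin 2) (Fin 2) F)
      - ((g : Matrix (Fin 2) (Fin 2) F) 0 0 + (g : Matrix (Fin 2) (Fin 2) F) 1 1 - x)
        • (1 : Matrix (Fin 2) (Fin 2) F) = 0
  · have hG := sub_eq_zero.mp hA
    refine hg ((g : Matrix (Fin 2) (Fin 2) F) 0 0 + (g : Matrix (Fin 2) (Fin 2) F) 1 1 - x)
      ![1, 0] ?_ ?_
    · intro h0
      have := congrFun h0 0
      simp at this
    · nth_rewrite 1 [hG]
      rw [Matrix.smul_mulVec, Matrix.one_mulVec]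
  · have hex : ∃ i j, ((g : Matrix (Fin 2) (Fin 2) F)
        - ((g : Matrix (Fin 2) (Fin 2) F) 0 0 + (g : Matrix (Fin 2) (Fin 2) F) 1 1 - x)
          • (1 : Matrix (Fin 2) (Fin 2) F)) i j ≠ 0 := by
      by_contra hcon
      push Not at hcon
      apply hA
      ext i j
      exact hcon i j
    obtain ⟨i, j, hij⟩ := hex
    refine hg x (fun i' => ((g : Matrix (Fin 2) (Fin 2) F)
        - ((g : Matrix (Fin 2) (Fin 2) F) 0 0 + (g : Matrix (Fin 2) (Fin 2) F) 1 1 - x)
          • (1 : Matrix (Fin 2) (Fin 2) F)) i' j) ?_ ?_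
    · intro h0
      exact hij (congrFun h0 i)
    · funext i'
      have := congrFun (congrFun hP i') j
      rw [Matrix.mul_apply] at this
      simp only [Matrix.mulVec, dotProduct, Pi.smul_apply, smul_eq_mul]
      rw [this]
      simp

theorem entry_ne_zero_of_noroot (G : Matrix (Fin 2) (Fin 2) F) (hdet : G.det = 1)
    (hno : ∀ x : F, x ^ 2 - (G 0 0 + G 1 1) * x + 1 ≠ 0) : G 1 0 ≠ 0 := by
  intro h0
  apply hno (G 0 0)
  rw [Matrix.det_fin_two, h0] at hdet
  linear_combination (-1 : F) * hdet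

theorem disc_ne_zero_of_noroot (h2 : (2 : F) ≠ 0) (τ : F)
    (hno : ∀ x : F, x ^ 2 - τ * x + 1 ≠ 0) : τ ^ 2 - 4 ≠ 0 := by
  intro h0
  apply hno (τ / 2)
  field_simp
  linear_combination (-1 : F) * h0

/-- The intertwiner `X = G' Y + Y G - τ Y` satisfies `X G = G' X` when `G, G'` have
determinant one and the same trace `τ`. -/
theorem intertwiner (G G' Y : Matrix (Fin 2) (Fin 2) F) (hdet : G.det = 1) (hdet' : G'.det = 1)
    (htr : G 0 0 + G 1 1 = G' 0 0 + G' 1 1) :
    (G' * Y + Y * G - (G 0 0 + G 1 1) • Y) * G = G' * (G' * Y + Y * G - (G 0 0 + G 1 1) • Y) := by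
  have hCH := cayley_two G hdet
  have hCH' := cayley_two G' hdet'
  rw [← htr] at hCH'
  have e1 : (G' * Y + Y * G - (G 0 0 + G 1 1) • Y) * G = G' * Y * G - Y := by
    calc (G' * Y + Y * G - (G 0 0 + G 1 1) • Y) * G
        = G' * Y * G + Y * (G * G) - (G 0 0 + G 1 1) • (Y * G) := by
          simp only [add_mul, sub_mul, smul_mul_assoc, mul_assoc]
      _ = G' * Y * G + Y * ((G 0 0 + G 1 1) • G - 1) - (G 0 0 + G 1 1) • (Y * G) := by rw [hCH]
      _ = G' * Y * G - Y := by
          simp only [mul_sub, mul_smul_comm, mul_one]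
          abel
  have e2 : G' * (G' * Y + Y * G - (G 0 0 + G 1 1) • Y) = G' * Y * G - Y := by
    calc G' * (G' * Y + Y * G - (G 0 0 + G 1 1) • Y)
        = (G' * G') * Y + G' * Y * G - (G 0 0 + G 1 1) • (G' * Y) := by
          simp only [mul_add, mul_sub, mul_smul_comm, mul_assoc]
      _ = ((G 0 0 + G 1 1) • G' - 1) * Y + G' * Y * G - (G 0 0 + G 1 1) • (G' * Y) := by
          rw [hCH']
      _ = G' * Y * G - Y := by
          simp only [sub_mul, smul_mul_assoc, one_mul]
          abel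
  rw [e1, e2]

variable [Fintype F]

/-- Over a finite field of odd order, `u x² + v y² = c` is solvable when `u, v ≠ 0`. -/
theorem exists_quadratic_sol (hodd : Odd (Fintype.card F)) (u v c : F) (hu : u ≠ 0)
    (hv : v ≠ 0) : ∃ x y : F, u * x ^ 2 + v * y ^ 2 = c := by
  classical
  have hR : Fintype.card F % 2 = 1 := Nat.odd_iff.mp hodd
  have hf : (Polynomial.C u * Polynomial.X ^ 2 : Polynomial F).degree = 2 :=
    Polynomial.degree_C_mul_X_pow 2 hu
  have hg : (Polynomial.C v * Polynomial.X ^ 2 - Polynomial.C c : Polynomial F).degree = 2 := by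
    rw [Polynomial.degree_sub_C]
    · exact Polynomial.degree_C_mul_X_pow 2 hv
    · rw [Polynomial.degree_C_mul_X_pow 2 hv]
      norm_num
  obtain ⟨x, y, hxy⟩ := FiniteField.exists_root_sum_quadratic hf hg hR
  refine ⟨x, y, ?_⟩
  simp only [Polynomial.eval_mul, Polynomial.eval_C, Polynomial.eval_pow, Polynomial.eval_X,
    Polynomial.eval_sub] at hxy
  linear_combination hxy

/-- Two elements of `SL₂(F)` (`|F|` odd) with the same trace `τ`, such that `x² - τ x + 1` has no
root in `F`, are conjugate in `SL₂(F)`. -/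
theorem conj_of_trace_eq_noroot (hodd : Odd (Fintype.card F))
    (g g' : Matrix.SpecialLinearGroup (Fin 2) F)
    (htr : (g : Matrix (Fin 2) (Fin 2) F) 0 0 + (g : Matrix (Fin 2) (Fin 2) F) 1 1
      = (g' : Matrix (Fin 2) (Fin 2) F) 0 0 + (g' : Matrix (Fin 2) (Fin 2) F) 1 1)
    (hno : ∀ x : F, x ^ 2 - ((g : Matrix (Fin 2) (Fin 2) F) 0 0
      + (g : Matrix (Fin 2) (Fin 2) F) 1 1) * x + 1 ≠ 0) :
    ∃ h : Matrix.SpecialLinearGroup (Fin 2) F, h * g * h⁻¹ = g' := by
  have h2 : (2 : F) ≠ 0 := two_ne_zero_of_odd_card hodd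
  have hG10 := entry_ne_zero_of_noroot (g : Matrix (Fin 2) (Fin 2) F) g.det_coe hno
  have hG'10 := entry_ne_zero_of_noroot (g' : Matrix (Fin 2) (Fin 2) F) g'.det_coe
    (by rw [← htr]; exact hno)
  have hΔ := disc_ne_zero_of_noroot h2 _ hno
  have hdet := g.det_coe
  rw [Matrix.det_fin_two] at hdet
  obtain ⟨B, a, hBa⟩ := exists_quadratic_sol hodd (1 : F)
    (-(((g : Matrix (Fin 2) (Fin 2) F) 0 0 + (g : Matrix (Fin 2) (Fin 2) F) 1 1) ^ 2 - 4))
    (4 * (g : Matrix (Fin 2) (Fin 2) F) 1 0 / (g' : Matrix (Fin 2) (Fin 2) F) 1 0)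
    one_ne_zero (neg_ne_zero.mpr hΔ)
  have hQ : (g' : Matrix (Fin 2) (Fin 2) F) 1 0 *
      ((g : Matrix (Fin 2) (Fin 2) F) 1 0
          * ((B - ((g : Matrix (Fin 2) (Fin 2) F) 0 0 - (g : Matrix (Fin 2) (Fin 2) F) 1 1) * a)
            / (2 * (g : Matrix (Fin 2) (Fin 2) F) 1 0)) ^ 2
        + ((g : Matrix (Fin 2) (Fin 2) F) 0 0 - (g : Matrix (Fin 2) (Fin 2) F) 1 1) * a
          * ((B - ((g : Matrix (Fin 2) (Fin 2) F) 0 0 - (g : Matrix (Fin 2) (Fin 2) F) 1 1) * a)
            / (2 * (g : Matrix (Fin 2) (Fin 2) F) 1 0))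
        - (g : Matrix (Fin 2) (Fin 2) F) 0 1 * a ^ 2) = 1 := by
    field_simp at hBa ⊢
    linear_combination hBa + 4 * a ^ 2 * (g' : Matrix (Fin 2) (Fin 2) F) 1 0 * hdet
  have hint := intertwiner (g : Matrix (Fin 2) (Fin 2) F) (g' : Matrix (Fin 2) (Fin 2) F)
    !![a, (B - ((g : Matrix (Fin 2) (Fin 2) F) 0 0 - (g : Matrix (Fin 2) (Fin 2) F) 1 1) * a)
            / (2 * (g : Matrix (Fin 2) (Fin 2) F) 1 0); 0, 0] g.det_coe g'.det_coe htr
  have hdetX : ((g' : Matrix (Fin 2) (Fin 2) F)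
      * !![a, (B - ((g : Matrix (Fin 2) (Fin 2) F) 0 0 - (g : Matrix (Fin 2) (Fin 2) F) 1 1) * a)
            / (2 * (g : Matrix (Fin 2) (Fin 2) F) 1 0); 0, 0]
      + !![a, (B - ((g : Matrix (Fin 2) (Fin 2) F) 0 0 - (g : Matrix (Fin 2) (Fin 2) F) 1 1) * a)
            / (2 * (g : Matrix (Fin 2) (Fin 2) F) 1 0); 0, 0] * (g : Matrix (Fin 2) (Fin 2) F)
      - ((g : Matrix (Fin 2) (Fin 2) F) 0 0 + (g : Matrix (Fin 2) (Fin 2) F) 1 1)
        • !![a, (B - ((g : Matrix (Fin 2) (Fin 2) F) 0 0 - (g : Matrix (Fin 2) (Fin 2) F) 1 1) * a)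
            / (2 * (g : Matrix (Fin 2) (Fin 2) F) 1 0); 0, 0]).det = 1 := by
    rw [Matrix.det_fin_two]
    simp only [Matrix.sub_apply, Matrix.add_apply, Matrix.mul_apply, Fin.sum_univ_two,
      Matrix.smul_apply, smul_eq_mul, Matrix.of_apply, Matrix.cons_val', Matrix.cons_val_zero,
      Matrix.cons_val_one, Matrix.cons_val_fin_one]
    linear_combination hQ
  let h : Matrix.SpecialLinearGroup (Fin 2) F := ⟨_, hdetX⟩
  refine ⟨h, ?_⟩
  rw [mul_inv_eq_iff_eq_mul]
  apply Subtype.ext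
  rw [Matrix.SpecialLinearGroup.coe_mul, Matrix.SpecialLinearGroup.coe_mul]
  exact hint

end Conj

section NonSplit

variable {F : Type*} [Field F] [Fintype F]

theorem add_pow_card {K : Type*} [Field K] [Algebra F K] (x y : K) :
    (x + y) ^ Fintype.card F = x ^ Fintype.card F + y ^ Fintype.card F := by
  obtain ⟨p, hp⟩ := CharP.exists F
  have hprime : Fact p.Prime := ⟨CharP.char_is_prime F p⟩
  have hK : CharP K p := charP_of_injective_algebraMap (algebraMap F K).injective p
  obtain ⟨n, -, hn⟩ := FiniteField.card F p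
  rw [hn]
  exact add_pow_char_pow x y p n

theorem frob_lin {K : Type*} [Field K] [Algebra F K] (a b : F) (l : K) :
    (algebraMap F K a + algebraMap F K b * l) ^ Fintype.card F
      = algebraMap F K a + algebraMap F K b * l ^ Fintype.card F := by
  obtain ⟨p, hp⟩ := CharP.exists F
  have hprime : Fact p.Prime := ⟨CharP.char_is_prime F p⟩
  have hK : CharP K p := charP_of_injective_algebraMap (algebraMap F K).injective p
  obtain ⟨n, -, hn⟩ := FiniteField.card F p
  have e : ∀ x y : K, (x + y) ^ Fintype.card F = x ^ Fintype.card F + y ^ Fintype.card F := by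
    intro x y
    rw [hn]
    exact add_pow_char_pow x y p n
  rw [e, mul_pow, ← map_pow, ← map_pow, FiniteField.pow_card, FiniteField.pow_card]

omit [Fintype F] in
theorem exists_root_of_algClosed {K : Type*} [Field K] [IsAlgClosed K] (h2 : (2 : K) ≠ 0)
    (τ : K) : ∃ α : K, α ^ 2 - τ * α + 1 = 0 := by
  obtain ⟨z, hz⟩ := IsAlgClosed.exists_pow_nat_eq (τ ^ 2 - 4) (by norm_num : 0 < 2)
  refine ⟨(τ + z) / 2, ?_⟩
  field_simp
  linear_combination hz

/-- The non-split torus of `SL₂(F)`, `|F| = q` odd: a generator `t` of a cyclic subgroup of order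
`q + 1` and an element `w` inverting it, with all the properties needed to analyse the
normalizer, centralizers and conjugacy into the torus. -/
theorem nonsplit_torus_data (hodd : Odd (Fintype.card F)) :
    ∃ t w : Matrix.SpecialLinearGroup (Fin 2) F,
      orderOf t = 2 * ((Fintype.card F + 1) / 2) ∧
      (∀ g : Matrix.SpecialLinearGroup (Fin 2) F, g * t = t * g → g ∈ Subgroup.zpowers t) ∧
      (∀ g : Matrix.SpecialLinearGroup (Fin 2) F, g * t * g⁻¹ ∈ Subgroup.zpowers t →
        g * t * g⁻¹ = t ∨ g * t * g⁻¹ = t⁻¹) ∧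
      (∀ g : Matrix.SpecialLinearGroup (Fin 2) F, g * g = 1 →
        g = 1 ∨ g = t ^ ((Fintype.card F + 1) / 2)) ∧
      w * t * w⁻¹ = t⁻¹ ∧
      ((t ^ ((Fintype.card F + 1) / 2) : Matrix.SpecialLinearGroup (Fin 2) F) :
        Matrix (Fin 2) (Fin 2) F) = -1 ∧
      (∀ g : Matrix.SpecialLinearGroup (Fin 2) F, g ∈ Subgroup.zpowers t →
        (g : Matrix (Fin 2) (Fin 2) F) ≠ 1 → (g : Matrix (Fin 2) (Fin 2) F) ≠ -1 →
        ∀ h : Matrix.SpecialLinearGroup (Fin 2) F, h * g = g * h → h ∈ Subgroup.zpowers t) ∧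
      (∀ g : Matrix.SpecialLinearGroup (Fin 2) F,
        (∀ (c : F) (v : Fin 2 → F), v ≠ 0 → (g : Matrix (Fin 2) (Fin 2) F).mulVec v ≠ c • v) →
        ∃ h : Matrix.SpecialLinearGroup (Fin 2) F, h * g * h⁻¹ ∈ Subgroup.zpowers t) := by
  classical
  obtain ⟨k, hk⟩ := hodd
  have hn : (Fintype.card F + 1) / 2 = k + 1 := by omega
  have hq1 : Fintype.card F + 1 = 2 * (k + 1) := by omega
  have hq2 : 1 < Fintype.card F := Fintype.one_lt_card
  have hk1 : 1 ≤ k := by omega
  rw [hn]
  have h2 : (2 : F) ≠ 0 := two_ne_zero_of_odd_card ⟨k, hk⟩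
  -- the eigenvalue
  have hnz : NeZero ((Fintype.card F + 1 : ℕ) : F) := ⟨by
    rw [Nat.cast_add, FiniteField.cast_card_eq_zero]; simp⟩
  obtain ⟨l, hl⟩ := HasEnoughRootsOfUnity.exists_primitiveRoot (AlgebraicClosure F)
    (Fintype.card F + 1)
  have hord : orderOf l = Fintype.card F + 1 := hl.eq_orderOf.symm
  have hl0 : l ≠ 0 := hl.ne_zero (by omega)
  have hlq : l ^ Fintype.card F = l⁻¹ := by
    have : l ^ Fintype.card F * l = 1 := by rw [← pow_succ]; exact hl.pow_eq_one
    exact eq_inv_of_mul_eq_one_left this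
  have hlF : l ∉ Set.range (algebraMap F (AlgebraicClosure F)) := by
    rintro ⟨x, rfl⟩
    have hx0 : x ≠ 0 := by
      rintro rfl
      exact hl0 (map_zero _)
    have h1 : (algebraMap F (AlgebraicClosure F) x) ^ (Fintype.card F - 1) = 1 := by
      rw [← map_pow, FiniteField.pow_card_sub_one_eq_one x hx0, map_one]
    have h3 : (algebraMap F (AlgebraicClosure F) x) ^ 2 = 1 := by
      have h4 := hl.pow_eq_one
      have h5 : Fintype.card F + 1 = (Fintype.card F - 1) + 2 := by omega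
      rw [h5, pow_add, h1, one_mul] at h4
      exact h4
    have h6 := orderOf_dvd_of_pow_eq_one h3
    rw [hord] at h6
    have := Nat.le_of_dvd (by norm_num) h6
    omega
  have hne : l ≠ l⁻¹ := ne_inv_of_not_mem _ l hlF
  have htq : (l + l⁻¹) ^ Fintype.card F = l + l⁻¹ := by
    have := frob_lin (F := F) (K := AlgebraicClosure F) 0 1 (l + l⁻¹)
    simp only [map_zero, zero_add, map_one, one_mul] at this
    obtain ⟨p, hp⟩ := CharP.exists F
    have hprime : Fact p.Prime := ⟨CharP.char_is_prime F p⟩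
    have hK : CharP (AlgebraicClosure F) p :=
      charP_of_injective_algebraMap (algebraMap F (AlgebraicClosure F)).injective p
    obtain ⟨n, -, hn'⟩ := FiniteField.card F p
    have e1 : (l + l⁻¹) ^ Fintype.card F = l ^ Fintype.card F + l⁻¹ ^ Fintype.card F := by
      rw [hn']
      exact add_pow_char_pow l l⁻¹ p n
    rw [e1, inv_pow, hlq, inv_inv, add_comm]
  obtain ⟨t₀, ht₀⟩ := mem_range_of_pow_card_eq (l + l⁻¹) htq
  -- the generator
  have hM00 : ((mkSL (0 : F) (-1) 1 t₀ (by ring) : Matrix.SpecialLinearGroup (Fin 2) F) :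
      Matrix (Fin 2) (Fin 2) F) 0 0 = 0 := by simp
  have hM01 : ((mkSL (0 : F) (-1) 1 t₀ (by ring) : Matrix.SpecialLinearGroup (Fin 2) F) :
      Matrix (Fin 2) (Fin 2) F) 0 1 = -1 := by simp
  have hM10 : ((mkSL (0 : F) (-1) 1 t₀ (by ring) : Matrix.SpecialLinearGroup (Fin 2) F) :
      Matrix (Fin 2) (Fin 2) F) 1 0 = 1 := by simp
  have hM11 : ((mkSL (0 : F) (-1) 1 t₀ (by ring) : Matrix.SpecialLinearGroup (Fin 2) F) :
      Matrix (Fin 2) (Fin 2) F) 1 1 = t₀ := by simp
  generalize ht : (mkSL (0 : F) (-1) 1 t₀ (by ring) : Matrix.SpecialLinearGroup (Fin 2) F) = t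
    at hM00 hM01 hM10 hM11
  have hdet : (t : Matrix (Fin 2) (Fin 2) F).det = 1 := t.det_coe
  have htr : algebraMap F (AlgebraicClosure F)
      ((t : Matrix (Fin 2) (Fin 2) F) 0 0 + (t : Matrix (Fin 2) (Fin 2) F) 1 1) = l + l⁻¹ := by
    rw [hM00, hM11, zero_add, ht₀]
  have hno : ∀ x : F, x ^ 2 - ((t : Matrix (Fin 2) (Fin 2) F) 0 0
      + (t : Matrix (Fin 2) (Fin 2) F) 1 1) * x + 1 ≠ 0 := by
    intro x hx
    apply hlF
    have hx' := congrArg (algebraMap F (AlgebraicClosure F)) hx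
    rw [map_add, map_sub, map_mul, map_pow, htr, map_one, map_zero] at hx'
    have hli : l * l⁻¹ = 1 := mul_inv_cancel₀ hl0
    have hfac : (algebraMap F (AlgebraicClosure F) x - l)
        * (algebraMap F (AlgebraicClosure F) x - l⁻¹) = 0 := by
      linear_combination hx' + hli
    rcases mul_eq_zero.mp hfac with h | h
    · exact ⟨x, sub_eq_zero.mp h⟩
    · refine ⟨x⁻¹, ?_⟩
      rw [map_inv₀, sub_eq_zero.mp h, inv_inv]
  -- elements of the span of `1, t` of determinant one are powers of `t`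
  have hspan_pow : ∀ (g : Matrix.SpecialLinearGroup (Fin 2) F) (a b : F),
      (g : Matrix (Fin 2) (Fin 2) F) = a • (1 : Matrix (Fin 2) (Fin 2) F)
        + b • (t : Matrix (Fin 2) (Fin 2) F) → g ∈ Subgroup.zpowers t := by
    intro g a b hab
    have hnorm := eigen_norm (algebraMap F (AlgebraicClosure F)) _ hdet l hl0 htr a b
    rw [← hab, g.det_coe, map_one] at hnorm
    have hfrob := frob_lin (F := F) (K := AlgebraicClosure F) a b l
    rw [hlq] at hfrob
    have hα : (algebraMap F (AlgebraicClosure F) a + algebraMap F (AlgebraicClosure F) b * l)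
        ^ (Fintype.card F + 1) = 1 := by
      rw [pow_succ, hfrob, mul_comm]
      exact hnorm
    have hnz' : NeZero (Fintype.card F + 1) := ⟨by omega⟩
    obtain ⟨j, -, hj⟩ := hl.eq_pow_of_pow_eq_one hα
    obtain ⟨a', b', hab'⟩ := pow_mem_span (t : Matrix (Fin 2) (Fin 2) F) hdet j
    have hj' := eigen_pow (algebraMap F (AlgebraicClosure F)) _ hdet l hl0 htr hne j a' b' hab'
    have heq := eq_of_eigen_eq (algebraMap F (AlgebraicClosure F)) l hlF
      (t : Matrix (Fin 2) (Fin 2) F) a b a' b' (by rw [hj', hj])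
    have : g = t ^ j := by
      apply Subtype.ext
      rw [Matrix.SpecialLinearGroup.coe_pow, hab, heq, hab']
    rw [this]
    exact Subgroup.pow_mem _ (Subgroup.mem_zpowers t) j
  -- elements commuting with `t` lie in the span
  have hspan : ∀ g : Matrix.SpecialLinearGroup (Fin 2) F, g * t = t * g →
      (g : Matrix (Fin 2) (Fin 2) F) = (g : Matrix (Fin 2) (Fin 2) F) 0 0 • (1 : Matrix (Fin 2) (Fin 2) F)
        + (g : Matrix (Fin 2) (Fin 2) F) 1 0 • (t : Matrix (Fin 2) (Fin 2) F) := by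
    intro g hg
    have h3 := congrArg (fun x : Matrix.SpecialLinearGroup (Fin 2) F =>
      (x : Matrix (Fin 2) (Fin 2) F)) hg
    simp only [Matrix.SpecialLinearGroup.coe_mul] at h3
    have e00 := congrFun (congrFun h3 0) 0
    have e10 := congrFun (congrFun h3 1) 0
    simp only [Matrix.mul_apply, Fin.sum_univ_two, hM00, hM01, hM10, hM11] at e00 e10
    have k00 : (g : Matrix (Fin 2) (Fin 2) F) 0 0 = ((g : Matrix (Fin 2) (Fin 2) F) 0 0
        • (1 : Matrix (Fin 2) (Fin 2) F)
        + (g : Matrix (Fin 2) (Fin 2) F) 1 0 • (t : Matrix (Fin 2) (Fin 2) F)) 0 0 := by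
      simp only [Matrix.add_apply, Matrix.smul_apply, smul_eq_mul, hM00]
      simp
    have k01 : (g : Matrix (Fin 2) (Fin 2) F) 0 1 = ((g : Matrix (Fin 2) (Fin 2) F) 0 0
        • (1 : Matrix (Fin 2) (Fin 2) F)
        + (g : Matrix (Fin 2) (Fin 2) F) 1 0 • (t : Matrix (Fin 2) (Fin 2) F)) 0 1 := by
      simp only [Matrix.add_apply, Matrix.smul_apply, smul_eq_mul, hM01]
      simp only [Matrix.one_apply_ne (show (0 : Fin 2) ≠ 1 by decide)]
      linear_combination e00
    have k10 : (g : Matrix (Fin 2) (Fin 2) F) 1 0 = ((g : Matrix (Fin 2) (Fin 2) F) 0 0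
        • (1 : Matrix (Fin 2) (Fin 2) F)
        + (g : Matrix (Fin 2) (Fin 2) F) 1 0 • (t : Matrix (Fin 2) (Fin 2) F)) 1 0 := by
      simp only [Matrix.add_apply, Matrix.smul_apply, smul_eq_mul, hM10]
      simp
    have k11 : (g : Matrix (Fin 2) (Fin 2) F) 1 1 = ((g : Matrix (Fin 2) (Fin 2) F) 0 0
        • (1 : Matrix (Fin 2) (Fin 2) F)
        + (g : Matrix (Fin 2) (Fin 2) F) 1 0 • (t : Matrix (Fin 2) (Fin 2) F)) 1 1 := by
      simp only [Matrix.add_apply, Matrix.smul_apply, smul_eq_mul, hM11]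
      simp only [Matrix.one_apply_eq]
      linear_combination e10
    ext i j
    fin_cases i <;> fin_cases j
    · exact k00
    · exact k01
    · exact k10
    · exact k11
  have hC : ∀ g : Matrix.SpecialLinearGroup (Fin 2) F, g * t = t * g → g ∈ Subgroup.zpowers t :=
    fun g hg => hspan_pow g _ _ (hspan g hg)
  -- the order of `t`
  have hpow_iff : ∀ j : ℕ, t ^ j = 1 ↔ l ^ j = 1 := by
    intro j
    obtain ⟨a', b', hab'⟩ := pow_mem_span (t : Matrix (Fin 2) (Fin 2) F) hdet j
    have hj' := eigen_pow (algebraMap F (AlgebraicClosure F)) _ hdet l hl0 htr hne j a' b' hab'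
    constructor
    · intro h1
      have h1' : (t : Matrix (Fin 2) (Fin 2) F) ^ j = (1 : F) • (1 : Matrix (Fin 2) (Fin 2) F)
          + (0 : F) • (t : Matrix (Fin 2) (Fin 2) F) := by
        rw [← Matrix.SpecialLinearGroup.coe_pow, h1, one_smul, zero_smul, add_zero,
          Matrix.SpecialLinearGroup.coe_one]
      have := eigen_pow (algebraMap F (AlgebraicClosure F)) _ hdet l hl0 htr hne j 1 0 h1'
      rw [map_one, map_zero, zero_mul, add_zero] at this
      exact this.symm
    · intro h1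
      have heq := eq_of_eigen_eq (algebraMap F (AlgebraicClosure F)) l hlF
        (t : Matrix (Fin 2) (Fin 2) F) a' b' 1 0
        (by rw [hj', h1, map_one, map_zero, zero_mul, add_zero])
      apply Subtype.ext
      rw [Matrix.SpecialLinearGroup.coe_pow, hab', heq, one_smul, zero_smul, add_zero,
        Matrix.SpecialLinearGroup.coe_one]
  have hordt : orderOf t = Fintype.card F + 1 := by
    rw [← hord]
    exact orderOf_eq_orderOf_iff.mpr hpow_iff
  -- `l ^ (k + 1) = -1`
  have hlk : l ^ (k + 1) = -1 := by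
    have hsq : (l ^ (k + 1) - 1) * (l ^ (k + 1) + 1) = 0 := by
      have h1 : l ^ (k + 1) * l ^ (k + 1) = 1 := by
        rw [← pow_add, ← two_mul, ← hq1]
        exact hl.pow_eq_one
      linear_combination h1
    rcases mul_eq_zero.mp hsq with h | h
    · exfalso
      have h6 := orderOf_dvd_of_pow_eq_one (sub_eq_zero.mp h)
      rw [hord] at h6
      have := Nat.le_of_dvd (by omega) h6
      omega
    · exact eq_neg_of_add_eq_zero_left h
  have htk : ((t ^ (k + 1) : Matrix.SpecialLinearGroup (Fin 2) F) : Matrix (Fin 2) (Fin 2) F)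
      = -1 := by
    obtain ⟨a', b', hab'⟩ := pow_mem_span (t : Matrix (Fin 2) (Fin 2) F) hdet (k + 1)
    have hj' := eigen_pow (algebraMap F (AlgebraicClosure F)) _ hdet l hl0 htr hne (k + 1) a' b'
      hab'
    have heq := eq_of_eigen_eq (algebraMap F (AlgebraicClosure F)) l hlF
      (t : Matrix (Fin 2) (Fin 2) F) a' b' (-1) 0
      (by rw [hj', hlk, map_neg, map_one, map_zero, zero_mul, add_zero])
    rw [Matrix.SpecialLinearGroup.coe_pow, hab', heq, zero_smul, add_zero, neg_smul, one_smul]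
  -- the inverse of `t`
  have hinvt : ((t⁻¹ : Matrix.SpecialLinearGroup (Fin 2) F) : Matrix (Fin 2) (Fin 2) F)
      = t₀ • (1 : Matrix (Fin 2) (Fin 2) F) + (-1 : F) • (t : Matrix (Fin 2) (Fin 2) F) := by
    rw [Matrix.SpecialLinearGroup.coe_inv, Matrix.adjugate_fin_two]
    ext i j
    fin_cases i <;> fin_cases j <;>
      simp [hM00, hM01, hM10, hM11]
  have hli : l * l⁻¹ = 1 := mul_inv_cancel₀ hl0
  -- conjugates of `t` inside the torus
  have hconj : ∀ g : Matrix.SpecialLinearGroup (Fin 2) F, g * t * g⁻¹ ∈ Subgroup.zpowers t →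
      g * t * g⁻¹ = t ∨ g * t * g⁻¹ = t⁻¹ := by
    intro g hg
    have hcomm : (g * t * g⁻¹) * t = t * (g * t * g⁻¹) := by
      obtain ⟨j, hj⟩ := Subgroup.mem_zpowers_iff.mp hg
      rw [← hj]
      exact ((Commute.refl t).zpow_left j).eq
    have htrh := trace_conj g t
    generalize g * t * g⁻¹ = h at hcomm htrh ⊢
    obtain ⟨a, b, hsp⟩ : ∃ a b : F, (h : Matrix (Fin 2) (Fin 2) F)
        = a • (1 : Matrix (Fin 2) (Fin 2) F) + b • (t : Matrix (Fin 2) (Fin 2) F) :=
      ⟨_, _, hspan h hcomm⟩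
    have e00 : (h : Matrix (Fin 2) (Fin 2) F) 0 0 = a := by
      rw [hsp]; simp [hM00]
    have e11 : (h : Matrix (Fin 2) (Fin 2) F) 1 1 = a + b * t₀ := by
      rw [hsp]; simp [hM11]
    rw [e00, e11, hM00, hM11, zero_add] at htrh
    have hnorm := eigen_norm (algebraMap F (AlgebraicClosure F)) _ hdet l hl0 htr a b
    rw [← hsp, h.det_coe, map_one] at hnorm
    have hsum : 2 * algebraMap F (AlgebraicClosure F) a
        + algebraMap F (AlgebraicClosure F) b * (l + l⁻¹) = l + l⁻¹ := by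
      have := congrArg (algebraMap F (AlgebraicClosure F)) htrh
      rw [map_add, map_add, map_mul, ht₀] at this
      linear_combination this
    have hfac : (algebraMap F (AlgebraicClosure F) a + algebraMap F (AlgebraicClosure F) b * l - l)
        * (algebraMap F (AlgebraicClosure F) a + algebraMap F (AlgebraicClosure F) b * l - l⁻¹)
          = 0 := by
      linear_combination (-1 : AlgebraicClosure F) * hnorm + hli
        + (algebraMap F (AlgebraicClosure F) a + algebraMap F (AlgebraicClosure F) b * l) * hsum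
    rcases mul_eq_zero.mp hfac with h1 | h1
    · left
      have heq := eq_of_eigen_eq (algebraMap F (AlgebraicClosure F)) l hlF
        (t : Matrix (Fin 2) (Fin 2) F) a b 0 1
        (by rw [map_zero, map_one, zero_add, one_mul]; exact sub_eq_zero.mp h1)
      apply Subtype.ext
      rw [hsp, heq, zero_smul, one_smul, zero_add]
    · right
      have heq := eq_of_eigen_eq (algebraMap F (AlgebraicClosure F)) l hlF
        (t : Matrix (Fin 2) (Fin 2) F) a b t₀ (-1)
        (by rw [map_neg, map_one, ht₀, sub_eq_zero.mp h1]; ring)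
      apply Subtype.ext
      rw [hsp, heq, hinvt]
  -- involutions
  have hinv : ∀ g : Matrix.SpecialLinearGroup (Fin 2) F, g * g = 1 →
      g = 1 ∨ g = t ^ (k + 1) := by
    intro g hg
    have hg' : (g : Matrix (Fin 2) (Fin 2) F) * (g : Matrix (Fin 2) (Fin 2) F) = 1 := by
      rw [← Matrix.SpecialLinearGroup.coe_mul, hg, Matrix.SpecialLinearGroup.coe_one]
    rcases sq_eq_one_cases h2 _ g.det_coe hg' with h | h
    · left
      exact Subtype.ext (by rw [h, Matrix.SpecialLinearGroup.coe_one])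
    · right
      exact Subtype.ext (by rw [h, htk])
  -- the inverting element
  obtain ⟨w, hw⟩ := conj_of_trace_eq_noroot ⟨k, hk⟩ t t⁻¹ (by
    rw [hinvt]; simp [hM00, hM11]) hno
  -- centralizers of non-central elements of the torus
  have hN8 : ∀ g : Matrix.SpecialLinearGroup (Fin 2) F, g ∈ Subgroup.zpowers t →
      (g : Matrix (Fin 2) (Fin 2) F) ≠ 1 → (g : Matrix (Fin 2) (Fin 2) F) ≠ -1 →
      ∀ h : Matrix.SpecialLinearGroup (Fin 2) F, h * g = g * h → h ∈ Subgroup.zpowers t := by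
    intro g hg hg1 hg2 h hh
    have hcomm : g * t = t * g := by
      obtain ⟨j, hj⟩ := Subgroup.mem_zpowers_iff.mp hg
      rw [← hj]
      exact ((Commute.refl t).zpow_left j).eq
    obtain ⟨a, b, hsp⟩ : ∃ a b : F, (g : Matrix (Fin 2) (Fin 2) F)
        = a • (1 : Matrix (Fin 2) (Fin 2) F) + b • (t : Matrix (Fin 2) (Fin 2) F) :=
      ⟨_, _, hspan g hcomm⟩
    have hb : b ≠ 0 := by
      rintro rfl
      rw [zero_smul, add_zero] at hsp
      have hdetg := g.det_coe
      rw [hsp, Matrix.det_smul, Matrix.det_one, Fintype.card_fin, mul_one] at hdetg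
      have hfac : (a - 1) * (a + 1) = 0 := by linear_combination hdetg
      rcases mul_eq_zero.mp hfac with h1 | h1
      · apply hg1
        rw [hsp, sub_eq_zero.mp h1, one_smul]
      · apply hg2
        rw [hsp, eq_neg_of_add_eq_zero_left h1, neg_smul, one_smul]
    apply hC
    have h3 := congrArg (fun x : Matrix.SpecialLinearGroup (Fin 2) F =>
      (x : Matrix (Fin 2) (Fin 2) F)) hh
    simp only [Matrix.SpecialLinearGroup.coe_mul] at h3
    rw [hsp, mul_add, add_mul, mul_smul_comm, smul_mul_assoc, mul_smul_comm, smul_mul_assoc,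
      mul_one, one_mul] at h3
    have h4 := smul_right_injective _ hb (add_left_cancel h3)
    apply Subtype.ext
    rw [Matrix.SpecialLinearGroup.coe_mul, Matrix.SpecialLinearGroup.coe_mul]
    exact h4
  -- elements without eigenvectors are conjugate into the torus
  have hN9 : ∀ g : Matrix.SpecialLinearGroup (Fin 2) F,
      (∀ (c : F) (v : Fin 2 → F), v ≠ 0 → (g : Matrix (Fin 2) (Fin 2) F).mulVec v ≠ c • v) →
      ∃ h : Matrix.SpecialLinearGroup (Fin 2) F, h * g * h⁻¹ ∈ Subgroup.zpowers t := by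
    intro g hg
    have hnog := noroot_of_no_eigenvector g hg
    generalize hτ : (g : Matrix (Fin 2) (Fin 2) F) 0 0 + (g : Matrix (Fin 2) (Fin 2) F) 1 1 = τ
      at hnog
    have h2K : (2 : AlgebraicClosure F) ≠ 0 := by
      have := (map_ne_zero (algebraMap F (AlgebraicClosure F))).mpr h2
      rwa [map_ofNat] at this
    obtain ⟨α, hα⟩ := exists_root_of_algClosed h2K (algebraMap F (AlgebraicClosure F) τ)
    have hα0 : α ≠ 0 := by
      rintro rfl
      simp at hα
    have hαF : α ∉ Set.range (algebraMap F (AlgebraicClosure F)) := by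
      rintro ⟨x, rfl⟩
      apply hnog x
      apply (algebraMap F (AlgebraicClosure F)).injective
      rw [map_add, map_sub, map_mul, map_pow, map_one, map_zero]
      exact hα
    have hαi : α * α⁻¹ = 1 := mul_inv_cancel₀ hα0
    have hτα : algebraMap F (AlgebraicClosure F) τ = α + α⁻¹ := by
      have : α * (algebraMap F (AlgebraicClosure F) τ - (α + α⁻¹)) = 0 := by
        linear_combination (-1 : AlgebraicClosure F) * hα - hαi
      rcases mul_eq_zero.mp this with h | h
      · exact absurd h hα0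
      · exact sub_eq_zero.mp h
    have hfrobτ : (α + α⁻¹) ^ Fintype.card F = α + α⁻¹ := by
      rw [← hτα, ← map_pow, FiniteField.pow_card]
    rw [add_pow_card (F := F), inv_pow] at hfrobτ
    have hαq0 : α ^ Fintype.card F ≠ 0 := pow_ne_zero _ hα0
    have hαqi : α ^ Fintype.card F * (α ^ Fintype.card F)⁻¹ = 1 := mul_inv_cancel₀ hαq0
    have hfac : (α ^ Fintype.card F - α) * (α ^ Fintype.card F - α⁻¹) = 0 := by
      linear_combination α ^ Fintype.card F * hfrobτ - hαqi + hαi
    have hαq' : α ^ Fintype.card F = α⁻¹ := by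
      rcases mul_eq_zero.mp hfac with h | h
      · exact absurd (mem_range_of_pow_card_eq α (sub_eq_zero.mp h)) hαF
      · exact sub_eq_zero.mp h
    have hα1 : α ^ (Fintype.card F + 1) = 1 := by
      rw [pow_succ, hαq', inv_mul_cancel₀ hα0]
    have hnz' : NeZero (Fintype.card F + 1) := ⟨by omega⟩
    obtain ⟨j, -, hj⟩ := hl.eq_pow_of_pow_eq_one hα1
    obtain ⟨a', b', hab'⟩ := pow_mem_span (t : Matrix (Fin 2) (Fin 2) F) hdet j
    have hj' := eigen_pow (algebraMap F (AlgebraicClosure F)) _ hdet l hl0 htr hne j a' b' hab'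
    have hnorm := eigen_norm (algebraMap F (AlgebraicClosure F)) _ hdet l hl0 htr a' b'
    rw [← hab', Matrix.det_pow, hdet, one_pow, map_one, hj', hj] at hnorm
    have hαinv : algebraMap F (AlgebraicClosure F) a' + algebraMap F (AlgebraicClosure F) b' * l⁻¹
        = α⁻¹ := eq_inv_of_mul_eq_one_right hnorm
    have htrj : (g : Matrix (Fin 2) (Fin 2) F) 0 0 + (g : Matrix (Fin 2) (Fin 2) F) 1 1
        = ((t ^ j : Matrix.SpecialLinearGroup (Fin 2) F) : Matrix (Fin 2) (Fin 2) F) 0 0
          + ((t ^ j : Matrix.SpecialLinearGroup (Fin 2) F) : Matrix (Fin 2) (Fin 2) F) 1 1 := by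
      rw [hτ, Matrix.SpecialLinearGroup.coe_pow, hab']
      apply (algebraMap F (AlgebraicClosure F)).injective
      rw [hτα]
      simp only [Matrix.add_apply, Matrix.smul_apply, Matrix.one_apply_eq, smul_eq_mul, hM00, hM11,
        map_add, map_mul, map_zero, map_one, ht₀]
      linear_combination (-1 : AlgebraicClosure F) * hj - hj' - hαinv
    obtain ⟨h, hh⟩ := conj_of_trace_eq_noroot ⟨k, hk⟩ g (t ^ j) htrj (by rw [hτ]; exact hnog)
    exact ⟨h, by rw [hh]; exact Subgroup.pow_mem _ (Subgroup.mem_zpowers t) j⟩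
  refine ⟨t, w, ?_, hC, hconj, hinv, hw, htk, hN8, hN9⟩
  rw [hordt, hq1]

end NonSplit

end Cfsg.Agent.Lib.helper46
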