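import Mathlib
import Cfsg.Agent.Lib.helper46.SL2
import Cfsg.Agent.Lib.helper46.Dicyclic
import Cfsg.Agent.Lib.helper46.SL2Tori
import Cfsg.Agent.Lib.helper46.SL2NonSplit

/-!
# Sylow subgroups of `SL₂(q)` via tori (helper46)

* `card_SL2'` : `|SL₂(q)| = q (q² - 1)` (same proof as `Cfsg.Agent.Lib.helper7.card_SL2`).
* transport of centralizers / normalizers along automorphisms, Sylow subgroups as images
  of a given subgroup of full `p`-power order;
* `sylow_cyclic_torus` : centralizer and normalizer of a Sylow `ℓ`-subgroup (`ℓ` odd) lying in a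
  self-centralizing cyclic torus.
-/

set_option autoImplicit false

namespace Cfsg.Agent.Lib.helper46

open Matrix

section Card

/-- `det : GL_n(F) → Fˣ` is surjective for `n ≥ 1`. -/
theorem det_GL_surjective' {F : Type*} [Field F] (n : ℕ) [NeZero n] :
    Function.Surjective
      (Matrix.GeneralLinearGroup.det : Matrix.GeneralLinearGroup (Fin n) F →* Fˣ) := by
  intro u
  refine ⟨Matrix.GeneralLinearGroup.mkOfDetNeZero
    (Matrix.diagonal (Function.update (1 : Fin n → F) 0 (u : F))) ?_, ?_⟩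
  · rw [Matrix.det_diagonal, Finset.prod_update_of_mem (Finset.mem_univ _)]
    simp
  · apply Units.ext
    simp [Matrix.GeneralLinearGroup.mkOfDetNeZero, Matrix.det_diagonal,
      Finset.prod_update_of_mem (Finset.mem_univ _)]

/-- The kernel of `det` on `GL_n(F)` is the image of `SL_n(F)`. -/
theorem ker_det_GL_eq_range_toGL' {F : Type*} [Field F] (n : ℕ) :
    (Matrix.GeneralLinearGroup.det : Matrix.GeneralLinearGroup (Fin n) F →* Fˣ).ker
      = (Matrix.SpecialLinearGroup.toGL : Matrix.SpecialLinearGroup (Fin n) F →* _).range := by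
  ext g
  rw [MonoidHom.mem_ker, MonoidHom.mem_range]
  constructor
  · intro hg
    refine ⟨⟨(g : Matrix (Fin n) (Fin n) F), ?_⟩, ?_⟩
    · have := congrArg (fun u : Fˣ => (u : F)) hg
      simpa using this
    · apply Units.ext
      rfl
  · rintro ⟨s, rfl⟩
    apply Units.ext
    simp

/-- `|GL_n(F)| = |Fˣ| * |SL_n(F)|` for `n ≥ 1`. -/
theorem card_GL_eq_card_units_mul_card_SL' {F : Type*} [Field F] [Finite F] (n : ℕ) [NeZero n] :
    Nat.card (Matrix.GeneralLinearGroup (Fin n) F)
      = Nat.card Fˣ * Nat.card (Matrix.SpecialLinearGroup (Fin n) F) := by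
  have h3 : Nat.card (Matrix.GeneralLinearGroup (Fin n) F)
      = Nat.card Fˣ * Nat.card (Matrix.GeneralLinearGroup.det :
          Matrix.GeneralLinearGroup (Fin n) F →* Fˣ).ker := by
    rw [Subgroup.card_eq_card_quotient_mul_card_subgroup (Matrix.GeneralLinearGroup.det :
          Matrix.GeneralLinearGroup (Fin n) F →* Fˣ).ker]
    congr 1
    exact Nat.card_congr
      (QuotientGroup.quotientKerEquivOfSurjective _ (det_GL_surjective' n)).toEquiv
  have h5 : Nat.card
      (Matrix.SpecialLinearGroup.toGL : Matrix.SpecialLinearGroup (Fin n) F →* _).range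
      = Nat.card (Matrix.SpecialLinearGroup (Fin n) F) :=
    Nat.card_congr (MonoidHom.ofInjective Matrix.SpecialLinearGroup.toGL_injective).toEquiv.symm
  rw [ker_det_GL_eq_range_toGL', h5] at h3
  exact h3

/-- `|SL_2(q)| = q (q^2 - 1)`. -/
theorem card_SL2' {F : Type*} [Field F] [Fintype F] {q : ℕ} (hF : Fintype.card F = q) :
    Nat.card (Matrix.SpecialLinearGroup (Fin 2) F) = q * (q ^ 2 - 1) := by
  have h1 := card_GL_eq_card_units_mul_card_SL' (F := F) 2
  rw [Matrix.card_GL_field, Nat.card_units, Nat.card_eq_fintype_card, hF, Fin.prod_univ_two] at h1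
  have hq : 2 ≤ q := by rw [← hF]; exact Fintype.one_lt_card
  have hpos : 0 < q - 1 := by omega
  apply Nat.eq_of_mul_eq_mul_left hpos
  rw [← h1]
  simp only [Fin.val_zero, pow_zero, Fin.val_one, pow_one]
  have h2 : q ^ 2 - q = (q - 1) * q := by
    rw [Nat.sub_mul, one_mul, sq]
  rw [h2]
  ring

/-- `|SL_2(q)| = q (q - 1) (q + 1)`. -/
theorem card_SL2_factored {F : Type*} [Field F] [Fintype F] :
    Nat.card (Matrix.SpecialLinearGroup (Fin 2) F)
      = Fintype.card F * ((Fintype.card F - 1) * (Fintype.card F + 1)) := by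
  rw [card_SL2' (F := F) rfl]
  have hq : 2 ≤ Fintype.card F := Fintype.one_lt_card
  obtain ⟨r, hr⟩ : ∃ r, Fintype.card F = r + 1 := ⟨Fintype.card F - 1, by omega⟩
  rw [hr]
  have e1 : (r + 1) ^ 2 - 1 = r * (r + 2) := by
    have : (r + 1) ^ 2 = r * (r + 2) + 1 := by ring
    omega
  rw [e1, Nat.add_sub_cancel]

end Card

section Transport

variable {G : Type*} [Group G]

theorem centralizer_map_equiv (H : Subgroup G) (e : G ≃* G) :
    Subgroup.centralizer ((H.map e.toMonoidHom : Subgroup G) : Set G)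
      = (Subgroup.centralizer (H : Set G)).map e.toMonoidHom := by
  ext x
  rw [Subgroup.mem_map_equiv, Subgroup.mem_centralizer_iff, Subgroup.mem_centralizer_iff]
  constructor
  · intro hx h hh
    have := hx (e h) (Subgroup.mem_map_of_mem _ hh)
    apply e.injective
    rw [map_mul, map_mul, e.apply_symm_apply]
    exact this
  · intro hx y hy
    obtain ⟨h, hh, rfl⟩ := Subgroup.mem_map.mp hy
    have h2 := congrArg e (hx h hh)
    rw [map_mul, map_mul, e.apply_symm_apply] at h2
    exact h2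

/-- Every Sylow `p`-subgroup is the image under an automorphism of a given subgroup of the
full `p`-power order. -/
theorem sylow_eq_map_of_card [Finite G] (p : ℕ) [Fact p.Prime] (Q : Subgroup G)
    (hQ : Nat.card Q = p ^ (Nat.card G).factorization p) (P : Sylow p G) :
    ∃ e : G ≃* G, (P : Subgroup G) = Q.map e.toMonoidHom := by
  obtain ⟨g, hg⟩ := MulAction.exists_smul_eq G (Sylow.ofCard Q hQ) P
  refine ⟨MulAut.conj g, ?_⟩
  rw [← hg]
  rfl

theorem conj_mem_centralizer_of_mem_normalizer (H : Subgroup G) (g : G)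
    (hg : g ∈ Subgroup.normalizer (H : Set G)) (x : G)
    (hx : x ∈ Subgroup.centralizer (H : Set G)) :
    g * x * g⁻¹ ∈ Subgroup.centralizer (H : Set G) := by
  rw [Subgroup.mem_centralizer_iff] at hx ⊢
  intro y hy
  have h1 : g⁻¹ * y * g ∈ (H : Set G) := by
    apply (Subgroup.mem_normalizer_iff.mp hg (g⁻¹ * y * g)).mpr
    have e : g * (g⁻¹ * y * g) * g⁻¹ = y := by group
    rw [e]
    exact hy
  have h2 := hx _ h1
  calc y * (g * x * g⁻¹) = g * ((g⁻¹ * y * g) * x) * g⁻¹ := by group
    _ = g * (x * (g⁻¹ * y * g)) * g⁻¹ := by rw [h2]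
    _ = g * x * g⁻¹ * y := by group

theorem normalizer_le_normalizer_centralizer (H : Subgroup G) :
    Subgroup.normalizer (H : Set G)
      ≤ Subgroup.normalizer ((Subgroup.centralizer (H : Set G) : Subgroup G) : Set G) := by
  intro g hg
  rw [Subgroup.mem_normalizer_iff]
  intro x
  constructor
  · exact conj_mem_centralizer_of_mem_normalizer H g hg x
  · intro hx
    have := conj_mem_centralizer_of_mem_normalizer H g⁻¹ (Subgroup.inv_mem _ hg) _ hx
    have e : g⁻¹ * (g * x * g⁻¹) * g⁻¹⁻¹ = x := by group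
    rw [e] at this
    exact this

theorem mem_normalizer_zpowers (s g : G) (h1 : g * s * g⁻¹ ∈ Subgroup.zpowers s)
    (h2 : g⁻¹ * s * g ∈ Subgroup.zpowers s) :
    g ∈ Subgroup.normalizer (Subgroup.zpowers s : Set G) := by
  have key : ∀ (g : G), g * s * g⁻¹ ∈ Subgroup.zpowers s →
      ∀ x ∈ Subgroup.zpowers s, g * x * g⁻¹ ∈ Subgroup.zpowers s := by
    intro g hg x hx
    obtain ⟨k, rfl⟩ := Subgroup.mem_zpowers_iff.mp hx
    rw [← conj_zpow]
    exact Subgroup.zpow_mem _ hg k
  rw [Subgroup.mem_normalizer_iff]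
  intro x
  constructor
  · exact key g h1 x
  · intro hx
    have := key g⁻¹ (by rw [inv_inv]; exact h2) _ hx
    have e : g⁻¹ * (g * x * g⁻¹) * g⁻¹⁻¹ = x := by group
    rw [e] at this
    exact this

/-- Centralizer and normalizer of a Sylow `ℓ`-subgroup (`ℓ` odd) when a cyclic subgroup `⟨t⟩`
of index prime to `ℓ` and order divisible by `ℓ` is the centralizer of each of its elements of
order `> 2`. -/
theorem sylow_cyclic_torus [Finite G] (ℓ : ℕ) [Fact ℓ.Prime] (hℓ : ℓ ≠ 2) (t : G)
    (hdvd : ℓ ∣ orderOf t) (hidx : ¬ ℓ ∣ Nat.card G / orderOf t)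
    (hcent : ∀ x ∈ Subgroup.zpowers t, x * x ≠ 1 →
      ∀ h : G, h * x = x * h → h ∈ Subgroup.zpowers t)
    (P : Sylow ℓ G) :
    Nat.card (Subgroup.centralizer ((P : Subgroup G) : Set G)) = orderOf t ∧
    IsCyclic (Subgroup.centralizer ((P : Subgroup G) : Set G)) ∧
    Nat.card (Subgroup.normalizer ((P : Subgroup G) : Set G))
      = Nat.card (Subgroup.normalizer (Subgroup.zpowers t : Set G)) := by
  have hℓp : ℓ.Prime := Fact.out
  have hm0 : orderOf t ≠ 0 := (orderOf_pos t).ne'
  have hmG : orderOf t ∣ Nat.card G := orderOf_dvd_natCard t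
  obtain ⟨m, hm⟩ : ∃ m, m = orderOf t := ⟨_, rfl⟩
  rw [← hm] at hm0 hmG hdvd hidx ⊢
  obtain ⟨a, ha⟩ : ∃ a, a = m.factorization ℓ := ⟨_, rfl⟩
  have ha1 : 1 ≤ a := by
    rw [ha]
    exact hℓp.factorization_pos_of_dvd hm0 hdvd
  have hG0 : Nat.card G / m ≠ 0 := by
    intro h0
    have h1 : Nat.card G = m * (Nat.card G / m) := (Nat.mul_div_cancel' hmG).symm
    rw [h0, mul_zero] at h1
    exact Nat.card_pos.ne' h1
  have hGfac : (Nat.card G).factorization ℓ = a := by
    have h1 : Nat.card G = m * (Nat.card G / m) := (Nat.mul_div_cancel' hmG).symm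
    rw [h1, Nat.factorization_mul hm0 hG0, Finsupp.add_apply,
      Nat.factorization_eq_zero_of_not_dvd hidx, add_zero, ha]
  have hm' : ℓ ^ a * (m / ℓ ^ a) = m := by
    rw [ha]
    exact Nat.ordProj_mul_ordCompl_eq_self m ℓ
  obtain ⟨m', hm'def⟩ : ∃ m', m' = m / ℓ ^ a := ⟨_, rfl⟩
  rw [← hm'def] at hm'
  have hm'0 : m' ≠ 0 := by
    rintro rfl
    rw [mul_zero] at hm'
    exact hm0 hm'.symm
  have hords : orderOf (t ^ m') = ℓ ^ a := by
    rw [orderOf_pow_of_dvd hm'0 (by rw [← hm]; exact Dvd.intro_left _ hm'), ← hm]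
    exact Nat.div_eq_of_eq_mul_left (Nat.pos_of_ne_zero hm'0) hm'.symm
  have hsT : t ^ m' ∈ Subgroup.zpowers t := Subgroup.pow_mem _ (Subgroup.mem_zpowers t) m'
  have hss : t ^ m' * t ^ m' ≠ 1 := by
    intro h1
    have h2 : (t ^ m') ^ 2 = 1 := by rw [pow_two]; exact h1
    have h3 := orderOf_dvd_of_pow_eq_one h2
    rw [hords] at h3
    have h4 : ℓ ∣ 2 := dvd_trans (dvd_pow_self ℓ (by omega)) h3
    exact hℓ ((Nat.prime_dvd_prime_iff_eq hℓp Nat.prime_two).mp h4)
  have hQcard : Nat.card (Subgroup.zpowers (t ^ m'))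
      = ℓ ^ (Nat.card G).factorization ℓ := by
    rw [Nat.card_zpowers, hords, hGfac]
  obtain ⟨e, hP⟩ := sylow_eq_map_of_card ℓ (Subgroup.zpowers (t ^ m')) hQcard P
  -- the centralizer of `Q`
  have hCQ : Subgroup.centralizer ((Subgroup.zpowers (t ^ m') : Subgroup G) : Set G)
      = Subgroup.zpowers t := by
    ext h
    rw [Subgroup.mem_centralizer_iff]
    constructor
    · intro hh
      exact hcent _ hsT hss h (hh _ (Subgroup.mem_zpowers _)).symm
    · intro hh x hx
      have hxT : x ∈ Subgroup.zpowers t := by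
        obtain ⟨k, rfl⟩ := Subgroup.mem_zpowers_iff.mp hx
        exact Subgroup.zpow_mem _ hsT k
      obtain ⟨i, rfl⟩ := Subgroup.mem_zpowers_iff.mp hh
      obtain ⟨j, rfl⟩ := Subgroup.mem_zpowers_iff.mp hxT
      rw [← _root_.zpow_add, ← _root_.zpow_add, add_comm]
  -- the normalizer of `Q`
  have hNQ : Subgroup.normalizer ((Subgroup.zpowers (t ^ m') : Subgroup G) : Set G)
      = Subgroup.normalizer (Subgroup.zpowers t : Set G) := by
    apply le_antisymm
    · have := normalizer_le_normalizer_centralizer (Subgroup.zpowers (t ^ m'))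
      rw [hCQ] at this
      exact this
    · intro g hg
      have key : ∀ g : G, g ∈ Subgroup.normalizer (Subgroup.zpowers t : Set G) →
          g * t ^ m' * g⁻¹ ∈ Subgroup.zpowers (t ^ m') := by
        intro g hg
        have h1 : g * t * g⁻¹ ∈ Subgroup.zpowers t :=
          (Subgroup.mem_normalizer_iff.mp hg t).mp (Subgroup.mem_zpowers t)
        obtain ⟨i, hi⟩ := Subgroup.mem_zpowers_iff.mp h1
        have e : (t ^ i) ^ m' = (t ^ m') ^ i := by
          rw [← zpow_natCast (t ^ i) m', ← _root_.zpow_mul, mul_comm, _root_.zpow_mul,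
            zpow_natCast]
        rw [← conj_pow, ← hi, e]
        exact Subgroup.zpow_mem _ (Subgroup.mem_zpowers _) i
      apply mem_normalizer_zpowers
      · exact key g hg
      · have := key g⁻¹ (Subgroup.inv_mem _ hg)
        rw [inv_inv] at this
        exact this
  refine ⟨?_, ?_, ?_⟩
  · rw [hP, centralizer_map_equiv, hCQ, Subgroup.card_map_of_injective e.injective,
      Nat.card_zpowers, hm]
  · rw [hP, centralizer_map_equiv, hCQ, MonoidHom.map_zpowers]
    infer_instance
  · rw [hP, ← Subgroup.map_equiv_normalizer_eq, hNQ, Subgroup.card_map_of_injective e.injective]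

end Transport

end Cfsg.Agent.Lib.helper46
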