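import Mathlib
import Cfsg.Agent.Lib.helper46.Dicyclic
import Cfsg.Agent.Lib.helper46.SL2Sylow

/-!
# Sylow 2-subgroups in a group with a self-centralizing cyclic torus (helper46)

Abstract version of the structure of the Sylow `2`-subgroups of `SL₂(q)`, `q` odd: they are
generalized quaternion, contained in the normalizer of a torus.
-/

set_option autoImplicit false

namespace Cfsg.Agent.Lib.helper46

section DicSub

variable {G : Type*} [Group G]

/-- `⟨u⟩ ∪ w⟨u⟩` as a subgroup, when `w` inverts `u` and `w² ∈ ⟨u⟩`. -/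
def dicSub (u w : G) (hw : w * u * w⁻¹ = u⁻¹) (hw2 : w * w ∈ Subgroup.zpowers u) :
    Subgroup G where
  carrier := {g | g ∈ Subgroup.zpowers u ∨ w⁻¹ * g ∈ Subgroup.zpowers u}
  one_mem' := Or.inl (Subgroup.one_mem _)
  mul_mem' := by
    intro a b ha hb
    have hinv' := inv_conj_of_conj u w hw
    rw [inv_inv] at hinv'
    rcases ha with ha | ha <;> rcases hb with hb | hb
    · exact Or.inl (Subgroup.mul_mem _ ha hb)
    · right
      have h1 := conj_eq_inv_of_mem_zpowers u w⁻¹ (inv_conj_of_conj u w hw) a ha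
      rw [inv_inv] at h1
      have e : w⁻¹ * (a * b) = (w⁻¹ * a * w) * (w⁻¹ * b) := by group
      rw [e, h1]
      exact Subgroup.mul_mem _ (Subgroup.inv_mem _ ha) hb
    · right
      have e : w⁻¹ * (a * b) = (w⁻¹ * a) * b := by group
      rw [e]
      exact Subgroup.mul_mem _ ha hb
    · left
      have h1 := conj_eq_inv_of_mem_zpowers u w⁻¹ (inv_conj_of_conj u w hw) _ ha
      rw [inv_inv] at h1
      have e : a * b = (w * w) * (w⁻¹ * (w⁻¹ * a) * w) * (w⁻¹ * b) := by group
      rw [e, h1]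
      exact Subgroup.mul_mem _ (Subgroup.mul_mem _ hw2 (Subgroup.inv_mem _ ha)) hb
  inv_mem' := by
    intro a ha
    rcases ha with ha | ha
    · exact Or.inl (Subgroup.inv_mem _ ha)
    · right
      have h1 := conj_eq_inv_of_mem_zpowers u w⁻¹ (inv_conj_of_conj u w hw) _
        (Subgroup.inv_mem _ ha)
      rw [inv_inv, inv_inv] at h1
      have e : w⁻¹ * a⁻¹ = (w⁻¹ * (w⁻¹ * a)⁻¹ * w) * (w * w)⁻¹ := by group
      rw [e, h1]
      exact Subgroup.mul_mem _ ha (Subgroup.inv_mem _ hw2)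

theorem mem_dicSub (u w : G) (hw : w * u * w⁻¹ = u⁻¹) (hw2 : w * w ∈ Subgroup.zpowers u)
    (g : G) : g ∈ dicSub u w hw hw2 ↔ g ∈ Subgroup.zpowers u ∨ w⁻¹ * g ∈ Subgroup.zpowers u :=
  Iff.rfl

/-- If `g t g⁻¹ ∈ ⟨t⟩` then `g ∈ ⟨t⟩ ∪ w⟨t⟩`. -/
theorem torus_mem_of_conj_mem (t w : G)
    (hC : ∀ g : G, g * t = t * g → g ∈ Subgroup.zpowers t)
    (hconj : ∀ g : G, g * t * g⁻¹ ∈ Subgroup.zpowers t → g * t * g⁻¹ = t ∨ g * t * g⁻¹ = t⁻¹)
    (hw : w * t * w⁻¹ = t⁻¹) (g : G) (h1 : g * t * g⁻¹ ∈ Subgroup.zpowers t) :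
    g ∈ Subgroup.zpowers t ∨ w⁻¹ * g ∈ Subgroup.zpowers t := by
  rcases hconj g h1 with h2 | h2
  · left
    apply hC
    calc g * t = (g * t * g⁻¹) * g := by group
      _ = t * g := by rw [h2]
  · right
    apply hC
    have h3 : w⁻¹ * t⁻¹ * w = t := by rw [← hw]; group
    calc w⁻¹ * g * t = w⁻¹ * (g * t * g⁻¹) * g := by group
      _ = w⁻¹ * t⁻¹ * g := by rw [h2]
      _ = (w⁻¹ * t⁻¹ * w) * (w⁻¹ * g) := by group
      _ = t * (w⁻¹ * g) := by rw [h3]

/-- In a finite group, `g H g⁻¹ ⊆ H` implies `g ∈ N(H)`. -/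
theorem mem_normalizer_of_conj_mem [Finite G] (H : Subgroup G) (g : G)
    (h : ∀ x ∈ H, g * x * g⁻¹ ∈ H) : g ∈ Subgroup.normalizer (H : Set G) := by
  have hpow : ∀ k : ℕ, ∀ x ∈ H, g ^ k * x * (g ^ k)⁻¹ ∈ H := by
    intro k
    induction k with
    | zero => intro x hx; simpa using hx
    | succ k ih =>
      intro x hx
      have e : g ^ (k + 1) * x * (g ^ (k + 1))⁻¹ = g * (g ^ k * x * (g ^ k)⁻¹) * g⁻¹ := by
        rw [pow_succ']
        group
      rw [e]
      exact h _ (ih x hx)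
  rw [Subgroup.mem_normalizer_iff]
  intro x
  constructor
  · exact h x
  · intro hx
    have hg : g⁻¹ = g ^ (orderOf g - 1) := by
      have h0 : 0 < orderOf g := orderOf_pos g
      have : g ^ (orderOf g - 1) * g = 1 := by
        rw [← pow_succ, Nat.sub_add_cancel h0, pow_orderOf_eq_one]
      exact (eq_inv_of_mul_eq_one_left this).symm
    have := hpow (orderOf g - 1) _ hx
    rw [← hg] at this
    have e : g⁻¹ * (g * x * g⁻¹) * g⁻¹⁻¹ = x := by group
    rw [e] at this
    exact this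

end DicSub

section Sylow2

variable {G : Type*} [Group G] [Finite G]

/-- Sylow `2`-subgroups of a group with a self-centralizing cyclic torus `⟨t⟩` of order `2n`
(`n` even), inverted by `w`, a unique involution, and `|G|_2 = 2 |⟨t⟩|_2`. -/
theorem sylow_two_torus (n : ℕ) [NeZero n] (hn : 2 ≤ n) (heven : Even n) (t w : G)
    (ht : orderOf t = 2 * n)
    (hC : ∀ g : G, g * t = t * g → g ∈ Subgroup.zpowers t)
    (hconj : ∀ g : G, g * t * g⁻¹ ∈ Subgroup.zpowers t → g * t * g⁻¹ = t ∨ g * t * g⁻¹ = t⁻¹)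
    (hinv : ∀ g : G, g * g = 1 → g = 1 ∨ g = t ^ n)
    (hw : w * t * w⁻¹ = t⁻¹)
    (hcent : ∀ x ∈ Subgroup.zpowers t, x * x ≠ 1 →
      ∀ h : G, h * x = x * h → h ∈ Subgroup.zpowers t)
    (hfac : (Nat.card G).factorization 2 = (2 * n).factorization 2 + 1)
    (S : Sylow 2 G) :
    Subgroup.centralizer ((S : Subgroup G) : Set G) = Subgroup.center G ∧
    (4 ∣ n → Subgroup.normalizer ((S : Subgroup G) : Set G) = (S : Subgroup G)) ∧
    (¬ 4 ∣ n →
      (∃ ω : G, ω * t ^ (n / 2) * ω⁻¹ = t ^ (n / 2) * w ∧ ω * w * ω⁻¹ = t ^ (n / 2)) →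
      Nat.card (Subgroup.normalizer ((S : Subgroup G) : Set G))
        = 3 * Nat.card (S : Subgroup G)) := by
  classical
  obtain ⟨hwT, hw2⟩ := torus_w_sq n hn t w ht hC hinv hw
  have hn0 : 2 * n ≠ 0 := by omega
  obtain ⟨a, ha⟩ : ∃ a, a = (2 * n).factorization 2 := ⟨_, rfl⟩
  obtain ⟨m', hm'def⟩ : ∃ m', m' = 2 * n / 2 ^ a := ⟨_, rfl⟩
  have hm' : 2 ^ a * m' = 2 * n := by
    rw [hm'def, ha]
    exact Nat.ordProj_mul_ordCompl_eq_self (2 * n) 2
  have hm'odd : ¬ 2 ∣ m' := by
    rw [hm'def, ha]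
    exact Nat.not_dvd_ordCompl Nat.prime_two hn0
  have ha2 : 2 ≤ a := by
    rw [ha]
    apply (Nat.Prime.pow_dvd_iff_le_factorization Nat.prime_two hn0).mp
    obtain ⟨r, hr⟩ := heven
    exact ⟨r, by omega⟩
  obtain ⟨b, rfl⟩ : ∃ b, a = b + 1 := ⟨a - 1, by omega⟩
  have hb1 : 1 ≤ b := by omega
  have hnb : 2 ^ b * m' = n := by
    have : 2 * (2 ^ b * m') = 2 * n := by rw [← hm']; ring
    omega
  have hm'0 : m' ≠ 0 := by
    rintro rfl
    rw [mul_zero] at hnb
    omega
  have h2b : 2 ≤ 2 ^ b := by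
    calc 2 = 2 ^ 1 := rfl
      _ ≤ 2 ^ b := Nat.pow_le_pow_right (by norm_num) hb1
  -- the generator of the `2`-part of the torus
  obtain ⟨u, hu⟩ : ∃ u, u = t ^ m' := ⟨_, rfl⟩
  have hordu : orderOf u = 2 * 2 ^ b := by
    rw [hu, orderOf_pow_of_dvd hm'0 (by rw [ht, ← hm']; exact Dvd.intro_left _ rfl), ht]
    apply Nat.div_eq_of_eq_mul_left (Nat.pos_of_ne_zero hm'0)
    rw [← hm']
    ring
  have huT : u ∈ Subgroup.zpowers t := by
    rw [hu]
    exact Subgroup.pow_mem _ (Subgroup.mem_zpowers t) m'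
  have huleT : Subgroup.zpowers u ≤ Subgroup.zpowers t := by
    rw [Subgroup.zpowers_le]
    exact huT
  have hun : u ^ (2 ^ b) = t ^ n := by rw [hu, ← pow_mul, mul_comm, hnb]
  have hwu : w * u * w⁻¹ = u⁻¹ := conj_eq_inv_of_mem_zpowers t w hw u huT
  have hwU : w ∉ Subgroup.zpowers u := fun h => hwT (huleT h)
  have hw2u : w * w = u ^ (2 ^ b) := by rw [hun]; exact hw2
  have hw2mem : w * w ∈ Subgroup.zpowers u := by
    rw [hw2u]
    exact Subgroup.pow_mem _ (Subgroup.mem_zpowers u) _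
  obtain ⟨S₀, hS₀⟩ : ∃ S₀ : Subgroup G,
      ∀ g, g ∈ S₀ ↔ g ∈ Subgroup.zpowers u ∨ w⁻¹ * g ∈ Subgroup.zpowers u :=
    ⟨dicSub u w hwu hw2mem, mem_dicSub u w hwu hw2mem⟩
  have hnzb : NeZero (2 ^ b) := ⟨by positivity⟩
  have hS₀card : Nat.card S₀ = 4 * 2 ^ b :=
    dicyclic_card (2 ^ b) u w hordu hwu hwU hw2u S₀ hS₀
  have hSyl : Nat.card S₀ = 2 ^ (Nat.card G).factorization 2 := by
    rw [hS₀card, hfac, ← ha]
    ring
  obtain ⟨e, hS⟩ := sylow_eq_map_of_card 2 S₀ hSyl S
  have huS₀ : u ∈ S₀ := (hS₀ u).mpr (Or.inl (Subgroup.mem_zpowers u))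
  have hwS₀ : w ∈ S₀ :=
    (hS₀ w).mpr (Or.inr (by rw [inv_mul_cancel]; exact Subgroup.one_mem _))
  have hUleS₀ : Subgroup.zpowers u ≤ S₀ := fun x hx => (hS₀ x).mpr (Or.inl hx)
  -- the central involution
  have htn2 : t ^ n * t ^ n = 1 := by
    rw [← pow_add, ← two_mul, ← ht]
    exact pow_orderOf_eq_one t
  have htn1 : t ^ n ≠ 1 := by
    intro h
    have h1 := orderOf_dvd_of_pow_eq_one h
    rw [ht] at h1
    have := Nat.le_of_dvd (by omega) h1
    omega
  have hzc : t ^ n ∈ Subgroup.center G := by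
    rw [Subgroup.mem_center_iff]
    intro g
    have h1 : (g * t ^ n * g⁻¹) * (g * t ^ n * g⁻¹) = 1 := by
      calc (g * t ^ n * g⁻¹) * (g * t ^ n * g⁻¹) = g * (t ^ n * t ^ n) * g⁻¹ := by group
        _ = 1 := by rw [htn2]; group
    rcases hinv _ h1 with h2 | h2
    · exfalso
      apply htn1
      calc t ^ n = g⁻¹ * (g * t ^ n * g⁻¹) * g := by group
        _ = 1 := by rw [h2]; group
    · calc g * t ^ n = (g * t ^ n * g⁻¹) * g := by group
        _ = t ^ n * g := by rw [h2]
  have huu : u * u ≠ 1 := by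
    intro h
    have h2 : u ^ 2 = 1 := by rw [pow_two]; exact h
    have h3 := orderOf_dvd_of_pow_eq_one h2
    rw [hordu] at h3
    have h4 := Nat.le_of_dvd (by norm_num) h3
    omega
  -- elements of the torus killed by `2^(b+1)` lie in `⟨u⟩`
  have hF3 : ∀ x ∈ Subgroup.zpowers t, x ^ (2 ^ (b + 1)) = 1 → x ∈ Subgroup.zpowers u := by
    intro x hx hx1
    obtain ⟨j, rfl⟩ := Subgroup.mem_zpowers_iff.mp hx
    rw [← zpow_natCast, ← _root_.zpow_mul] at hx1
    have h1 := (orderOf_dvd_iff_zpow_eq_one).mpr hx1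
    rw [ht, ← hm'] at h1
    have h2 : (m' : ℤ) ∣ j := by
      push_cast at h1
      rw [mul_comm j] at h1
      exact (mul_dvd_mul_iff_left (by positivity)).mp h1
    obtain ⟨c, rfl⟩ := h2
    rw [hu, _root_.zpow_mul, zpow_natCast]
    exact Subgroup.zpow_mem _ (Subgroup.mem_zpowers _) c
  -- the centralizer of `S₀`
  have hCS₀ : Subgroup.centralizer (S₀ : Set G) = Subgroup.center G := by
    apply le_antisymm
    · intro h hh
      rw [Subgroup.mem_centralizer_iff] at hh
      have hu' := hh u huS₀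
      have hhT : h ∈ Subgroup.zpowers t := hcent u huT huu h hu'.symm
      have hw' := hh w hwS₀
      have h1 := conj_eq_inv_of_mem_zpowers t w hw h hhT
      have h2 : h * h = 1 := by
        have h3 : w * h * w⁻¹ = h := by rw [hw']; group
        rw [h3] at h1
        nth_rewrite 2 [h1]
        exact mul_inv_cancel h
      rcases hinv h h2 with rfl | rfl
      · exact Subgroup.one_mem _
      · exact hzc
    · exact Subgroup.center_le_centralizer _
  -- elements of the torus normalizing `S₀` lie in `⟨u⟩`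
  have hL0 : ∀ y ∈ Subgroup.zpowers t, y ∈ Subgroup.normalizer (S₀ : Set G) →
      y ∈ Subgroup.zpowers u := by
    intro y hy hyN
    have h1 : y * w * y⁻¹ ∈ S₀ := (Subgroup.mem_normalizer_iff.mp hyN w).mp hwS₀
    have hyw : w⁻¹ * y * w = y⁻¹ := by
      have := conj_eq_inv_of_mem_zpowers t w⁻¹ (inv_conj_of_conj t w hw) y hy
      rwa [inv_inv] at this
    rcases (hS₀ _).mp h1 with h2 | h2
    · exfalso
      apply hwT
      have h3 : w = y⁻¹ * (y * w * y⁻¹) * y := by group
      rw [h3]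
      exact Subgroup.mul_mem _ (Subgroup.mul_mem _ (Subgroup.inv_mem _ hy) (huleT h2)) hy
    · have e : w⁻¹ * (y * w * y⁻¹) = (w⁻¹ * y * w) * y⁻¹ := by group
      rw [e, hyw] at h2
      have h3 : (y⁻¹ * y⁻¹) ^ (2 * 2 ^ b) = 1 := by
        obtain ⟨c, hc⟩ := Subgroup.mem_zpowers_iff.mp h2
        rw [← hc, ← zpow_natCast, ← _root_.zpow_mul, mul_comm, _root_.zpow_mul, zpow_natCast,
          ← hordu, pow_orderOf_eq_one, one_zpow]
      have h4 : y ^ (2 ^ (b + 1) * 2) = 1 := by
        have e1 : (y⁻¹ * y⁻¹) = (y ^ 2)⁻¹ := by rw [pow_two, mul_inv_rev]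
        rw [e1, inv_pow, inv_eq_one, ← pow_mul] at h3
        rw [← h3]
        congr 1
        ring
      have h5 : y ^ (2 ^ (b + 1) * m') = 1 := by
        rw [hm']
        obtain ⟨j, rfl⟩ := Subgroup.mem_zpowers_iff.mp hy
        rw [← zpow_natCast, ← _root_.zpow_mul, mul_comm, _root_.zpow_mul, zpow_natCast, ← ht,
          pow_orderOf_eq_one, one_zpow]
      have h6 : orderOf y ∣ 2 ^ (b + 1) := by
        have d1 := orderOf_dvd_of_pow_eq_one h4
        have d2 := orderOf_dvd_of_pow_eq_one h5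
        have d3 := Nat.dvd_gcd d1 d2
        have hcop : Nat.gcd 2 m' = 1 := (Nat.Prime.coprime_iff_not_dvd Nat.prime_two).mpr hm'odd
        rw [Nat.gcd_mul_left, hcop, mul_one] at d3
        exact d3
      exact hF3 y hy (orderOf_dvd_iff_pow_eq_one.mp h6)
  -- elements normalizing `S₀` and `⟨u⟩` lie in `S₀`
  have hL : ∀ g ∈ Subgroup.normalizer (S₀ : Set G), g * u * g⁻¹ ∈ Subgroup.zpowers u →
      g ∈ S₀ := by
    intro g hg hgu
    have hx2 : (g * u * g⁻¹) * (g * u * g⁻¹) ≠ 1 := by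
      intro h
      apply huu
      calc u * u = g⁻¹ * ((g * u * g⁻¹) * (g * u * g⁻¹)) * g := by group
        _ = 1 := by rw [h]; group
    have hcomm : (g * t * g⁻¹) * (g * u * g⁻¹) = (g * u * g⁻¹) * (g * t * g⁻¹) := by
      have : t * u = u * t := (commute_of_mem_zpowers t u huT).symm
      calc (g * t * g⁻¹) * (g * u * g⁻¹) = g * (t * u) * g⁻¹ := by group
        _ = g * (u * t) * g⁻¹ := by rw [this]
        _ = (g * u * g⁻¹) * (g * t * g⁻¹) := by group
    have h1 : g * t * g⁻¹ ∈ Subgroup.zpowers t := hcent _ (huleT hgu) hx2 _ hcomm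
    rcases torus_mem_of_conj_mem t w hC hconj hw g h1 with h2 | h2
    · exact hUleS₀ (hL0 g h2 hg)
    · have h3 : w⁻¹ * g ∈ Subgroup.normalizer (S₀ : Set G) :=
        Subgroup.mul_mem _ (Subgroup.inv_mem _ (Subgroup.le_normalizer hwS₀)) hg
      exact (hS₀ g).mpr (Or.inr (hL0 _ h2 h3))
  -- the normalizer when `|S₀| ≥ 16`
  have hN1 : 4 ∣ n → Subgroup.normalizer (S₀ : Set G) = S₀ := by
    intro h4
    have hb2 : 2 ≤ b := by
      by_contra hlt
      have hb : b = 1 := by omega
      subst hb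
      apply hm'odd
      rw [← hnb] at h4
      obtain ⟨c, hc⟩ := h4
      exact ⟨c, by omega⟩
    have h4b : 4 ≤ 2 ^ b := by
      calc 4 = 2 ^ 2 := rfl
        _ ≤ 2 ^ b := Nat.pow_le_pow_right (by norm_num) hb2
    obtain ⟨-, -, h3⟩ := torus_normalizer_structure n hn t w ht hC hconj hinv hw
    apply le_antisymm
    · intro g hg
      have h1 : g * u * g⁻¹ ∈ S₀ := (Subgroup.mem_normalizer_iff.mp hg u).mp huS₀
      rcases (hS₀ _).mp h1 with h2 | h2
      · exact hL g hg h2
      · exfalso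
        have hNT : g * u * g⁻¹ ∈ Subgroup.normalizer (Subgroup.zpowers t : Set G) :=
          (torus_normalizer_mem t w hC hconj hw _).mpr (Or.inr (huleT h2))
        have hnT : g * u * g⁻¹ ∉ Subgroup.zpowers t := by
          intro h5
          apply hwT
          have e : w = (g * u * g⁻¹) * (w⁻¹ * (g * u * g⁻¹))⁻¹ := by group
          rw [e]
          exact Subgroup.mul_mem _ h5 (Subgroup.inv_mem _ (huleT h2))
        have h6 := h3 _ hNT hnT
        have h7 : u * u = t ^ n := by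
          have hzc' := Subgroup.mem_center_iff.mp hzc g⁻¹
          calc u * u = g⁻¹ * ((g * u * g⁻¹) * (g * u * g⁻¹)) * g := by group
            _ = g⁻¹ * t ^ n * g := by rw [h6]
            _ = t ^ n * g⁻¹ * g := by rw [hzc']
            _ = t ^ n := by group
        have h8 : u ^ 4 = 1 := by
          have : u ^ 4 = (u * u) * (u * u) := by
            rw [show (4 : ℕ) = 2 + 2 from rfl, pow_add, pow_two]
          rw [this, h7, htn2]
        have h9 := orderOf_dvd_of_pow_eq_one h8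
        rw [hordu] at h9
        have h10 := Nat.le_of_dvd (by norm_num) h9
        omega
    · exact Subgroup.le_normalizer
  -- the normalizer when `|S₀| = 8`
  have hN2 : ¬ 4 ∣ n →
      (∃ ω : G, ω * t ^ (n / 2) * ω⁻¹ = t ^ (n / 2) * w ∧ ω * w * ω⁻¹ = t ^ (n / 2)) →
      Nat.card (Subgroup.normalizer (S₀ : Set G)) = 3 * Nat.card S₀ := by
    intro h4 hω
    obtain ⟨ω, hω1, hω2⟩ := hω
    have hb : b = 1 := by
      by_contra hne
      have hb2 : 2 ≤ b := by omega
      apply h4
      rw [← hnb]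
      exact Dvd.dvd.mul_right (pow_dvd_pow 2 hb2) m'
    subst hb
    have hm'n : m' = n / 2 := by omega
    rw [← hm'n, ← hu] at hω1 hω2
    have hordu4 : orderOf u = 4 := by rw [hordu]; norm_num
    have hcard8 : Nat.card S₀ = 8 := by rw [hS₀card]; norm_num
    have hωN : ω ∈ Subgroup.normalizer (S₀ : Set G) := by
      apply mem_normalizer_of_conj_mem
      intro x hx
      have huw : u * w ∈ S₀ := Subgroup.mul_mem _ huS₀ hwS₀
      rcases (hS₀ x).mp hx with h1 | h1
      · obtain ⟨c, rfl⟩ := Subgroup.mem_zpowers_iff.mp h1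
        rw [← conj_zpow, hω1]
        exact Subgroup.zpow_mem _ huw c
      · obtain ⟨c, hc⟩ := Subgroup.mem_zpowers_iff.mp h1
        have hx' : x = w * u ^ c := by rw [hc]; group
        have e : ω * x * ω⁻¹ = (ω * w * ω⁻¹) * (ω * u ^ c * ω⁻¹) := by rw [hx']; group
        rw [e, hω2, ← conj_zpow, hω1]
        exact Subgroup.mul_mem _ huS₀ (Subgroup.zpow_mem _ huw c)
    have hωS : ω ∉ S₀ := by
      intro hmem
      have h1 : ω * u * ω⁻¹ ∈ Subgroup.zpowers u := by
        rcases (hS₀ ω).mp hmem with h2 | h2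
        · have h3 := commute_of_mem_zpowers u ω h2
          rw [h3, mul_inv_cancel_right]
          exact Subgroup.mem_zpowers u
        · have hy := commute_of_mem_zpowers u _ h2
          have e : ω * u * ω⁻¹ = w * ((w⁻¹ * ω) * u * (w⁻¹ * ω)⁻¹) * w⁻¹ := by group
          rw [e, hy, mul_inv_cancel_right, hwu]
          exact Subgroup.inv_mem _ (Subgroup.mem_zpowers u)
      rw [hω1] at h1
      apply hwU
      have e : w = u⁻¹ * (u * w) := by group
      rw [e]
      exact Subgroup.mul_mem _ (Subgroup.inv_mem _ (Subgroup.mem_zpowers u)) h1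
    have hle : Nat.card (Subgroup.normalizer (S₀ : Set G)) ≤ 24 := by
      have : Fintype G := Fintype.ofFinite G
      have hMf : Nat.card (Subgroup.normalizer (S₀ : Set G))
          = (Finset.univ.filter (· ∈ Subgroup.normalizer (S₀ : Set G))).card := by
        rw [Nat.card_eq_fintype_card, Fintype.card_subtype]
      have hUf : (Finset.univ.filter (· ∈ Subgroup.zpowers u)).card = 4 := by
        rw [← hordu4, ← Nat.card_zpowers, Nat.card_eq_fintype_card, Fintype.card_subtype]
      have hAf : ((Finset.univ.filter (· ∈ S₀)) \ {1, t ^ n}).card ≤ 6 := by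
        have h8 : (Finset.univ.filter (· ∈ S₀)).card = 8 := by
          rw [← hcard8, Nat.card_eq_fintype_card, Fintype.card_subtype]
        have hsub : ({1, t ^ n} : Finset G) ⊆ Finset.univ.filter (· ∈ S₀) := by
          intro x hx
          simp only [Finset.mem_insert, Finset.mem_singleton] at hx
          simp only [Finset.mem_filter, Finset.mem_univ, true_and]
          rcases hx with rfl | rfl
          · exact Subgroup.one_mem _
          · rw [← hun]
            exact hUleS₀ (Subgroup.pow_mem _ (Subgroup.mem_zpowers u) _)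
        rw [Finset.card_sdiff_of_subset hsub, h8, Finset.card_pair (Ne.symm htn1)]
      have hfib : ∀ a ∈ (Finset.univ.filter (· ∈ Subgroup.normalizer (S₀ : Set G))).image
            (fun g => g * u * g⁻¹),
          ((Finset.univ.filter (· ∈ Subgroup.normalizer (S₀ : Set G))).filter
            (fun x => x * u * x⁻¹ = a)).card ≤ 4 := by
        intro a ha
        obtain ⟨g₀, hg₀, rfl⟩ := Finset.mem_image.mp ha
        rw [← hUf]
        apply Finset.card_le_card_of_injOn (fun x => g₀⁻¹ * x)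
        · intro x hx
          simp only [Finset.coe_filter, Finset.mem_filter, Finset.mem_univ, true_and,
            Set.mem_ofPred_eq] at hx hg₀
          obtain ⟨hxM, hxu⟩ := hx
          have hc : (g₀⁻¹ * x) * u = u * (g₀⁻¹ * x) := by
            calc (g₀⁻¹ * x) * u = g₀⁻¹ * (x * u * x⁻¹) * x := by group
              _ = g₀⁻¹ * (g₀ * u * g₀⁻¹) * x := by rw [hxu]
              _ = u * (g₀⁻¹ * x) := by group
          have hT : g₀⁻¹ * x ∈ Subgroup.zpowers t := hcent u huT huu _ hc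
          have hN : g₀⁻¹ * x ∈ Subgroup.normalizer (S₀ : Set G) :=
            Subgroup.mul_mem _ (Subgroup.inv_mem _ hg₀) hxM
          simp only [Finset.coe_filter, Finset.mem_univ, true_and, Set.mem_ofPred_eq]
          exact hL0 _ hT hN
        · intro x _ y _ hxy
          exact mul_left_cancel hxy
      have himg : (Finset.univ.filter (· ∈ Subgroup.normalizer (S₀ : Set G))).image
            (fun g => g * u * g⁻¹) ⊆ (Finset.univ.filter (· ∈ S₀)) \ {1, t ^ n} := by
        intro a ha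
        obtain ⟨g, hg, rfl⟩ := Finset.mem_image.mp ha
        simp only [Finset.mem_filter, Finset.mem_univ, true_and] at hg
        simp only [Finset.mem_sdiff, Finset.mem_filter, Finset.mem_univ, true_and,
          Finset.mem_insert, Finset.mem_singleton, not_or]
        refine ⟨(Subgroup.mem_normalizer_iff.mp hg u).mp huS₀, ?_, ?_⟩
        · intro h1
          apply huu
          have : u = 1 := by
            calc u = g⁻¹ * (g * u * g⁻¹) * g := by group
              _ = 1 := by rw [h1]; group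
          rw [this, mul_one]
        · intro h1
          apply huu
          have hzc' := Subgroup.mem_center_iff.mp hzc g⁻¹
          have : u = t ^ n := by
            calc u = g⁻¹ * (g * u * g⁻¹) * g := by group
              _ = g⁻¹ * t ^ n * g := by rw [h1]
              _ = t ^ n * g⁻¹ * g := by rw [hzc']
              _ = t ^ n := by group
          rw [this, htn2]
      calc Nat.card (Subgroup.normalizer (S₀ : Set G))
          = (Finset.univ.filter (· ∈ Subgroup.normalizer (S₀ : Set G))).card := hMf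
        _ ≤ 4 * ((Finset.univ.filter (· ∈ Subgroup.normalizer (S₀ : Set G))).image
            (fun g => g * u * g⁻¹)).card := Finset.card_le_mul_card_image _ 4 hfib
        _ ≤ 4 * ((Finset.univ.filter (· ∈ S₀)) \ {1, t ^ n}).card :=
            Nat.mul_le_mul_left 4 (Finset.card_le_card himg)
        _ ≤ 4 * 6 := Nat.mul_le_mul_left 4 hAf
        _ = 24 := rfl
    have hdvd8 : 8 ∣ Nat.card (Subgroup.normalizer (S₀ : Set G)) := by
      rw [← hcard8]
      exact Subgroup.card_dvd_of_le Subgroup.le_normalizer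
    have hne8 : Nat.card (Subgroup.normalizer (S₀ : Set G)) ≠ 8 := by
      intro h8
      have := Subgroup.eq_of_le_of_card_ge (Subgroup.le_normalizer (H := S₀))
        (by rw [h8, hcard8])
      apply hωS
      rw [this]
      exact hωN
    have hne16 : Nat.card (Subgroup.normalizer (S₀ : Set G)) ≠ 16 := by
      intro h16
      have h1 : 2 ^ 4 ∣ Nat.card G := by
        have := Subgroup.card_subgroup_dvd_card (Subgroup.normalizer (S₀ : Set G))
        rw [h16] at this
        exact this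
      have h2 := (Nat.Prime.pow_dvd_iff_le_factorization Nat.prime_two Nat.card_pos.ne').mp h1
      rw [hfac, ← ha] at h2
      omega
    have hpos : 0 < Nat.card (Subgroup.normalizer (S₀ : Set G)) := Nat.card_pos
    rw [hcard8]
    obtain ⟨c, hc⟩ := hdvd8
    omega
  refine ⟨?_, ?_, ?_⟩
  · rw [hS, centralizer_map_equiv, hCS₀]
    exact (Subgroup.characteristic_iff_map_eq.mp inferInstance) e
  · intro h4
    rw [hS, ← Subgroup.map_equiv_normalizer_eq, hN1 h4]
  · intro h4 hω
    rw [hS, ← Subgroup.map_equiv_normalizer_eq, Subgroup.card_map_of_injective e.injective,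
      hN2 h4 hω, Subgroup.card_map_of_injective e.injective]

end Sylow2

section Omega

set_option linter.unusedSimpArgs false in
/-- Quaternion identities: for `U² = W² = -1`, `W U = - U W`, the element
`V = -1 + U + W + U W` satisfies `V V̄ = 4`, `V U = U W V`, `V W = U V`. -/
theorem quat_identities {R : Type*} [Ring R] (U W : R) (hUU : U * U = -1) (hWW : W * W = -1)
    (hWU : W * U = -(U * W)) :
    (-1 + U + W + U * W) * (-1 - U - W - U * W) = 1 + 1 + 1 + 1 ∧
    (-1 + U + W + U * W) * U = U * W * (-1 + U + W + U * W) ∧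
    (-1 + U + W + U * W) * W = U * (-1 + U + W + U * W) := by
  have hUU' : ∀ X : R, U * (U * X) = -X := fun X => by rw [← mul_assoc, hUU, neg_mul, one_mul]
  have hWW' : ∀ X : R, W * (W * X) = -X := fun X => by rw [← mul_assoc, hWW, neg_mul, one_mul]
  have hWU' : ∀ X : R, W * (U * X) = -(U * (W * X)) := fun X => by
    rw [← mul_assoc, hWU, neg_mul, mul_assoc]
  refine ⟨?_, ?_, ?_⟩
  · simp only [mul_add, add_mul, mul_sub, sub_mul, mul_neg, neg_mul, mul_one, one_mul, mul_assoc,
      hUU, hWW, hWU, hUU', hWW', hWU', neg_neg]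
    abel
  · simp only [mul_add, add_mul, mul_sub, sub_mul, mul_neg, neg_mul, mul_one, one_mul, mul_assoc,
      hUU, hWW, hWU, hUU', hWW', hWU', neg_neg]
    abel
  · simp only [mul_add, add_mul, mul_sub, sub_mul, mul_neg, neg_mul, mul_one, one_mul, mul_assoc,
      hUU, hWW, hWU, hUU', hWW', hWU', neg_neg]
    abel

variable {F : Type*} [Field F]

theorem trace_zero_of_sq (U : Matrix (Fin 2) (Fin 2) F) (hdet : U.det = 1) (hUU : U * U = -1) :
    U 0 0 + U 1 1 = 0 := by
  have hCH := cayley_two U hdet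
  rw [hUU] at hCH
  have h0 : (U 0 0 + U 1 1) • U = 0 := by
    rw [eq_sub_iff_add_eq, neg_add_cancel] at hCH
    exact hCH.symm
  rcases smul_eq_zero.mp h0 with h | h
  · exact h
  · rw [h] at hdet
    simp at hdet

/-- For `u, w ∈ SL₂(F)` (`2 ≠ 0`) with `u² = w² = -1` and `w u = - u w`, the element
`ω = (-1 + u + w + u w)/2` of `SL₂(F)` conjugates `u ↦ u w`, `w ↦ u`. -/
theorem exists_omega (h2 : (2 : F) ≠ 0) (u w : Matrix.SpecialLinearGroup (Fin 2) F)
    (hu : (u : Matrix (Fin 2) (Fin 2) F) * (u : Matrix (Fin 2) (Fin 2) F) = -1)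
    (hw : (w : Matrix (Fin 2) (Fin 2) F) * (w : Matrix (Fin 2) (Fin 2) F) = -1)
    (hwu : (w : Matrix (Fin 2) (Fin 2) F) * (u : Matrix (Fin 2) (Fin 2) F)
      = -((u : Matrix (Fin 2) (Fin 2) F) * (w : Matrix (Fin 2) (Fin 2) F))) :
    ∃ ω : Matrix.SpecialLinearGroup (Fin 2) F, ω * u * ω⁻¹ = u * w ∧ ω * w * ω⁻¹ = u := by
  obtain ⟨U, hU⟩ : ∃ U : Matrix (Fin 2) (Fin 2) F, U = (u : Matrix (Fin 2) (Fin 2) F) :=
    ⟨_, rfl⟩
  obtain ⟨W, hW⟩ : ∃ W : Matrix (Fin 2) (Fin 2) F, W = (w : Matrix (Fin 2) (Fin 2) F) :=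
    ⟨_, rfl⟩
  rw [← hU] at hu hwu
  rw [← hW] at hw hwu
  have hdU : U.det = 1 := by rw [hU]; exact u.det_coe
  have hdW : W.det = 1 := by rw [hW]; exact w.det_coe
  obtain ⟨q1, q2, q3⟩ := quat_identities U W hu hw hwu
  have htU := trace_zero_of_sq U hdU hu
  have htW := trace_zero_of_sq W hdW hw
  have htUW : (U * W) 0 0 + (U * W) 1 1 = 0 := by
    have h1 : Matrix.trace (U * W) = Matrix.trace (W * U) := Matrix.trace_mul_comm U W
    rw [hwu, Matrix.trace_neg] at h1
    rw [← Matrix.trace_fin_two]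
    have h3 : (2 : F) * Matrix.trace (U * W) = 0 := by linear_combination h1
    rcases mul_eq_zero.mp h3 with h | h
    · exact absurd h h2
    · exact h
  obtain ⟨P, hP⟩ : ∃ P : Matrix (Fin 2) (Fin 2) F, P = U * W := ⟨_, rfl⟩
  rw [← hP] at q1 q2 q3 htUW
  obtain ⟨V, hV⟩ : ∃ V : Matrix (Fin 2) (Fin 2) F, V = -1 + U + W + P := ⟨_, rfl⟩
  rw [← hV] at q1 q2 q3
  have hadj : V.adjugate = -1 - U - W - P := by
    rw [Matrix.adjugate_fin_two, hV]
    ext i j
    fin_cases i <;> fin_cases j <;>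
      simp only [Matrix.of_apply, Matrix.cons_val', Matrix.cons_val_zero, Matrix.cons_val_one,
        Matrix.cons_val_fin_one, Matrix.add_apply, Matrix.sub_apply, Matrix.neg_apply,
        Matrix.one_apply_eq, Fin.zero_eta, Fin.mk_one, Fin.isValue,
        Matrix.one_apply_ne (show (0 : Fin 2) ≠ 1 by decide),
        Matrix.one_apply_ne (show (1 : Fin 2) ≠ 0 by decide)]
    · linear_combination htU + htW + htUW
    · ring
    · ring
    · linear_combination htU + htW + htUW
  have hdetV : V.det = 4 := by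
    have h1 := Matrix.mul_adjugate V
    rw [hadj, q1] at h1
    have h3 := congrFun (congrFun h1 0) 0
    simp only [Matrix.add_apply, Matrix.one_apply_eq, Matrix.smul_apply, smul_eq_mul,
      mul_one] at h3
    rw [← h3]
    norm_num
  have hdetΩ : ((2⁻¹ : F) • V).det = 1 := by
    rw [Matrix.det_smul, hdetV, Fintype.card_fin]
    field_simp
    norm_num
  obtain ⟨ω, hω⟩ : ∃ ω : Matrix.SpecialLinearGroup (Fin 2) F,
      (ω : Matrix (Fin 2) (Fin 2) F) = (2⁻¹ : F) • V := ⟨⟨_, hdetΩ⟩, rfl⟩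
  refine ⟨ω, ?_, ?_⟩
  · rw [mul_inv_eq_iff_eq_mul]
    apply Subtype.ext
    simp only [Matrix.SpecialLinearGroup.coe_mul]
    rw [hω, ← hU, ← hW, smul_mul_assoc, mul_smul_comm, q2, hP]
  · rw [mul_inv_eq_iff_eq_mul]
    apply Subtype.ext
    simp only [Matrix.SpecialLinearGroup.coe_mul]
    rw [hω, ← hU, ← hW, smul_mul_assoc, mul_smul_comm, q3]

end Omega

end Cfsg.Agent.Lib.helper46
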