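import Mathlib
import Cfsg.Agent.Lib.helper46.Sylow2Torus
import Cfsg.Agent.Lib.helper59.TwoGroups

/-!
# Subgroups containing the normalizer of a self-centralizing cyclic torus (helper46)

Abstract lemmas: `N = ⟨t⟩ ∪ w⟨t⟩` has order `2 |t|`; a subgroup `K` properly containing `N`
has at least `|N| + |t|² / |Z|` elements (double coset count); the image of `N` in `G ⧸ Z` is
dihedral; maximality of `N` transfers to the quotient.
-/

set_option autoImplicit false

namespace Cfsg.Agent.Lib.helper46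

section TorusBound

variable {G : Type*} [Group G]

/-- The package of properties of a torus `⟨t⟩` of order `n` with an inverting element `w`. -/
def TorusPkg (n : ℕ) (t w : G) : Prop :=
  orderOf t = n ∧
  (∀ g : G, g * t = t * g → g ∈ Subgroup.zpowers t) ∧
  (∀ x ∈ Subgroup.zpowers t, x ∉ Subgroup.center G →
    ∀ h : G, h * x = x * h → h ∈ Subgroup.zpowers t) ∧
  (∀ g : G, g * t * g⁻¹ ∈ Subgroup.zpowers t → g * t * g⁻¹ = t ∨ g * t * g⁻¹ = t⁻¹) ∧
  w * t * w⁻¹ = t⁻¹ ∧ w ∉ Subgroup.zpowers t ∧ w * w ∈ Subgroup.center G ∧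
  Subgroup.center G ≤ Subgroup.zpowers t

/-- `|⟨t⟩ ∪ w⟨t⟩| = 2 |t|`. -/
theorem card_dicSub [Finite G] (t w : G) (hw : w * t * w⁻¹ = t⁻¹)
    (hw2 : w * w ∈ Subgroup.zpowers t) (hwT : w ∉ Subgroup.zpowers t) :
    Nat.card (dicSub t w hw hw2) = 2 * orderOf t := by
  classical
  have hset : ((dicSub t w hw hw2 : Subgroup G) : Set G)
      = (Subgroup.zpowers t : Set G) ∪ (fun x => w * x) '' (Subgroup.zpowers t : Set G) := by
    ext g
    simp only [SetLike.mem_coe, mem_dicSub, Set.mem_union, Set.mem_image]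
    constructor
    · rintro (h | h)
      · exact Or.inl h
      · exact Or.inr ⟨w⁻¹ * g, h, by group⟩
    · rintro (h | ⟨x, hx, rfl⟩)
      · exact Or.inl h
      · right
        rw [inv_mul_cancel_left]
        exact hx
  have hdisj : Disjoint (Subgroup.zpowers t : Set G)
      ((fun x => w * x) '' (Subgroup.zpowers t : Set G)) := by
    rw [Set.disjoint_left]
    rintro g hg ⟨x, hx, rfl⟩
    apply hwT
    have e : w = (w * x) * x⁻¹ := by group
    rw [e]
    exact Subgroup.mul_mem _ hg (Subgroup.inv_mem _ hx)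
  have h1 : Nat.card (dicSub t w hw hw2) = ((dicSub t w hw hw2 : Subgroup G) : Set G).ncard :=
    Nat.card_coe_set_eq _
  have h2 : Nat.card (Subgroup.zpowers t) = (Subgroup.zpowers t : Set G).ncard :=
    Nat.card_coe_set_eq _
  rw [h1, hset, Set.ncard_union_eq hdisj (Set.toFinite _) (Set.toFinite _),
    Set.ncard_image_of_injective _ (mul_right_injective w), ← h2, Nat.card_zpowers]
  ring

/-- **Double coset bound.** A subgroup `K` containing `N = ⟨t⟩ ∪ w⟨t⟩` and an element `g ∉ N`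
contains the `|t|² / |Z|` elements of `⟨t⟩ g ⟨t⟩` besides those of `N`. -/
theorem torus_card_bound [Finite G] (t w : G) (Z : Subgroup G)
    (hC : ∀ g : G, g * t = t * g → g ∈ Subgroup.zpowers t)
    (hcent : ∀ x ∈ Subgroup.zpowers t, x ∉ Z →
      ∀ h : G, h * x = x * h → h ∈ Subgroup.zpowers t)
    (hconj : ∀ g : G, g * t * g⁻¹ ∈ Subgroup.zpowers t → g * t * g⁻¹ = t ∨ g * t * g⁻¹ = t⁻¹)
    (hw : w * t * w⁻¹ = t⁻¹) (hw2 : w * w ∈ Subgroup.zpowers t)
    (K : Subgroup G) (hNK : dicSub t w hw hw2 ≤ K) (g : G) (hgK : g ∈ K)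
    (hgN : g ∉ dicSub t w hw hw2) :
    orderOf t ^ 2 + Nat.card Z * Nat.card (dicSub t w hw hw2) ≤ Nat.card Z * Nat.card K := by
  classical
  have : Fintype G := Fintype.ofFinite G
  have hTN : Subgroup.zpowers t ≤ dicSub t w hw hw2 := fun x hx => Or.inl hx
  have key : ∀ s ∈ Subgroup.zpowers t, ∀ u ∈ Subgroup.zpowers t, ∀ s' ∈ Subgroup.zpowers t,
      ∀ u' ∈ Subgroup.zpowers t, s * g * u = s' * g * u' → s⁻¹ * s' ∈ Z := by
    intro s hs u hu s' hs' u' hu' heq
    by_contra hx
    have hxT : s⁻¹ * s' ∈ Subgroup.zpowers t := Subgroup.mul_mem _ (Subgroup.inv_mem _ hs) hs'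
    have hy : g⁻¹ * (s⁻¹ * s') * g = u * u'⁻¹ := by
      have e1 : s⁻¹ * s' * g = g * (u * u'⁻¹) := by
        calc s⁻¹ * s' * g = s⁻¹ * (s' * g * u') * u'⁻¹ := by group
          _ = s⁻¹ * (s * g * u) * u'⁻¹ := by rw [heq]
          _ = g * (u * u'⁻¹) := by group
      calc g⁻¹ * (s⁻¹ * s') * g = g⁻¹ * (s⁻¹ * s' * g) := by group
        _ = g⁻¹ * (g * (u * u'⁻¹)) := by rw [e1]
        _ = u * u'⁻¹ := by group
    have hyT : g⁻¹ * (s⁻¹ * s') * g ∈ Subgroup.zpowers t := by
      rw [hy]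
      exact Subgroup.mul_mem _ hu (Subgroup.inv_mem _ hu')
    have hcomm : (g * t * g⁻¹) * (s⁻¹ * s') = (s⁻¹ * s') * (g * t * g⁻¹) := by
      have h1 : t * (g⁻¹ * (s⁻¹ * s') * g) = (g⁻¹ * (s⁻¹ * s') * g) * t :=
        (commute_of_mem_zpowers t _ hyT).symm
      calc (g * t * g⁻¹) * (s⁻¹ * s') = g * (t * (g⁻¹ * (s⁻¹ * s') * g)) * g⁻¹ := by group
        _ = g * ((g⁻¹ * (s⁻¹ * s') * g) * t) * g⁻¹ := by rw [h1]
        _ = (s⁻¹ * s') * (g * t * g⁻¹) := by group
    have hmem : g * t * g⁻¹ ∈ Subgroup.zpowers t := hcent _ hxT hx _ hcomm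
    exact hgN (torus_mem_of_conj_mem t w hC hconj hw g hmem)
  let Tf : Finset G := (Subgroup.zpowers t : Set G).toFinset
  let Zf : Finset G := (Z : Set G).toFinset
  let Nf : Finset G := ((dicSub t w hw hw2 : Subgroup G) : Set G).toFinset
  let Kf : Finset G := (K : Set G).toFinset
  let P : Finset (G × G) := Tf ×ˢ Tf
  let f : G × G → G := fun p => p.1 * g * p.2
  have hTf : Tf.card = orderOf t := by
    rw [Set.toFinset_card, ← Nat.card_eq_fintype_card]
    exact Nat.card_zpowers t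
  have hZf : Zf.card = Nat.card Z := by
    rw [Set.toFinset_card, ← Nat.card_eq_fintype_card]; rfl
  have hNf : Nf.card = Nat.card (dicSub t w hw hw2) := by
    rw [Set.toFinset_card, ← Nat.card_eq_fintype_card]; rfl
  have hKf : Kf.card = Nat.card K := by
    rw [Set.toFinset_card, ← Nat.card_eq_fintype_card]; rfl
  have hP : P.card = orderOf t ^ 2 := by rw [Finset.card_product, hTf, sq]
  have memT : ∀ x, x ∈ Tf ↔ x ∈ Subgroup.zpowers t := fun x => by simp [Tf]
  have hfib : ∀ a ∈ P.image f, (P.filter fun x => f x = a).card ≤ Nat.card Z := by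
    intro a ha
    obtain ⟨⟨s, u⟩, hp, rfl⟩ := Finset.mem_image.mp ha
    have hs : s ∈ Subgroup.zpowers t := (memT s).mp (Finset.mem_product.mp hp).1
    have hu : u ∈ Subgroup.zpowers t := (memT u).mp (Finset.mem_product.mp hp).2
    rw [← hZf]
    apply Finset.card_le_card_of_injOn (fun p => s⁻¹ * p.1)
    · intro p hp'
      rw [Finset.mem_coe, Finset.mem_filter] at hp'
      have hp1 : p.1 ∈ Subgroup.zpowers t := (memT _).mp (Finset.mem_product.mp hp'.1).1
      have hp2 : p.2 ∈ Subgroup.zpowers t := (memT _).mp (Finset.mem_product.mp hp'.1).2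
      have := key s hs u hu p.1 hp1 p.2 hp2 hp'.2.symm
      simpa [Zf] using this
    · intro p hp' p' hp'' heq
      rw [Finset.mem_coe, Finset.mem_filter] at hp' hp''
      have e1 : p.1 = p'.1 := mul_left_cancel heq
      have e2 : p.1 * g * p.2 = p'.1 * g * p'.2 := hp'.2.trans hp''.2.symm
      rw [← e1] at e2
      exact Prod.ext e1 (mul_left_cancel e2)
  have h1 : P.card ≤ Nat.card Z * (P.image f).card := Finset.card_le_mul_card_image P _ hfib
  have hdisj : Disjoint (P.image f) Nf := by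
    rw [Finset.disjoint_left]
    intro a ha haN
    obtain ⟨⟨s, u⟩, hp, rfl⟩ := Finset.mem_image.mp ha
    have hs : s ∈ Subgroup.zpowers t := (memT s).mp (Finset.mem_product.mp hp).1
    have hu : u ∈ Subgroup.zpowers t := (memT u).mp (Finset.mem_product.mp hp).2
    have haN' : s * g * u ∈ dicSub t w hw hw2 := by simpa [Nf] using haN
    apply hgN
    have e : g = s⁻¹ * (s * g * u) * u⁻¹ := by group
    rw [e]
    exact Subgroup.mul_mem _ (Subgroup.mul_mem _ (Subgroup.inv_mem _ (hTN hs)) haN')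
      (Subgroup.inv_mem _ (hTN hu))
  have hsub : P.image f ∪ Nf ⊆ Kf := by
    intro a ha
    rcases Finset.mem_union.mp ha with ha | ha
    · obtain ⟨⟨s, u⟩, hp, rfl⟩ := Finset.mem_image.mp ha
      have hs : s ∈ Subgroup.zpowers t := (memT s).mp (Finset.mem_product.mp hp).1
      have hu : u ∈ Subgroup.zpowers t := (memT u).mp (Finset.mem_product.mp hp).2
      have : s * g * u ∈ K := K.mul_mem (K.mul_mem (hNK (hTN hs)) hgK) (hNK (hTN hu))
      simpa [Kf] using this
    · have : a ∈ dicSub t w hw hw2 := by simpa [Nf] using ha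
      have := hNK this
      simpa [Kf] using this
  have h2 : (P.image f).card + Nf.card ≤ Kf.card := by
    rw [← Finset.card_union_of_disjoint hdisj]
    exact Finset.card_le_card hsub
  rw [hNf, hKf] at h2
  rw [hP] at h1
  calc orderOf t ^ 2 + Nat.card Z * Nat.card (dicSub t w hw hw2)
      ≤ Nat.card Z * (P.image f).card + Nat.card Z * Nat.card (dicSub t w hw hw2) :=
        Nat.add_le_add_right h1 _
    _ = Nat.card Z * ((P.image f).card + Nat.card (dicSub t w hw hw2)) := by ring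
    _ ≤ Nat.card Z * Nat.card K := Nat.mul_le_mul_left _ h2

/-- The order of the image of a subgroup containing the kernel. -/
theorem card_map_mk_mul [Finite G] (Z : Subgroup G) [Z.Normal] (H : Subgroup G) (hZH : Z ≤ H) :
    Nat.card (H.map (QuotientGroup.mk' Z)) * Nat.card Z = Nat.card H := by
  have h1 := Subgroup.card_mul_index H
  have h2 := Subgroup.card_mul_index (H.map (QuotientGroup.mk' Z))
  have h3 : (H.map (QuotientGroup.mk' Z)).index = H.index :=
    Subgroup.index_map_eq H (QuotientGroup.mk'_surjective Z)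
      (by rw [QuotientGroup.ker_mk']; exact hZH)
  have h4 := Subgroup.card_eq_card_quotient_mul_card_subgroup Z
  rw [h3] at h2
  have hidx : 0 < H.index := Nat.pos_of_ne_zero Subgroup.index_ne_zero_of_finite
  apply Nat.eq_of_mul_eq_mul_right hidx
  calc Nat.card (H.map (QuotientGroup.mk' Z)) * Nat.card Z * H.index
      = (Nat.card (H.map (QuotientGroup.mk' Z)) * H.index) * Nat.card Z := by ring
    _ = Nat.card (G ⧸ Z) * Nat.card Z := by rw [h2]
    _ = Nat.card G := h4.symm
    _ = Nat.card H * H.index := h1.symm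

/-- The image of `⟨t⟩ ∪ w⟨t⟩` modulo a central subgroup `Z ≤ ⟨t⟩` containing `w²` is
dihedral of order `2 |t| / |Z|`. -/
theorem torus_quotient_dihedral [Finite G] (t w : G) (Z : Subgroup G) [Z.Normal]
    (hZ : Z ≤ Subgroup.zpowers t) (hw : w * t * w⁻¹ = t⁻¹) (hw2Z : w * w ∈ Z)
    (hwT : w ∉ Subgroup.zpowers t) (m : ℕ) (hm : orderOf t = m * Nat.card Z) :
    Nonempty (((dicSub t w hw (hZ hw2Z)).map (QuotientGroup.mk' Z)) ≃* DihedralGroup m) := by
  classical
  have hTN : Subgroup.zpowers t ≤ dicSub t w hw (hZ hw2Z) := fun x hx => Or.inl hx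
  have hZpos : 0 < Nat.card Z := Nat.card_pos
  have hcardN : Nat.card ((dicSub t w hw (hZ hw2Z)).map (QuotientGroup.mk' Z)) = 2 * m := by
    have h1 := card_map_mk_mul Z (dicSub t w hw (hZ hw2Z)) (hZ.trans hTN)
    rw [card_dicSub t w hw (hZ hw2Z) hwT, hm] at h1
    apply Nat.eq_of_mul_eq_mul_right hZpos
    rw [h1]; ring
  have hordt : orderOf (QuotientGroup.mk' Z t) = m := by
    have h1 := card_map_mk_mul Z (Subgroup.zpowers t) hZ
    rw [MonoidHom.map_zpowers, Nat.card_zpowers, Nat.card_zpowers, hm] at h1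
    exact Nat.eq_of_mul_eq_mul_right hZpos h1
  have htN : QuotientGroup.mk' Z t ∈ (dicSub t w hw (hZ hw2Z)).map (QuotientGroup.mk' Z) :=
    Subgroup.mem_map_of_mem _ (hTN (Subgroup.mem_zpowers t))
  have hwN : QuotientGroup.mk' Z w ∈ (dicSub t w hw (hZ hw2Z)).map (QuotientGroup.mk' Z) :=
    Subgroup.mem_map_of_mem _ (Or.inr (by rw [inv_mul_cancel]; exact Subgroup.one_mem _))
  refine Cfsg.Agent.Lib.helper59.dihedral_equiv_of_rel m
    (⟨QuotientGroup.mk' Z t, htN⟩ : (dicSub t w hw (hZ hw2Z)).map (QuotientGroup.mk' Z))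
    ⟨QuotientGroup.mk' Z w, hwN⟩ ?_ hcardN ?_ ?_ ?_
  · rw [← Subgroup.orderOf_coe]
    exact hordt
  · intro hmem
    obtain ⟨k, hk⟩ := Subgroup.mem_zpowers_iff.mp hmem
    have hk' := congrArg Subtype.val hk
    simp only [Subgroup.coe_zpow] at hk'
    rw [← map_zpow] at hk'
    have h3 : (t ^ k)⁻¹ * w ∈ Z := by
      have := (QuotientGroup.eq (s := Z)).mp hk'
      exact this
    apply hwT
    have e : w = t ^ k * ((t ^ k)⁻¹ * w) := by group
    rw [e]
    exact Subgroup.mul_mem _ (Subgroup.zpow_mem _ (Subgroup.mem_zpowers t) k) (hZ h3)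
  · apply Subtype.ext
    simp only [Subgroup.coe_pow, Subgroup.coe_one]
    rw [← map_pow, pow_two]
    exact (QuotientGroup.eq_one_iff _).mpr hw2Z
  · apply Subtype.ext
    simp only [Subgroup.coe_mul, Subgroup.coe_inv]
    rw [← map_inv, ← map_mul, ← map_mul, hw, map_inv]

/-- Maximality transfers to a quotient by a subgroup contained in `N`. -/
theorem isCoatom_map_mk (Z : Subgroup G) [Z.Normal] (N : Subgroup G) (hZN : Z ≤ N) (hN : N ≠ ⊤)
    (hmax : ∀ K : Subgroup G, N ≤ K → K ≠ N → K = ⊤) :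
    IsCoatom (N.map (QuotientGroup.mk' Z)) := by
  constructor
  · intro h
    apply hN
    have h1 := congrArg (Subgroup.comap (QuotientGroup.mk' Z)) h
    rw [Subgroup.comap_map_eq, QuotientGroup.ker_mk', Subgroup.comap_top,
      sup_eq_left.mpr hZN] at h1
    exact h1
  · intro K hK
    have h1 : N ≤ K.comap (QuotientGroup.mk' Z) := by
      rw [← Subgroup.map_le_iff_le_comap]
      exact hK.le
    have h2 : K.comap (QuotientGroup.mk' Z) ≠ N := by
      intro h
      apply hK.ne
      rw [← h, Subgroup.map_comap_eq_self_of_surjective (QuotientGroup.mk'_surjective Z)]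
    have h3 := hmax _ h1 h2
    rw [← Subgroup.map_comap_eq_self_of_surjective (QuotientGroup.mk'_surjective Z) K, h3]
    exact Subgroup.map_top_of_surjective _ (QuotientGroup.mk'_surjective Z)

end TorusBound

end Cfsg.Agent.Lib.helper46
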