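import Mathlib
import Cfsg.Agent.Lib.helper46.SL2NonSplit
import Cfsg.Agent.Lib.helper46.TorusBound
import Cfsg.Agent.Lib.helper98.SL2Unip

/-!
# Split and non-split tori of `SL₂(q)` for all `q` (helper46)

`TorusPkg` data for the diagonal torus (order `q - 1`, `q ≥ 4`) and the non-split torus
(order `q + 1`), in every characteristic.
-/

set_option autoImplicit false

namespace Cfsg.Agent.Lib.helper46

section TorusAll

variable {F : Type*} [Field F] [Fintype F]

/-- The non-split torus in every characteristic: a companion matrix `t` of order `q + 1`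
with its centralizer and conjugacy properties. -/
theorem nonsplit_torus_core :
    ∃ (t₀ : F) (t : Matrix.SpecialLinearGroup (Fin 2) F),
      (t : Matrix (Fin 2) (Fin 2) F) 0 0 = 0 ∧ (t : Matrix (Fin 2) (Fin 2) F) 0 1 = -1 ∧
      (t : Matrix (Fin 2) (Fin 2) F) 1 0 = 1 ∧ (t : Matrix (Fin 2) (Fin 2) F) 1 1 = t₀ ∧
      orderOf t = Fintype.card F + 1 ∧
      (∀ g : Matrix.SpecialLinearGroup (Fin 2) F, g * t = t * g → g ∈ Subgroup.zpowers t) ∧
      (∀ g : Matrix.SpecialLinearGroup (Fin 2) F, g * t * g⁻¹ ∈ Subgroup.zpowers t →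
        g * t * g⁻¹ = t ∨ g * t * g⁻¹ = t⁻¹) ∧
      (∀ g : Matrix.SpecialLinearGroup (Fin 2) F, g ∈ Subgroup.zpowers t →
        (g : Matrix (Fin 2) (Fin 2) F) ≠ 1 → (g : Matrix (Fin 2) (Fin 2) F) ≠ -1 →
        ∀ h : Matrix.SpecialLinearGroup (Fin 2) F, h * g = g * h → h ∈ Subgroup.zpowers t) := by
  classical
  have hq2 : 1 < Fintype.card F := Fintype.one_lt_card
  -- the eigenvalue
  have hnz : NeZero ((Fintype.card F + 1 : ℕ) : F) := ⟨by
    rw [Nat.cast_add, FiniteField.cast_card_eq_zero]; simp⟩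
  obtain ⟨l, hl⟩ := HasEnoughRootsOfUnity.exists_primitiveRoot (AlgebraicClosure F)
    (Fintype.card F + 1)
  have hord : orderOf l = Fintype.card F + 1 := hl.eq_orderOf.symm
  have hl0 : l ≠ 0 := hl.ne_zero (by omega)
  have hlq : l ^ Fintype.card F = l⁻¹ := by
    have : l ^ Fintype.card F * l = 1 := by rw [← pow_succ]; exact hl.pow_eq_one
    exact eq_inv_of_mul_eq_one_left this
  have hlF : l ∉ Set.range (algebraMap F (AlgebraicClosure F)) := by
    rintro ⟨x, rfl⟩
    have hx0 : x ≠ 0 := by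
      rintro rfl
      exact hl0 (map_zero _)
    have h1 : (algebraMap F (AlgebraicClosure F) x) ^ (Fintype.card F - 1) = 1 := by
      rw [← map_pow, FiniteField.pow_card_sub_one_eq_one x hx0, map_one]
    have h3 : (algebraMap F (AlgebraicClosure F) x) ^ 2 = 1 := by
      have h4 := hl.pow_eq_one
      have h5 : Fintype.card F + 1 = (Fintype.card F - 1) + 2 := by omega
      rw [h5, pow_add, h1, one_mul] at h4
      exact h4
    have h6 := orderOf_dvd_of_pow_eq_one h3
    rw [hord] at h6
    have := Nat.le_of_dvd (by norm_num) h6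
    omega
  have hne : l ≠ l⁻¹ := ne_inv_of_not_mem _ l hlF
  have htq : (l + l⁻¹) ^ Fintype.card F = l + l⁻¹ := by
    have := frob_lin (F := F) (K := AlgebraicClosure F) 0 1 (l + l⁻¹)
    simp only [map_zero, zero_add, map_one, one_mul] at this
    obtain ⟨p, hp⟩ := CharP.exists F
    have hprime : Fact p.Prime := ⟨CharP.char_is_prime F p⟩
    have hK : CharP (AlgebraicClosure F) p :=
      charP_of_injective_algebraMap (algebraMap F (AlgebraicClosure F)).injective p
    obtain ⟨n, -, hn'⟩ := FiniteField.card F p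
    have e1 : (l + l⁻¹) ^ Fintype.card F = l ^ Fintype.card F + l⁻¹ ^ Fintype.card F := by
      rw [hn']
      exact add_pow_char_pow l l⁻¹ p n
    rw [e1, inv_pow, hlq, inv_inv, add_comm]
  obtain ⟨t₀, ht₀⟩ := mem_range_of_pow_card_eq (l + l⁻¹) htq
  -- the generator
  have hM00 : ((mkSL (0 : F) (-1) 1 t₀ (by ring) : Matrix.SpecialLinearGroup (Fin 2) F) :
      Matrix (Fin 2) (Fin 2) F) 0 0 = 0 := by simp
  have hM01 : ((mkSL (0 : F) (-1) 1 t₀ (by ring) : Matrix.SpecialLinearGroup (Fin 2) F) :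
      Matrix (Fin 2) (Fin 2) F) 0 1 = -1 := by simp
  have hM10 : ((mkSL (0 : F) (-1) 1 t₀ (by ring) : Matrix.SpecialLinearGroup (Fin 2) F) :
      Matrix (Fin 2) (Fin 2) F) 1 0 = 1 := by simp
  have hM11 : ((mkSL (0 : F) (-1) 1 t₀ (by ring) : Matrix.SpecialLinearGroup (Fin 2) F) :
      Matrix (Fin 2) (Fin 2) F) 1 1 = t₀ := by simp
  generalize ht : (mkSL (0 : F) (-1) 1 t₀ (by ring) : Matrix.SpecialLinearGroup (Fin 2) F) = t
    at hM00 hM01 hM10 hM11
  have hdet : (t : Matrix (Fin 2) (Fin 2) F).det = 1 := t.det_coe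
  have htr : algebraMap F (AlgebraicClosure F)
      ((t : Matrix (Fin 2) (Fin 2) F) 0 0 + (t : Matrix (Fin 2) (Fin 2) F) 1 1) = l + l⁻¹ := by
    rw [hM00, hM11, zero_add, ht₀]
  have hno : ∀ x : F, x ^ 2 - ((t : Matrix (Fin 2) (Fin 2) F) 0 0
      + (t : Matrix (Fin 2) (Fin 2) F) 1 1) * x + 1 ≠ 0 := by
    intro x hx
    apply hlF
    have hx' := congrArg (algebraMap F (AlgebraicClosure F)) hx
    rw [map_add, map_sub, map_mul, map_pow, htr, map_one, map_zero] at hx'
    have hli : l * l⁻¹ = 1 := mul_inv_cancel₀ hl0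
    have hfac : (algebraMap F (AlgebraicClosure F) x - l)
        * (algebraMap F (AlgebraicClosure F) x - l⁻¹) = 0 := by
      linear_combination hx' + hli
    rcases mul_eq_zero.mp hfac with h | h
    · exact ⟨x, sub_eq_zero.mp h⟩
    · refine ⟨x⁻¹, ?_⟩
      rw [map_inv₀, sub_eq_zero.mp h, inv_inv]
  -- elements of the span of `1, t` of determinant one are powers of `t`
  have hspan_pow : ∀ (g : Matrix.SpecialLinearGroup (Fin 2) F) (a b : F),
      (g : Matrix (Fin 2) (Fin 2) F) = a • (1 : Matrix (Fin 2) (Fin 2) F)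
        + b • (t : Matrix (Fin 2) (Fin 2) F) → g ∈ Subgroup.zpowers t := by
    intro g a b hab
    have hnorm := eigen_norm (algebraMap F (AlgebraicClosure F)) _ hdet l hl0 htr a b
    rw [← hab, g.det_coe, map_one] at hnorm
    have hfrob := frob_lin (F := F) (K := AlgebraicClosure F) a b l
    rw [hlq] at hfrob
    have hα : (algebraMap F (AlgebraicClosure F) a + algebraMap F (AlgebraicClosure F) b * l)
        ^ (Fintype.card F + 1) = 1 := by
      rw [pow_succ, hfrob, mul_comm]
      exact hnorm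
    have hnz' : NeZero (Fintype.card F + 1) := ⟨by omega⟩
    obtain ⟨j, -, hj⟩ := hl.eq_pow_of_pow_eq_one hα
    obtain ⟨a', b', hab'⟩ := pow_mem_span (t : Matrix (Fin 2) (Fin 2) F) hdet j
    have hj' := eigen_pow (algebraMap F (AlgebraicClosure F)) _ hdet l hl0 htr hne j a' b' hab'
    have heq := eq_of_eigen_eq (algebraMap F (AlgebraicClosure F)) l hlF
      (t : Matrix (Fin 2) (Fin 2) F) a b a' b' (by rw [hj', hj])
    have : g = t ^ j := by
      apply Subtype.ext
      rw [Matrix.SpecialLinearGroup.coe_pow, hab, heq, hab']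
    rw [this]
    exact Subgroup.pow_mem _ (Subgroup.mem_zpowers t) j
  -- elements commuting with `t` lie in the span
  have hspan : ∀ g : Matrix.SpecialLinearGroup (Fin 2) F, g * t = t * g →
      (g : Matrix (Fin 2) (Fin 2) F) = (g : Matrix (Fin 2) (Fin 2) F) 0 0 • (1 : Matrix (Fin 2) (Fin 2) F)
        + (g : Matrix (Fin 2) (Fin 2) F) 1 0 • (t : Matrix (Fin 2) (Fin 2) F) := by
    intro g hg
    have h3 := congrArg (fun x : Matrix.SpecialLinearGroup (Fin 2) F =>
      (x : Matrix (Fin 2) (Fin 2) F)) hg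
    simp only [Matrix.SpecialLinearGroup.coe_mul] at h3
    have e00 := congrFun (congrFun h3 0) 0
    have e10 := congrFun (congrFun h3 1) 0
    simp only [Matrix.mul_apply, Fin.sum_univ_two, hM00, hM01, hM10, hM11] at e00 e10
    have k00 : (g : Matrix (Fin 2) (Fin 2) F) 0 0 = ((g : Matrix (Fin 2) (Fin 2) F) 0 0
        • (1 : Matrix (Fin 2) (Fin 2) F)
        + (g : Matrix (Fin 2) (Fin 2) F) 1 0 • (t : Matrix (Fin 2) (Fin 2) F)) 0 0 := by
      simp only [Matrix.add_apply, Matrix.smul_apply, smul_eq_mul, hM00]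
      simp
    have k01 : (g : Matrix (Fin 2) (Fin 2) F) 0 1 = ((g : Matrix (Fin 2) (Fin 2) F) 0 0
        • (1 : Matrix (Fin 2) (Fin 2) F)
        + (g : Matrix (Fin 2) (Fin 2) F) 1 0 • (t : Matrix (Fin 2) (Fin 2) F)) 0 1 := by
      simp only [Matrix.add_apply, Matrix.smul_apply, smul_eq_mul, hM01]
      simp only [Matrix.one_apply_ne (show (0 : Fin 2) ≠ 1 by decide)]
      linear_combination e00
    have k10 : (g : Matrix (Fin 2) (Fin 2) F) 1 0 = ((g : Matrix (Fin 2) (Fin 2) F) 0 0
        • (1 : Matrix (Fin 2) (Fin 2) F)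
        + (g : Matrix (Fin 2) (Fin 2) F) 1 0 • (t : Matrix (Fin 2) (Fin 2) F)) 1 0 := by
      simp only [Matrix.add_apply, Matrix.smul_apply, smul_eq_mul, hM10]
      simp
    have k11 : (g : Matrix (Fin 2) (Fin 2) F) 1 1 = ((g : Matrix (Fin 2) (Fin 2) F) 0 0
        • (1 : Matrix (Fin 2) (Fin 2) F)
        + (g : Matrix (Fin 2) (Fin 2) F) 1 0 • (t : Matrix (Fin 2) (Fin 2) F)) 1 1 := by
      simp only [Matrix.add_apply, Matrix.smul_apply, smul_eq_mul, hM11]
      simp only [Matrix.one_apply_eq]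
      linear_combination e10
    ext i j
    fin_cases i <;> fin_cases j
    · exact k00
    · exact k01
    · exact k10
    · exact k11
  have hC : ∀ g : Matrix.SpecialLinearGroup (Fin 2) F, g * t = t * g → g ∈ Subgroup.zpowers t :=
    fun g hg => hspan_pow g _ _ (hspan g hg)
  -- the order of `t`
  have hpow_iff : ∀ j : ℕ, t ^ j = 1 ↔ l ^ j = 1 := by
    intro j
    obtain ⟨a', b', hab'⟩ := pow_mem_span (t : Matrix (Fin 2) (Fin 2) F) hdet j
    have hj' := eigen_pow (algebraMap F (AlgebraicClosure F)) _ hdet l hl0 htr hne j a' b' hab'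
    constructor
    · intro h1
      have h1' : (t : Matrix (Fin 2) (Fin 2) F) ^ j = (1 : F) • (1 : Matrix (Fin 2) (Fin 2) F)
          + (0 : F) • (t : Matrix (Fin 2) (Fin 2) F) := by
        rw [← Matrix.SpecialLinearGroup.coe_pow, h1, one_smul, zero_smul, add_zero,
          Matrix.SpecialLinearGroup.coe_one]
      have := eigen_pow (algebraMap F (AlgebraicClosure F)) _ hdet l hl0 htr hne j 1 0 h1'
      rw [map_one, map_zero, zero_mul, add_zero] at this
      exact this.symm
    · intro h1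
      have heq := eq_of_eigen_eq (algebraMap F (AlgebraicClosure F)) l hlF
        (t : Matrix (Fin 2) (Fin 2) F) a' b' 1 0
        (by rw [hj', h1, map_one, map_zero, zero_mul, add_zero])
      apply Subtype.ext
      rw [Matrix.SpecialLinearGroup.coe_pow, hab', heq, one_smul, zero_smul, add_zero,
        Matrix.SpecialLinearGroup.coe_one]
  have hordt : orderOf t = Fintype.card F + 1 := by
    rw [← hord]
    exact orderOf_eq_orderOf_iff.mpr hpow_iff
  -- the inverse of `t`
  have hinvt : ((t⁻¹ : Matrix.SpecialLinearGroup (Fin 2) F) : Matrix (Fin 2) (Fin 2) F)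
      = t₀ • (1 : Matrix (Fin 2) (Fin 2) F) + (-1 : F) • (t : Matrix (Fin 2) (Fin 2) F) := by
    rw [Matrix.SpecialLinearGroup.coe_inv, Matrix.adjugate_fin_two]
    ext i j
    fin_cases i <;> fin_cases j <;>
      simp [hM00, hM01, hM10, hM11]
  have hli : l * l⁻¹ = 1 := mul_inv_cancel₀ hl0
  -- conjugates of `t` inside the torus
  have hconj : ∀ g : Matrix.SpecialLinearGroup (Fin 2) F, g * t * g⁻¹ ∈ Subgroup.zpowers t →
      g * t * g⁻¹ = t ∨ g * t * g⁻¹ = t⁻¹ := by
    intro g hg
    have hcomm : (g * t * g⁻¹) * t = t * (g * t * g⁻¹) := by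
      obtain ⟨j, hj⟩ := Subgroup.mem_zpowers_iff.mp hg
      rw [← hj]
      exact ((Commute.refl t).zpow_left j).eq
    have htrh := trace_conj g t
    generalize g * t * g⁻¹ = h at hcomm htrh ⊢
    obtain ⟨a, b, hsp⟩ : ∃ a b : F, (h : Matrix (Fin 2) (Fin 2) F)
        = a • (1 : Matrix (Fin 2) (Fin 2) F) + b • (t : Matrix (Fin 2) (Fin 2) F) :=
      ⟨_, _, hspan h hcomm⟩
    have e00 : (h : Matrix (Fin 2) (Fin 2) F) 0 0 = a := by
      rw [hsp]; simp [hM00]
    have e11 : (h : Matrix (Fin 2) (Fin 2) F) 1 1 = a + b * t₀ := by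
      rw [hsp]; simp [hM11]
    rw [e00, e11, hM00, hM11, zero_add] at htrh
    have hnorm := eigen_norm (algebraMap F (AlgebraicClosure F)) _ hdet l hl0 htr a b
    rw [← hsp, h.det_coe, map_one] at hnorm
    have hsum : 2 * algebraMap F (AlgebraicClosure F) a
        + algebraMap F (AlgebraicClosure F) b * (l + l⁻¹) = l + l⁻¹ := by
      have := congrArg (algebraMap F (AlgebraicClosure F)) htrh
      rw [map_add, map_add, map_mul, ht₀] at this
      linear_combination this
    have hfac : (algebraMap F (AlgebraicClosure F) a + algebraMap F (AlgebraicClosure F) b * l - l)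
        * (algebraMap F (AlgebraicClosure F) a + algebraMap F (AlgebraicClosure F) b * l - l⁻¹)
          = 0 := by
      linear_combination (-1 : AlgebraicClosure F) * hnorm + hli
        + (algebraMap F (AlgebraicClosure F) a + algebraMap F (AlgebraicClosure F) b * l) * hsum
    rcases mul_eq_zero.mp hfac with h1 | h1
    · left
      have heq := eq_of_eigen_eq (algebraMap F (AlgebraicClosure F)) l hlF
        (t : Matrix (Fin 2) (Fin 2) F) a b 0 1
        (by rw [map_zero, map_one, zero_add, one_mul]; exact sub_eq_zero.mp h1)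
      apply Subtype.ext
      rw [hsp, heq, zero_smul, one_smul, zero_add]
    · right
      have heq := eq_of_eigen_eq (algebraMap F (AlgebraicClosure F)) l hlF
        (t : Matrix (Fin 2) (Fin 2) F) a b t₀ (-1)
        (by rw [map_neg, map_one, ht₀, sub_eq_zero.mp h1]; ring)
      apply Subtype.ext
      rw [hsp, heq, hinvt]
  -- centralizers of non-central elements of the torus
  have hN8 : ∀ g : Matrix.SpecialLinearGroup (Fin 2) F, g ∈ Subgroup.zpowers t →
      (g : Matrix (Fin 2) (Fin 2) F) ≠ 1 → (g : Matrix (Fin 2) (Fin 2) F) ≠ -1 →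
      ∀ h : Matrix.SpecialLinearGroup (Fin 2) F, h * g = g * h → h ∈ Subgroup.zpowers t := by
    intro g hg hg1 hg2 h hh
    have hcomm : g * t = t * g := by
      obtain ⟨j, hj⟩ := Subgroup.mem_zpowers_iff.mp hg
      rw [← hj]
      exact ((Commute.refl t).zpow_left j).eq
    obtain ⟨a, b, hsp⟩ : ∃ a b : F, (g : Matrix (Fin 2) (Fin 2) F)
        = a • (1 : Matrix (Fin 2) (Fin 2) F) + b • (t : Matrix (Fin 2) (Fin 2) F) :=
      ⟨_, _, hspan g hcomm⟩
    have hb : b ≠ 0 := by
      rintro rfl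
      rw [zero_smul, add_zero] at hsp
      have hdetg := g.det_coe
      rw [hsp, Matrix.det_smul, Matrix.det_one, Fintype.card_fin, mul_one] at hdetg
      have hfac : (a - 1) * (a + 1) = 0 := by linear_combination hdetg
      rcases mul_eq_zero.mp hfac with h1 | h1
      · apply hg1
        rw [hsp, sub_eq_zero.mp h1, one_smul]
      · apply hg2
        rw [hsp, eq_neg_of_add_eq_zero_left h1, neg_smul, one_smul]
    apply hC
    have h3 := congrArg (fun x : Matrix.SpecialLinearGroup (Fin 2) F =>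
      (x : Matrix (Fin 2) (Fin 2) F)) hh
    simp only [Matrix.SpecialLinearGroup.coe_mul] at h3
    rw [hsp, mul_add, add_mul, mul_smul_comm, smul_mul_assoc, mul_smul_comm, smul_mul_assoc,
      mul_one, one_mul] at h3
    have h4 := smul_right_injective _ hb (add_left_cancel h3)
    apply Subtype.ext
    rw [Matrix.SpecialLinearGroup.coe_mul, Matrix.SpecialLinearGroup.coe_mul]
    exact h4
  exact ⟨t₀, t, hM00, hM01, hM10, hM11, hordt, hC, hconj, hN8⟩

/-- `(2 : F) = 0` iff `|F|` is even. -/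
theorem two_eq_zero_of_even_card (heven : Even (Fintype.card F)) : (2 : F) = 0 := by
  have h1 : ringChar F = 2 := FiniteField.even_card_iff_char_two.mpr (Nat.even_iff.mp heven)
  have h2 := CharP.cast_eq_zero F (ringChar F)
  rw [h1] at h2
  exact_mod_cast h2

/-- The non-split torus package, every `q`. -/
theorem nonsplit_torus_pkg :
    ∃ t w : Matrix.SpecialLinearGroup (Fin 2) F, TorusPkg (Fintype.card F + 1) t w := by
  classical
  have hq2 : 1 < Fintype.card F := Fintype.one_lt_card
  rcases Nat.even_or_odd (Fintype.card F) with heven | hodd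
  · have h2 : (2 : F) = 0 := two_eq_zero_of_even_card heven
    obtain ⟨t₀, t, h00, h01, h10, h11, hord, hC, hconj, hN8⟩ := nonsplit_torus_core (F := F)
    have hcenter : ∀ g : Matrix.SpecialLinearGroup (Fin 2) F,
        g ∈ Subgroup.center (Matrix.SpecialLinearGroup (Fin 2) F) → g = 1 := by
      intro g hg
      obtain ⟨c, hc2, hc⟩ := (mem_center_iff_smul g).mp hg
      have hc1 : c = 1 := by
        have h3 : (c - 1) ^ 2 = 0 := by linear_combination hc2 + (1 - c) * h2
        exact sub_eq_zero.mp ((pow_eq_zero_iff (by norm_num)).mp h3)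
      apply Subtype.ext
      rw [hc, hc1, one_smul]
      rfl
    obtain ⟨w, hw00, hw01, hw10, hw11⟩ : ∃ w : Matrix.SpecialLinearGroup (Fin 2) F,
        (w : Matrix (Fin 2) (Fin 2) F) 0 0 = 1 ∧ (w : Matrix (Fin 2) (Fin 2) F) 0 1 = t₀ ∧
        (w : Matrix (Fin 2) (Fin 2) F) 1 0 = 0 ∧ (w : Matrix (Fin 2) (Fin 2) F) 1 1 = 1 :=
      ⟨mkSL 1 t₀ 0 1 (by ring), by simp, by simp, by simp, by simp⟩
    have hwt : w * t * w⁻¹ = t⁻¹ := by
      rw [mul_inv_eq_iff_eq_mul]
      apply Cfsg.Agent.Lib.helper98.sl2_ext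
      · simp only [Cfsg.Agent.Lib.helper98.sl2_mul_apply, Cfsg.Agent.Lib.helper98.sl2_inv_00,
          Cfsg.Agent.Lib.helper98.sl2_inv_01, h00, h01, h10, h11, hw00, hw01, hw10, hw11]
        ring
      · simp only [Cfsg.Agent.Lib.helper98.sl2_mul_apply, Cfsg.Agent.Lib.helper98.sl2_inv_00,
          Cfsg.Agent.Lib.helper98.sl2_inv_01, h00, h01, h10, h11, hw00, hw01, hw10, hw11]
        linear_combination (-1 : F) * h2
      · simp only [Cfsg.Agent.Lib.helper98.sl2_mul_apply, Cfsg.Agent.Lib.helper98.sl2_inv_10,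
          Cfsg.Agent.Lib.helper98.sl2_inv_11, h00, h01, h10, h11, hw00, hw01, hw10, hw11]
        linear_combination (1 : F) * h2
      · simp only [Cfsg.Agent.Lib.helper98.sl2_mul_apply, Cfsg.Agent.Lib.helper98.sl2_inv_10,
          Cfsg.Agent.Lib.helper98.sl2_inv_11, h00, h01, h10, h11, hw00, hw01, hw10, hw11]
        linear_combination t₀ * h2
    have hwT : w ∉ Subgroup.zpowers t := by
      intro hmem
      have hc := commute_of_mem_zpowers t _ hmem
      have h1 : w * t * w⁻¹ = t := by
        rw [hc]; group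
      rw [hwt] at h1
      have h3 : t ^ 2 = 1 := by
        rw [pow_two]
        nth_rewrite 1 [← h1]
        exact inv_mul_cancel t
      have h4 := orderOf_dvd_of_pow_eq_one h3
      rw [hord] at h4
      have := Nat.le_of_dvd (by norm_num) h4
      omega
    refine ⟨t, w, hord, hC, ?_, hconj, hwt, hwT, ?_, ?_⟩
    · intro x hx hxZ h hh
      refine hN8 x hx ?_ ?_ h hh
      · intro h1
        apply hxZ
        have : x = 1 := Subtype.ext h1
        rw [this]
        exact Subgroup.one_mem _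
      · intro h1
        apply hxZ
        rw [mem_center_iff_smul]
        exact ⟨-1, by ring, by rw [h1]; simp⟩
    · have : w * w = 1 := by
        apply Cfsg.Agent.Lib.helper98.sl2_ext
        · simp only [Cfsg.Agent.Lib.helper98.sl2_mul_apply, hw00, hw01, hw10, hw11,
            Cfsg.Agent.Lib.helper98.sl2_one_00]
          ring
        · simp only [Cfsg.Agent.Lib.helper98.sl2_mul_apply, hw00, hw01, hw10, hw11,
            Cfsg.Agent.Lib.helper98.sl2_one_01]
          linear_combination t₀ * h2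
        · simp only [Cfsg.Agent.Lib.helper98.sl2_mul_apply, hw00, hw01, hw10, hw11,
            Cfsg.Agent.Lib.helper98.sl2_one_10]
          ring
        · simp only [Cfsg.Agent.Lib.helper98.sl2_mul_apply, hw00, hw01, hw10, hw11,
            Cfsg.Agent.Lib.helper98.sl2_one_11]
          ring
      rw [this]
      exact Subgroup.one_mem _
    · intro g hg
      rw [hcenter g hg]
      exact Subgroup.one_mem _
  · obtain ⟨t, w, hord, hC, hconj, hinv, hw, htk, hN8, -⟩ := nonsplit_torus_data hodd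
    obtain ⟨k, hk⟩ := hodd
    have hn : (Fintype.card F + 1) / 2 = k + 1 := by omega
    rw [hn] at hord hinv htk
    have hk1 : 1 ≤ k := by omega
    obtain ⟨hwT, hw2⟩ := torus_w_sq (k + 1) (by omega) t w hord hC hinv hw
    refine ⟨t, w, by rw [hord]; omega, hC, ?_, hconj, hw, hwT, ?_, ?_⟩
    · intro x hx hxZ h hh
      refine hN8 x hx ?_ ?_ h hh
      · intro h1
        apply hxZ
        have : x = 1 := Subtype.ext h1
        rw [this]
        exact Subgroup.one_mem _
      · intro h1
        apply hxZ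
        rw [mem_center_iff_smul]
        exact ⟨-1, by ring, by rw [h1]; simp⟩
    · rw [mem_center_iff_smul]
      exact ⟨-1, by ring, by rw [hw2, htk]; simp⟩
    · intro g hg
      obtain ⟨c, hc2, hc⟩ := (mem_center_iff_smul g).mp hg
      have hfac : (c - 1) * (c + 1) = 0 := by linear_combination hc2
      rcases mul_eq_zero.mp hfac with h | h
      · have : g = 1 := by
          apply Subtype.ext
          rw [hc, sub_eq_zero.mp h, one_smul]
          rfl
        rw [this]
        exact Subgroup.one_mem _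
      · have : g = t ^ (k + 1) := by
          apply Subtype.ext
          rw [hc, eq_neg_of_add_eq_zero_left h, htk, neg_smul, one_smul]
        rw [this]
        exact Subgroup.pow_mem _ (Subgroup.mem_zpowers t) _

/-- The split torus package, `q ≥ 4`. -/
theorem split_torus_pkg (h4 : 4 ≤ Fintype.card F) :
    ∃ t w : Matrix.SpecialLinearGroup (Fin 2) F, TorusPkg (Fintype.card F - 1) t w := by
  classical
  obtain ⟨ζ, hζ⟩ := IsCyclic.exists_generator (α := Fˣ)
  have hord : orderOf ζ = Fintype.card F - 1 := by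
    rw [orderOf_eq_card_of_forall_mem_zpowers hζ, Nat.card_eq_fintype_card, Fintype.card_units]
  have hord' : orderOf (ζ : F) = Fintype.card F - 1 := by rw [orderOf_units]; exact hord
  have hζ2 : (ζ : F) ^ 2 ≠ 1 := by
    intro h
    have h3 := orderOf_dvd_of_pow_eq_one h
    rw [hord'] at h3
    have := Nat.le_of_dvd (by norm_num) h3
    omega
  have hrange : Subgroup.zpowers (diagHom ζ) = (diagHom : Fˣ →* _).range := by
    rw [← MonoidHom.map_zpowers, MonoidHom.range_eq_map]
    congr 1
    exact (Subgroup.eq_top_iff' _).mpr hζ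
  have hdiag : ∀ g : Matrix.SpecialLinearGroup (Fin 2) F, g ∈ Subgroup.zpowers (diagHom ζ) ↔
      ((g : Matrix (Fin 2) (Fin 2) F) 0 1 = 0 ∧ (g : Matrix (Fin 2) (Fin 2) F) 1 0 = 0) := by
    intro g
    rw [hrange, mem_range_diagHom]
  have ht01 : ((diagHom ζ : Matrix.SpecialLinearGroup (Fin 2) F) : Matrix (Fin 2) (Fin 2) F) 0 1 = 0 := by
    simp [diagHom_apply]
  have ht10 : ((diagHom ζ : Matrix.SpecialLinearGroup (Fin 2) F) : Matrix (Fin 2) (Fin 2) F) 1 0 = 0 := by
    simp [diagHom_apply]
  have ht00 : ((diagHom ζ : Matrix.SpecialLinearGroup (Fin 2) F) : Matrix (Fin 2) (Fin 2) F) 0 0 = ζ := by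
    simp [diagHom_apply]
  have ht11 : ((diagHom ζ : Matrix.SpecialLinearGroup (Fin 2) F) : Matrix (Fin 2) (Fin 2) F) 1 1
      = ((ζ⁻¹ : Fˣ) : F) := by
    simp [diagHom_apply]
  refine ⟨diagHom ζ, mkSL 0 1 (-1) 0 (by ring), ?_, ?_, ?_, ?_, ?_, ?_, ?_, ?_⟩
  · rw [orderOf_injective diagHom diagHom_injective, hord]
  · intro g hg
    rw [hdiag]
    refine (mem_centralizer_diag (diagHom ζ) ht01 ht10 (by rw [ht00]; exact hζ2) g).mp ?_
    rw [Subgroup.mem_centralizer_iff]
    intro h hh
    rw [Set.mem_singleton_iff] at hh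
    rw [hh]
    exact hg.symm
  · intro x hx hxZ h hh
    rw [hdiag] at hx ⊢
    have hdet := x.det_coe
    rw [Matrix.det_fin_two, hx.1, hx.2] at hdet
    have hx00 : (x : Matrix (Fin 2) (Fin 2) F) 0 0 ^ 2 ≠ 1 := by
      intro hsq
      apply hxZ
      rw [mem_center_iff_smul]
      refine ⟨(x : Matrix (Fin 2) (Fin 2) F) 0 0, hsq, ?_⟩
      have hd : (x : Matrix (Fin 2) (Fin 2) F) 1 1 = (x : Matrix (Fin 2) (Fin 2) F) 0 0 := by
        linear_combination (-(x : Matrix (Fin 2) (Fin 2) F) 1 1) * hsq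
          + (x : Matrix (Fin 2) (Fin 2) F) 0 0 * hdet
      ext i j
      fin_cases i <;> fin_cases j <;> simp [hx.1, hx.2, hd]
    refine (mem_centralizer_diag x hx.1 hx.2 hx00 h).mp ?_
    rw [Subgroup.mem_centralizer_iff]
    intro y hy
    rw [Set.mem_singleton_iff] at hy
    rw [hy]
    exact hh.symm
  · intro g hg
    rw [hrange] at hg
    obtain ⟨x, hx⟩ := hg
    have htr := trace_conj g (diagHom ζ)
    rw [← hx, ht00, ht11] at htr
    simp only [diagHom_apply] at htr
    have htr' : (x : F) + ((x⁻¹ : Fˣ) : F) = (ζ : F) + ((ζ⁻¹ : Fˣ) : F) := by simpa using htr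
    have hx0 : (x : F) ≠ 0 := x.ne_zero
    have hζ0 : (ζ : F) ≠ 0 := ζ.ne_zero
    have hfac : ((x : F) - ζ) * ((x : F) - ((ζ⁻¹ : Fˣ) : F)) = 0 := by
      rw [Units.val_inv_eq_inv_val, Units.val_inv_eq_inv_val] at htr'
      rw [Units.val_inv_eq_inv_val]
      have e : (x : F)⁻¹ * (x : F) = 1 := inv_mul_cancel₀ hx0
      have e' : (ζ : F) * (ζ : F)⁻¹ = 1 := mul_inv_cancel₀ hζ0
      linear_combination (x : F) * htr' - e + e'
    rcases mul_eq_zero.mp hfac with h | h
    · left
      rw [← hx]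
      exact congrArg diagHom (Units.ext (sub_eq_zero.mp h))
    · right
      rw [← hx, ← map_inv]
      exact congrArg diagHom (Units.ext (sub_eq_zero.mp h))
  · rw [mul_inv_eq_iff_eq_mul, ← map_inv]
    apply Subtype.ext
    simp only [Matrix.SpecialLinearGroup.coe_mul, diagHom_apply, mkSL_coe]
    ext i j
    fin_cases i <;> fin_cases j <;> simp [Matrix.mul_apply, Fin.sum_univ_two]
  · intro hmem
    have := ((hdiag _).mp hmem).1
    simp [mkSL_coe] at this
  · rw [mem_center_iff_smul]
    refine ⟨-1, by ring, ?_⟩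
    simp only [Matrix.SpecialLinearGroup.coe_mul, mkSL_coe]
    ext i j
    fin_cases i <;> fin_cases j <;> simp [Matrix.mul_apply, Fin.sum_univ_two]
  · intro g hg
    rw [hdiag]
    obtain ⟨c, -, hc⟩ := (mem_center_iff_smul g).mp hg
    rw [hc]
    simp

end TorusAll

end Cfsg.Agent.Lib.helper46
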