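import Mathlib
import Cfsg.Agent.Lib.helper49.SPEDefs

/-!
# S2333, piece ENORM: an anisotropic binary quadratic form in characteristic 2 takes each nonzero
value `a = bq a b c 1 0` at most `q + 1` times
-/

set_option autoImplicit false

namespace Cfsg.Agent.Lib.helper49.SPE

open Matrix

/-- ENORM (M) -/
theorem card_norm_le {F : Type*} [Field F] [Fintype F] (h2 : (2 : F) = 0) (a b c : F)
    (haniso : ∀ s t : F, bq a b c s t = 0 → s = 0 ∧ t = 0) :
    Nat.card {p : F × F // bq a b c p.1 p.2 = a} ≤ Fintype.card F + 1 := by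
  classical
  have ha : a ≠ 0 := by
    intro h0
    have h1 := haniso 1 0 (by unfold bq; rw [h0]; ring)
    exact one_ne_zero h1.1
  have hsq : ∀ κ κ' : F, κ ^ 2 = κ' ^ 2 → κ = κ' := by
    intro κ κ' h
    have h3 : (κ - κ') ^ 2 = 0 := by
      have h4 : (κ - κ') ^ 2 = κ ^ 2 + κ' ^ 2 - 2 * (κ * κ') := by ring
      have h5 : κ' ^ 2 + κ' ^ 2 = 2 * κ' ^ 2 := by ring
      rw [h4, h2, zero_mul, sub_zero, h, h5, h2, zero_mul]
    exact sub_eq_zero.1 (pow_eq_zero_iff (two_ne_zero (α := ℕ)) |>.1 h3)
  have hscale : ∀ κ p s : F, bq a b c (κ * p) (κ * s) = κ ^ 2 * bq a b c p s := by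
    intro κ p s
    unfold bq
    ring
  let Φ : Option (Fˣ × {p : F × F // bq a b c p.1 p.2 = a}) → F × F := fun o =>
    match o with
    | none => 0
    | some x => ((x.1 : F) * x.2.1.1, (x.1 : F) * x.2.1.2)
  have hΦ : Function.Injective Φ := by
    intro o o' h
    match o, o' with
    | none, none => rfl
    | none, some x =>
      exfalso
      have h1 : (0 : F × F) = ((x.1 : F) * x.2.1.1, (x.1 : F) * x.2.1.2) := h
      have h3 : x.2.1.1 = 0 := by
        have := congrArg Prod.fst h1
        simp only [Prod.fst_zero] at this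
        rcases mul_eq_zero.1 this.symm with h4 | h4
        · exact absurd h4 (Units.ne_zero _)
        · exact h4
      have h5 : x.2.1.2 = 0 := by
        have := congrArg Prod.snd h1
        simp only [Prod.snd_zero] at this
        rcases mul_eq_zero.1 this.symm with h4 | h4
        · exact absurd h4 (Units.ne_zero _)
        · exact h4
      have h6 := x.2.2
      rw [h3, h5] at h6
      apply ha
      rw [← h6]
      unfold bq
      ring
    | some x, none =>
      exfalso
      have h1 : ((x.1 : F) * x.2.1.1, (x.1 : F) * x.2.1.2) = (0 : F × F) := h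
      have h3 : x.2.1.1 = 0 := by
        have := congrArg Prod.fst h1
        simp only [Prod.fst_zero] at this
        rcases mul_eq_zero.1 this with h4 | h4
        · exact absurd h4 (Units.ne_zero _)
        · exact h4
      have h5 : x.2.1.2 = 0 := by
        have := congrArg Prod.snd h1
        simp only [Prod.snd_zero] at this
        rcases mul_eq_zero.1 this with h4 | h4
        · exact absurd h4 (Units.ne_zero _)
        · exact h4
      have h6 := x.2.2
      rw [h3, h5] at h6
      apply ha
      rw [← h6]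
      unfold bq
      ring
    | some x, some x' =>
      have h1 : ((x.1 : F) * x.2.1.1, (x.1 : F) * x.2.1.2)
          = ((x'.1 : F) * x'.2.1.1, (x'.1 : F) * x'.2.1.2) := h
      have hf := congrArg Prod.fst h1
      have hs := congrArg Prod.snd h1
      simp only at hf hs
      have h7 : (x.1 : F) ^ 2 * a = (x'.1 : F) ^ 2 * a := by
        have e1 := hscale (x.1 : F) x.2.1.1 x.2.1.2
        have e2 := hscale (x'.1 : F) x'.2.1.1 x'.2.1.2
        rw [x.2.2] at e1
        rw [x'.2.2] at e2
        rw [← e1, ← e2, hf, hs]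
      have h8 : (x.1 : F) = (x'.1 : F) := hsq _ _ (mul_right_cancel₀ ha h7)
      have h9 : x.1 = x'.1 := Units.ext h8
      have h10 : x.2.1.1 = x'.2.1.1 := by
        rw [h8] at hf
        exact mul_left_cancel₀ (Units.ne_zero _) hf
      have h11 : x.2.1.2 = x'.2.1.2 := by
        rw [h8] at hs
        exact mul_left_cancel₀ (Units.ne_zero _) hs
      have h12 : x.2 = x'.2 := Subtype.ext (Prod.ext h10 h11)
      rw [Option.some_inj]
      exact Prod.ext h9 h12
  have hcard := Fintype.card_le_of_injective Φ hΦ
  rw [Fintype.card_option, Fintype.card_prod, Fintype.card_prod, Fintype.card_units] at hcard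
  rw [Nat.card_eq_fintype_card]
  have hq2 : 2 ≤ Fintype.card F := Fintype.one_lt_card
  obtain ⟨t, ht⟩ : ∃ t, Fintype.card F = t + 1 := ⟨Fintype.card F - 1, by omega⟩
  rw [ht] at hcard ⊢
  rw [Nat.add_sub_cancel] at hcard
  have ht1 : 1 ≤ t := by omega
  by_contra hcon
  push Not at hcon
  have h13 : t * (t + 3) ≤ t * Fintype.card {p : F × F // bq a b c p.1 p.2 = a} :=
    Nat.mul_le_mul_left t (by omega)
  nlinarith

end Cfsg.Agent.Lib.helper49.SPE
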