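import Mathlib
import Cfsg.Agent.Lib.helper24.S6eDefs
import Cfsg.Agent.Lib.helper17.SympBasis
import Cfsg.Agent.Lib.helper17.SympPrim

/-!
S6002 piece BINV: involutions `≠ ±1` of `Sp_4(F)` (characteristic not 2) are conjugate in `Sp_4(F)`.
-/

set_option autoImplicit false

namespace Cfsg.Agent.Lib.helper24

open Matrix Cfsg Cfsg.Geo

/-- A hyperbolic pair inside the `ε`-eigenspace of an involution preserving the symplectic form. -/
theorem helper46_invol_pair {F : Type*} [Field F] (h2 : (2 : F) ≠ 0) (x : Matrix S6I S6I F)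
    (hx : ∀ u v : S6I → F, sympForm 2 F (x *ᵥ u) (x *ᵥ v) = sympForm 2 F u v) (hx2 : x * x = 1)
    (ε : F) (hε : ε * ε = 1) (hne : x ≠ (-ε) • (1 : Matrix S6I S6I F)) :
    ∃ a b : S6I → F, x *ᵥ a = ε • a ∧ x *ᵥ b = ε • b ∧ sympForm 2 F a b = 1 := by
  have hP : ∀ w : S6I → F, x *ᵥ (w + ε • x *ᵥ w) = ε • (w + ε • x *ᵥ w) := by
    intro w
    rw [Matrix.mulVec_add, Matrix.mulVec_smul, Matrix.mulVec_mulVec, hx2, Matrix.one_mulVec, smul_add,
      smul_smul, hε, one_smul, add_comm]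
  obtain ⟨w, hw⟩ : ∃ w : S6I → F, w + ε • x *ᵥ w ≠ 0 := by
    by_contra hcon
    push Not at hcon
    apply hne
    have hall : ∀ w : S6I → F, x *ᵥ w = ((-ε) • (1 : Matrix S6I S6I F)) *ᵥ w := by
      intro w
      have h := hcon w
      have h' : ε • (w + ε • x *ᵥ w) = 0 := by rw [h, smul_zero]
      rw [smul_add, smul_smul, hε, one_smul] at h'
      rw [Matrix.smul_mulVec, Matrix.one_mulVec, neg_smul]
      exact eq_neg_of_add_eq_zero_right h'
    apply Matrix.toLin'.injective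
    apply LinearMap.ext
    intro w
    rw [Matrix.toLin'_apply, Matrix.toLin'_apply]
    exact hall w
  have hxw : x *ᵥ (w + ε • x *ᵥ w) = ε • (w + ε • x *ᵥ w) := hP w
  generalize w + ε • x *ᵥ w = a at hw hxw
  obtain ⟨v, hv⟩ := Cfsg.Agent.Lib.helper17.exists_sympForm_ne_zero 2 a hw
  have key : sympForm 2 F a (x *ᵥ v) = ε * sympForm 2 F a v := by
    have h1 := hx a (x *ᵥ v)
    rw [Matrix.mulVec_mulVec, hx2, Matrix.one_mulVec, hxw, Cfsg.Agent.Lib.helper17.sympForm_smul_left] at h1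
    exact h1.symm
  have hav : sympForm 2 F a (v + ε • x *ᵥ v) = 2 * sympForm 2 F a v := by
    rw [Cfsg.Agent.Lib.helper17.sympForm_add_right, Cfsg.Agent.Lib.helper17.sympForm_smul_right, key,
      ← mul_assoc, hε]
    ring
  refine ⟨a, (2 * sympForm 2 F a v)⁻¹ • (v + ε • x *ᵥ v), hxw, ?_, ?_⟩
  · rw [Matrix.mulVec_smul, hP v, smul_comm]
  · rw [Cfsg.Agent.Lib.helper17.sympForm_smul_right, hav, inv_mul_cancel₀ (mul_ne_zero h2 hv)]

/-- An eigenbasis adapted to the form for an involution `≠ ±1` preserving the symplectic form. -/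
theorem helper46_invol_frame {F : Type*} [Field F] (h2 : (2 : F) ≠ 0) (x : Matrix S6I S6I F)
    (hx : ∀ u v : S6I → F, sympForm 2 F (x *ᵥ u) (x *ᵥ v) = sympForm 2 F u v) (hx2 : x * x = 1)
    (hx1 : x ≠ 1) (hx1' : x ≠ -1) :
    ∃ b : Fin 4 → (S6I → F), (∀ i, x *ᵥ b i = (![1, 1, -1, -1] : Fin 4 → F) i • b i) ∧
      (∀ i j, sympForm 2 F (b i) (b j) =
        (!![0, 1, 0, 0; -1, 0, 0, 0; 0, 0, 0, 1; 0, 0, -1, 0] : Matrix (Fin 4) (Fin 4) F) i j) := by
  obtain ⟨a, b, ha, hb, hab⟩ := helper46_invol_pair h2 x hx hx2 1 (one_mul 1)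
    (by rw [neg_smul, one_smul]; exact hx1')
  obtain ⟨c, d, hc, hd, hcd⟩ := helper46_invol_pair h2 x hx hx2 (-1) (by ring)
    (by rw [neg_neg, one_smul]; exact hx1)
  rw [one_smul] at ha hb
  rw [neg_smul, one_smul] at hc hd
  have orth : ∀ u v : S6I → F, x *ᵥ u = u → x *ᵥ v = -v → sympForm 2 F u v = 0 := by
    intro u v hu hv
    have h := hx u v
    rw [hu, hv, Cfsg.Agent.Lib.helper17.sympForm_neg_right] at h
    have h3 : (2 : F) * sympForm 2 F u v = 0 := by linear_combination -h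
    rcases mul_eq_zero.mp h3 with h | h
    · exact absurd h h2
    · exact h
  have orth' : ∀ u v : S6I → F, x *ᵥ u = u → x *ᵥ v = -v → sympForm 2 F v u = 0 := by
    intro u v hu hv
    rw [Cfsg.Agent.Lib.helper17.sympForm_swap, orth u v hu hv, neg_zero]
  have haa := Cfsg.Agent.Lib.helper17.sympForm_self 2 a
  have hbb := Cfsg.Agent.Lib.helper17.sympForm_self 2 b
  have hcc := Cfsg.Agent.Lib.helper17.sympForm_self 2 c
  have hdd := Cfsg.Agent.Lib.helper17.sympForm_self 2 d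
  have hba : sympForm 2 F b a = -1 := by rw [Cfsg.Agent.Lib.helper17.sympForm_swap, hab]
  have hdc : sympForm 2 F d c = -1 := by rw [Cfsg.Agent.Lib.helper17.sympForm_swap, hcd]
  have hac := orth a c ha hc
  have had := orth a d ha hd
  have hbc := orth b c hb hc
  have hbd := orth b d hb hd
  have hca := orth' a c ha hc
  have hda := orth' a d ha hd
  have hcb := orth' b c hb hc
  have hdb := orth' b d hb hd
  refine ⟨![a, b, c, d], ?_, ?_⟩
  · intro i
    fin_cases i <;> simp [ha, hb, hc, hd]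
  · intro i j
    fin_cases i <;> fin_cases j <;>
      simp [haa, hbb, hcc, hdd, hab, hba, hcd, hdc, hac, had, hbc, hbd, hca, hda, hcb, hdb]

theorem s6_conj_invol {F : Type*} [Field F] (h2 : (2 : F) ≠ 0) (x y : GL S6I F) (hx : x ∈ spGL 2 F) (hy : y ∈ spGL 2 F)
    (hx2 : (x : Matrix S6I S6I F) * (x : Matrix S6I S6I F) = 1) (hy2 : (y : Matrix S6I S6I F) * (y : Matrix S6I S6I F) = 1)
    (hx1 : (x : Matrix S6I S6I F) ≠ 1) (hx1' : (x : Matrix S6I S6I F) ≠ -1) (hy1 : (y : Matrix S6I S6I F) ≠ 1) (hy1' : (y : Matrix S6I S6I F) ≠ -1) :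
    ∃ g ∈ spGL 2 F, g⁻¹ * x * g = y := by
  have hxp : ∀ u v : S6I → F, sympForm 2 F ((x : Matrix S6I S6I F) *ᵥ u) ((x : Matrix S6I S6I F) *ᵥ v) =
      sympForm 2 F u v := hx
  have hyp : ∀ u v : S6I → F, sympForm 2 F ((y : Matrix S6I S6I F) *ᵥ u) ((y : Matrix S6I S6I F) *ᵥ v) =
      sympForm 2 F u v := hy
  obtain ⟨bx, hbx, hGx⟩ := helper46_invol_frame h2 _ hxp hx2 hx1 hx1'
  obtain ⟨by', hby, hGy⟩ := helper46_invol_frame h2 _ hyp hy2 hy1 hy1'
  have hli : ∀ b : Fin 4 → (S6I → F), (∀ i j, sympForm 2 F (b i) (b j) =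
      (!![0, 1, 0, 0; -1, 0, 0, 0; 0, 0, 0, 1; 0, 0, -1, 0] : Matrix (Fin 4) (Fin 4) F) i j) →
      LinearIndependent F b := by
    intro b hG
    refine Cfsg.Agent.Lib.helper17.linearIndependent_of_dual 2 b ![1, 0, 3, 2] ?_ ?_
    · intro a
      rw [hG]
      fin_cases a <;> simp
    · intro a c hca
      rw [hG]
      fin_cases a <;> fin_cases c <;> simp at hca ⊢
  obtain ⟨A, hA⟩ := Cfsg.Agent.Lib.helper17.sp_witt_family' 2 by' bx (hli by' hGy) (hli bx hGx)
    (fun i j => by rw [hGy, hGx])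
  obtain ⟨g, hg⟩ := Cfsg.Agent.Lib.helper17.exists_spGL 2 A.2
  refine ⟨g, g.2, ?_⟩
  have hmat : (x : Matrix S6I S6I F) * (A : Matrix S6I S6I F) =
      (A : Matrix S6I S6I F) * (y : Matrix S6I S6I F) := by
    have hspan : Submodule.span F (Set.range by') = ⊤ :=
      (hli by' hGy).span_eq_top_of_card_eq_finrank' (by simp)
    apply Matrix.toLin'.injective
    apply LinearMap.ext_on hspan
    rintro _ ⟨i, rfl⟩
    rw [Matrix.toLin'_apply, Matrix.toLin'_apply, ← Matrix.mulVec_mulVec, ← Matrix.mulVec_mulVec, hA, hby,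
      hbx, Matrix.mulVec_smul, hA]
  have hcomm : x * (g : GL S6I F) = (g : GL S6I F) * y := by
    apply Units.ext
    rw [Units.val_mul, Units.val_mul, hg]
    exact hmat
  rw [mul_assoc, hcomm, inv_mul_cancel_left]

end Cfsg.Agent.Lib.helper24
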