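import Mathlib
import Cfsg.Agent.Lib.helper24.S6eDefs
import Cfsg.Agent.Lib.helper17.SympBasis
import Cfsg.Agent.Lib.helper17.SympPrim
import Cfsg.Agent.Lib.helper17.SymmForm

/-!
S6002 piece BQRT (racer copy): elements of `Sp_4(F)` (`F` finite, odd) with square `-1` are conjugate in `Sp_4(F)`.
-/

set_option autoImplicit false

namespace Cfsg.Agent.Lib.helper24

open Matrix Cfsg Cfsg.Geo

/-- Normalisation: if `f(u, x u) ≠ 0` then some `α u + β x u` has value `1`. -/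
theorem helper46_quart_norm {F : Type*} [Field F] [Fintype F] (h2 : (2 : F) ≠ 0) (x : Matrix S6I S6I F)
    (hxx : ∀ v : S6I → F, x *ᵥ (x *ᵥ v) = -v)
    (hadj : ∀ u v : S6I → F, sympForm 2 F (x *ᵥ u) v = -sympForm 2 F u (x *ᵥ v))
    (u : S6I → F) (hu : sympForm 2 F u (x *ᵥ u) ≠ 0) :
    ∃ α β : F, sympForm 2 F (α • u + β • x *ᵥ u) (x *ᵥ (α • u + β • x *ᵥ u)) = 1 := by
  obtain ⟨α, β, hαβ⟩ := Cfsg.Agent.Lib.helper17.exists_sq_add_sq_eq_one h2 _ _ hu hu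
  refine ⟨α, β, ?_⟩
  have h1 : x *ᵥ (α • u + β • x *ᵥ u) = α • x *ᵥ u + (-β) • u := by
    rw [Matrix.mulVec_add, Matrix.mulVec_smul, Matrix.mulVec_smul, hxx, neg_smul, smul_neg]
  have h3 : sympForm 2 F (x *ᵥ u) u = -sympForm 2 F u (x *ᵥ u) := hadj u u
  rw [h1]
  simp only [Cfsg.Agent.Lib.helper17.sympForm_add_left, Cfsg.Agent.Lib.helper17.sympForm_add_right,
    Cfsg.Agent.Lib.helper17.sympForm_smul_left, Cfsg.Agent.Lib.helper17.sympForm_smul_right,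
    Cfsg.Agent.Lib.helper17.sympForm_self, h3]
  linear_combination hαβ

/-- The frame `(u₁, x u₁, u₂, x u₂)` for an element of square `-1` preserving the symplectic form. -/
theorem helper46_quart_frame {F : Type*} [Field F] [Fintype F] (h2 : (2 : F) ≠ 0) (x : Matrix S6I S6I F)
    (hx : ∀ u v : S6I → F, sympForm 2 F (x *ᵥ u) (x *ᵥ v) = sympForm 2 F u v) (hx2 : x * x = -1) :
    ∃ b : Fin 4 → (S6I → F),
      (∀ i, x *ᵥ b i = (![1, -1, 1, -1] : Fin 4 → F) i • b ((![1, 0, 3, 2] : Fin 4 → Fin 4) i)) ∧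
      (∀ i j, sympForm 2 F (b i) (b j) =
        (!![0, 1, 0, 0; -1, 0, 0, 0; 0, 0, 0, 1; 0, 0, -1, 0] : Matrix (Fin 4) (Fin 4) F) i j) := by
  have hxx : ∀ v : S6I → F, x *ᵥ (x *ᵥ v) = -v := by
    intro v
    rw [Matrix.mulVec_mulVec, hx2, Matrix.neg_mulVec, Matrix.one_mulVec]
  have hadj : ∀ u v : S6I → F, sympForm 2 F (x *ᵥ u) v = -sympForm 2 F u (x *ᵥ v) := by
    intro u v
    have h := hx u (x *ᵥ v)
    rw [hxx, Cfsg.Agent.Lib.helper17.sympForm_neg_right] at h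
    rw [← h, neg_neg]
  have hsym : ∀ u v : S6I → F, sympForm 2 F u (x *ᵥ v) = sympForm 2 F v (x *ᵥ u) := by
    intro u v
    rw [Cfsg.Agent.Lib.helper17.sympForm_swap 2 (x *ᵥ u) v, hadj, neg_neg]
  -- polarisation on a set closed under addition
  have hpol : ∀ u v : S6I → F, sympForm 2 F u (x *ᵥ u) = 0 → sympForm 2 F v (x *ᵥ v) = 0 →
      sympForm 2 F (u + v) (x *ᵥ (u + v)) = 0 → sympForm 2 F u (x *ᵥ v) = 0 := by
    intro u v hu hv huv
    rw [Matrix.mulVec_add, Cfsg.Agent.Lib.helper17.sympForm_add_left,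
      Cfsg.Agent.Lib.helper17.sympForm_add_right, Cfsg.Agent.Lib.helper17.sympForm_add_right, hu, hv,
      hsym v u] at huv
    have h3 : (2 : F) * sympForm 2 F u (x *ᵥ v) = 0 := by linear_combination huv
    rcases mul_eq_zero.mp h3 with h | h
    · exact absurd h h2
    · exact h
  -- first vector
  obtain ⟨u₀, hu₀⟩ : ∃ u : S6I → F, sympForm 2 F u (x *ᵥ u) ≠ 0 := by
    by_contra hcon
    push Not at hcon
    have hne : (fun _ : S6I => (1 : F)) ≠ 0 := fun h => one_ne_zero (congrFun h (Sum.inl 0))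
    obtain ⟨w, hw⟩ := Cfsg.Agent.Lib.helper17.exists_sympForm_ne_zero 2 _ hne
    apply hw
    have h := hpol (fun _ : S6I => (1 : F)) (-(x *ᵥ w)) (hcon _) (hcon _) (hcon _)
    rwa [Matrix.mulVec_neg, hxx, neg_neg] at h
  obtain ⟨α, β, hu₁⟩ := helper46_quart_norm h2 x hxx hadj u₀ hu₀
  generalize α • u₀ + β • x *ᵥ u₀ = u₁ at hu₁
  have hu₁' : sympForm 2 F (x *ᵥ u₁) u₁ = -1 := by rw [hadj, hu₁]
  -- the projection onto the orthogonal complement of ⟨u₁, x u₁⟩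
  have hπ1 : ∀ w : S6I → F, sympForm 2 F
      (w - sympForm 2 F w (x *ᵥ u₁) • u₁ + sympForm 2 F w u₁ • x *ᵥ u₁) u₁ = 0 := by
    intro w
    simp only [Cfsg.Agent.Lib.helper17.sympForm_add_left, Cfsg.Agent.Lib.helper17.sympForm_sub_left,
      Cfsg.Agent.Lib.helper17.sympForm_smul_left, Cfsg.Agent.Lib.helper17.sympForm_self, hu₁']
    ring
  have hπ2 : ∀ w : S6I → F, sympForm 2 F
      (w - sympForm 2 F w (x *ᵥ u₁) • u₁ + sympForm 2 F w u₁ • x *ᵥ u₁) (x *ᵥ u₁) = 0 := by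
    intro w
    simp only [Cfsg.Agent.Lib.helper17.sympForm_add_left, Cfsg.Agent.Lib.helper17.sympForm_sub_left,
      Cfsg.Agent.Lib.helper17.sympForm_smul_left, Cfsg.Agent.Lib.helper17.sympForm_self, hu₁]
    ring
  -- closure of the complement under `x`
  have hperp_x : ∀ v : S6I → F, sympForm 2 F v u₁ = 0 → sympForm 2 F v (x *ᵥ u₁) = 0 →
      sympForm 2 F (x *ᵥ v) u₁ = 0 ∧ sympForm 2 F (x *ᵥ v) (x *ᵥ u₁) = 0 := by
    intro v h1 h2'
    exact ⟨by rw [hadj, h2', neg_zero], by rw [hx, h1]⟩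
  -- a vector of the complement with non-zero value
  obtain ⟨v₀, hv₀a, hv₀b, hv₀⟩ : ∃ v : S6I → F, sympForm 2 F v u₁ = 0 ∧ sympForm 2 F v (x *ᵥ u₁) = 0 ∧
      sympForm 2 F v (x *ᵥ v) ≠ 0 := by
    by_contra hcon
    push Not at hcon
    -- a non-zero vector of the complement
    obtain ⟨w₀, hw₀⟩ : ∃ w : S6I → F,
        w - sympForm 2 F w (x *ᵥ u₁) • u₁ + sympForm 2 F w u₁ • x *ᵥ u₁ ≠ 0 := by
      by_contra hall
      push Not at hall
      have h4 : Module.finrank F (S6I → F) = 4 := by simp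
      have hle := finrank_range_le_card (R := F) (![u₁, x *ᵥ u₁] : Fin 2 → (S6I → F))
      have htop : Submodule.span F (Set.range (![u₁, x *ᵥ u₁] : Fin 2 → (S6I → F))) = ⊤ := by
        rw [eq_top_iff]
        intro w _
        have hw : w = sympForm 2 F w (x *ᵥ u₁) • u₁ - sympForm 2 F w u₁ • x *ᵥ u₁ := by
          have h := hall w
          rw [sub_add, sub_eq_zero] at h
          exact h
        rw [hw]
        apply Submodule.sub_mem
        · exact Submodule.smul_mem _ _ (Submodule.subset_span ⟨0, rfl⟩)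
        · exact Submodule.smul_mem _ _ (Submodule.subset_span ⟨1, rfl⟩)
      rw [Set.finrank, htop, finrank_top, h4] at hle
      simp at hle
    obtain ⟨t, ht⟩ := Cfsg.Agent.Lib.helper17.exists_sympForm_ne_zero 2 _ hw₀
    apply ht
    generalize hv : w₀ - sympForm 2 F w₀ (x *ᵥ u₁) • u₁ + sympForm 2 F w₀ u₁ • x *ᵥ u₁ = v at hw₀ ht ⊢
    have hva : sympForm 2 F v u₁ = 0 := by rw [← hv]; exact hπ1 w₀
    have hvb : sympForm 2 F v (x *ᵥ u₁) = 0 := by rw [← hv]; exact hπ2 w₀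
    -- the projection of `t`
    have hta := hπ1 t
    have htb := hπ2 t
    have hvt : sympForm 2 F v (t - sympForm 2 F t (x *ᵥ u₁) • u₁ + sympForm 2 F t u₁ • x *ᵥ u₁) =
        sympForm 2 F v t := by
      simp only [Cfsg.Agent.Lib.helper17.sympForm_add_right, Cfsg.Agent.Lib.helper17.sympForm_sub_right,
        Cfsg.Agent.Lib.helper17.sympForm_smul_right, hva, hvb]
      ring
    generalize t - sympForm 2 F t (x *ᵥ u₁) • u₁ + sympForm 2 F t u₁ • x *ᵥ u₁ = t' at hta htb hvt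
    -- `v' = -(x t')` lies in the complement and `x v' = t'`
    obtain ⟨hxa, hxb⟩ := hperp_x t' hta htb
    have hv'a : sympForm 2 F (-(x *ᵥ t')) u₁ = 0 := by
      rw [Cfsg.Agent.Lib.helper17.sympForm_neg_left, hxa, neg_zero]
    have hv'b : sympForm 2 F (-(x *ᵥ t')) (x *ᵥ u₁) = 0 := by
      rw [Cfsg.Agent.Lib.helper17.sympForm_neg_left, hxb, neg_zero]
    have hsum_a : sympForm 2 F (v + -(x *ᵥ t')) u₁ = 0 := by
      rw [Cfsg.Agent.Lib.helper17.sympForm_add_left, hva, hv'a, add_zero]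
    have hsum_b : sympForm 2 F (v + -(x *ᵥ t')) (x *ᵥ u₁) = 0 := by
      rw [Cfsg.Agent.Lib.helper17.sympForm_add_left, hvb, hv'b, add_zero]
    have h := hpol v (-(x *ᵥ t')) (hcon v hva hvb) (hcon _ hv'a hv'b) (hcon _ hsum_a hsum_b)
    rw [Matrix.mulVec_neg, hxx, neg_neg] at h
    rw [← hvt, h]
  obtain ⟨γ, δ, hu₂⟩ := helper46_quart_norm h2 x hxx hadj v₀ hv₀
  obtain ⟨hxa, hxb⟩ := hperp_x v₀ hv₀a hv₀b
  have hu₂a : sympForm 2 F (γ • v₀ + δ • x *ᵥ v₀) u₁ = 0 := by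
    rw [Cfsg.Agent.Lib.helper17.sympForm_add_left, Cfsg.Agent.Lib.helper17.sympForm_smul_left,
      Cfsg.Agent.Lib.helper17.sympForm_smul_left, hv₀a, hxa]
    ring
  have hu₂b : sympForm 2 F (γ • v₀ + δ • x *ᵥ v₀) (x *ᵥ u₁) = 0 := by
    rw [Cfsg.Agent.Lib.helper17.sympForm_add_left, Cfsg.Agent.Lib.helper17.sympForm_smul_left,
      Cfsg.Agent.Lib.helper17.sympForm_smul_left, hv₀b, hxb]
    ring
  generalize γ • v₀ + δ • x *ᵥ v₀ = u₂ at hu₂ hu₂a hu₂b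
  have hu₂' : sympForm 2 F (x *ᵥ u₂) u₂ = -1 := by rw [hadj, hu₂]
  obtain ⟨hxu₂a, hxu₂b⟩ := hperp_x u₂ hu₂a hu₂b
  have h12 : sympForm 2 F u₁ u₂ = 0 := by rw [Cfsg.Agent.Lib.helper17.sympForm_swap, hu₂a, neg_zero]
  have h1x2 : sympForm 2 F u₁ (x *ᵥ u₂) = 0 := by rw [hsym, hu₂b]
  have hx12 : sympForm 2 F (x *ᵥ u₁) u₂ = 0 := by rw [Cfsg.Agent.Lib.helper17.sympForm_swap, hu₂b, neg_zero]
  have hx1x2 : sympForm 2 F (x *ᵥ u₁) (x *ᵥ u₂) = 0 := by rw [hx, h12]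
  have h11 := Cfsg.Agent.Lib.helper17.sympForm_self 2 u₁
  have h22 := Cfsg.Agent.Lib.helper17.sympForm_self 2 u₂
  have hx1x1 := Cfsg.Agent.Lib.helper17.sympForm_self 2 (x *ᵥ u₁)
  have hx2x2 := Cfsg.Agent.Lib.helper17.sympForm_self 2 (x *ᵥ u₂)
  refine ⟨![u₁, x *ᵥ u₁, u₂, x *ᵥ u₂], ?_, ?_⟩
  · intro i
    fin_cases i <;> simp [hxx]
  · intro i j
    fin_cases i <;> fin_cases j <;>
      simp [hu₁, hu₁', hu₂, hu₂', hu₂a, hu₂b, hxu₂a, hxu₂b, h12, h1x2, hx12, hx1x2, h11, h22, hx1x1, hx2x2]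

theorem helper46_s6_conj_quart {F : Type*} [Field F] [Fintype F] (h2 : (2 : F) ≠ 0) (x y : GL S6I F) (hx : x ∈ spGL 2 F)
    (hy : y ∈ spGL 2 F) (hx2 : (x : Matrix S6I S6I F) * (x : Matrix S6I S6I F) = -1) (hy2 : (y : Matrix S6I S6I F) * (y : Matrix S6I S6I F) = -1) :
    ∃ g ∈ spGL 2 F, g⁻¹ * x * g = y := by
  have hxp : ∀ u v : S6I → F, sympForm 2 F ((x : Matrix S6I S6I F) *ᵥ u) ((x : Matrix S6I S6I F) *ᵥ v) =
      sympForm 2 F u v := hx
  have hyp : ∀ u v : S6I → F, sympForm 2 F ((y : Matrix S6I S6I F) *ᵥ u) ((y : Matrix S6I S6I F) *ᵥ v) =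
      sympForm 2 F u v := hy
  obtain ⟨bx, hbx, hGx⟩ := helper46_quart_frame h2 _ hxp hx2
  obtain ⟨by', hby, hGy⟩ := helper46_quart_frame h2 _ hyp hy2
  have hli : ∀ b : Fin 4 → (S6I → F), (∀ i j, sympForm 2 F (b i) (b j) =
      (!![0, 1, 0, 0; -1, 0, 0, 0; 0, 0, 0, 1; 0, 0, -1, 0] : Matrix (Fin 4) (Fin 4) F) i j) →
      LinearIndependent F b := by
    intro b hG
    refine Cfsg.Agent.Lib.helper17.linearIndependent_of_dual 2 b ![1, 0, 3, 2] ?_ ?_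
    · intro a
      rw [hG]
      fin_cases a <;> simp
    · intro a c hca
      rw [hG]
      fin_cases a <;> fin_cases c <;> simp at hca ⊢
  obtain ⟨A, hA⟩ := Cfsg.Agent.Lib.helper17.sp_witt_family' 2 by' bx (hli by' hGy) (hli bx hGx)
    (fun i j => by rw [hGy, hGx])
  obtain ⟨g, hg⟩ := Cfsg.Agent.Lib.helper17.exists_spGL 2 A.2
  refine ⟨g, g.2, ?_⟩
  have hmat : (x : Matrix S6I S6I F) * (A : Matrix S6I S6I F) =
      (A : Matrix S6I S6I F) * (y : Matrix S6I S6I F) := by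
    have hspan : Submodule.span F (Set.range by') = ⊤ :=
      (hli by' hGy).span_eq_top_of_card_eq_finrank' (by simp)
    apply Matrix.toLin'.injective
    apply LinearMap.ext_on hspan
    rintro _ ⟨i, rfl⟩
    rw [Matrix.toLin'_apply, Matrix.toLin'_apply, ← Matrix.mulVec_mulVec, ← Matrix.mulVec_mulVec, hA, hby,
      hbx, Matrix.mulVec_smul, hA]
  have hcomm : x * (g : GL S6I F) = (g : GL S6I F) * y := by
    apply Units.ext
    rw [Units.val_mul, Units.val_mul, hg]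
    exact hmat
  rw [mul_assoc, hcomm, inv_mul_cancel_left]

end Cfsg.Agent.Lib.helper24
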