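import Mathlib

/-!
# Automorphisms of odd prime order preserving an "anisotropic" quadratic map (helper46)

`E`, `T` elementary abelian `2`-groups, `|T| ≤ 4`, `S : E → T` a quadratic map (its polar form
`B(x,y) = S(xy)S(x)S(y)` is bimultiplicative) with at most one nontrivial zero.  An endomorphism
`γ` of odd prime order `l` preserving `S` has `l ∈ {3, 5}` (`quad_aut_prime`), and automorphisms of
orders `3` and `5` cannot both occur under the extra hypothesis `hZ0` (`quad_aut_not_both`).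
Proof due to helper14 (support lemmas for S3117).
-/

set_option autoImplicit false

namespace Cfsg.Agent.Lib.helper46

section QuadAnis

variable {E T : Type*} [Group E] [CommGroup T]

theorem e2_comm (hE : ∀ x : E, x * x = 1) (x y : E) : x * y = y * x := by
  have hx : x⁻¹ = x := inv_eq_of_mul_eq_one_left (hE x)
  have hy : y⁻¹ = y := inv_eq_of_mul_eq_one_left (hE y)
  have hxy : (x * y)⁻¹ = x * y := inv_eq_of_mul_eq_one_left (hE (x * y))
  calc x * y = (x * y)⁻¹ := hxy.symm
    _ = y⁻¹ * x⁻¹ := mul_inv_rev x y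
    _ = y * x := by rw [hx, hy]

/-- The polar form of `S`. -/
def qB (S : E → T) (x y : E) : T := S (x * y) * S x * S y

theorem quadS_one (S : E → T) (hT : ∀ t : T, t * t = 1)
    (hB : ∀ x y z : E, S (x * (y * z)) * S x * S (y * z) =
      (S (x * y) * S x * S y) * (S (x * z) * S x * S z)) : S 1 = 1 := by
  have h := hB 1 1 1
  simp only [mul_one] at h
  have h1 : S 1 * S 1 = 1 := hT _
  calc S 1 = S 1 * S 1 * S 1 := by rw [h1, one_mul]
    _ = (S 1 * S 1 * S 1) * (S 1 * S 1 * S 1) := h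
    _ = 1 := by rw [h1, one_mul, h1]

theorem quad_Y (S : E → T) (hT : ∀ t : T, t * t = 1)
    (hB : ∀ x y z : E, S (x * (y * z)) * S x * S (y * z) =
      (S (x * y) * S x * S y) * (S (x * z) * S x * S z)) (u : T)
    (hP : ∀ a b : T, a ≠ 1 → a ≠ u → b ≠ 1 → b ≠ u → a * b = 1 ∨ a * b = u)
    (y1 y2 y3 : E)
    (h1 : S y1 ≠ 1 ∧ S y1 ≠ u) (h2 : S y2 ≠ 1 ∧ S y2 ≠ u) (h3 : S y3 ≠ 1 ∧ S y3 ≠ u)
    (h12 : S (y1 * y2) ≠ 1 ∧ S (y1 * y2) ≠ u) (h13 : S (y1 * y3) ≠ 1 ∧ S (y1 * y3) ≠ u)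
    (h23 : S (y2 * y3) ≠ 1 ∧ S (y2 * y3) ≠ u)
    (h123 : S (y1 * (y2 * y3)) ≠ 1 ∧ S (y1 * (y2 * y3)) ≠ u) : False := by
  have huu : u * u = 1 := hT u
  have prod3 : ∀ a b c : T, (a ≠ 1 ∧ a ≠ u) → (b ≠ 1 ∧ b ≠ u) → (c ≠ 1 ∧ c ≠ u) →
      (a * b * c ≠ 1 ∧ a * b * c ≠ u) := by
    intro a b c ha hb hc
    rcases hP a b ha.1 ha.2 hb.1 hb.2 with h | h
    · rw [h, one_mul]
      exact hc
    · rw [h]
      constructor
      · intro h'
        apply hc.2
        calc c = (u * u) * c := by rw [huu, one_mul]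
          _ = u * (u * c) := mul_assoc _ _ _
          _ = u := by rw [h', mul_one]
      · intro h'
        apply hc.1
        have h'' : u * c = u * 1 := by rw [h', mul_one]
        exact mul_left_cancel h''
  have hB1 := prod3 _ _ _ h12 h1 h2
  have hB2 := prod3 _ _ _ h13 h1 h3
  have hB3 := prod3 _ _ _ h123 h1 h23
  rw [hB y1 y2 y3] at hB3
  rcases hP _ _ hB1.1 hB1.2 hB2.1 hB2.2 with h | h
  · exact hB3.1 h
  · exact hB3.2 h

theorem quad_Yc (S : E → T) (hT : ∀ t : T, t * t = 1)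
    (hB : ∀ x y z : E, S (x * (y * z)) * S x * S (y * z) =
      (S (x * y) * S x * S y) * (S (x * z) * S x * S z)) (u : T) (hu : u ≠ 1)
    (y1 y2 y3 : E) (h1 : S y1 = u) (h2 : S y2 = u) (h3 : S y3 = u)
    (h12 : S (y1 * y2) = u) (h13 : S (y1 * y3) = u) (h23 : S (y2 * y3) = u)
    (h123 : S (y1 * (y2 * y3)) = u) : False := by
  have huu : u * u = 1 := hT u
  have h := hB y1 y2 y3
  rw [h123, h1, h23, h12, h2, h13, h3, huu, one_mul, huu] at h
  exact hu h

theorem quad_P [Finite T] (hT : ∀ t : T, t * t = 1) (hcT : Nat.card T ≤ 4) (u : T)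
    (hu : u ≠ 1) :
    ∀ a b : T, a ≠ 1 → a ≠ u → b ≠ 1 → b ≠ u → a * b = 1 ∨ a * b = u := by
  classical
  intro a b ha1 hau hb1 hbu
  by_contra hcon
  push Not at hcon
  obtain ⟨hab1, habu⟩ := hcon
  have hne_ab : a ≠ b := by
    rintro rfl
    exact hab1 (hT a)
  have h1 : a * b ≠ a := by
    intro h
    apply hb1
    have h' : a * b = a * 1 := by rw [h, mul_one]
    exact mul_left_cancel h'
  have h2 : a * b ≠ b := by
    intro h
    apply ha1
    have h' : a * b = 1 * b := by rw [h, one_mul]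
    exact mul_right_cancel h'
  have hnd : ([1, u, a, b, a * b] : List T).Nodup := by
    rw [List.nodup_cons, List.nodup_cons, List.nodup_cons, List.nodup_cons]
    refine ⟨?_, ?_, ?_, ?_, List.nodup_singleton _⟩
    · intro h
      simp only [List.mem_cons, List.not_mem_nil, or_false] at h
      rcases h with h | h | h | h
      · exact hu h.symm
      · exact ha1 h.symm
      · exact hb1 h.symm
      · exact hab1 h.symm
    · intro h
      simp only [List.mem_cons, List.not_mem_nil, or_false] at h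
      rcases h with h | h | h
      · exact hau h.symm
      · exact hbu h.symm
      · exact habu h.symm
    · intro h
      simp only [List.mem_cons, List.not_mem_nil, or_false] at h
      rcases h with h | h
      · exact hne_ab h
      · exact h1 h.symm
    · intro h
      simp only [List.mem_cons, List.not_mem_nil, or_false] at h
      exact h2 h.symm
  have := Fintype.ofFinite T
  have hc : ([1, u, a, b, a * b] : List T).toFinset.card = 5 := by
    rw [List.toFinset_card_of_nodup hnd]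
    rfl
  have h5 : 5 ≤ Fintype.card T := hc ▸ Finset.card_le_univ _
  rw [Nat.card_eq_fintype_card] at hcT
  omega

theorem exists_mem_not_mem_finset (W : Subgroup E) (s : Finset E) (h : s.card < Nat.card W) :
    ∃ w ∈ W, w ∉ s := by
  by_contra hcon
  push Not at hcon
  have hinj : Function.Injective (fun w : W => (⟨w.1, hcon w.1 w.2⟩ : s)) := by
    intro w w' hww
    have h2 : (w : E) = w' := congrArg (fun z : ↥s => (z : E)) hww
    exact Subtype.ext h2
  have h1 := Nat.card_le_card_of_injective _ hinj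
  rw [Nat.card_eq_fintype_card (α := ↥s), Fintype.card_coe] at h1
  omega

theorem exists_indep_triple [DecidableEq E] (hE : ∀ x : E, x * x = 1) (W : Subgroup E)
    (X : Finset E) (hW : 4 * X.card < Nat.card W) :
    ∃ y1 ∈ W, ∃ y2 ∈ W, ∃ y3 ∈ W, y1 ∉ X ∧ y2 ∉ X ∧ y3 ∉ X ∧ y1 * y2 ∉ X ∧ y1 * y3 ∉ X ∧
      y2 * y3 ∉ X ∧ y1 * (y2 * y3) ∉ X := by
  have hcancel : ∀ a b t : E, a * b = t → b = a * t := by
    intro a b t h
    rw [← h, ← mul_assoc, hE, one_mul]
  have himg : ∀ a : E, (X.image (fun t => a * t)).card ≤ X.card := fun a => Finset.card_image_le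
  obtain ⟨y1, hy1, h1⟩ := exists_mem_not_mem_finset W X (by omega)
  obtain ⟨y2, hy2, h2⟩ := exists_mem_not_mem_finset W (X ∪ X.image (fun t => y1 * t)) (by
    have := Finset.card_union_le X (X.image (fun t => y1 * t))
    have := himg y1
    omega)
  obtain ⟨y3, hy3, h3⟩ := exists_mem_not_mem_finset W
    (X ∪ X.image (fun t => y1 * t) ∪ X.image (fun t => y2 * t) ∪
      X.image (fun t => (y1 * y2) * t)) (by
    have e1 := Finset.card_union_le (X ∪ X.image (fun t => y1 * t) ∪ X.image (fun t => y2 * t))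
      (X.image (fun t => (y1 * y2) * t))
    have e2 := Finset.card_union_le (X ∪ X.image (fun t => y1 * t)) (X.image (fun t => y2 * t))
    have e3 := Finset.card_union_le X (X.image (fun t => y1 * t))
    have := himg y1
    have := himg y2
    have := himg (y1 * y2)
    omega)
  simp only [Finset.mem_union, Finset.mem_image, not_or, not_exists, not_and] at h2 h3
  refine ⟨y1, hy1, y2, hy2, y3, hy3, h1, h2.1, h3.1.1.1, ?_, ?_, ?_, ?_⟩
  · intro h
    exact h2.2 _ h (hcancel _ _ _ rfl).symm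
  · intro h
    exact h3.1.1.2 _ h (hcancel _ _ _ rfl).symm
  · intro h
    exact h3.1.2 _ h (hcancel _ _ _ rfl).symm
  · intro h
    rw [← mul_assoc] at h
    exact h3.2 _ h (hcancel _ _ _ rfl).symm

theorem quad_no_NU [DecidableEq E] (S : E → T) (hE : ∀ x : E, x * x = 1)
    (hT : ∀ t : T, t * t = 1)
    (hB : ∀ x y z : E, S (x * (y * z)) * S x * S (y * z) =
      (S (x * y) * S x * S y) * (S (x * z) * S x * S z)) (u : T)
    (hP : ∀ a b : T, a ≠ 1 → a ≠ u → b ≠ 1 → b ≠ u → a * b = 1 ∨ a * b = u)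
    (W : Subgroup E) (X : Finset E) (hWX : 4 * X.card < Nat.card W)
    (hNU : ∀ w ∈ W, w ∉ X → S w ≠ 1 ∧ S w ≠ u) : False := by
  obtain ⟨y1, hy1, y2, hy2, y3, hy3, h1, h2, h3, h12, h13, h23, h123⟩ :=
    exists_indep_triple hE W X hWX
  exact quad_Y S hT hB u hP y1 y2 y3 (hNU y1 hy1 h1) (hNU y2 hy2 h2) (hNU y3 hy3 h3)
    (hNU _ (W.mul_mem hy1 hy2) h12) (hNU _ (W.mul_mem hy1 hy3) h13)
    (hNU _ (W.mul_mem hy2 hy3) h23) (hNU _ (W.mul_mem hy1 (W.mul_mem hy2 hy3)) h123)

theorem quad_no_const [DecidableEq E] (S : E → T) (hE : ∀ x : E, x * x = 1)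
    (hT : ∀ t : T, t * t = 1)
    (hB : ∀ x y z : E, S (x * (y * z)) * S x * S (y * z) =
      (S (x * y) * S x * S y) * (S (x * z) * S x * S z)) (u : T) (hu : u ≠ 1)
    (W : Subgroup E) (X : Finset E) (hWX : 4 * X.card < Nat.card W)
    (hc : ∀ w ∈ W, w ∉ X → S w = u) : False := by
  obtain ⟨y1, hy1, y2, hy2, y3, hy3, h1, h2, h3, h12, h13, h23, h123⟩ :=
    exists_indep_triple hE W X hWX
  exact quad_Yc S hT hB u hu y1 y2 y3 (hc y1 hy1 h1) (hc y2 hy2 h2) (hc y3 hy3 h3)
    (hc _ (W.mul_mem hy1 hy2) h12) (hc _ (W.mul_mem hy1 hy3) h13)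
    (hc _ (W.mul_mem hy2 hy3) h23) (hc _ (W.mul_mem hy1 (W.mul_mem hy2 hy3)) h123)

/-- Fixed-point counting for a self-map of prime order on an invariant finite set. -/
theorem card_modEq_card_fixed {α : Type*} [DecidableEq α] (γ : α → α) (l : ℕ) [Fact l.Prime]
    (hγ : ∀ x, γ^[l] x = x) (A : Finset α) (hA : ∀ x ∈ A, γ x ∈ A) :
    A.card ≡ (A.filter (fun x => γ x = x)).card [MOD l] := by
  obtain ⟨f, hf⟩ : ∃ f : ↥A → ↥A, ∀ a : ↥A, (f a).1 = γ a.1 :=
    ⟨fun a => ⟨γ a.1, hA a.1 a.2⟩, fun a => rfl⟩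
  have hiter : ∀ (k : ℕ) (a : ↥A), ((f^[k]) a).1 = γ^[k] a.1 := by
    intro k
    induction k with
    | zero => intro a; rfl
    | succ k ih =>
      intro a
      rw [Function.iterate_succ_apply', Function.iterate_succ_apply', hf, ih]
  have key : ∀ g : Function.End ↥A, (∀ a, g a = f a) → g ^ l ^ 1 = 1 := by
    intro g hgf
    rw [pow_one]
    have h1 := hom_coe_pow (fun g : Function.End ↥A ↦ (g : ↥A → ↥A)) rfl (fun g h ↦ rfl) g l
    have hfun : (fun a => g a) = f := funext hgf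
    have h3 : ∀ a, (g ^ l) a = a := by
      intro a
      have h4 := congrFun h1 a
      have h5 : (fun a => g a)^[l] a = f^[l] a := congrFun (congrArg (fun h : ↥A → ↥A => h^[l]) hfun) a
      apply Subtype.ext
      have h6 : ((g ^ l) a : α) = ((f^[l]) a : α) := congrArg Subtype.val (h4.trans h5)
      rw [h6, hiter, hγ]
    exact funext h3
  have h := Equiv.Perm.card_fixedPoints_modEq (f := @id (Function.End ↥A) f) (p := l) (n := 1)
    (key _ (fun a => rfl))
  have e : ↥(Function.fixedPoints (@id (Function.End ↥A) f)) ≃ ↥(A.filter (fun x => γ x = x)) :=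
    { toFun := fun a => ⟨a.1.1, Finset.mem_filter.mpr ⟨a.1.2, by
        have h2 : f a.1 = a.1 := a.2
        rw [← hf, h2]⟩⟩
      invFun := fun b => ⟨⟨b.1, (Finset.mem_filter.mp b.2).1⟩, by
        show f _ = _
        apply Subtype.ext
        rw [hf]
        exact (Finset.mem_filter.mp b.2).2⟩
      left_inv := fun a => rfl
      right_inv := fun b => rfl }
  rw [Fintype.card_eq_nat_card, Fintype.card_eq_nat_card] at h
  rw [Nat.card_eq_fintype_card (α := ↥A), Fintype.card_coe, Nat.card_congr e,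
    Nat.card_eq_fintype_card, Fintype.card_coe] at h
  exact h

theorem injective_of_iterate {α : Type*} (γ : α → α) (l : ℕ) (hl : 0 < l)
    (hγ : ∀ x, γ^[l] x = x) : Function.Injective γ := by
  intro x y hxy
  obtain ⟨k, hk⟩ : ∃ k, l = k + 1 := ⟨l - 1, by omega⟩
  have h2 : γ^[k + 1] x = γ^[k + 1] y := by
    rw [Function.iterate_succ_apply, Function.iterate_succ_apply, hxy]
  rw [← hk, hγ, hγ] at h2
  exact h2

theorem card_four_disjoint {α : Type*} [DecidableEq α] (s1 s2 s3 s4 F : Finset α)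
    (h12 : Disjoint s1 s2) (h13 : Disjoint s1 s3) (h14 : Disjoint s1 s4) (h23 : Disjoint s2 s3)
    (h24 : Disjoint s2 s4) (h34 : Disjoint s3 s4) (hs1 : s1 ⊆ F) (hs2 : s2 ⊆ F) (hs3 : s3 ⊆ F)
    (hs4 : s4 ⊆ F) : s1.card + s2.card + s3.card + s4.card ≤ F.card := by
  have hd3 : Disjoint (s1 ∪ s2) s3 := Finset.disjoint_union_left.mpr ⟨h13, h23⟩
  have hd4 : Disjoint (s1 ∪ s2 ∪ s3) s4 :=
    Finset.disjoint_union_left.mpr ⟨Finset.disjoint_union_left.mpr ⟨h14, h24⟩, h34⟩
  have hsub : s1 ∪ s2 ∪ s3 ∪ s4 ⊆ F :=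
    Finset.union_subset (Finset.union_subset (Finset.union_subset hs1 hs2) hs3) hs4
  have h := Finset.card_le_card hsub
  rw [Finset.card_union_of_disjoint hd4, Finset.card_union_of_disjoint hd3,
    Finset.card_union_of_disjoint h12] at h
  exact h

/-- The map `x ↦ x * γ x`. -/
def quadMu (hE : ∀ x : E, x * x = 1) (γ : E →* E) : E →* E where
  toFun x := x * γ x
  map_one' := by rw [map_one, mul_one]
  map_mul' x y := by
    rw [map_mul]
    calc x * y * (γ x * γ y) = x * (y * γ x) * γ y := by group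
      _ = x * (γ x * y) * γ y := by rw [e2_comm hE y (γ x)]
      _ = x * γ x * (y * γ y) := by group

theorem quadMu_apply (hE : ∀ x : E, x * x = 1) (γ : E →* E) (x : E) :
    quadMu hE γ x = x * γ x := rfl

theorem quadMu_ker (hE : ∀ x : E, x * x = 1) (γ : E →* E) (x : E) :
    x ∈ (quadMu hE γ).ker ↔ γ x = x := by
  rw [MonoidHom.mem_ker, quadMu_apply]
  constructor
  · intro h
    have h1 : x * γ x = x * x := by rw [h, hE]
    exact mul_left_cancel h1
  · intro h
    rw [h, hE]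

theorem quad_kernel [Finite E] [Finite T] (S : E → T) (hT : ∀ t : T, t * t = 1)
    (hcT : Nat.card T ≤ 4)
    (hB : ∀ x y z : E, S (x * (y * z)) * S x * S (y * z) =
      (S (x * y) * S x * S y) * (S (x * z) * S x * S z)) (M : Subgroup E) (x : E) :
    ∃ W : Subgroup E, (∀ w, w ∈ W ↔ (w ∈ M ∧ qB S x w = 1)) ∧ Nat.card M ≤ 4 * Nat.card W ∧
      Nat.card W ∣ Nat.card M := by
  have hS1 := quadS_one S hT hB
  obtain ⟨φ, hφ⟩ : ∃ φ : ↥M →* T, ∀ y : ↥M, φ y = qB S x y.1 :=
    ⟨{ toFun := fun y => qB S x y.1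
       map_one' := by
        show qB S x 1 = 1
        unfold qB
        rw [mul_one, hS1, mul_one, hT]
       map_mul' := fun y z => hB x y.1 z.1 }, fun y => rfl⟩
  have hcard : Nat.card (φ.ker.map M.subtype) = Nat.card φ.ker :=
    (Nat.card_congr (φ.ker.equivMapOfInjective M.subtype M.subtype_injective).toEquiv).symm
  refine ⟨φ.ker.map M.subtype, ?_, ?_, ?_⟩
  · intro w
    constructor
    · rintro ⟨y, hy, rfl⟩
      refine ⟨y.2, ?_⟩
      have h1 : φ y = 1 := hy
      rw [hφ] at h1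
      exact h1
    · rintro ⟨hw, hq⟩
      refine ⟨⟨w, hw⟩, ?_, rfl⟩
      show φ ⟨w, hw⟩ = 1
      rw [hφ]
      exact hq
  · rw [hcard]
    have h1 := φ.ker.card_mul_index
    rw [Subgroup.index_ker] at h1
    have h2 : Nat.card φ.range ≤ 4 := le_trans (Subgroup.card_le_card_group _) hcT
    calc Nat.card M = Nat.card φ.ker * Nat.card φ.range := h1.symm
      _ ≤ Nat.card φ.ker * 4 := Nat.mul_le_mul_left _ h2
      _ = 4 * Nat.card φ.ker := mul_comm _ _
  · rw [hcard]
    exact Subgroup.card_subgroup_dvd_card φ.ker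

theorem card_subgroup_eq_filter [Fintype E] [DecidableEq E] (M : Subgroup E)
    [DecidablePred (· ∈ M)] :
    Nat.card M = (Finset.univ.filter (fun x : E => x ∈ M)).card := by
  rw [Nat.card_eq_fintype_card]
  exact Fintype.card_of_subtype _ (fun x => by simp)

theorem quad_fix_range (hE : ∀ x : E, x * x = 1) (γ : E →* E) (l : ℕ) (hodd : Odd l)
    (hγ : ∀ x, γ^[l] x = x) (m : E) (hm : m ∈ (quadMu hE γ).range) (hfix : γ m = m) : m = 1 := by
  obtain ⟨x, rfl⟩ := hm
  rw [quadMu_apply] at hfix ⊢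
  have hγx : γ x = x * (x * γ x) := by rw [← mul_assoc, hE, one_mul]
  have hiter : ∀ k : ℕ, γ^[k] x = x * (x * γ x) ^ k := by
    intro k
    induction k with
    | zero => rw [Function.iterate_zero, id, pow_zero, mul_one]
    | succ k ih =>
      rw [Function.iterate_succ_apply', ih, map_mul, map_pow, hfix, pow_succ', ← mul_assoc,
        ← hγx]
  have h1 := hiter l
  rw [hγ] at h1
  have h2 : (x * γ x) ^ l = 1 := by
    have h3 : x * 1 = x * (x * γ x) ^ l := by rw [mul_one]; exact h1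
    exact (mul_left_cancel h3).symm
  obtain ⟨k, rfl⟩ := hodd
  rw [pow_succ, pow_mul, pow_two, hE, one_pow, one_mul] at h2
  exact h2

theorem quad_structure [Finite E] [Finite T] (S : E → T)
    (hE : ∀ x : E, x * x = 1) (hT : ∀ t : T, t * t = 1) (hcT : Nat.card T ≤ 4)
    (hB : ∀ x y z : E, S (x * (y * z)) * S x * S (y * z) =
      (S (x * y) * S x * S y) * (S (x * z) * S x * S z))
    (hZ1 : ∀ x y : E, S x = 1 → S y = 1 → x ≠ 1 → y ≠ 1 → x = y)
    (γ : E →* E) (l : ℕ) (hl : l.Prime) (hl2 : l ≠ 2) (hγ : ∀ x, γ^[l] x = x)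
    (hγ1 : ∃ x, γ x ≠ x) (hS : ∀ x, S (γ x) = S x) :
    (∀ m ∈ (quadMu hE γ).range, γ m ∈ (quadMu hE γ).range) ∧
    (∀ m ∈ (quadMu hE γ).range, γ m = m → m = 1) ∧
    (∀ m ∈ (quadMu hE γ).range, m ≠ 1 → S m ≠ 1) ∧
    ((Nat.card (quadMu hE γ).range = 4 ∧ l = 3) ∨
      (Nat.card (quadMu hE γ).range = 16 ∧ (l = 3 ∨ l = 5))) := by
  classical
  have := Fintype.ofFinite E
  have : Fact l.Prime := ⟨hl⟩
  have hodd : Odd l := hl.odd_of_ne_two hl2
  have hinj : Function.Injective γ := injective_of_iterate γ l hl.pos hγ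
  obtain ⟨M, hM⟩ : ∃ M : Subgroup E, M = (quadMu hE γ).range := ⟨_, rfl⟩
  rw [← hM]
  have hinv : ∀ m ∈ M, γ m ∈ M := by
    intro m hm
    rw [hM] at hm ⊢
    obtain ⟨x, rfl⟩ := hm
    exact ⟨γ x, by rw [quadMu_apply, quadMu_apply, map_mul]⟩
  have hfix : ∀ m ∈ M, γ m = m → m = 1 := fun m hm h =>
    quad_fix_range hE γ l hodd hγ m (hM ▸ hm) h
  have hani : ∀ m ∈ M, m ≠ 1 → S m ≠ 1 := by
    intro m hm hm1 hSm
    apply hm1
    apply hfix m hm
    have hγm1 : γ m ≠ 1 := by
      intro h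
      apply hm1
      apply hinj
      rw [h, map_one]
    exact (hZ1 m (γ m) hSm (by rw [hS, hSm]) hm1 hγm1).symm
  refine ⟨hinv, hfix, hani, ?_⟩
  obtain ⟨x0, hx0⟩ := hγ1
  obtain ⟨m0, hm0def⟩ : ∃ m0 : E, m0 = x0 * γ x0 := ⟨_, rfl⟩
  have hm0 : m0 ∈ M := by
    rw [hM, hm0def]
    exact ⟨x0, rfl⟩
  have hm01 : m0 ≠ 1 := by
    intro h
    apply hx0
    rw [hm0def] at h
    have h1 : x0 * γ x0 = x0 * x0 := by rw [h, hE]
    exact mul_left_cancel h1
  have hcardA := card_subgroup_eq_filter M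
  have hmod := card_modEq_card_fixed (⇑γ) l hγ (Finset.univ.filter (fun x : E => x ∈ M))
    (fun x hx => by
      rw [Finset.mem_filter] at hx ⊢
      exact ⟨Finset.mem_univ _, hinv x hx.2⟩)
  have hfixset : (Finset.univ.filter (fun x : E => x ∈ M)).filter (fun x => γ x = x) = {1} := by
    ext x
    simp only [Finset.mem_filter, Finset.mem_univ, true_and, Finset.mem_singleton]
    constructor
    · rintro ⟨hx, hx2⟩
      exact hfix x hx hx2
    · rintro rfl
      exact ⟨M.one_mem, map_one γ⟩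
  rw [hfixset, Finset.card_singleton, ← hcardA] at hmod
  have hp : IsPGroup 2 M := by
    intro g
    refine ⟨1, ?_⟩
    rw [pow_one, pow_two]
    exact Subtype.ext (hE g.1)
  obtain ⟨n, hn⟩ := (IsPGroup.iff_card (p := 2) (G := M)).mp hp
  have hu : S m0 ≠ 1 := hani m0 hm0 hm01
  have hX : Nat.card M ≤ 32 := by
    obtain ⟨W, hW, hWc, -⟩ := quad_kernel S hT hcT hB M m0
    by_contra hcon
    push Not at hcon
    have hWc2 : 4 * ({1, m0} : Finset E).card < Nat.card W := by
      have : ({1, m0} : Finset E).card ≤ 2 := Finset.card_le_two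
      omega
    apply quad_no_NU S hE hT hB (S m0) (quad_P hT hcT (S m0) hu) W {1, m0} hWc2
    intro w hw hwX
    rw [Finset.mem_insert, Finset.mem_singleton, not_or] at hwX
    obtain ⟨hwM, hq⟩ := (hW w).mp hw
    refine ⟨hani w hwM hwX.1, ?_⟩
    intro hSw
    unfold qB at hq
    rw [hSw, mul_assoc, hT, mul_one] at hq
    have h1 : m0 * w = 1 := by
      by_contra h
      exact hani (m0 * w) (M.mul_mem hm0 hwM) h hq
    apply hwX.2
    have h2 : m0 * w = m0 * m0 := by rw [h1, hE]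
    exact mul_left_cancel h2
  have hTr : l + 1 = Nat.card M → 8 ≤ Nat.card M → False := by
    intro hlM h8
    obtain ⟨A, hA⟩ : ∃ A : Finset E,
        A = Finset.univ.filter (fun y : E => y ∈ M ∧ y ≠ 1 ∧ S y = S m0) := ⟨_, rfl⟩
    have hAmem : ∀ y, y ∈ A ↔ (y ∈ M ∧ y ≠ 1 ∧ S y = S m0) := by
      intro y
      rw [hA, Finset.mem_filter]
      exact ⟨fun h => h.2, fun h => ⟨Finset.mem_univ _, h⟩⟩
    have hAinv : ∀ y ∈ A, γ y ∈ A := by
      intro y hy
      rw [hAmem] at hy ⊢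
      refine ⟨hinv y hy.1, ?_, ?_⟩
      · intro h
        apply hy.2.1
        apply hinj
        rw [h, map_one]
      · rw [hS]
        exact hy.2.2
    have hAmod := card_modEq_card_fixed (⇑γ) l hγ A hAinv
    have hAfix : A.filter (fun x => γ x = x) = ∅ := by
      rw [Finset.filter_eq_empty_iff]
      intro y hy hfy
      rw [hAmem] at hy
      exact hy.2.1 (hfix y hy.1 hfy)
    rw [hAfix, Finset.card_empty] at hAmod
    have hm0A : m0 ∈ A := (hAmem m0).mpr ⟨hm0, hm01, rfl⟩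
    have hApos : 0 < A.card := Finset.card_pos.mpr ⟨m0, hm0A⟩
    have hAl : l ≤ A.card := Nat.le_of_dvd hApos ((Nat.modEq_zero_iff_dvd).mp hAmod)
    have hAsub : A ⊆ (Finset.univ.filter (fun x : E => x ∈ M)).erase 1 := by
      intro y hy
      rw [hAmem] at hy
      rw [Finset.mem_erase, Finset.mem_filter]
      exact ⟨hy.2.1, Finset.mem_univ _, hy.1⟩
    have hcE : ((Finset.univ.filter (fun x : E => x ∈ M)).erase 1).card = l := by
      rw [Finset.card_erase_of_mem (by
        rw [Finset.mem_filter]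
        exact ⟨Finset.mem_univ _, M.one_mem⟩), ← hcardA]
      omega
    have hAeq : A = (Finset.univ.filter (fun x : E => x ∈ M)).erase 1 :=
      Finset.eq_of_subset_of_card_le hAsub (by rw [hcE]; exact hAl)
    apply quad_no_const S hE hT hB (S m0) hu M {1} (by rw [Finset.card_singleton]; omega)
    intro w hw hw1
    rw [Finset.mem_singleton] at hw1
    have hwA : w ∈ A := by
      rw [hAeq, Finset.mem_erase, Finset.mem_filter]
      exact ⟨hw1, Finset.mem_univ _, hw⟩
    exact ((hAmem w).mp hwA).2.2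
  have hn5 : n ≤ 5 := by
    by_contra hcon
    push Not at hcon
    have h64 : 2 ^ 6 ≤ 2 ^ n := Nat.pow_le_pow_right (by norm_num) hcon
    omega
  have hpos : 1 ≤ Nat.card M := Nat.card_pos
  have hdvd : l ∣ Nat.card M - 1 := (Nat.modEq_iff_dvd' hpos).mp hmod.symm
  have hl1 := hl.one_lt
  interval_cases n
  · exfalso
    have hbot := Subgroup.eq_bot_of_card_eq M (by rw [hn]; norm_num)
    rw [hbot] at hm0
    exact hm01 (Subgroup.mem_bot.mp hm0)
  · exfalso
    rw [hn] at hdvd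
    have h1 : l = 1 := Nat.dvd_one.mp hdvd
    omega
  · left
    rw [hn] at hdvd
    refine ⟨by rw [hn]; norm_num, ?_⟩
    rcases (Nat.dvd_prime Nat.prime_three).mp hdvd with h | h
    · omega
    · exact h
  · exfalso
    have h8 : Nat.card M = 8 := by rw [hn]; norm_num
    rw [h8] at hdvd
    rcases (Nat.dvd_prime (by norm_num : Nat.Prime 7)).mp hdvd with h | h
    · omega
    · exact hTr (by omega) (by omega)
  · right
    have h16 : Nat.card M = 16 := by rw [hn]; norm_num
    refine ⟨h16, ?_⟩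
    rw [h16] at hdvd
    have h15 : l ∣ 3 * 5 := hdvd
    rcases (Nat.Prime.dvd_mul hl).mp h15 with h | h
    · exact Or.inl ((Nat.prime_dvd_prime_iff_eq hl Nat.prime_three).mp h)
    · exact Or.inr ((Nat.prime_dvd_prime_iff_eq hl Nat.prime_five).mp h)
  · exfalso
    have h32 : Nat.card M = 32 := by rw [hn]; norm_num
    rw [h32] at hdvd
    rcases (Nat.dvd_prime (by norm_num : Nat.Prime 31)).mp hdvd with h | h
    · omega
    · exact hTr (by omega) (by omega)

theorem quad_aut_prime [Finite E] [Finite T] (S : E → T)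
    (hE : ∀ x : E, x * x = 1) (hT : ∀ t : T, t * t = 1) (hcT : Nat.card T ≤ 4)
    (hB : ∀ x y z : E, S (x * (y * z)) * S x * S (y * z) =
      (S (x * y) * S x * S y) * (S (x * z) * S x * S z))
    (hZ1 : ∀ x y : E, S x = 1 → S y = 1 → x ≠ 1 → y ≠ 1 → x = y)
    (γ : E →* E) (l : ℕ) (hl : l.Prime) (hl2 : l ≠ 2) (hγ : ∀ x, γ^[l] x = x)
    (hγ1 : ∃ x, γ x ≠ x) (hS : ∀ x, S (γ x) = S x) : l = 3 ∨ l = 5 := by
  obtain ⟨-, -, -, h⟩ := quad_structure S hE hT hcT hB hZ1 γ l hl hl2 hγ hγ1 hS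
  rcases h with ⟨-, h⟩ | ⟨-, h⟩
  · exact Or.inl h
  · exact h

/-- Fixed-point counting on a fibre of `S` (minus the identity). -/
theorem quad_fibre_mod [Fintype E] [DecidableEq E] [DecidableEq T] (S : E → T) (γ : E →* E)
    (l : ℕ) [Fact l.Prime] (hγ : ∀ x, γ^[l] x = x) (hS : ∀ x, S (γ x) = S x) (u : T) :
    (Finset.univ.filter (fun y : E => y ≠ 1 ∧ S y = u)).card ≡
      ((Finset.univ.filter (fun y : E => y ≠ 1 ∧ S y = u)).filter (fun x => γ x = x)).card
        [MOD l] := by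
  have hinj : Function.Injective γ := injective_of_iterate γ l (Fact.out : l.Prime).pos hγ
  apply card_modEq_card_fixed (⇑γ) l hγ
  intro y hy
  rw [Finset.mem_filter] at hy ⊢
  refine ⟨Finset.mem_univ _, ?_, ?_⟩
  · intro h
    apply hy.2.1
    apply hinj
    rw [h, map_one]
  · rw [hS]
    exact hy.2.2

theorem quad_aut_not_both [Finite E] [Finite T] (S : E → T)
    (hE : ∀ x : E, x * x = 1) (hT : ∀ t : T, t * t = 1) (hcT : Nat.card T ≤ 4)
    (hB : ∀ x y z : E, S (x * (y * z)) * S x * S (y * z) =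
      (S (x * y) * S x * S y) * (S (x * z) * S x * S z))
    (hZ1 : ∀ x y : E, S x = 1 → S y = 1 → x ≠ 1 → y ≠ 1 → x = y)
    (hZ0 : (∃ x : E, x ≠ 1 ∧ S x = 1) → ∀ a b : T, a ≠ 1 → b ≠ 1 → a = b)
    (γ₃ γ₅ : E →* E) (h3 : ∀ x, γ₃^[3] x = x) (h5 : ∀ x, γ₅^[5] x = x)
    (h31 : ∃ x, γ₃ x ≠ x) (h51 : ∃ x, γ₅ x ≠ x)
    (hS3 : ∀ x, S (γ₃ x) = S x) (hS5 : ∀ x, S (γ₅ x) = S x) : False := by
  classical
  have := Fintype.ofFinite E
  have hp5 : Fact (Nat.Prime 5) := ⟨Nat.prime_five⟩
  have hp3 : Fact (Nat.Prime 3) := ⟨Nat.prime_three⟩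
  obtain ⟨hinv5, hfix5, hani5, hc5⟩ := quad_structure S hE hT hcT hB hZ1 γ₅ 5 Nat.prime_five
    (by norm_num) h5 h51 hS5
  obtain ⟨-, -, -, hc3⟩ := quad_structure S hE hT hcT hB hZ1 γ₃ 3 Nat.prime_three
    (by norm_num) h3 h31 hS3
  have hker3 := (quadMu hE γ₃).ker.card_mul_index
  rw [Subgroup.index_ker] at hker3
  have hker5 := (quadMu hE γ₅).ker.card_mul_index
  rw [Subgroup.index_ker] at hker5
  obtain ⟨M5, hM5def⟩ : ∃ M : Subgroup E, M = (quadMu hE γ₅).range := ⟨_, rfl⟩
  rw [← hM5def] at hinv5 hfix5 hani5 hc5 hker5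
  have hM5 : Nat.card M5 = 16 := by
    rcases hc5 with ⟨-, h⟩ | ⟨h, -⟩
    · omega
    · exact h
  have hM3 : Nat.card (quadMu hE γ₃).range = 4 ∨ Nat.card (quadMu hE γ₃).range = 16 := by
    rcases hc3 with ⟨h, -⟩ | ⟨h, -⟩
    · exact Or.inl h
    · exact Or.inr h
  -- every nonidentity value is attained on `M5`
  have hatt : ∀ u : T, u ≠ 1 → ∃ y ∈ M5, y ≠ 1 ∧ S y = u := by
    intro u hu
    by_contra hcon
    push Not at hcon
    apply quad_no_NU S hE hT hB u (quad_P hT hcT u hu) M5 {1}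
      (by rw [Finset.card_singleton]; omega)
    intro w hw hw1
    rw [Finset.mem_singleton] at hw1
    exact ⟨hani5 w hw hw1, hcon w hw hw1⟩
  have hTne : ¬ (∀ a b : T, a ≠ 1 → b ≠ 1 → a = b) := by
    intro hall
    apply quad_no_NU S hE hT hB 1
      (fun a b ha _ hb _ => Or.inl (by rw [hall a b ha hb]; exact hT b)) M5 {1}
      (by rw [Finset.card_singleton]; omega)
    intro w hw hw1
    rw [Finset.mem_singleton] at hw1
    exact ⟨hani5 w hw hw1, hani5 w hw hw1⟩
  have haniE : ∀ x : E, x ≠ 1 → S x ≠ 1 := by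
    intro x hx hSx
    exact hTne (hZ0 ⟨x, hx, hSx⟩)
  push Not at hTne
  obtain ⟨a, b, ha, hb, hab⟩ := hTne
  -- the fixed points of `γ₅` are trivial
  have hfixE5 : ∀ f : E, γ₅ f = f → f = 1 := by
    intro f hf
    by_contra hf1
    obtain ⟨W, hW, hWc, hWd⟩ := quad_kernel S hT hcT hB M5 f
    have hWinv : ∀ w ∈ (Finset.univ.filter (fun x : E => x ∈ W)),
        γ₅ w ∈ (Finset.univ.filter (fun x : E => x ∈ W)) := by
      intro w hw
      rw [Finset.mem_filter] at hw ⊢
      refine ⟨Finset.mem_univ _, ?_⟩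
      obtain ⟨hwM, hq⟩ := (hW w).mp hw.2
      refine (hW _).mpr ⟨hinv5 w hwM, ?_⟩
      unfold qB at hq ⊢
      have h1 : f * γ₅ w = γ₅ (f * w) := by rw [map_mul, hf]
      rw [h1, hS5, hS5]
      exact hq
    have hWmod := card_modEq_card_fixed (⇑γ₅) 5 h5 _ hWinv
    have hWfix : (Finset.univ.filter (fun x : E => x ∈ W)).filter (fun x => γ₅ x = x) = {1} := by
      ext x
      simp only [Finset.mem_filter, Finset.mem_univ, true_and, Finset.mem_singleton]
      constructor
      · rintro ⟨hx, hx2⟩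
        exact hfix5 x ((hW x).mp hx).1 hx2
      · rintro rfl
        exact ⟨W.one_mem, map_one γ₅⟩
    rw [hWfix, Finset.card_singleton, ← card_subgroup_eq_filter W] at hWmod
    rw [hM5] at hWc hWd
    have key : ∀ c : ℕ, c ∣ 16 → 16 ≤ 4 * c → c ≡ 1 [MOD 5] → c = 16 := by
      intro c hd h4 hmod
      have hle : c ≤ 16 := Nat.le_of_dvd (by norm_num) hd
      unfold Nat.ModEq at hmod
      interval_cases c <;> omega
    have hW16 : Nat.card W = 16 := key _ hWd hWc hWmod
    have hWle : W ≤ M5 := fun w hw => ((hW w).mp hw).1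
    have hWeq : W = M5 := Subgroup.eq_of_le_of_card_ge hWle (by rw [hW16, hM5])
    obtain ⟨y, hyM, hy1, hSy⟩ := hatt (S f) (haniE f hf1)
    have hyW : y ∈ W := by rw [hWeq]; exact hyM
    have hq := ((hW y).mp hyW).2
    unfold qB at hq
    rw [hSy, mul_assoc, hT, mul_one] at hq
    have hfy : f * y = 1 := by
      by_contra h
      exact haniE _ h hq
    have hfy2 : f = y := by
      have h2 : f * y = y * y := by rw [hfy, hE]
      exact mul_right_cancel h2
    rw [hfy2] at hf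
    exact hy1 (hfix5 y hyM hf)
  have hkerbot : (quadMu hE γ₅).ker = ⊥ := by
    rw [Subgroup.eq_bot_iff_forall]
    intro x hx
    exact hfixE5 x ((quadMu_ker hE γ₅ x).mp hx)
  have hcardE : Nat.card E = 16 := by
    rw [hkerbot, Subgroup.card_bot, one_mul] at hker5
    rw [← hker5]
    exact hM5
  -- the three fibres
  have hfib : ∀ u : T, u ≠ 1 →
      (Finset.univ.filter (fun y : E => y ≠ 1 ∧ S y = u)).card ≠ 0 ∧
      5 ∣ (Finset.univ.filter (fun y : E => y ≠ 1 ∧ S y = u)).card := by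
    intro u hu
    have hAmod := quad_fibre_mod S γ₅ 5 h5 hS5 u
    have hAfix : (Finset.univ.filter (fun y : E => y ≠ 1 ∧ S y = u)).filter
        (fun x => γ₅ x = x) = ∅ := by
      rw [Finset.filter_eq_empty_iff]
      intro y hy hfy
      rw [Finset.mem_filter] at hy
      exact hy.2.1 (hfixE5 y hfy)
    rw [hAfix, Finset.card_empty] at hAmod
    obtain ⟨y, -, hy1, hSy⟩ := hatt u hu
    refine ⟨?_, (Nat.modEq_zero_iff_dvd).mp hAmod⟩
    apply Finset.card_ne_zero_of_mem (a := y)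
    rw [Finset.mem_filter]
    exact ⟨Finset.mem_univ _, hy1, hSy⟩
  have hdisj : ∀ u v : T, u ≠ v → Disjoint (Finset.univ.filter (fun y : E => y ≠ 1 ∧ S y = u))
      (Finset.univ.filter (fun y : E => y ≠ 1 ∧ S y = v)) := by
    intro u v huv
    rw [Finset.disjoint_left]
    intro y hy hy'
    rw [Finset.mem_filter] at hy hy'
    exact huv (hy.2.2.symm.trans hy'.2.2)
  have hdisj1 : ∀ u : T, Disjoint (Finset.univ.filter (fun y : E => y ≠ 1 ∧ S y = u))
      ({1} : Finset E) := by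
    intro u
    rw [Finset.disjoint_left]
    intro y hy hy'
    rw [Finset.mem_filter] at hy
    rw [Finset.mem_singleton] at hy'
    exact hy.2.1 hy'
  have hab1 : a * b ≠ 1 := by
    intro h
    apply hab
    have h2 : a * b = b * b := by rw [h, hT]
    exact mul_right_cancel h2
  have haba : a ≠ a * b := by
    intro h
    apply hb
    have h2 : a * 1 = a * b := by rw [mul_one]; exact h
    exact (mul_left_cancel h2).symm
  have habb : b ≠ a * b := by
    intro h
    apply ha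
    have h2 : 1 * b = a * b := by rw [one_mul]; exact h
    exact (mul_right_cancel h2).symm
  have hsum := card_four_disjoint _ _ _ _ (Finset.univ : Finset E) (hdisj a b hab)
    (hdisj a (a * b) haba) (hdisj1 a) (hdisj b (a * b) habb) (hdisj1 b) (hdisj1 (a * b))
    (Finset.subset_univ _) (Finset.subset_univ _) (Finset.subset_univ _) (Finset.subset_univ _)
  rw [Finset.card_singleton, Finset.card_univ, ← Nat.card_eq_fintype_card, hcardE] at hsum
  obtain ⟨ha0, ka, hka⟩ := hfib a ha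
  obtain ⟨hb0, kb, hkb⟩ := hfib b hb
  obtain ⟨hc0, kc, hkc⟩ := hfib (a * b) hab1
  have hca : (Finset.univ.filter (fun y : E => y ≠ 1 ∧ S y = a)).card = 5 := by omega
  have hcb : (Finset.univ.filter (fun y : E => y ≠ 1 ∧ S y = b)).card = 5 := by omega
  have hcc : (Finset.univ.filter (fun y : E => y ≠ 1 ∧ S y = a * b)).card = 5 := by omega
  -- fixed points of `γ₃`
  have hfix3 : ∀ u : T, (Finset.univ.filter (fun y : E => y ≠ 1 ∧ S y = u)).card = 5 →
      2 ≤ ((Finset.univ.filter (fun y : E => y ≠ 1 ∧ S y = u)).filter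
        (fun x => γ₃ x = x)).card := by
    intro u hu5
    have hmod := quad_fibre_mod S γ₃ 3 h3 hS3 u
    rw [hu5] at hmod
    unfold Nat.ModEq at hmod
    omega
  have hsub : ∀ u : T, ((Finset.univ.filter (fun y : E => y ≠ 1 ∧ S y = u)).filter
      (fun x => γ₃ x = x)) ⊆ Finset.univ.filter (fun x : E => x ∈ (quadMu hE γ₃).ker) := by
    intro u y hy
    rw [Finset.mem_filter] at hy ⊢
    exact ⟨Finset.mem_univ _, (quadMu_ker hE γ₃ y).mpr hy.2⟩
  have hsub1 : ({1} : Finset E) ⊆ Finset.univ.filter (fun x : E => x ∈ (quadMu hE γ₃).ker) := by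
    intro y hy
    rw [Finset.mem_singleton] at hy
    rw [Finset.mem_filter, hy]
    exact ⟨Finset.mem_univ _, Subgroup.one_mem _⟩
  have hdisjF : ∀ u v : T, u ≠ v →
      Disjoint ((Finset.univ.filter (fun y : E => y ≠ 1 ∧ S y = u)).filter (fun x => γ₃ x = x))
      ((Finset.univ.filter (fun y : E => y ≠ 1 ∧ S y = v)).filter (fun x => γ₃ x = x)) :=
    fun u v huv => Finset.disjoint_of_subset_left (Finset.filter_subset _ _)
      (Finset.disjoint_of_subset_right (Finset.filter_subset _ _) (hdisj u v huv))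
  have hdisjF1 : ∀ u : T,
      Disjoint ((Finset.univ.filter (fun y : E => y ≠ 1 ∧ S y = u)).filter (fun x => γ₃ x = x))
      ({1} : Finset E) :=
    fun u => Finset.disjoint_of_subset_left (Finset.filter_subset _ _) (hdisj1 u)
  have hsum3 := card_four_disjoint _ _ _ _
    (Finset.univ.filter (fun x : E => x ∈ (quadMu hE γ₃).ker)) (hdisjF a b hab)
    (hdisjF a (a * b) haba) (hdisjF1 a) (hdisjF b (a * b) habb) (hdisjF1 b) (hdisjF1 (a * b))
    (hsub a) (hsub b) (hsub (a * b)) hsub1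
  rw [Finset.card_singleton, ← card_subgroup_eq_filter] at hsum3
  have h2a := hfix3 a hca
  have h2b := hfix3 b hcb
  have h2c := hfix3 (a * b) hcc
  rw [hcardE] at hker3
  have h7 : 7 ≤ Nat.card (quadMu hE γ₃).ker := by omega
  rcases hM3 with h | h
  · rw [h] at hker3
    omega
  · rw [h] at hker3
    omega

end QuadAnis

end Cfsg.Agent.Lib.helper46
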