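import Mathlib
import Cfsg.Agent.Lib.helper15.ZassDefs
import Cfsg.Agent.Lib.helper46.Dicyclic

/-!
# Zassenhaus project (S0690): shared lemmas on generalised quaternion groups and `Std` triples
(helper46)
-/

set_option autoImplicit false

namespace Cfsg.Agent.Lib.helper46

open Cfsg.Agent.Lib.helper15.Zass

section ZassQ

/-- Central elements of a generalised quaternion group have order at most two, unless the
group has order four. -/
theorem zq_central_sq (m : ℕ) [NeZero m] (g : QuaternionGroup m)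
    (hg : ∀ h : QuaternionGroup m, g * h = h * g) : g ^ 2 = 1 ∨ m = 1 := by
  cases g with
  | a i =>
    left
    have h1 := hg (QuaternionGroup.xa 0)
    rw [QuaternionGroup.a_mul_xa, QuaternionGroup.xa_mul_a] at h1
    have h2 : (0 : ZMod (2 * m)) - i = 0 + i := by injection h1
    rw [sq, QuaternionGroup.a_mul_a, QuaternionGroup.one_def]
    congr 1
    linear_combination -h2
  | xa i =>
    right
    have h1 := hg (QuaternionGroup.a 1)
    rw [QuaternionGroup.xa_mul_a, QuaternionGroup.a_mul_xa] at h1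
    have h2 : i + 1 = i - 1 := by injection h1
    have h3 : ((2 : ℕ) : ZMod (2 * m)) = 0 := by
      push_cast
      linear_combination h2
    rw [ZMod.natCast_eq_zero_iff] at h3
    have h4 := Nat.le_of_dvd (by norm_num) h3
    have hm : m ≠ 0 := NeZero.ne m
    omega

theorem zq_a_mem {P : Type*} [Group P] (m : ℕ) [NeZero m] (e : P ≃* QuaternionGroup m)
    (i : ZMod (2 * m)) :
    e.symm (QuaternionGroup.a i) ∈ Subgroup.zpowers (e.symm (QuaternionGroup.a 1)) := by
  have h1 : (QuaternionGroup.a i : QuaternionGroup m) = QuaternionGroup.a 1 ^ i.val := by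
    rw [QuaternionGroup.a_one_pow, ZMod.natCast_zmod_val]
  rw [h1, map_pow]
  exact Subgroup.pow_mem _ (Subgroup.mem_zpowers _) _

/-- Structure of a group isomorphic to a generalised quaternion group: a cyclic subgroup `⟨α⟩`
of index two whose complement inverts `α` and multiplies into `⟨α⟩`. -/
theorem zq_structure {P : Type*} [Group P] (m : ℕ) [NeZero m] (e : P ≃* QuaternionGroup m) :
    ∃ α : P, orderOf α = 2 * m ∧
      (∀ g : P, g ∈ Subgroup.zpowers α ∨ g * α * g⁻¹ = α⁻¹) ∧
      (∀ g₁ g₂ : P, g₁ ∉ Subgroup.zpowers α → g₂ ∉ Subgroup.zpowers α →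
        g₁ * g₂ ∈ Subgroup.zpowers α) := by
  refine ⟨e.symm (QuaternionGroup.a 1), ?_, ?_, ?_⟩
  · rw [MulEquiv.orderOf_eq, QuaternionGroup.orderOf_a_one]
  · intro g
    obtain ⟨q, rfl⟩ : ∃ q, g = e.symm q := ⟨e g, (e.symm_apply_apply g).symm⟩
    cases q with
    | a i => left; exact zq_a_mem m e i
    | xa i =>
      right
      rw [← map_inv, ← map_mul, ← map_mul, ← map_inv]
      congr 1
      rw [mul_inv_eq_iff_eq_mul, eq_inv_mul_iff_mul_eq, QuaternionGroup.xa_mul_a,
        QuaternionGroup.a_mul_xa]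
      congr 1
      ring
  · intro g₁ g₂ h1 h2
    obtain ⟨q₁, rfl⟩ : ∃ q, g₁ = e.symm q := ⟨e g₁, (e.symm_apply_apply g₁).symm⟩
    obtain ⟨q₂, rfl⟩ : ∃ q, g₂ = e.symm q := ⟨e g₂, (e.symm_apply_apply g₂).symm⟩
    cases q₁ with
    | a i => exact absurd (zq_a_mem m e i) h1
    | xa i =>
      cases q₂ with
      | a j => exact absurd (zq_a_mem m e j) h2
      | xa j =>
        rw [← map_mul, QuaternionGroup.xa_mul_xa]
        exact zq_a_mem m e _

variable {G : Type*} [Group G]

/-- `Std` triples are preserved by injective homomorphisms. -/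
theorem zq_std_map {H : Type*} [Group H] (φ : G →* H) (hφ : Function.Injective φ) {u v x : G}
    (hs : Std u v x) : Std (φ u) (φ v) (φ x) where
  u2 := by
    intro h
    apply hs.u2
    apply hφ
    rw [map_pow, h, map_one]
  u4 := by rw [← map_pow, hs.u4, map_one]
  v2 := by rw [← map_pow, ← map_pow, hs.v2]
  vu := by rw [← map_inv, ← map_mul, ← map_mul, hs.vu, map_inv]
  x3 := by rw [← map_pow, hs.x3, map_one]
  xu := by rw [← map_inv, ← map_mul, ← map_mul, hs.xu]
  xv := by rw [← map_inv, ← map_mul, ← map_mul, hs.xv, map_mul]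

/-- Rotation of a `Std` triple by `x`. -/
theorem zq_std_rot {u v x : G} (hs : Std u v x) : Std v (u * v) x := by
  have h := zq_std_map (MulAut.conj x).toMonoidHom (MulAut.conj x).injective hs
  have e1 : (MulAut.conj x).toMonoidHom u = v := by
    rw [MulEquiv.coe_toMonoidHom, MulAut.conj_apply, hs.xu]
  have e2 : (MulAut.conj x).toMonoidHom v = u * v := by
    rw [MulEquiv.coe_toMonoidHom, MulAut.conj_apply, hs.xv]
  have e3 : (MulAut.conj x).toMonoidHom x = x := by
    rw [MulEquiv.coe_toMonoidHom, MulAut.conj_apply, mul_inv_cancel_right]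
  rw [e1, e2, e3] at h
  exact h

theorem zq_orderOf_u {u v x : G} (hs : Std u v x) : orderOf u = 4 := by
  have h1 : ¬ u ^ 2 ^ 1 = 1 := by rw [pow_one]; exact hs.u2
  have h2 : u ^ 2 ^ (1 + 1) = 1 := hs.u4
  exact orderOf_eq_prime_pow h1 h2

theorem zq_orderOf_v {u v x : G} (hs : Std u v x) : orderOf v = 4 :=
  zq_orderOf_u (zq_std_rot hs)

/-- `u` and `v` do not commute. -/
theorem zq_not_comm {u v x : G} (hs : Std u v x) : v * u ≠ u * v := by
  intro h
  apply hs.u2
  have h1 := hs.vu
  rw [h, mul_inv_cancel_right] at h1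
  rw [sq]
  nth_rewrite 2 [h1]
  exact mul_inv_cancel u

theorem zq_u_ne_v {u v x : G} (hs : Std u v x) : u ≠ v := by
  intro h
  apply zq_not_comm hs
  rw [h]

/-- `⟨u, v⟩` is a `2`-group. -/
theorem zq_isPGroup {u v x : G} (hs : Std u v x) :
    IsPGroup 2 (Subgroup.zpowers v ⊔ Subgroup.zpowers u : Subgroup G) := by
  have hu : IsPGroup 2 (Subgroup.zpowers u) :=
    IsPGroup.of_card (n := 2) (by rw [Nat.card_zpowers, zq_orderOf_u hs]; norm_num)
  have hv : IsPGroup 2 (Subgroup.zpowers v) :=
    IsPGroup.of_card (n := 2) (by rw [Nat.card_zpowers, zq_orderOf_v hs]; norm_num)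
  refine IsPGroup.to_sup_of_normal_right' hv hu ?_
  rw [Subgroup.zpowers_le]
  exact mem_normalizer_of_inv u v hs.vu

end ZassQ

end Cfsg.Agent.Lib.helper46
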