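import Mathlib
import Cfsg.Agent.Lib.helper15.ZassDefs
import Cfsg.Agent.Lib.helper46.ZassQ

/-!
# Zassenhaus project (S0690), piece J: the centralizer of `u` (helper46)
-/

set_option autoImplicit false

namespace Cfsg.Agent.Lib.helper46

open Cfsg.Agent.Lib.helper15.Zass

section ZassJ

/-- In a finite cyclic group, an element of order dividing `3` lies in the subgroup generated by
any element of order `3`. -/
theorem zj_cyclic_three {R : Type*} [Group R] [Finite R] [IsCyclic R] (x y : R) (hx : x ^ 3 = 1)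
    (hy : y ^ 3 = 1) (hy1 : y ≠ 1) : x ∈ Subgroup.zpowers y := by
  classical
  have := Fintype.ofFinite R
  have : Fact (Nat.Prime 3) := ⟨by norm_num⟩
  have h3 := IsCyclic.card_pow_eq_one_le (α := R) (n := 3) (by norm_num)
  have hoy : orderOf y = 3 := orderOf_eq_prime hy hy1
  have key : ∀ (s : Finset R), (∀ a ∈ s, a ^ 3 = 1) → s.card ≤ 3 := by
    intro s hs
    refine le_trans (Finset.card_le_card ?_) h3
    intro a ha
    simp [hs a ha]
  by_contra hx'
  have h4 := key (insert x (Subgroup.zpowers y : Set R).toFinset) (by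
    intro a ha
    rw [Finset.mem_insert] at ha
    rcases ha with rfl | ha
    · exact hx
    · rw [Set.mem_toFinset] at ha
      obtain ⟨k, rfl⟩ := Subgroup.mem_zpowers_iff.mp ha
      rw [← zpow_natCast, ← zpow_mul, mul_comm, zpow_mul, zpow_natCast, hy, one_zpow])
  rw [Finset.card_insert_of_notMem (by rw [Set.mem_toFinset]; exact hx'), Set.toFinset_card] at h4
  have h5 : Fintype.card (Subgroup.zpowers y : Set R) = 3 := by
    rw [← Nat.card_eq_fintype_card]
    exact (Nat.card_zpowers y).trans hoy
  omega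

variable {G : Type*} [Group G] [Finite G]

/-- A `2`-subgroup centralising `u` is cyclic. -/
theorem zj_cyclic (h : ZH G) (u v x : G) (hs : Std u v x) (T : Subgroup G) (hT : IsPGroup 2 T)
    (hTu : T ≤ Subgroup.centralizer {u}) : IsCyclic T := by
  have hu : IsPGroup 2 (Subgroup.zpowers u) :=
    IsPGroup.of_card (n := 2) (by rw [Nat.card_zpowers, zq_orderOf_u hs]; norm_num)
  have hnorm : T ≤ Subgroup.normalizer (Subgroup.zpowers u : Set G) := by
    intro t ht
    apply Subgroup.mem_normalizer_fintype
    intro n hn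
    obtain ⟨k, rfl⟩ := Subgroup.mem_zpowers_iff.mp hn
    have htu : Commute t u := by
      have := Subgroup.mem_centralizer_iff.mp (hTu ht) u (Set.mem_singleton u)
      exact this.symm
    have hc : Commute t (u ^ k) := htu.zpow_right k
    rw [hc.eq, mul_inv_cancel_right]
    exact hn
  have hR : IsPGroup 2 (T ⊔ Subgroup.zpowers u : Subgroup G) :=
    IsPGroup.to_sup_of_normal_right' hT hu hnorm
  set R : Subgroup G := T ⊔ Subgroup.zpowers u with hRdef
  have hTR : T ≤ R := le_sup_left
  have huR : u ∈ R := (le_sup_right : Subgroup.zpowers u ≤ R) (Subgroup.mem_zpowers u)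
  have hRu : R ≤ Subgroup.centralizer {u} := by
    apply sup_le hTu
    rw [Subgroup.zpowers_le, Subgroup.mem_centralizer_iff]
    intro a ha
    rw [Set.mem_singleton_iff.mp ha]
  have hRcyc : IsCyclic R := by
    rcases h.pgrp 2 R hR with hc | ⟨-, n, ⟨e⟩⟩
    · exact hc
    · have hcen : ∀ q : QuaternionGroup (2 ^ n), e ⟨u, huR⟩ * q = q * e ⟨u, huR⟩ := by
        intro q
        obtain ⟨r, rfl⟩ := e.surjective q
        rw [← map_mul, ← map_mul]
        congr 1
        apply Subtype.ext
        have := Subgroup.mem_centralizer_iff.mp (hRu r.2) u (Set.mem_singleton u)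
        exact this
      rcases zq_central_sq (2 ^ n) (e ⟨u, huR⟩) hcen with h1 | h1
      · exfalso
        apply hs.u2
        rw [← map_pow, ← map_one e] at h1
        have h2 := e.injective h1
        exact congrArg Subtype.val h2
      · have hn0 : n = 0 := by
          by_contra hn
          have : 2 ≤ 2 ^ n := Nat.le_self_pow hn 2
          omega
        subst hn0
        have hcyc : IsCyclic (QuaternionGroup (2 ^ 0)) :=
          QuaternionGroup.quaternionGroup_one_isCyclic
        exact isCyclic_of_surjective e.symm e.symm.surjective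
  exact isCyclic_of_injective (Subgroup.inclusion hTR) (Subgroup.inclusion_injective hTR)

/-- **Piece J**. -/
theorem std_cent {G : Type*} [Group G] [Finite G] (h : ZH G) (u v x : G) (hs : Std u v x)
    (hT : ∀ k : G, k * u = u * k → v * k * v⁻¹ = k⁻¹ → Odd (orderOf k) → k = 1) :
    (∀ g : G, g * u = u * g → Odd (orderOf g) → g * v = v * g ∧ g * x = x * g) ∧
    (∀ y : G, y * u = u * y → y ^ 3 = 1 → y = 1) := by
  have part1 : ∀ g : G, g * u = u * g → Odd (orderOf g) → g * v = v * g ∧ g * x = x * g := by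
    set C : Subgroup G := Subgroup.centralizer {u} with hC
    have hmemC : ∀ g : G, g ∈ C ↔ g * u = u * g := by
      intro g
      rw [hC, Subgroup.mem_centralizer_iff]
      constructor
      · intro hg
        exact (hg u (Set.mem_singleton u)).symm
      · intro hg a ha
        rw [Set.mem_singleton_iff.mp ha]
        exact hg.symm
    have huC : u ∈ C := (hmemC u).mpr rfl
    have h2C : (Nat.card C).minFac = 2 := by
      rw [Nat.minFac_eq_two_iff]
      have h4 : orderOf (⟨u, huC⟩ : C) = 4 := by
        rw [← Subgroup.orderOf_coe]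
        exact zq_orderOf_u hs
      have := orderOf_dvd_natCard (⟨u, huC⟩ : C)
      rw [h4] at this
      exact dvd_trans (by norm_num) this
    let P : Sylow 2 C := default
    have hPcyc : IsCyclic P := by
      have hmap : IsCyclic ((P : Subgroup C).map C.subtype) := by
        apply zj_cyclic h u v x hs
        · exact P.isPGroup'.map C.subtype
        · rintro _ ⟨c, -, rfl⟩
          exact c.2
      exact isCyclic_of_injective
        ((P : Subgroup C).equivMapOfInjective C.subtype C.subtype_injective).toMonoidHom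
        (MulEquiv.injective _)
    set f := MonoidHom.transferSylow P (hPcyc.normalizer_le_centralizer h2C) with hf
    have hKodd : Odd (Nat.card f.ker) := by
      have := MonoidHom.not_dvd_card_ker_transferSylow P (hPcyc.normalizer_le_centralizer h2C)
      rw [← Nat.not_even_iff_odd, even_iff_two_dvd]
      exact this
    have hmemK : ∀ c : C, Odd (orderOf c) → c ∈ f.ker := by
      intro c hc
      rw [MonoidHom.mem_ker]
      obtain ⟨k, hk⟩ := (IsPGroup.iff_orderOf.mp P.isPGroup') (f c)
      have h1 : orderOf (f c) ∣ orderOf c := orderOf_map_dvd f c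
      rw [hk] at h1
      have hk0 : k = 0 := by
        by_contra hk0
        have h2 : 2 ∣ orderOf c := dvd_trans (dvd_pow_self 2 hk0) h1
        rw [← even_iff_two_dvd, ← Nat.not_odd_iff_even] at h2
        exact h2 hc
      rw [hk0, pow_zero, orderOf_eq_one_iff] at hk
      exact hk
    intro g hgu hgodd
    have hgC : g ∈ C := (hmemC g).mpr hgu
    have e : v * u⁻¹ * v⁻¹ = u := by
      have h1 : (v * u * v⁻¹)⁻¹ = u⁻¹⁻¹ := congrArg (·⁻¹) hs.vu
      rw [inv_inv] at h1
      calc v * u⁻¹ * v⁻¹ = (v * u * v⁻¹)⁻¹ := by group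
        _ = u := h1
    have hgu' : g * u⁻¹ = u⁻¹ * g := ((show Commute g u from hgu).inv_right).eq
    have hwu : (v * g * v⁻¹) * u = u * (v * g * v⁻¹) := by
      calc (v * g * v⁻¹) * u = (v * g * v⁻¹) * (v * u⁻¹ * v⁻¹) := by rw [e]
        _ = v * (g * u⁻¹) * v⁻¹ := by group
        _ = v * (u⁻¹ * g) * v⁻¹ := by rw [hgu']
        _ = (v * u⁻¹ * v⁻¹) * (v * g * v⁻¹) := by group
        _ = u * (v * g * v⁻¹) := by rw [e]
    have hwC : v * g * v⁻¹ ∈ C := (hmemC _).mpr hwu
    have hwodd : Odd (orderOf (v * g * v⁻¹)) := by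
      have h1 : orderOf (v * g * v⁻¹) = orderOf g := by
        have := MulEquiv.orderOf_eq (MulAut.conj v) g
        rwa [MulAut.conj_apply] at this
      rw [h1]
      exact hgodd
    have hgK : (⟨g, hgC⟩ : C) ∈ f.ker := hmemK _ (by rw [← Subgroup.orderOf_coe]; exact hgodd)
    have hwK : (⟨v * g * v⁻¹, hwC⟩ : C) ∈ f.ker :=
      hmemK _ (by rw [← Subgroup.orderOf_coe]; exact hwodd)
    have hkK : (⟨g, hgC⟩ : C)⁻¹ * ⟨v * g * v⁻¹, hwC⟩ ∈ f.ker :=
      f.ker.mul_mem (f.ker.inv_mem hgK) hwK
    set k : G := g⁻¹ * (v * g * v⁻¹) with hk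
    have hkodd : Odd (orderOf k) := by
      have h1 : orderOf (⟨_, hkK⟩ : f.ker) ∣ Nat.card f.ker := orderOf_dvd_natCard _
      have h2 : orderOf (⟨_, hkK⟩ : f.ker) = orderOf k := by
        rw [← Subgroup.orderOf_coe, ← Subgroup.orderOf_coe]
        rfl
      rw [h2] at h1
      exact hKodd.of_dvd_nat h1
    have hku : k * u = u * k := by
      have : k ∈ C := C.mul_mem (C.inv_mem hgC) hwC
      exact (hmemC k).mp this
    have hz : v ^ 2 * g = g * v ^ 2 := by
      rw [hs.v2]
      exact (((show Commute g u from hgu).pow_right 2).eq).symm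
    have hz' : v ^ 2 * g * (v ^ 2)⁻¹ = g := by rw [hz, mul_inv_cancel_right]
    have hvk : v * k * v⁻¹ = k⁻¹ := by
      calc v * k * v⁻¹ = v * g⁻¹ * v⁻¹ * (v ^ 2 * g * (v ^ 2)⁻¹) := by rw [hk]; group
        _ = v * g⁻¹ * v⁻¹ * g := by rw [hz']
        _ = k⁻¹ := by rw [hk]; group
    have hk1 := hT k hku hvk hkodd
    have hgv : g * v = v * g := by
      have h1 : v * g * v⁻¹ = g := by
        rw [hk] at hk1
        exact (inv_mul_eq_one.mp hk1).symm
      rw [mul_inv_eq_iff_eq_mul] at h1
      exact h1.symm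
    exact ⟨hgv, h.h5 u v x g hs hgu hgv⟩
  refine ⟨part1, ?_⟩
  intro y hyu hy3
  by_contra hy1
  have : Fact (Nat.Prime 3) := ⟨by norm_num⟩
  have hoy : orderOf y = 3 := orderOf_eq_prime hy3 hy1
  obtain ⟨hyv, hyx⟩ := part1 y hyu (by rw [hoy]; exact ⟨1, rfl⟩)
  have hx1 : x ≠ 1 := by
    intro hx
    apply zq_u_ne_v hs
    have := hs.xu
    rw [hx] at this
    simpa using this
  have hox : orderOf x = 3 := orderOf_eq_prime hs.x3 hx1
  have hpx : IsPGroup 3 (Subgroup.zpowers x) :=
    IsPGroup.of_card (n := 1) (by rw [Nat.card_zpowers, hox]; norm_num)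
  have hpy : IsPGroup 3 (Subgroup.zpowers y) :=
    IsPGroup.of_card (n := 1) (by rw [Nat.card_zpowers, hoy]; norm_num)
  have hnorm : Subgroup.zpowers x ≤ Subgroup.normalizer (Subgroup.zpowers y : Set G) := by
    rw [Subgroup.zpowers_le]
    apply Subgroup.mem_normalizer_fintype
    intro n hn
    obtain ⟨k, rfl⟩ := Subgroup.mem_zpowers_iff.mp hn
    have hc : Commute x (y ^ k) := (show Commute x y from hyx.symm).zpow_right k
    rw [hc.eq, mul_inv_cancel_right]
    exact hn
  have hR := IsPGroup.to_sup_of_normal_right' hpx hpy hnorm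
  set R : Subgroup G := Subgroup.zpowers x ⊔ Subgroup.zpowers y with hRdef
  have hxR : x ∈ R := (le_sup_left : Subgroup.zpowers x ≤ R) (Subgroup.mem_zpowers x)
  have hyR : y ∈ R := (le_sup_right : Subgroup.zpowers y ≤ R) (Subgroup.mem_zpowers y)
  rcases h.pgrp 3 R hR with hc | ⟨h32, -⟩
  · have hmem := zj_cyclic_three (⟨x, hxR⟩ : R) ⟨y, hyR⟩ (Subtype.ext (by simpa using hs.x3))
      (Subtype.ext (by simpa using hy3)) (fun h => hy1 (congrArg Subtype.val h))
    obtain ⟨k, hk⟩ := Subgroup.mem_zpowers_iff.mp hmem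
    have hk' : y ^ k = x := by
      have := congrArg Subtype.val hk
      simpa using this
    have hxu : x * u = u * x := by
      rw [← hk']
      exact ((show Commute y u from hyu).zpow_left k).eq
    apply zq_u_ne_v hs
    have := hs.xu
    rw [hxu, mul_inv_cancel_right] at this
    exact this
  · omega

end ZassJ

end Cfsg.Agent.Lib.helper46
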