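import Mathlib
import Cfsg.Agent.Lib.helper15.ZassDefs
import Cfsg.Agent.Lib.helper46.ZassQ

/-!
# Zassenhaus project (S0690), piece K: Sylow `2`-subgroups have order `8` or `16` (helper46)
-/

set_option autoImplicit false

namespace Cfsg.Agent.Lib.helper46

open Cfsg.Agent.Lib.helper15.Zass

section ZassK

variable {G : Type*} [Group G] [Finite G]

/-- Core of piece K: if the first element of a `Std` triple lies in the cyclic maximal subgroup
`⟨α⟩` of a generalised quaternion Sylow `2`-subgroup of order `4 * 2 ^ n`, then `n ≤ 2`. -/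
theorem zk_core (h : ZH G) (a b x : G) (hs : Std a b x) (S : Sylow 2 G) (ha : a ∈ S) (hb : b ∈ S)
    (n : ℕ) (α : S) (hαo : orderOf α = 2 * 2 ^ n)
    (hinv : ∀ g : S, g ∈ Subgroup.zpowers α ∨ g * α * g⁻¹ = α⁻¹)
    (haα : (⟨a, ha⟩ : S) ∈ Subgroup.zpowers α) : n ≤ 2 := by
  -- `b` is not in `⟨α⟩`
  have hbα : (⟨b, hb⟩ : S) ∉ Subgroup.zpowers α := by
    intro hb'
    apply zq_not_comm hs
    obtain ⟨i, hi⟩ := Subgroup.mem_zpowers_iff.mp haα
    obtain ⟨j, hj⟩ := Subgroup.mem_zpowers_iff.mp hb'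
    have h1 : (⟨b, hb⟩ : S) * ⟨a, ha⟩ = ⟨a, ha⟩ * ⟨b, hb⟩ := by
      rw [← hi, ← hj, ← zpow_add, ← zpow_add, add_comm]
    exact congrArg Subtype.val h1
  have h1 : (⟨b, hb⟩ : S) * α * (⟨b, hb⟩ : S)⁻¹ = α⁻¹ := (hinv _).resolve_left hbα
  have h2 : b * (α : G) * b⁻¹ = (α : G)⁻¹ := congrArg Subtype.val h1
  have h3 : (α : G) * a = a * (α : G) := by
    have := commute_of_mem_zpowers α ⟨a, ha⟩ haα
    exact (congrArg Subtype.val this).symm
  have hcs := h.h3 a b x (α : G) b x hs h3 h2 (Subgroup.subset_closure (by simp)) hs.v2 hs.vu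
    hs.x3 hs.xu hs.xv
  -- the subgroup `T = ⟨α, b⟩`
  have hαo' : orderOf (α : G) = 2 * 2 ^ n := by rw [Subgroup.orderOf_coe, hαo]
  have hbα' : b ∉ Subgroup.zpowers (α : G) := by
    intro hb'
    apply hbα
    obtain ⟨j, hj⟩ := Subgroup.mem_zpowers_iff.mp hb'
    rw [Subgroup.mem_zpowers_iff]
    refine ⟨j, ?_⟩
    apply Subtype.ext
    rw [Subgroup.coe_zpow]
    exact hj
  set T : Subgroup G := Subgroup.zpowers (α : G) ⊔ Subgroup.zpowers b with hT
  have hTS : T ≤ S := sup_le (by rw [Subgroup.zpowers_le]; exact α.2)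
    (by rw [Subgroup.zpowers_le]; exact hb)
  have hTp : IsPGroup 2 T := S.isPGroup'.to_le hTS
  obtain ⟨j, hj⟩ := hTp.exists_card_eq
  have hle : Subgroup.zpowers (α : G) ≤ T := le_sup_left
  have hd : 2 * 2 ^ n ∣ 2 ^ j := by
    rw [← hj, ← hαo', ← Nat.card_zpowers]
    exact Subgroup.card_dvd_of_le hle
  have hne : Nat.card (Subgroup.zpowers (α : G)) ≠ Nat.card T := by
    intro heq
    apply hbα'
    have := Subgroup.eq_of_le_of_card_ge hle heq.ge
    rw [this]
    exact (le_sup_right : Subgroup.zpowers b ≤ T) (Subgroup.mem_zpowers b)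
  have hj2 : n + 2 ≤ j := by
    have e1 : 2 * 2 ^ n = 2 ^ (n + 1) := by ring
    rw [e1] at hd
    have h4 := (Nat.pow_dvd_pow_iff_le_right (by norm_num : 1 < 2)).mp hd
    rcases Nat.lt_or_ge (n + 1) j with h5 | h5
    · omega
    · exfalso
      apply hne
      have : j = n + 1 := le_antisymm h5 h4
      rw [hj, Nat.card_zpowers, hαo', this, e1]
  have hTH : T ≤ Subgroup.closure {a, b, x, (α : G), x} := by
    apply sup_le
    · rw [Subgroup.zpowers_le]
      exact Subgroup.subset_closure (by simp)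
    · rw [Subgroup.zpowers_le]
      exact Subgroup.subset_closure (by simp)
  have hdvd : 2 ^ (n + 2) ∣ Nat.card (Subgroup.closure {a, b, x, (α : G), x}) := by
    refine dvd_trans ?_ (Subgroup.card_dvd_of_le hTH)
    rw [hj]
    exact pow_dvd_pow 2 hj2
  by_contra hn3
  have h32 : 2 ^ 5 ∣ Nat.card (Subgroup.closure {a, b, x, (α : G), x}) :=
    dvd_trans (pow_dvd_pow 2 (by omega)) hdvd
  rcases hcs with h5 | h5 | h5 <;> rw [h5] at h32 <;> omega

/-- **Piece K**: the Sylow `2`-subgroups have order `8` or `16`. -/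
theorem sylow_le_16 {G : Type*} [Group G] [Finite G] (h : ZH G) (u v x : G) (hs : Std u v x)
    (S : Sylow 2 G) : Nat.card S = 8 ∨ Nat.card S = 16 := by
  obtain ⟨S', hS'⟩ := (zq_isPGroup hs).exists_le_sylow
  have huS : u ∈ S' := hS' (le_sup_right (a := Subgroup.zpowers v) (Subgroup.mem_zpowers u))
  have hvS : v ∈ S' := hS' (le_sup_left (b := Subgroup.zpowers u) (Subgroup.mem_zpowers v))
  have hcard : Nat.card S = Nat.card S' := by
    rw [Sylow.card_eq_multiplicity, Sylow.card_eq_multiplicity]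
  rw [hcard]
  have hnc : ¬ IsCyclic S' := by
    intro hc
    apply zq_not_comm hs
    have := hc.commGroup.mul_comm (⟨v, hvS⟩ : S') ⟨u, huS⟩
    exact congrArg Subtype.val this
  rcases h.pgrp 2 S' S'.isPGroup' with hc | ⟨-, n, ⟨e⟩⟩
  · exact absurd hc hnc
  have hcard2 : Nat.card S' = 4 * 2 ^ n := by
    rw [Nat.card_congr e.toEquiv, Nat.card_eq_fintype_card, QuaternionGroup.card]
  obtain ⟨α, hαo, hinv, hprod⟩ := zq_structure (2 ^ n) e
  have hn1 : 1 ≤ n := by
    by_contra hn0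
    have hn0' : n = 0 := by omega
    subst hn0'
    apply hnc
    have hcyc : IsCyclic (QuaternionGroup (2 ^ 0)) := QuaternionGroup.quaternionGroup_one_isCyclic
    exact isCyclic_of_surjective e.symm e.symm.surjective
  have hn2 : n ≤ 2 := by
    by_cases hu : (⟨u, huS⟩ : S') ∈ Subgroup.zpowers α
    · exact zk_core h u v x hs S' huS hvS n α hαo hinv hu
    · by_cases hv : (⟨v, hvS⟩ : S') ∈ Subgroup.zpowers α
      · exact zk_core h v (u * v) x (zq_std_rot hs) S' hvS (S'.mul_mem huS hvS) n α hαo hinv hv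
      · have huv := hprod _ _ hu hv
        exact zk_core h (u * v) (v * (u * v)) x (zq_std_rot (zq_std_rot hs)) S'
          (S'.mul_mem huS hvS) (S'.mul_mem hvS (S'.mul_mem huS hvS)) n α hαo hinv huv
  have : n = 1 ∨ n = 2 := by omega
  rcases this with rfl | rfl
  · left; rw [hcard2]; norm_num
  · right; rw [hcard2]; norm_num

end ZassK

end Cfsg.Agent.Lib.helper46
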