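import Mathlib
import Cfsg.Agent.Lib.helper11.Ord3960

/-!
# S4429 piece K1 (helper46): the Sylow 11-subgroups of a simple group of order 7920

`7920 = 2^4 * 3^2 * 5 * 11`, `n_11 ∈ {12, 45, 144}`.
* `n_11 = 12`: `3 ∣ |C(P)|` and an element of order 3 of `C(P)` would fix `≡ 1 (mod 11)`,
  `≡ 0 (mod 3)`, `< 12` Sylow 11-subgroups.
* `n_11 = 45`: `|N(P)| = 176`, `|C(P)| = 88`.  Every involution of `C(P)` fixes exactly one Sylow
  11-subgroup; by Thompson transfer every involution of a Sylow 2-subgroup `S ≤ N(P)` lies in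
  `C(P)`; hence every involution of `G` fixes exactly one Sylow 11-subgroup and `N(P)` acts
  semiregularly on the other 44 Sylow 11-subgroups, which is absurd since `176 > 44`.
* `n_11 = 144`: `|N(P)| = 55`, `|C(P)| = 11`, so `C(P) = P`.
-/

set_option autoImplicit false

namespace Cfsg.Agent.Lib.helper46

open MulAction
open Cfsg.Agent.Lib.helper75 Cfsg.Agent.Lib.helper26

section M11K1

variable {G : Type*} [Group G] [Finite G]

/-- Every involution is conjugate into a given Sylow 2-subgroup. -/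
theorem m11k1_conj_mem_sylow (S : Sylow 2 G) (t : G) (htt : t * t = 1) :
    ∃ g : G, g * t * g⁻¹ ∈ (S : Subgroup G) := by
  have h2 : Fact (Nat.Prime 2) := ⟨Nat.prime_two⟩
  have hz : IsPGroup 2 (Subgroup.zpowers t) := by
    have hc : Nat.card (Subgroup.zpowers t) ∣ 2 := by
      rw [Nat.card_zpowers]
      exact orderOf_dvd_of_pow_eq_one (by rw [pow_two]; exact htt)
    rcases (Nat.dvd_prime Nat.prime_two).mp hc with h | h
    · exact IsPGroup.of_card (n := 0) (by rw [h]; norm_num)
    · exact IsPGroup.of_card (n := 1) (by rw [h]; norm_num)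
  obtain ⟨Q, hQ⟩ := hz.exists_le_sylow
  obtain ⟨g, hg⟩ := MulAction.exists_smul_eq G Q S
  refine ⟨g, ?_⟩
  have htQ : t ∈ (Q : Subgroup G) := hQ (Subgroup.mem_zpowers t)
  have h : g * t * g⁻¹ ∈ ((g • Q : Sylow 2 G) : Subgroup G) := by
    rw [Sylow.coe_subgroup_smul]
    exact Subgroup.mem_pointwise_smul_iff_inv_smul_mem.mpr (by
      rw [MulAut.smul_def, ← map_inv, MulAut.conj_apply]
      have e : g⁻¹ * (g * t * g⁻¹) * g⁻¹⁻¹ = t := by group
      rw [e]
      exact htQ)
  rwa [hg] at h

/-- The case `n_11 = 45` of order 7920. -/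
theorem m11k1_no_45 [IsSimpleGroup G] (hG : Nat.card G = 7920) (P : Sylow 11 G)
    (hP : Nat.card P = 11) (hn : Nat.card (Sylow 11 G) = 45)
    (hN : Nat.card (stabilizer G P) = 176)
    (hCc : Nat.card (Subgroup.centralizer ((P : Subgroup G) : Set G)) = 88) : False := by
  have h11 : Fact (Nat.Prime 11) := ⟨by norm_num⟩
  have h2 : Fact (Nat.Prime 2) := ⟨Nat.prime_two⟩
  have hn1 : Nat.card (Sylow 11 G) ≠ 1 := by omega
  have h3G : 2 < Nat.card G := by omega
  obtain ⟨C, hC⟩ : ∃ C : Subgroup G, C = Subgroup.centralizer ((P : Subgroup G) : Set G) :=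
    ⟨_, rfl⟩
  rw [← hC] at hCc
  have hfix : ∀ t ∈ C, t * t = 1 → t ≠ 1 → Nat.card {ω : Sylow 11 G // t • ω = ω} = 1 := by
    intro t htC htt ht1
    rw [hC] at htC
    obtain ⟨c1, c2, c3⟩ :=
      sylow_involution_counts P hn1 h3G t
        (Cfsg.Agent.Lib.helper5.orderOf_two_of_mul_self htt ht1) htC
    rw [hn] at c2 c3
    omega
  have hrel : (C.subgroupOf (Subgroup.normalizer ((P : Subgroup G) : Set G))).index = 2 := by
    have h := card_centralizer_mul_relIndex P
    rw [← hC, hCc, hN] at h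
    have h' : C.relIndex (Subgroup.normalizer ((P : Subgroup G) : Set G)) = 2 := by omega
    exact h'
  have hmul : ∀ a b : G, a ∈ Subgroup.normalizer ((P : Subgroup G) : Set G) →
      b ∈ Subgroup.normalizer ((P : Subgroup G) : Set G) → (a * b ∈ C ↔ (a ∈ C ↔ b ∈ C)) := by
    intro a b ha hb
    have h := Subgroup.mul_mem_iff_of_index_two hrel
      (a := (⟨a, ha⟩ : Subgroup.normalizer ((P : Subgroup G) : Set G))) (b := ⟨b, hb⟩)
    rw [Subgroup.mem_subgroupOf, Subgroup.mem_subgroupOf, Subgroup.mem_subgroupOf] at h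
    exact h
  have hstabN : ∀ x : G, x ∈ stabilizer G P →
      x ∈ Subgroup.normalizer ((P : Subgroup G) : Set G) :=
    fun x hx => Sylow.smul_eq_iff_mem_normalizer.mp (MulAction.mem_stabilizer_iff.mp hx)
  have hidx : ∀ H : Subgroup G, H.index ≠ 2 := by
    intro H hH
    have hnorm : H.Normal := Subgroup.normal_of_index_eq_two hH
    rcases hnorm.eq_bot_or_eq_top with h | h
    · rw [h, Subgroup.index_bot] at hH
      omega
    · rw [h, Subgroup.index_top] at hH
      omega
  -- a Sylow 2-subgroup of `G` inside the stabilizer of `P`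
  obtain ⟨S₀⟩ : Nonempty (Sylow 2 (stabilizer G P)) := inferInstance
  have hS₀16 : Nat.card S₀ = 16 := by
    obtain ⟨k, hk⟩ := IsPGroup.iff_card.mp S₀.2
    have h16 : 2 ^ 4 ∣ Nat.card S₀ := S₀.pow_dvd_card_of_pow_dvd_card (by rw [hN]; norm_num)
    have hdvd : Nat.card S₀ ∣ 176 := by
      rw [← hN]
      exact Subgroup.card_subgroup_dvd_card _
    rw [hk] at h16 hdvd ⊢
    have hk4 : 4 ≤ k := (Nat.pow_dvd_pow_iff_le_right (by norm_num)).mp h16
    have hk5 : k < 5 := by
      by_contra hcon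
      have h32 : 2 ^ 5 ∣ 176 := (pow_dvd_pow 2 (by omega)).trans hdvd
      norm_num at h32
    have hk' : k = 4 := by omega
    rw [hk']
    norm_num
  obtain ⟨V, hV⟩ : ∃ V : Subgroup G,
      V = (S₀ : Subgroup (stabilizer G P)).map (stabilizer G P).subtype := ⟨_, rfl⟩
  have hVcard : Nat.card V = 16 := by
    rw [hV, Subgroup.card_map_of_injective (Subgroup.subtype_injective _)]
    exact hS₀16
  have hVN : V ≤ stabilizer G P := by
    rw [hV]
    rintro _ ⟨v, -, rfl⟩
    exact v.2
  have hV2 : IsPGroup 2 V := IsPGroup.of_card (n := 4) (by rw [hVcard]; norm_num)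
  obtain ⟨S, hVS⟩ := hV2.exists_le_sylow
  have hS16 : Nat.card S = 16 := by
    obtain ⟨k, hk⟩ := IsPGroup.iff_card.mp S.2
    have h16 : 2 ^ 4 ∣ Nat.card S := S.pow_dvd_card_of_pow_dvd_card (by rw [hG]; norm_num)
    have hdvd : Nat.card S ∣ 7920 := by
      rw [← hG]
      exact Subgroup.card_subgroup_dvd_card _
    rw [hk] at h16 hdvd ⊢
    have hk4 : 4 ≤ k := (Nat.pow_dvd_pow_iff_le_right (by norm_num)).mp h16
    have hk5 : k < 5 := by
      by_contra hcon
      have h32 : 2 ^ 5 ∣ 7920 := (pow_dvd_pow 2 (by omega)).trans hdvd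
      norm_num at h32
    have hk' : k = 4 := by omega
    rw [hk']
    norm_num
  have hSV : V = (S : Subgroup G) := Subgroup.eq_of_le_of_card_ge hVS (by rw [hS16, hVcard])
  have hSN : ∀ x ∈ (S : Subgroup G), x ∈ Subgroup.normalizer ((P : Subgroup G) : Set G) := by
    intro x hx
    rw [← hSV] at hx
    exact hstabN x (hVN hx)
  -- an element of `S` outside `C`
  obtain ⟨x₀, hx₀S, hx₀C⟩ : ∃ x ∈ (S : Subgroup G), x ∉ C := by
    by_contra hcon
    push Not at hcon
    have hle : (S : Subgroup G) ≤ C := hcon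
    have h := Subgroup.card_dvd_of_le hle
    rw [hS16, hCc] at h
    omega
  -- `M = S ∩ C` has index 2 in `S`
  obtain ⟨M, hM⟩ : ∃ M : Subgroup (S : Subgroup G), M = C.subgroupOf (S : Subgroup G) :=
    ⟨_, rfl⟩
  have hMidx : M.index = 2 := by
    rw [Subgroup.index_eq_two_iff]
    refine ⟨⟨x₀, hx₀S⟩, fun b => ?_⟩
    rw [hM, Subgroup.mem_subgroupOf, Subgroup.mem_subgroupOf]
    have h := hmul (b : G) x₀ (hSN b b.2) (hSN x₀ hx₀S)
    by_cases hbC : (b : G) ∈ C
    · exact Or.inr ⟨hbC, fun h' => hx₀C ((h.mp h').mp hbC)⟩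
    · exact Or.inl ⟨h.mpr ⟨fun h' => absurd h' hbC, fun h' => absurd h' hx₀C⟩, hbC⟩
  -- all involutions of `S` lie in `C`
  have hinvS : ∀ u ∈ (S : Subgroup G), u * u = 1 → u ∈ C := by
    intro u huS huu
    by_cases hu1 : u = 1
    · rw [hu1]
      exact one_mem _
    obtain ⟨g, hgS, hgM⟩ := thompson_transfer S M hMidx hidx u huS huu
    rw [hM, Subgroup.mem_subgroupOf] at hgM
    have hgM' : g⁻¹ * u * g ∈ C := hgM
    have htt : (g⁻¹ * u * g) * (g⁻¹ * u * g) = 1 := by
      calc (g⁻¹ * u * g) * (g⁻¹ * u * g) = g⁻¹ * (u * u) * g := by group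
        _ = 1 := by rw [huu]; group
    have ht1 : g⁻¹ * u * g ≠ 1 := by
      intro h
      apply hu1
      have e : u = g * (g⁻¹ * u * g) * g⁻¹ := by group
      rw [e, h]
      group
    have hf := hfix _ hgM' htt ht1
    have hu' : u = g * (g⁻¹ * u * g) * g⁻¹ := by group
    have huP : (g * (g⁻¹ * u * g) * g⁻¹) • P = P := by
      rw [← hu']
      exact Sylow.smul_eq_iff_mem_normalizer.mpr (hSN u huS)
    have hgN := Cfsg.Agent.Lib.helper11.mem_normalizer_of_conj_fixes P _ (hC ▸ hgM') hf g huP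
    rw [hu', hC]
    exact Cfsg.Agent.Lib.helper11.conj_mem_centralizer_of_mem_normalizer (P : Subgroup G) hgN
      (hC ▸ hgM')
  -- every involution fixing `P` fixes only `P`
  have hinvfix : ∀ t : G, t * t = 1 → t ≠ 1 → t • P = P → ∀ Q : Sylow 11 G, t • Q = Q → Q = P := by
    intro t htt ht1 htP Q htQ
    obtain ⟨g, hg⟩ := m11k1_conj_mem_sylow S t htt
    have huu : (g * t * g⁻¹) * (g * t * g⁻¹) = 1 := by
      calc (g * t * g⁻¹) * (g * t * g⁻¹) = g * (t * t) * g⁻¹ := by group
        _ = 1 := by rw [htt]; group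
    have hu1 : g * t * g⁻¹ ≠ 1 := by
      intro h
      apply ht1
      have e : t = g⁻¹ * (g * t * g⁻¹) * g := by group
      rw [e, h]
      group
    have huC := hinvS _ hg huu
    have hf := hfix _ huC huu hu1
    have hsub := (Nat.card_eq_one_iff_unique.mp hf).1
    have key : ∀ R : Sylow 11 G, t • R = R → (g * t * g⁻¹) • (g • R) = g • R := by
      intro R hR
      rw [← mul_smul]
      have e : g * t * g⁻¹ * g = g * t := by group
      rw [e, mul_smul, hR]
    have h := hsub.elim
      (⟨g • Q, key Q htQ⟩ : {ω : Sylow 11 G // (g * t * g⁻¹) • ω = ω}) ⟨g • P, key P htP⟩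
    have h' : g • Q = g • P := congrArg Subtype.val h
    exact smul_left_cancel g h'
  -- every nontrivial element of `N(P)` fixes only `P`
  have hsemi : ∀ x : G, x ≠ 1 → x • P = P → ∀ Q : Sylow 11 G, x • Q = Q → Q = P := by
    intro x hx1 hxP Q hxQ
    have hord : orderOf x ∣ 176 := by
      have h := orderOf_dvd_natCard (⟨x, MulAction.mem_stabilizer_iff.mpr hxP⟩ : stabilizer G P)
      rw [hN, Subgroup.orderOf_mk] at h
      exact h
    have hne1 : orderOf x ≠ 1 := fun h => hx1 (orderOf_eq_one_iff.mp h)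
    obtain ⟨r, hr, hrx⟩ := Nat.exists_prime_and_dvd hne1
    have hr176 : r ∣ 2 ^ 4 * 11 := hrx.trans (by norm_num at hord ⊢; exact hord)
    have hpowfix : ∀ (R : Sylow 11 G), x • R = R → ∀ n : ℕ, (x ^ n) • R = R := by
      intro R hR n
      induction n with
      | zero => rw [pow_zero, one_smul]
      | succ n ih => rw [pow_succ, mul_smul, hR, ih]
    have hy : orderOf (x ^ (orderOf x / r)) = r :=
      orderOf_pow_orderOf_div (orderOf_pos x).ne' hrx
    rcases (Nat.Prime.dvd_mul hr).mp hr176 with h | h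
    · have hr2 : r = 2 := (Nat.prime_dvd_prime_iff_eq hr Nat.prime_two).mp (hr.dvd_of_dvd_pow h)
      subst hr2
      have hyy : x ^ (orderOf x / 2) * x ^ (orderOf x / 2) = 1 := by
        have h' := pow_orderOf_eq_one (x ^ (orderOf x / 2))
        rw [hy, pow_two] at h'
        exact h'
      have hy1 : x ^ (orderOf x / 2) ≠ 1 := by
        intro h1
        rw [h1, orderOf_one] at hy
        omega
      exact hinvfix _ hyy hy1 (hpowfix P hxP _) Q (hpowfix Q hxQ _)
    · have hr11 : r = 11 := (Nat.prime_dvd_prime_iff_eq hr (by norm_num)).mp h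
      subst hr11
      exact fixed_unique_of_orderOf_prime P Q hP _ hy (hpowfix P hxP _) (hpowfix Q hxQ _)
  -- a second Sylow 11-subgroup and its orbit under `N(P)`
  have hnontriv : Nontrivial (Sylow 11 G) := by
    rw [← Finite.one_lt_card_iff_nontrivial, hn]
    norm_num
  obtain ⟨Q, hQ⟩ := exists_ne P
  have hinj : Function.Injective (fun x : stabilizer G P => (x : G) • Q) := by
    intro a b hab
    have hab' : (a : G) • Q = (b : G) • Q := hab
    have h1 : ((b : G)⁻¹ * (a : G)) • Q = Q := by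
      rw [mul_smul, hab', ← mul_smul, inv_mul_cancel, one_smul]
    have h2 : ((b : G)⁻¹ * (a : G)) • P = P := by
      have ha := MulAction.mem_stabilizer_iff.mp a.2
      have hb := MulAction.mem_stabilizer_iff.mp b.2
      rw [mul_smul, ha, inv_smul_eq_iff, hb]
    by_contra hne
    have hne1 : (b : G)⁻¹ * (a : G) ≠ 1 := by
      intro h
      apply hne
      apply Subtype.ext
      have := inv_mul_eq_one.mp h
      exact this.symm
    exact hQ (hsemi _ hne1 h2 Q h1)
  have hle := Nat.card_le_card_of_injective _ hinj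
  rw [hN, hn] at hle
  omega

/-- **S4429 piece K1.**  In a simple group of order 7920 the normalizer of a Sylow 11-subgroup `P`
has order 55 and `C(P) = P`. -/
theorem m11_sylow_eleven {G : Type*} [Group G] [Finite G] [IsSimpleGroup G]
    (hG : Nat.card G = 7920) (P : Sylow 11 G) :
    Nat.card (Subgroup.normalizer ((P : Subgroup G) : Set G)) = 55 ∧
      Subgroup.centralizer ((P : Subgroup G) : Set G) ≤ (P : Subgroup G) := by
  have h11 : Fact (Nat.Prime 11) := ⟨by norm_num⟩
  have h3 : Fact (Nat.Prime 3) := ⟨by norm_num⟩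
  obtain ⟨hP, hn1, hmod, ⟨k, hk, hnk⟩, e, he, he1, hCe⟩ :=
    sylow_setup (p := 11) 720 (by rw [hG]) (by norm_num) (by norm_num) P
  have hstab : Nat.card (stabilizer G P) =
      Nat.card (Subgroup.normalizer ((P : Subgroup G) : Set G)) := by
    rw [Sylow.stabilizer_eq_normalizer]
    rfl
  have he' : e = 2 ∨ e = 5 ∨ e = 10 := by
    have hle : e ≤ 10 := Nat.le_of_dvd (by norm_num) he
    have hpos : 0 < e := Nat.pos_of_dvd_of_pos he (by norm_num)
    interval_cases e <;> simp_all
  have hn : Nat.card (Sylow 11 G) = 12 ∨ Nat.card (Sylow 11 G) = 45 ∨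
      Nat.card (Sylow 11 G) = 144 := by
    obtain ⟨j, hj⟩ : ∃ j, Nat.card (Sylow 11 G) = 11 * j + 1 :=
      ⟨Nat.card (Sylow 11 G) / 11, by omega⟩
    rw [hj] at hnk hn1 ⊢
    have hjle : j ≤ 65 := by
      have hkpos : 0 < k := by
        rcases Nat.eq_zero_or_pos k with h | h
        · rw [h] at hnk
          omega
        · exact h
      nlinarith
    interval_cases j <;> omega
  rcases hn with hn | hn | hn
  · -- `n = 12`
    exfalso
    rw [hn] at hnk
    have hk60 : k = 60 := by omega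
    rw [hk60] at hk
    rw [hk] at hCe
    have h3C : 3 ∣ Nat.card (Subgroup.centralizer ((P : Subgroup G) : Set G)) := by
      rcases he' with h | h | h <;> rw [h] at hCe <;> omega
    obtain ⟨x, hxC, hx⟩ := exists_mem_orderOf_prime _ 3 h3C
    obtain ⟨c1, c2, c3⟩ := sylow_prime_counts P hn1 x 3 hx hxC
    rw [hn] at c2 c3
    omega
  · -- `n = 45`
    exfalso
    rw [hn] at hnk
    have hk16 : k = 16 := by omega
    rw [hk16] at hk
    rw [hk] at hCe
    have hC88 : Nat.card (Subgroup.centralizer ((P : Subgroup G) : Set G)) = 88 := by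
      rcases he' with h | h | h <;> rw [h] at hCe <;> omega
    exact m11k1_no_45 hG P hP hn hk hC88
  · -- `n = 144`
    rw [hn] at hnk
    have hk5 : k = 5 := by omega
    rw [hk5] at hk
    rw [hk] at hCe
    have hC11 : Nat.card (Subgroup.centralizer ((P : Subgroup G) : Set G)) = 11 := by
      rcases he' with h | h | h <;> rw [h] at hCe <;> omega
    refine ⟨by rw [← hstab, hk], ?_⟩
    have hPC : (P : Subgroup G) ≤ Subgroup.centralizer ((P : Subgroup G) : Set G) :=
      Cfsg.Agent.Lib.helper11.le_centralizer_of_prime_card (P : Subgroup G) hP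
    have heq := Subgroup.eq_of_le_of_card_ge hPC (by rw [hC11, hP])
    exact le_of_eq heq.symm

end M11K1

end Cfsg.Agent.Lib.helper46
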