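import Mathlib
import Cfsg.Agent.Lib.helper86.IvDefs

/-!
# S3928, piece QM: the image of an element of `ivI α` lies in `ivI` of the quotient
-/

set_option autoImplicit false

namespace Cfsg.Agent.Lib.helper86.IV

/-- QM : the image of an element of `ivI α` lies in `ivI` of the quotient. -/
theorem iv_quot_mem {G : Type*} [Group G] [Finite G] (α : MulAut G) (h2 : ∀ g, α (α g) = g)
    (N : Subgroup G) [N.Normal] (hN : ∀ n ∈ N, α n ∈ N) (x : G) (hx : x ∈ ivI α) :
    (QuotientGroup.mk x : G ⧸ N) ∈ ivI (ivQ α h2 N hN) := by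
  obtain ⟨hodd, hinv⟩ := hx
  refine ⟨?_, ?_⟩
  · have hdvd : orderOf (QuotientGroup.mk x : G ⧸ N) ∣ orderOf x := by
      apply orderOf_dvd_of_pow_eq_one
      rw [← QuotientGroup.mk_pow, pow_orderOf_eq_one]
      rfl
    exact Odd.of_dvd_nat hodd hdvd
  · rw [ivQ_mk, hinv]
    rfl

end Cfsg.Agent.Lib.helper86.IV
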