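import Cfsg.Agent.Lib.helper81.WTDefs

/-!
# S4414, piece SUPPT: the support of a `T`-fixed vector is `T`-invariant
(self-contained: includes prefixed copies of PE and SUPP)
-/

set_option autoImplicit false

namespace Cfsg.Agent.Lib.helper81.WT

open scoped TensorProduct

universe u v w

/-- [PE] equivariance of the weight projections (prefixed copy) -/
theorem helper46_proj_equiv {S : Type u} [Group S] {F : Type w} [Field F]
    {V : Type v} [AddCommGroup V] [Module F V]
    (R : Representation F S V) (Y : Subgroup S) [Y.Normal] [Fintype ↥Y]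
    (g : S) (μ : ↥Y →* Fˣ) (v : V) :
    R g (proj R Y μ v) = proj R Y (cj Y g μ) (R g v) := by
  rw [proj_apply, proj_apply, map_sum]
  refine Fintype.sum_equiv (MulAut.conjNormal g : ↥Y ≃* ↥Y).toEquiv _ _ (fun y => ?_)
  rw [map_smul, cj_apply]
  have h1 : (MulAut.conjNormal g⁻¹ : ↥Y ≃* ↥Y)
      (((MulAut.conjNormal g : ↥Y ≃* ↥Y).toEquiv y)⁻¹) = y⁻¹ := by
    apply Subtype.ext
    simp
  have h2 : R ((((MulAut.conjNormal g : ↥Y ≃* ↥Y).toEquiv y : ↥Y) : S)) (R g v)
      = R g (R (y : S) v) := by
    rw [← Module.End.mul_apply, ← Module.End.mul_apply, ← map_mul, ← map_mul]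
    congr 2
    simp [MulAut.conjNormal_apply, mul_assoc]
  rw [h1, h2]

/-- [SUPP] supports transform under the group (prefixed copy) -/
theorem helper46_supp_smul {S : Type u} [Group S] {F : Type w} [Field F]
    {V : Type v} [AddCommGroup V] [Module F V]
    (R : Representation F S V) (Y : Subgroup S) [Y.Normal] [Fintype ↥Y]
    (g : S) (v : V) : supp R Y (R g v) = cj Y g '' supp R Y v := by
  have hinj : ∀ w : V, R g w = 0 → w = 0 := by
    intro w hw
    have h := congrArg (R g⁻¹) hw
    rw [← Module.End.mul_apply, ← map_mul, inv_mul_cancel, map_one, map_zero] at h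
    simpa using h
  ext ν
  constructor
  · intro hν
    refine ⟨cj Y g⁻¹ ν, ?_, ?_⟩
    · intro h0
      apply hν
      have h := helper46_proj_equiv R Y g (cj Y g⁻¹ ν) v
      rw [← cj_mul, mul_inv_cancel, cj_one] at h
      rw [← h, h0, map_zero]
    · rw [← cj_mul, mul_inv_cancel, cj_one]
  · rintro ⟨ν', hν', rfl⟩
    intro h0
    apply hν'
    apply hinj
    rw [helper46_proj_equiv R Y g ν' v]
    exact h0

/-- [SUPPT] the support of a T-fixed vector is T-invariant; uses SUPP -/
theorem supp_fix {S : Type u} [Group S] [Finite S] {F : Type w} [Field F] [Finite F] [CharP F 2]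
    {V : Type v} [AddCommGroup V] [Module F V]
    (R : Representation F S V) (Y : Subgroup S) [Y.Normal] [Fintype ↥Y]
    (T : Subgroup S) (v : V) (hv : v ∈ fixT R T) (t : S) (ht : t ∈ T) (ν : ↥Y →* Fˣ)
    (hν : ν ∈ supp R Y v) : cj Y t ν ∈ supp R Y v := by
  have h1 : supp R Y (R t v) = cj Y t '' supp R Y v := helper46_supp_smul R Y t v
  rw [hv t ht] at h1
  rw [h1]
  exact ⟨ν, hν, rfl⟩

end Cfsg.Agent.Lib.helper81.WT
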