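import Mathlib
import Cfsg.Agent.Lib.helper24.SffDefs
import Cfsg.Agent.Lib.helper46.SffN4A1core
import Cfsg.Agent.Lib.helper19.SffDIAG

/-! S5965 split (helper24), piece N4A1: the derangement `w • diag(ζ, 1, …, 1)`. -/

set_option autoImplicit false

namespace Cfsg.Agent.Lib.helper24

/-- N4A1 -/
theorem sff_nec_one {F : Type*} [Field F] [Fintype F] (F₀ : Subfield F) {n : ℕ} (hn : 2 ≤ n)
    (r : ℕ) [Fact r.Prime] (hr2 : r ≠ 2) (hd : r ∣ Fintype.card F - 1)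
    (hq₀ : ¬ r ∣ Nat.card F₀) (hnd₀ : ¬ r ∣ Nat.card F₀ - 1)
    (h2 : n = 2 → ¬ r ∣ Nat.card F₀ + 1)
    (hv : padicValNat r n < padicValNat r (Fintype.card F - 1)) : SffDerang F₀ r n :=
  h46_sff_nec_one_core F₀ hn r hr2 hd hq₀ hnd₀ h2 hv
    (fun ζ hζ a w hw h => sff_diag_crit F₀ r ζ hζ a w hw h)

end Cfsg.Agent.Lib.helper24
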