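/-
S5988 piece KTY (helper99's split): `sre_K_ty`.
-/
import Mathlib
import Cfsg.Agent.Lib.helper24.SroReal

set_option autoImplicit false
set_option linter.unusedSectionVars false
set_option linter.unusedVariables false

namespace Cfsg.Agent.Lib.helper46

open Module Cfsg.Agent.Lib.helper24 Cfsg.Agent.Lib.helper45 Cfsg.Agent.Lib.helper49

universe u

section generic

variable {F : Type u} [Field F] [Fintype F]

/-- a zero-dimensional subspace has type `+1` only. -/
theorem sre46_ty_zero {V : Type u} [AddCommGroup V] [Module F V] [FiniteDimensional F V]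
    (Q : QuadraticForm F V) (K : Submodule F V) (hK : finrank F K = 0) (κ : ℤ)
    (hκ : κ = 1 ∨ κ = -1) (hty : SrTy Q K κ) : κ = 1 := by
  rcases hκ with h | h
  · exact h
  · exfalso
    have hsub : Subsingleton ↥K := Module.finrank_zero_iff.mp hK
    have h1 : srNu Q K 0 = 1 := by
      unfold srNu
      rw [Nat.card_eq_one_iff_unique]
      refine ⟨inferInstance, ⟨⟨0, by simp⟩⟩⟩
    have h2 := hty 0
    rw [h1, hK, h] at h2
    simp only [if_true, Nat.zero_div, pow_zero, Nat.cast_one] at h2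
    have h3 : (2 : ℤ) ≤ (Fintype.card F : ℤ) := by
      exact_mod_cast Fintype.one_lt_card
    linarith

/-- KTY: `dim R = c * b`, `dim K` is even, and the type of `K` is `ε * δ` where `δ` is the type
of `R`, determined by `δ * q ^ (c * b / 2) ≡ 1 (mod r)`. -/
theorem sre_K_ty {V : Type u} [AddCommGroup V] [Module F V] [FiniteDimensional F V]
    (Q : QuadraticForm F V) (hnd : ∀ v, (∀ w, QuadraticMap.polar Q v w = 0) → v = 0)
    (T : Module.End F V) (hT : ∀ v, Q (T v) = Q v)
    (p f' : ℕ) [Fact p.Prime] (hF : Fintype.card F = p ^ f') (r : ℕ) [Fact r.Prime]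
    (hpr : p.Coprime r) (hr2 : r ≠ 2) (hTr : T ^ r = 1)
    (i c : ℕ) (hi : i = orderOf ((Fintype.card F : ℕ) : ZMod r))
    (hc : c = if Even i then i else 2 * i)
    (ε : ℤ) (hε : ε = 1 ∨ ε = -1) (n' : ℕ) (hdim : finrank F V = 2 * n') (hty : SrTy Q ⊤ ε) :
    ∃ (δ : ℤ) (b k' : ℕ), (δ = 1 ∨ δ = -1) ∧
      finrank F (LinearMap.range (T - 1)) = c * b ∧
      finrank F (LinearMap.ker (T - 1)) = 2 * k' ∧
      SrTy Q (LinearMap.ker (T - 1)) (ε * δ) ∧
      ((δ : ℤ) : ZMod r) * ((Fintype.card F : ℕ) : ZMod r) ^ (c * b / 2) = 1 ∧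
      (k' = 0 → ε * δ = 1) := by
  have hrF := el_natCast_ne_zero (F := F) p f' hF r hpr
  have hRnd := sr_R_nd Q hnd T hT r hTr hrF
  have hKnd := sr_K_nd Q hnd T hT r hTr hrF
  have hRinv := sr_R_inv T
  have hKR := sr_KR_bot T r hTr hrF
  have htop := sp_fix_range_top T r hTr hrF
  obtain ⟨b, hb⟩ := sr_dvd Q hnd T hT p f' hF r hpr hr2 hTr i c hi hc _ hRnd hRinv hKR
  have hceven : Even c := by
    rw [hc]
    split_ifs with h
    · exact h
    · exact even_two_mul i
  obtain ⟨c', hc'⟩ := hceven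
  have hRdim : finrank F (LinearMap.range (T - 1)) = 2 * (c * b / 2) := by
    rw [hb, hc']
    have : (c' + c') * b = 2 * (c' * b) := by ring
    rw [this, Nat.mul_div_cancel_left _ (by norm_num : 0 < 2)]
  obtain ⟨δ, hδ, hRty, hδq⟩ :=
    sr_ty_free Q T hT p f' hF r hpr hr2 hTr _ hRnd hRinv hKR (c * b / 2) hRdim
  have hrn := LinearMap.finrank_range_add_finrank_ker (T - 1)
  have hKdim : finrank F (LinearMap.ker (T - 1)) = 2 * (n' - c * b / 2) := by omega
  have horth := sr_KR_orth Q T hT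
  -- the type of `K`
  obtain ⟨κ, hκ, hKty⟩ : ∃ κ : ℤ, (κ = 1 ∨ κ = -1) ∧ SrTy Q (LinearMap.ker (T - 1)) κ := by
    rcases sr_ty_or Q _ hKnd _ hKdim with h | h
    · exact ⟨1, Or.inl rfl, h⟩
    · exact ⟨-1, Or.inr rfl, h⟩
  have hsum := sr_ty_sum Q _ _ horth hKR κ δ hKty hRty (by rw [hKdim]; exact even_two_mul _)
    (by rw [hRdim]; exact even_two_mul _)
  rw [htop] at hsum
  have hκδ : κ * δ = ε := by
    unfold SrTy at hsum hty
    have h1 := Unif.unique hsum hty
    have hpos : (0 : ℤ) < (Fintype.card F : ℤ) ^ (finrank F (⊤ : Submodule F V) / 2) := by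
      apply pow_pos
      exact_mod_cast Fintype.card_pos
    exact mul_right_cancel₀ hpos.ne' h1
  have hδ2 : δ * δ = 1 := by
    rcases hδ with h | h <;> rw [h] <;> norm_num
  have hκeq : κ = ε * δ := by
    rw [← hκδ, mul_assoc, hδ2, mul_one]
  refine ⟨δ, b, n' - c * b / 2, hδ, hb, hKdim, ?_, hδq, ?_⟩
  · rw [← hκeq]
    exact hKty
  · intro hk0
    rw [← hκeq]
    apply sre46_ty_zero Q _ _ κ hκ hKty
    rw [hKdim, hk0]

end generic

end Cfsg.Agent.Lib.helper46
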