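import Mathlib
import Cfsg.Agent.Lib.helper86.IvDefs

/-!
# S3928, piece FIX: the fixed points of `α` in a subgroup meeting the centre trivially act
faithfully on `ivI α`
-/

set_option autoImplicit false

namespace Cfsg.Agent.Lib.helper86.IV

theorem helper46_conj_mem_ivI {G : Type*} [Group G] (α : MulAut G) (c : G) (hc : α c = c) (x : G)
    (hx : x ∈ ivI α) : c * x * c⁻¹ ∈ ivI α := by
  obtain ⟨hodd, hinv⟩ := hx
  refine ⟨?_, ?_⟩
  · have h1 : orderOf (c * x * c⁻¹) = orderOf x := by
      rw [← MulAut.conj_apply]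
      exact MulEquiv.orderOf_eq _ x
    rw [h1]
    exact hodd
  · rw [map_mul, map_mul, map_inv, hc, hinv]
    group

/-- FIX : the fixed points of `α` in a subgroup meeting the centre trivially act faithfully on
`ivI α`. -/
theorem iv_fix_card {G : Type*} [Group G] [Finite G] (α : MulAut G)
    (hgen : Subgroup.closure (ivI α) = ⊤) (N : Subgroup G)
    (hNZ : N ⊓ Subgroup.center G = ⊥) :
    Nat.card {c : N // α (c : G) = c} ≤ Nat.factorial (Nat.card (ivI α)) := by
  classical
  have hiff : ∀ (c : {c : N // α (c : G) = c}) (a : G),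
      a ∈ ivI α ↔ (MulAut.conj ((c : N) : G)).toEquiv a ∈ ivI α := by
    intro c a
    constructor
    · intro ha
      exact helper46_conj_mem_ivI α _ c.2 a ha
    · intro ha
      have hc' : α ((c : N) : G)⁻¹ = ((c : N) : G)⁻¹ := by rw [map_inv, c.2]
      have h3 := helper46_conj_mem_ivI α _ hc' _ ha
      have h4 : ((c : N) : G)⁻¹ * (MulAut.conj ((c : N) : G)).toEquiv a * (((c : N) : G)⁻¹)⁻¹ = a := by
        change ((c : N) : G)⁻¹ * (((c : N) : G) * a * ((c : N) : G)⁻¹) * (((c : N) : G)⁻¹)⁻¹ = a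
        group
      rw [h4] at h3
      exact h3
  let Φ : {c : N // α (c : G) = c} → Equiv.Perm (ivI α) := fun c =>
    (MulAut.conj ((c : N) : G)).toEquiv.subtypeEquiv (hiff c)
  have hΦ : Function.Injective Φ := by
    intro c c' hcc
    have h1 : ∀ x ∈ ivI α, ((c : N) : G) * x * ((c : N) : G)⁻¹
        = ((c' : N) : G) * x * ((c' : N) : G)⁻¹ := by
      intro x hx
      have h5 := congrArg (fun e : Equiv.Perm (ivI α) => ((e ⟨x, hx⟩ : ivI α) : G)) hcc
      exact h5
    have hle : Subgroup.closure (ivI α)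
        ≤ Subgroup.centralizer {((c : N) : G)⁻¹ * ((c' : N) : G)} := by
      rw [Subgroup.closure_le]
      intro x hx
      rw [SetLike.mem_coe, Subgroup.mem_centralizer_iff]
      intro z hz
      rw [Set.mem_singleton_iff] at hz
      subst hz
      have h := h1 x hx
      calc ((c : N) : G)⁻¹ * ((c' : N) : G) * x
          = ((c : N) : G)⁻¹ * (((c' : N) : G) * x * ((c' : N) : G)⁻¹) * ((c' : N) : G) := by group
        _ = ((c : N) : G)⁻¹ * (((c : N) : G) * x * ((c : N) : G)⁻¹) * ((c' : N) : G) := by rw [h]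
        _ = x * (((c : N) : G)⁻¹ * ((c' : N) : G)) := by group
    have hz : ((c : N) : G)⁻¹ * ((c' : N) : G) ∈ Subgroup.center G := by
      rw [Subgroup.mem_center_iff]
      intro g
      have hg : g ∈ Subgroup.centralizer {((c : N) : G)⁻¹ * ((c' : N) : G)} :=
        hle (by rw [hgen]; exact Subgroup.mem_top g)
      rw [Subgroup.mem_centralizer_iff] at hg
      exact (hg _ (Set.mem_singleton _)).symm
    have hzN : ((c : N) : G)⁻¹ * ((c' : N) : G) ∈ N := N.mul_mem (N.inv_mem c.1.2) c'.1.2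
    have hmem : ((c : N) : G)⁻¹ * ((c' : N) : G) ∈ N ⊓ Subgroup.center G := ⟨hzN, hz⟩
    rw [hNZ, Subgroup.mem_bot] at hmem
    apply Subtype.ext
    apply Subtype.ext
    exact inv_mul_eq_one.1 hmem
  calc Nat.card {c : N // α (c : G) = c} ≤ Nat.card (Equiv.Perm (ivI α)) :=
        Nat.card_le_card_of_injective Φ hΦ
    _ = Nat.factorial (Nat.card (ivI α)) := Nat.card_perm

end Cfsg.Agent.Lib.helper86.IV
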