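/-
S2522 piece CONJ (helper51's split): `ru_conj`, `pp_conj`, `ps_conj`.
-/
import Mathlib
import Cfsg.Agent.Lib.helper51.LevDefs

set_option autoImplicit false

namespace Cfsg.Agent.Lib.helper51.Lev

open Matrix

variable {K : Type*} [Field K]

/-- a rectangular invertible pair has equal index cardinalities -/
theorem helper46_card_eq {ι κ : Type} [Fintype ι] [DecidableEq ι] [Fintype κ] [DecidableEq κ]
    (P : Matrix ι κ K) (P' : Matrix κ ι K) (h1 : P * P' = 1) (h2 : P' * P = 1) :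
    Fintype.card ι = Fintype.card κ := by
  apply le_antisymm
  · have h3 : (1 : Matrix ι ι K).rank ≤ P'.rank := by
      rw [← h1]; exact Matrix.rank_mul_le_right P P'
    rw [Matrix.rank_one] at h3
    exact le_trans h3 (Matrix.rank_le_card_height P')
  · have h3 : (1 : Matrix κ κ K).rank ≤ P.rank := by
      rw [← h2]; exact Matrix.rank_mul_le_right P' P
    rw [Matrix.rank_one] at h3
    exact le_trans h3 (Matrix.rank_le_card_height P)

theorem helper46_conj_sub_one {ι κ : Type} [Fintype ι] [DecidableEq ι] [Fintype κ]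
    [DecidableEq κ] (P : Matrix ι κ K) (P' : Matrix κ ι K) (h1 : P * P' = 1)
    (A : Matrix κ κ K) : P * A * P' - 1 = P * (A - 1) * P' := by
  rw [Matrix.mul_sub, Matrix.sub_mul, Matrix.mul_one, h1]

theorem helper46_conj_pow {ι κ : Type} [Fintype ι] [DecidableEq ι] [Fintype κ]
    [DecidableEq κ] (P : Matrix ι κ K) (P' : Matrix κ ι K) (h1 : P * P' = 1) (h2 : P' * P = 1)
    (N : Matrix κ κ K) (n : ℕ) : (P * N * P') ^ n = P * N ^ n * P' := by
  induction n with
  | zero => rw [pow_zero, pow_zero, Matrix.mul_one, h1]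
  | succ k ih =>
    rw [pow_succ, ih, pow_succ]
    calc P * N ^ k * P' * (P * N * P') = P * N ^ k * (P' * P) * N * P' := by
          simp only [Matrix.mul_assoc]
      _ = P * (N ^ k * N) * P' := by rw [h2, Matrix.mul_one, Matrix.mul_assoc P]

/-- PIECE CONJ (a): conjugation by a rectangular invertible pair preserves `RU`. -/
theorem ru_conj {ι κ : Type} [Fintype ι] [DecidableEq ι] [Fintype κ] [DecidableEq κ]
    (P : Matrix ι κ K) (P' : Matrix κ ι K) (h1 : P * P' = 1) (h2 : P' * P = 1)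
    (A : Matrix κ κ K) (hA : RU A) : RU (P * A * P') := by
  obtain ⟨hnil, hrank⟩ := hA
  refine ⟨?_, ?_⟩
  · obtain ⟨n, hn⟩ := hnil
    refine ⟨n, ?_⟩
    rw [helper46_conj_sub_one P P' h1, helper46_conj_pow P P' h1 h2, hn, Matrix.mul_zero,
      Matrix.zero_mul]
  · rw [helper46_conj_sub_one P P' h1, helper46_card_eq P P' h1 h2, ← hrank]
    congr 1
    apply le_antisymm
    · exact le_trans (Matrix.rank_mul_le_left _ _) (Matrix.rank_mul_le_right _ _)
    · have h3 : A - 1 = P' * (P * (A - 1) * P') * P := by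
        calc A - 1 = (P' * P) * (A - 1) * (P' * P) := by rw [h2, Matrix.one_mul, Matrix.mul_one]
          _ = P' * (P * (A - 1) * P') * P := by simp only [Matrix.mul_assoc]
      have h4 : (P' * (P * (A - 1) * P') * P).rank ≤ (P * (A - 1) * P').rank :=
        le_trans (Matrix.rank_mul_le_left _ _) (Matrix.rank_mul_le_right _ _)
      rw [← h3] at h4
      exact h4

theorem helper46_conj_back {ι κ : Type} [Fintype ι] [DecidableEq ι] [Fintype κ]
    [DecidableEq κ] (P : Matrix ι κ K) (P' : Matrix κ ι K) (h1 : P * P' = 1) (h2 : P' * P = 1)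
    (g : Matrix ι ι K) (A B : Matrix κ κ K) (hg : P' * g * P = A * B) :
    g = (P * A * P') * (P * B * P') := by
  calc g = (P * P') * g * (P * P') := by rw [h1, Matrix.one_mul, Matrix.mul_one]
    _ = P * (P' * g * P) * P' := by simp only [Matrix.mul_assoc]
    _ = P * (A * B) * P' := by rw [hg]
    _ = P * (A * (P' * P) * B) * P' := by rw [h2, Matrix.mul_one]
    _ = (P * A * P') * (P * B * P') := by simp only [Matrix.mul_assoc]

/-- PIECE CONJ (b). -/
theorem pp_conj {ι κ : Type} [Fintype ι] [DecidableEq ι] [Fintype κ] [DecidableEq κ]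
    (P : Matrix ι κ K) (P' : Matrix κ ι K) (h1 : P * P' = 1) (h2 : P' * P = 1)
    (g : Matrix ι ι K) (h : PP (P' * g * P)) : PP g := by
  obtain ⟨A, B, hA, hB, hg⟩ := h
  exact ⟨P * A * P', P * B * P', ru_conj P P' h1 h2 A hA, ru_conj P P' h1 h2 B hB,
    helper46_conj_back P P' h1 h2 g A B hg⟩

/-- PIECE CONJ (c). -/
theorem ps_conj {ι κ : Type} [Fintype ι] [DecidableEq ι] [Fintype κ] [DecidableEq κ]
    (P : Matrix ι κ K) (P' : Matrix κ ι K) (h1 : P * P' = 1) (h2 : P' * P = 1)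
    (g : Matrix ι ι K) (c r : ι → K) (h : PS (P' * g * P) (P' *ᵥ c) (r ᵥ* P)) : PS g c r := by
  obtain ⟨A, B, hA, hB, hg, hc, hr⟩ := h
  refine ⟨P * A * P', P * B * P', ru_conj P P' h1 h2 A hA, ru_conj P P' h1 h2 B hB,
    helper46_conj_back P P' h1 h2 g A B hg, ?_, ?_⟩
  · intro w hw
    apply hc (P' *ᵥ w)
    have e1 : (A - 1) * P' = P' * (P * (A - 1) * P') := by
      calc (A - 1) * P' = (P' * P) * (A - 1) * P' := by rw [h2, Matrix.one_mul]
        _ = P' * (P * (A - 1) * P') := by simp only [Matrix.mul_assoc]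
    rw [helper46_conj_sub_one P P' h1] at hw
    calc (A - 1) *ᵥ (P' *ᵥ w) = ((A - 1) * P') *ᵥ w := Matrix.mulVec_mulVec _ _ _
      _ = (P' * (P * (A - 1) * P')) *ᵥ w := by rw [e1]
      _ = P' *ᵥ ((P * (A - 1) * P') *ᵥ w) := (Matrix.mulVec_mulVec _ _ _).symm
      _ = P' *ᵥ c := by rw [hw]
  · intro w hw hw0
    have hB' : B *ᵥ (P' *ᵥ w) = P' *ᵥ w := by
      have e1 : B * P' = P' * (P * B * P') := by
        calc B * P' = (P' * P) * B * P' := by rw [h2, Matrix.one_mul]
          _ = P' * (P * B * P') := by simp only [Matrix.mul_assoc]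
      calc B *ᵥ (P' *ᵥ w) = (B * P') *ᵥ w := Matrix.mulVec_mulVec _ _ _
        _ = (P' * (P * B * P')) *ᵥ w := by rw [e1]
        _ = P' *ᵥ ((P * B * P') *ᵥ w) := (Matrix.mulVec_mulVec _ _ _).symm
        _ = P' *ᵥ w := by rw [hw]
    have hne : P' *ᵥ w ≠ 0 := by
      intro h0
      apply hw0
      have h4 : P *ᵥ (P' *ᵥ w) = w := by
        rw [Matrix.mulVec_mulVec, h1, Matrix.one_mulVec]
      rw [← h4, h0, Matrix.mulVec_zero]
    have h5 := hr (P' *ᵥ w) hB' hne
    have h6 : r ᵥ* P ⬝ᵥ P' *ᵥ w = r ⬝ᵥ w := by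
      rw [← Matrix.dotProduct_mulVec, Matrix.mulVec_mulVec, h1, Matrix.one_mulVec]
    rwa [h6] at h5

end Cfsg.Agent.Lib.helper51.Lev
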