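/-
S2522 piece NONEV (helper51's split): `nonev_z`.
-/
import Mathlib
import Cfsg.Agent.Lib.helper51.LevDefs
import Cfsg.Agent.Lib.helper80.LevUTIL

set_option autoImplicit false

namespace Cfsg.Agent.Lib.helper51.Lev

open Matrix

variable {K : Type*} [Field K]

/-- the hyperplane `ρ ⬝ᵥ z = 0` as a submodule -/
def helper46_kerDot {ι : Type} [Fintype ι] (ρ : ι → K) : Submodule K (ι → K) where
  carrier := {z | ρ ⬝ᵥ z = 0}
  add_mem' := by
    intro a b ha hb
    simp only [Set.mem_ofPred_eq] at *
    rw [dotProduct_add, ha, hb, add_zero]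
  zero_mem' := by simp
  smul_mem' := by
    intro c x hx
    simp only [Set.mem_ofPred_eq] at *
    rw [dotProduct_smul, hx, smul_zero]

theorem helper46_mem_kerDot {ι : Type} [Fintype ι] (ρ z : ι → K) :
    z ∈ helper46_kerDot ρ ↔ ρ ⬝ᵥ z = 0 := Iff.rfl

/-- the eigenspace `g z = a z` as a submodule -/
def helper46_eig {ι : Type} [Fintype ι] [DecidableEq ι] (g : Matrix ι ι K) (a : K) :
    Submodule K (ι → K) where
  carrier := {z | g *ᵥ z = a • z}
  add_mem' := by
    intro x y hx hy
    simp only [Set.mem_ofPred_eq] at *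
    rw [Matrix.mulVec_add, hx, hy, smul_add]
  zero_mem' := by simp
  smul_mem' := by
    intro c x hx
    simp only [Set.mem_ofPred_eq] at *
    rw [Matrix.mulVec_smul, hx, smul_comm]

theorem helper46_mem_eig {ι : Type} [Fintype ι] [DecidableEq ι] (g : Matrix ι ι K) (a : K)
    (z : ι → K) : z ∈ helper46_eig g a ↔ g *ᵥ z = a • z := Iff.rfl

/-- a matrix all of whose vectors are eigenvectors for `a` is the scalar `a` -/
theorem helper46_eq_smul_one {ι : Type} [Fintype ι] [DecidableEq ι] (g : Matrix ι ι K) (a : K)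
    (h : ∀ z : ι → K, g *ᵥ z = a • z) : g = a • (1 : Matrix ι ι K) := by
  ext i j
  have h1 := congrFun (h (Pi.single j 1)) i
  rw [Matrix.mulVec_single_one] at h1
  simp only [Matrix.col_apply, Pi.smul_apply, smul_eq_mul] at h1
  rw [h1, Matrix.smul_apply, Matrix.one_apply, Pi.single_apply]
  simp

theorem helper46_eig_ne_top {ι : Type} [Fintype ι] [DecidableEq ι] (g : Matrix ι ι K)
    (hns : NonScalar g) (a : K) : helper46_eig g a ≠ ⊤ := by
  intro h
  apply hns
  refine ⟨a, helper46_eq_smul_one g a fun z => ?_⟩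
  have : z ∈ helper46_eig g a := by rw [h]; exact Submodule.mem_top
  exact this

theorem helper46_kerDot_ne_top {ι : Type} [Fintype ι] [DecidableEq ι] (ρ : ι → K) (hρ : ρ ≠ 0) :
    helper46_kerDot ρ ≠ ⊤ := by
  intro h
  apply hρ
  ext i
  have : Pi.single i (1 : K) ∈ helper46_kerDot ρ := by rw [h]; exact Submodule.mem_top
  rw [helper46_mem_kerDot, dotProduct_single_one] at this
  exact this

theorem helper46_span_ne_top {ι : Type} [Fintype ι] [DecidableEq ι] (g : Matrix ι ι K)
    (hns : NonScalar g) (d : ι → K) : Submodule.span K {d} ≠ ⊤ := by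
  intro h
  have hall : ∀ z : ι → K, ∃ c : K, c • d = z := by
    intro z
    have : z ∈ Submodule.span K {d} := by rw [h]; exact Submodule.mem_top
    exact Submodule.mem_span_singleton.mp this
  obtain ⟨γ, hγ⟩ := hall (g *ᵥ d)
  apply hns
  refine ⟨γ, helper46_eq_smul_one g γ fun z => ?_⟩
  obtain ⟨c, hc⟩ := hall z
  rw [← hc, Matrix.mulVec_smul, ← hγ, smul_comm]

/-- PIECE NONEV: a non-eigenvector avoiding a hyperplane and a line, for quadratic matrices. -/
theorem nonev_z (hK : 4 ≤ Cardinal.mk K) {ι : Type} [Fintype ι] [DecidableEq ι]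
    (g : Matrix ι ι K) (hns : NonScalar g) (s p : K)
    (hq : g * g = s • g - p • (1 : Matrix ι ι K)) (ρ d : ι → K) (hρ : ρ ≠ 0) :
    ∃ z : ι → K, LinearIndependent K ![z, g *ᵥ z] ∧ ρ ⬝ᵥ z ≠ 0 ∧ ∀ a : K, z ≠ a • d := by
  classical
  set α : K := if h : ∃ α : K, α * α - s * α + p = 0 then Classical.choose h else 0 with hα
  have hK4 : ((4 : ℕ) : Cardinal) ≤ Cardinal.mk K := by exact_mod_cast hK
  obtain ⟨z, hz⟩ := avoid 4 hK4
    ![helper46_eig g α, helper46_eig g (s - α), helper46_kerDot ρ, Submodule.span K {d}] (by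
      intro i
      fin_cases i
      · exact helper46_eig_ne_top g hns α
      · exact helper46_eig_ne_top g hns (s - α)
      · exact helper46_kerDot_ne_top ρ hρ
      · exact helper46_span_ne_top g hns d)
  have hz0 : z ∉ helper46_eig g α := hz 0
  have hz1 : z ∉ helper46_eig g (s - α) := hz 1
  have hz2 : z ∉ helper46_kerDot ρ := hz 2
  have hz3 : z ∉ Submodule.span K {d} := hz 3
  have hzne : z ≠ 0 := by
    rintro rfl
    exact hz2 (Submodule.zero_mem _)
  refine ⟨z, ?_, hz2, ?_⟩
  · rw [LinearIndependent.pair_iff]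
    intro a b hab
    have hb : b = 0 := by
      by_contra hb
      -- `g z = γ z`
      have hγ : g *ᵥ z = (-a / b) • z := by
        have h1 : b • g *ᵥ z = (-a) • z := by
          rw [neg_smul]
          exact eq_neg_of_add_eq_zero_right hab
        calc g *ᵥ z = b⁻¹ • (b • g *ᵥ z) := by rw [smul_smul, inv_mul_cancel₀ hb, one_smul]
          _ = (-a / b) • z := by rw [h1, smul_smul]; congr 1; field_simp
      set γ := -a / b with hγdef
      have hroot : γ * γ - s * γ + p = 0 := by
        have h2 : (g * g) *ᵥ z = (γ * γ) • z := by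
          rw [← Matrix.mulVec_mulVec, hγ, Matrix.mulVec_smul, hγ, smul_smul]
        rw [hq, Matrix.sub_mulVec, Matrix.smul_mulVec, Matrix.smul_mulVec, Matrix.one_mulVec,
          hγ, smul_smul] at h2
        have h3 : (γ * γ - s * γ + p) • z = 0 := by
          rw [add_smul, sub_smul, ← h2]; abel
        rcases smul_eq_zero.mp h3 with h | h
        · exact h
        · exact absurd h hzne
      have hex : ∃ α : K, α * α - s * α + p = 0 := ⟨γ, hroot⟩
      have hαroot : α * α - s * α + p = 0 := by
        rw [hα, dif_pos hex]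
        exact Classical.choose_spec hex
      have hprod : (γ - α) * (γ - (s - α)) = 0 := by
        linear_combination hroot - hαroot
      rcases mul_eq_zero.mp hprod with h | h
      · apply hz0
        rw [helper46_mem_eig, hγ, sub_eq_zero.mp h]
      · apply hz1
        rw [helper46_mem_eig, hγ, sub_eq_zero.mp h]
    refine ⟨?_, hb⟩
    rw [hb, zero_smul, add_zero] at hab
    rcases smul_eq_zero.mp hab with h | h
    · exact h
    · exact absurd h hzne
  · intro a ha
    apply hz3
    rw [ha]
    exact Submodule.smul_mem _ _ (Submodule.mem_span_singleton_self d)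

end Cfsg.Agent.Lib.helper51.Lev
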