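import Mathlib
import Cfsg.Agent.Lib.helper75.PQDefs
import Cfsg.Agent.Lib.helper1.Coprime

/-!
# S4306 pieces C2, C3, C8: group theory of a minimal tower

* `MinTower.caseA_cz` (C2): in case (a), `K` centralizes `S`;
* `MinTower.caseB_fpf` (C3): in case (b), nontrivial elements of `K` act fixed-point-freely on
  `S / C_S(R)`;
* `MinTower.fix_S_abelian` (C8): if `R` is abelian then `C_R(S) = 1`.
-/

set_option autoImplicit false

namespace Cfsg.Agent.Lib.helper46.PQ

open scoped commutatorElement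

variable {Γ : Type*} [Group Γ]

/-- Conjugation criterion for being inside a normalizer. -/
theorem pq_le_normalizer_of_conj {K H : Subgroup Γ} (h : ∀ k ∈ K, ∀ x ∈ H, k * x * k⁻¹ ∈ H) :
    K ≤ Subgroup.normalizer (H : Set Γ) := by
  intro k hk
  rw [Subgroup.mem_normalizer_iff]
  intro x
  refine ⟨h k hk x, fun hx => ?_⟩
  have h1 := h k⁻¹ (K.inv_mem hk) _ hx
  have h2 : k⁻¹ * (k * x * k⁻¹) * k⁻¹⁻¹ = x := by group
  rwa [h2] at h1

/-- Conjugation form of membership in the normalizer. -/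
theorem pq_conj_mem_of_mem_normalizer {H : Subgroup Γ} {g : Γ}
    (hg : g ∈ Subgroup.normalizer (H : Set Γ)) {x : Γ} (hx : x ∈ H) : g * x * g⁻¹ ∈ H :=
  (Subgroup.mem_normalizer_iff.mp hg x).mp hx

/-- The other conjugation form of membership in the normalizer. -/
theorem pq_conj_mem_of_mem_normalizer' {H : Subgroup Γ} {g : Γ}
    (hg : g ∈ Subgroup.normalizer (H : Set Γ)) {x : Γ} (hx : x ∈ H) : g⁻¹ * x * g ∈ H := by
  have h1 := pq_conj_mem_of_mem_normalizer (Subgroup.inv_mem _ hg) hx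
  simpa using h1

/-- The normalizer of `R` normalizes the centralizer of `R`. -/
theorem pq_conj_mem_centralizer {R : Subgroup Γ} {g : Γ}
    (hg : g ∈ Subgroup.normalizer (R : Set Γ)) {c : Γ}
    (hc : c ∈ Subgroup.centralizer (R : Set Γ)) :
    g * c * g⁻¹ ∈ Subgroup.centralizer (R : Set Γ) := by
  rw [Subgroup.mem_centralizer_iff] at hc ⊢
  intro x hx
  have hx' : g⁻¹ * x * g ∈ R := pq_conj_mem_of_mem_normalizer' hg hx
  have h1 := hc _ hx'
  calc x * (g * c * g⁻¹) = g * ((g⁻¹ * x * g) * c) * g⁻¹ := by group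
    _ = g * (c * (g⁻¹ * x * g)) * g⁻¹ := by rw [h1]
    _ = g * c * g⁻¹ * x := by group

/-- Subgroups of prime-power orders for distinct primes have coprime orders. -/
theorem pq_coprime_card [Finite Γ] (S R : Subgroup Γ) (s r : ℕ) (hs : s.Prime) (hr : r.Prime)
    (hsr : s ≠ r) (hS : IsPGroup s S) (hR : IsPGroup r R) :
    (Nat.card S).Coprime (Nat.card R) := by
  have : Fact s.Prime := ⟨hs⟩
  have : Fact r.Prime := ⟨hr⟩
  obtain ⟨a, ha⟩ := (IsPGroup.iff_card).mp hS
  obtain ⟨b, hb⟩ := (IsPGroup.iff_card).mp hR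
  rw [ha, hb]
  exact Nat.Coprime.pow a b ((Nat.coprime_primes hs hr).mpr hsr)

/-- A subgroup of prime order is generated by each of its nontrivial elements. -/
theorem pq_zpowers_eq_of_prime_card (K : Subgroup Γ) (p : ℕ) (hp : p.Prime)
    (hK : Nat.card K = p) (k : Γ) (hk : k ∈ K) (hk1 : k ≠ 1) : Subgroup.zpowers k = K := by
  have hfin : Finite K := Nat.finite_of_card_ne_zero (by rw [hK]; exact hp.ne_zero)
  have hle : Subgroup.zpowers k ≤ K := (Subgroup.zpowers_le).mpr hk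
  refine Subgroup.eq_of_le_of_card_ge hle ?_
  have h1 : Nat.card (Subgroup.zpowers k) ∣ p := hK ▸ Subgroup.card_dvd_of_le hle
  rcases (Nat.dvd_prime hp).mp h1 with h | h
  · exfalso
    rw [Nat.card_zpowers] at h
    exact hk1 (orderOf_eq_one_iff.mp h)
  · rw [hK, h]

/-- Abelian coprime action: `[A,P] ∩ C(P) = 1` (norm map argument). -/
theorem pq_abel_comm_inf_cent [Finite Γ] (A P : Subgroup Γ)
    (hab : ∀ a ∈ A, ∀ b ∈ A, a * b = b * a)
    (hPA : P ≤ Subgroup.normalizer (A : Set Γ))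
    (hcop : (Nat.card A).Coprime (Nat.card P)) :
    ⁅A, P⁆ ⊓ Subgroup.centralizer (P : Set Γ) = ⊥ := by
  classical
  let _ : CommGroup A :=
    { (inferInstance : Group A) with
      mul_comm := fun a b => Subtype.ext (hab a a.2 b b.2) }
  have : Fintype P := Fintype.ofFinite P
  let φ : P → (A →* A) := fun v =>
    { toFun := fun a => ⟨(v : Γ) * a * (v : Γ)⁻¹,
        (Subgroup.mem_normalizer_iff.mp (hPA v.2) a).mp a.2⟩
      map_one' := by
        apply Subtype.ext
        simp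
      map_mul' := by
        intro a b
        apply Subtype.ext
        simp [mul_assoc] }
  have hφ : ∀ (v : P) (a : A), ((φ v a : A) : Γ) = (v : Γ) * a * (v : Γ)⁻¹ := fun v a => rfl
  let N : A →* A := ∏ v : P, φ v
  have hN : ∀ a : A, N a = ∏ v : P, φ v a := fun a => by
    simp only [N, MonoidHom.finsetProd_apply]
  have hNφ : ∀ (w : P) (a : A), N (φ w a) = N a := by
    intro w a
    rw [hN, hN]
    have h1 : ∀ v : P, φ v (φ w a) = φ (v * w) a := by
      intro v
      apply Subtype.ext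
      rw [hφ, hφ, hφ]
      simp [mul_assoc]
    simp_rw [h1]
    exact Fintype.prod_equiv (Equiv.mulRight w) _ _ (fun v => rfl)
  have hker : ⁅A, P⁆ ≤ N.ker.map A.subtype := by
    rw [Subgroup.commutator_le]
    intro a ha v hv
    refine ⟨(⟨a, ha⟩ : A) * φ ⟨v, hv⟩ ⟨a⁻¹, A.inv_mem ha⟩, ?_, ?_⟩
    · rw [SetLike.mem_coe, MonoidHom.mem_ker, map_mul, hNφ, ← map_mul]
      have h1 : (⟨a, ha⟩ : A) * ⟨a⁻¹, A.inv_mem ha⟩ = 1 := by
        apply Subtype.ext
        simp
      rw [h1, map_one]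
    · have h2 : (((⟨a, ha⟩ : A) * φ ⟨v, hv⟩ ⟨a⁻¹, A.inv_mem ha⟩ : A) : Γ) = a * v * a⁻¹ * v⁻¹ := by
        rw [Subgroup.coe_mul, hφ]
        simp [mul_assoc]
      rw [commutatorElement_def]
      exact h2
  rw [eq_bot_iff]
  intro x hx
  obtain ⟨hx1, hx2⟩ := Subgroup.mem_inf.mp hx
  obtain ⟨y, hy, rfl⟩ := hker hx1
  have hfix : ∀ v : P, φ v y = y := by
    intro v
    apply Subtype.ext
    rw [hφ]
    have h1 := (Subgroup.mem_centralizer_iff.mp hx2) v v.2
    have h2 : (v : Γ) * (A.subtype y) = (y : Γ) * (v : Γ) := h1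
    have h3 : (v : Γ) * (y : Γ) = (y : Γ) * (v : Γ) := h2
    rw [h3]
    group
  have hpow : y ^ Nat.card P = 1 := by
    have h1 : N y = 1 := hy
    rw [hN] at h1
    simp_rw [hfix] at h1
    rw [Finset.prod_const, Finset.card_univ, ← Nat.card_eq_fintype_card] at h1
    exact h1
  have hpow2 : y ^ Nat.card A = 1 := pow_card_eq_one'
  have h3 : orderOf y ∣ 1 := by
    have h4 := Nat.dvd_gcd (orderOf_dvd_of_pow_eq_one hpow2) (orderOf_dvd_of_pow_eq_one hpow)
    rwa [Nat.Coprime.gcd_eq_one hcop] at h4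
  have hy1 : y = 1 := orderOf_eq_one_iff.mp (Nat.dvd_one.mp h3)
  rw [hy1, map_one]
  exact Subgroup.mem_bot.mpr rfl

end Cfsg.Agent.Lib.helper46.PQ

namespace Cfsg.Agent.Lib.helper75.PQ

open scoped commutatorElement
open Pointwise
open Cfsg.Agent.Lib.helper46.PQ

variable {Γ : Type*} [Group Γ] [Finite Γ] {F : Type*} [Field F]
  {W : Type*} [AddCommGroup W] [Module F W]
  {ρ : Γ →* Module.End F W} {K H S R : Subgroup Γ} {p q s r : ℕ}

/-- `R = [R, S]` in a minimal tower (local copy of piece C4, used for C8). -/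
theorem MinTower.comm_RS_h46 (T : MinTower ρ K H S R p q s r) : ⁅R, S⁆ = R := by
  have hle : ⁅R, S⁆ ≤ R := Cfsg.Agent.Lib.helper1.commutator_le_of_le_normalizer T.SR
  by_contra hne
  have hS1 : S ≤ Subgroup.normalizer ((⁅R, S⁆ : Subgroup Γ) : Set Γ) :=
    Cfsg.Agent.Lib.helper1.right_le_normalizer_commutator T.SR
  have hconj : ∀ (X : Subgroup Γ), X ≤ Subgroup.normalizer (R : Set Γ) →
      X ≤ Subgroup.normalizer (S : Set Γ) →
      X ≤ Subgroup.normalizer ((⁅R, S⁆ : Subgroup Γ) : Set Γ) := by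
    intro X hXR hXS b hb
    apply Cfsg.Agent.Lib.helper1.mem_normalizer_of_conj_smul_eq
    have h1 : MulAut.conj b • R = R :=
      Cfsg.Agent.Lib.helper1.conj_smul_eq_of_mem_normalizer (hXR hb)
    have h2 : MulAut.conj b • S = S :=
      Cfsg.Agent.Lib.helper1.conj_smul_eq_of_mem_normalizer (hXS hb)
    have h3 := Subgroup.map_commutator R S (MulAut.conj b).toMonoidHom
    calc MulAut.conj b • ⁅R, S⁆ = ⁅MulAut.conj b • R, MulAut.conj b • S⁆ := h3
      _ = ⁅R, S⁆ := by rw [h1, h2]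
  have hcz := T.minR ⁅R, S⁆ hle hne hS1 (hconj K T.KR T.KS) (hconj H T.HR T.HS)
  have hcop : (Nat.card S).Coprime (Nat.card R) :=
    pq_coprime_card S R s r T.hs T.hr T.hsr T.Sgrp T.Rgrp
  have hsolv : Group.IsSolvable S ∨ Group.IsSolvable R := by
    have : Fact r.Prime := ⟨T.hr⟩
    have := T.Rgrp.isNilpotent
    exact Or.inr inferInstance
  have h2 := Cfsg.Agent.Lib.helper1.commutator_commutator_eq S R T.SR hcop hsolv
  have h3 : ⁅⁅R, S⁆, S⁆ = ⊥ := by
    rw [Subgroup.commutator_eq_bot_iff_le_centralizer]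
    intro x hx
    rw [Subgroup.mem_centralizer_iff]
    intro y hy
    exact hcz y hy x hx
  rw [h3] at h2
  apply T.ncz
  have h4 : R ≤ Subgroup.centralizer (S : Set Γ) :=
    Subgroup.commutator_eq_bot_iff_le_centralizer.mp h2.symm
  intro y hy x hx
  exact (Subgroup.mem_centralizer_iff.mp (h4 hx)) y hy

/-- C2 (MS2): in case (a), `K` centralizes `S`. -/
theorem MinTower.caseA_cz (T : MinTower ρ K H S R p q s r) (hA : CaseA K S R) : Cz K S := by
  have hcop : (Nat.card K).Coprime (Nat.card S) := by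
    have : Fact s.Prime := ⟨T.hs⟩
    obtain ⟨n, hn⟩ := (IsPGroup.iff_card).mp T.Sgrp
    rw [T.cardK, hn]
    exact Nat.Coprime.pow_right n ((Nat.coprime_primes T.hp T.hs).mpr (Ne.symm T.hsp))
  have hsolv : Group.IsSolvable K ∨ Group.IsSolvable S := by
    have : Fact s.Prime := ⟨T.hs⟩
    have := T.Sgrp.isNilpotent
    exact Or.inr inferInstance
  have hsup := Cfsg.Agent.Lib.helper1.commutator_sup_fixed K S T.KS hcop hsolv
  have hcomm : ⁅S, K⁆ ≤ Subgroup.centralizer (R : Set Γ) := by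
    rw [Subgroup.commutator_le]
    intro y hy k hk
    rw [Subgroup.mem_centralizer_iff]
    intro x hx
    have h1 := hA k hk y hy x hx
    have e : ⁅y, k⁆ = (k * y * k⁻¹ * y⁻¹)⁻¹ := by
      rw [commutatorElement_def]
      group
    rw [e]
    calc x * (k * y * k⁻¹ * y⁻¹)⁻¹
        = (k * y * k⁻¹ * y⁻¹)⁻¹ * ((k * y * k⁻¹ * y⁻¹) * x) * (k * y * k⁻¹ * y⁻¹)⁻¹ := by group
      _ = (k * y * k⁻¹ * y⁻¹)⁻¹ * (x * (k * y * k⁻¹ * y⁻¹)) * (k * y * k⁻¹ * y⁻¹)⁻¹ := by
          rw [h1]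
      _ = (k * y * k⁻¹ * y⁻¹)⁻¹ * x := by group
  by_cases hS1S : S ⊓ Subgroup.centralizer (K : Set Γ) = S
  · intro k hk y hy
    have hy1 : y ∈ S ⊓ Subgroup.centralizer (K : Set Γ) := by rw [hS1S]; exact hy
    exact (Subgroup.mem_centralizer_iff.mp (Subgroup.mem_inf.mp hy1).2) k hk
  · exfalso
    apply T.ncz
    have hK1 : K ≤ Subgroup.normalizer ((S ⊓ Subgroup.centralizer (K : Set Γ) : Subgroup Γ) : Set Γ) := by
      apply pq_le_normalizer_of_conj
      intro k hk y hy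
      have h1 : k * y = y * k :=
        (Subgroup.mem_centralizer_iff.mp (Subgroup.mem_inf.mp hy).2) k hk
      have h2 : k * y * k⁻¹ = y := by rw [h1]; group
      rw [h2]
      exact hy
    have hH1 : H ≤ Subgroup.normalizer ((S ⊓ Subgroup.centralizer (K : Set Γ) : Subgroup Γ) : Set Γ) := by
      apply pq_le_normalizer_of_conj
      intro h hh y hy
      refine Subgroup.mem_inf.mpr
        ⟨pq_conj_mem_of_mem_normalizer (T.HS hh) (Subgroup.mem_inf.mp hy).1, ?_⟩
      rw [Subgroup.mem_centralizer_iff]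
      intro k hk
      have hk' : h⁻¹ * k * h ∈ K := pq_conj_mem_of_mem_normalizer' (T.HK hh) hk
      have h1 : (h⁻¹ * k * h) * y = y * (h⁻¹ * k * h) :=
        (Subgroup.mem_centralizer_iff.mp (Subgroup.mem_inf.mp hy).2) _ hk'
      calc k * (h * y * h⁻¹) = h * ((h⁻¹ * k * h) * y) * h⁻¹ := by group
        _ = h * (y * (h⁻¹ * k * h)) * h⁻¹ := by rw [h1]
        _ = h * y * h⁻¹ * k := by group
    have hcz := T.minS _ inf_le_left hS1S hK1 hH1
    have hS1R : S ⊓ Subgroup.centralizer (K : Set Γ) ≤ Subgroup.centralizer (R : Set Γ) :=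
      fun y hy => Subgroup.mem_centralizer_iff.mpr (fun x hx => (hcz y hy x hx).symm)
    have hSR : S ≤ Subgroup.centralizer (R : Set Γ) := by
      rw [← hsup]
      exact sup_le hcomm hS1R
    intro y hy x hx
    exact ((Subgroup.mem_centralizer_iff.mp (hSR hy)) x hx).symm

/-- C3 (MS3): in case (b), nontrivial elements of `K` act fixed-point-freely on
`S / C_S(R)`. -/
theorem MinTower.caseB_fpf (T : MinTower ρ K H S R p q s r) (hB : ¬ CaseA K S R) :
    ∀ k ∈ K, k ≠ 1 → ∀ y ∈ S, (∀ x ∈ R, ⁅k, y⁆ * x = x * ⁅k, y⁆) → ∀ x ∈ R, y * x = x * y := by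
  obtain ⟨S1, hmem⟩ : ∃ S1 : Subgroup Γ, ∀ y : Γ, y ∈ S1 ↔
      (y ∈ S ∧ ∀ k ∈ K, ⁅k, y⁆ ∈ Subgroup.centralizer (R : Set Γ)) :=
    ⟨{ carrier := {y | y ∈ S ∧ ∀ k ∈ K, ⁅k, y⁆ ∈ Subgroup.centralizer (R : Set Γ)}
       one_mem' := ⟨S.one_mem, fun k _ => by
         rw [commutatorElement_one_right]
         exact Subgroup.one_mem _⟩
       mul_mem' := by
         rintro y y' ⟨hy, h1⟩ ⟨hy', h2⟩
         refine ⟨S.mul_mem hy hy', fun k hk => ?_⟩
         have e : ⁅k, y * y'⁆ = ⁅k, y⁆ * (y * ⁅k, y'⁆ * y⁻¹) := by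
           simp only [commutatorElement_def]
           group
         rw [e]
         exact Subgroup.mul_mem _ (h1 k hk) (pq_conj_mem_centralizer (T.SR hy) (h2 k hk))
       inv_mem' := by
         rintro y ⟨hy, h1⟩
         refine ⟨S.inv_mem hy, fun k hk => ?_⟩
         have e : ⁅k, y⁻¹⁆ = y⁻¹ * ⁅k, y⁆⁻¹ * y⁻¹⁻¹ := by
           simp only [commutatorElement_def]
           group
         rw [e]
         exact pq_conj_mem_centralizer (T.SR (S.inv_mem hy)) (Subgroup.inv_mem _ (h1 k hk)) },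
     fun y => Iff.rfl⟩
  have hS1S : S1 ≤ S := fun y hy => ((hmem y).mp hy).1
  have hne : S1 ≠ S := by
    intro hEq
    apply hB
    intro k hk y hy x hx
    have hy1 : y ∈ S1 := by rw [hEq]; exact hy
    have h1 := ((hmem y).mp hy1).2 k hk
    have h2 := (Subgroup.mem_centralizer_iff.mp h1) x hx
    rw [commutatorElement_def] at h2
    exact h2.symm
  -- conjugation of the defining condition
  have hconj : ∀ (g : Γ), g ∈ Subgroup.normalizer (S : Set Γ) →
      g ∈ Subgroup.normalizer (R : Set Γ) → g ∈ Subgroup.normalizer (K : Set Γ) →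
      ∀ y ∈ S1, g * y * g⁻¹ ∈ S1 := by
    intro g hgS hgR hgK y hy
    obtain ⟨hyS, hyK⟩ := (hmem y).mp hy
    rw [hmem]
    refine ⟨pq_conj_mem_of_mem_normalizer hgS hyS, fun k hk => ?_⟩
    have hk' : g⁻¹ * k * g ∈ K := pq_conj_mem_of_mem_normalizer' hgK hk
    have e : ⁅k, g * y * g⁻¹⁆ = g * ⁅g⁻¹ * k * g, y⁆ * g⁻¹ := by
      simp only [commutatorElement_def]
      group
    rw [e]
    exact pq_conj_mem_centralizer hgR (hyK _ hk')
  have hK1 : K ≤ Subgroup.normalizer (S1 : Set Γ) :=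
    pq_le_normalizer_of_conj fun k hk y hy =>
      hconj k (T.KS hk) (T.KR hk) (Subgroup.le_normalizer hk) y hy
  have hH1 : H ≤ Subgroup.normalizer (S1 : Set Γ) :=
    pq_le_normalizer_of_conj fun h hh y hy => hconj h (T.HS hh) (T.HR hh) (T.HK hh) y hy
  have hcz := T.minS S1 hS1S hne hK1 hH1
  intro k hk hk1 y hy hky x hx
  have hyS1 : y ∈ S1 := by
    rw [hmem]
    refine ⟨hy, fun k' hk' => ?_⟩
    have hkc : ⁅k, y⁆ ∈ Subgroup.centralizer (R : Set Γ) :=
      Subgroup.mem_centralizer_iff.mpr (fun x hx => (hky x hx).symm)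
    have hpow : ∀ n : ℕ, ⁅k ^ n, y⁆ ∈ Subgroup.centralizer (R : Set Γ) := by
      intro n
      induction n with
      | zero =>
        rw [pow_zero, commutatorElement_one_left]
        exact Subgroup.one_mem _
      | succ n ih =>
        have e : ⁅k ^ (n + 1), y⁆ = (k ^ n * ⁅k, y⁆ * (k ^ n)⁻¹) * ⁅k ^ n, y⁆ := by
          rw [pow_succ]
          simp only [commutatorElement_def]
          group
        rw [e]
        exact Subgroup.mul_mem _ (pq_conj_mem_centralizer (T.KR (K.pow_mem hk n)) hkc) ih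
    have hz : Subgroup.zpowers k = K := pq_zpowers_eq_of_prime_card K p T.hp T.cardK k hk hk1
    have hk'z : k' ∈ Subgroup.zpowers k := by rw [hz]; exact hk'
    obtain ⟨n, rfl⟩ := (Submonoid.mem_powers_iff _ _).mp (mem_powers_iff_mem_zpowers.mpr hk'z)
    exact hpow n
  exact hcz y hyS1 x hx

/-- C8 (MR2): if `R` is abelian then `C_R(S) = 1`. -/
theorem MinTower.fix_S_abelian (T : MinTower ρ K H S R p q s r)
    (hab : ∀ x ∈ R, ∀ x' ∈ R, x * x' = x' * x) :
    ∀ x ∈ R, (∀ y ∈ S, y * x = x * y) → x = 1 := by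
  intro x hx hfix
  have hcop : (Nat.card R).Coprime (Nat.card S) :=
    (pq_coprime_card S R s r T.hs T.hr T.hsr T.Sgrp T.Rgrp).symm
  have h1 := pq_abel_comm_inf_cent R S hab T.SR hcop
  have h2 : x ∈ ⁅R, S⁆ ⊓ Subgroup.centralizer (S : Set Γ) := by
    refine ⟨?_, Subgroup.mem_centralizer_iff.mpr hfix⟩
    rw [T.comm_RS_h46]
    exact hx
  rw [h1] at h2
  exact Subgroup.mem_bot.mp h2

end Cfsg.Agent.Lib.helper75.PQ
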