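/-
S2202 piece QB3 (helper42's split): `cp_quot`, with the key computation `qb_eq_one_of_conj`.
-/
import Mathlib
import Cfsg.Agent.Lib.helper42.AICDefs

set_option autoImplicit false

open Cfsg.Agent.Lib.helper42.AIC

namespace Cfsg.Agent.Lib.helper46.AIC

/-- key computation: if `g s g⁻¹ = z s` with `s` a 2-element and `z` of odd order commuting with
`s`, then `z = 1`. -/
theorem qb_eq_one_of_conj {G : Type*} [Group G] (g s z : G) (k : ℕ) (hs : s ^ 2 ^ k = 1)
    (hz : Odd (orderOf z)) (hc : z * s = s * z) (h : g * s * g⁻¹ = z * s) : z = 1 := by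
  have h1 : (g * s * g⁻¹) ^ 2 ^ k = 1 := by
    rw [conj_pow, hs, mul_one, mul_inv_cancel]
  rw [h, (Commute.mul_pow hc (2 ^ k) : (z * s) ^ 2 ^ k = z ^ 2 ^ k * s ^ 2 ^ k), hs, mul_one] at h1
  have h2 : orderOf z ∣ 2 ^ k := orderOf_dvd_of_pow_eq_one h1
  have h3 : orderOf z = 1 := by
    obtain ⟨i, -, hi⟩ := (Nat.dvd_prime_pow Nat.prime_two).mp h2
    rcases Nat.eq_zero_or_pos i with h0 | h0
    · rw [hi, h0, pow_zero]
    · exfalso
      rw [hi] at hz
      have : Even (2 ^ i) := (Nat.even_pow.mpr ⟨even_two, by omega⟩)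
      exact (Nat.not_even_iff_odd.mpr hz) this
  exact orderOf_eq_one_iff.mp h3

/-- QB3 -/
theorem cp_quot {G : Type*} [Group G] [Finite G] (Z : Subgroup G) [Z.Normal]
    (hZo : ∀ z ∈ Z, Odd (orderOf z)) (hZc : ∀ z ∈ Z, ∀ P : Sylow 2 G, z ∈ CP P)
    (P : Sylow 2 G) (x : G) :
    (QuotientGroup.mk' Z x) ∈ Subgroup.centralizer
      ((((P : Subgroup G).map (QuotientGroup.mk' Z) : Subgroup (G ⧸ Z))) : Set (G ⧸ Z)) ↔
      x ∈ CP P := by
  constructor
  · intro hx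
    rw [Subgroup.mem_centralizer_iff] at hx ⊢
    intro s hs
    have hs' : s ∈ (P : Subgroup G) := hs
    have h1 := hx (QuotientGroup.mk' Z s) (Subgroup.mem_map_of_mem _ hs')
    -- `z := x s x⁻¹ s⁻¹ ∈ Z`
    have hz : x * s * x⁻¹ * s⁻¹ ∈ Z := by
      rw [← QuotientGroup.eq_one_iff]
      have h2 : (QuotientGroup.mk' Z x) * (QuotientGroup.mk' Z s) * (QuotientGroup.mk' Z x)⁻¹ *
          (QuotientGroup.mk' Z s)⁻¹ = 1 := by
        rw [← h1, mul_inv_cancel_right, mul_inv_cancel]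
      simpa using h2
    have hzc : x * s * x⁻¹ * s⁻¹ ∈ CP P := hZc _ hz P
    rw [Subgroup.mem_centralizer_iff] at hzc
    have hcomm : (x * s * x⁻¹ * s⁻¹) * s = s * (x * s * x⁻¹ * s⁻¹) := (hzc s hs).symm
    obtain ⟨k, hk⟩ := P.isPGroup' ⟨s, hs'⟩
    have hk' : s ^ 2 ^ k = 1 := by
      have := congrArg Subtype.val hk
      simpa using this
    have hz1 := qb_eq_one_of_conj x s (x * s * x⁻¹ * s⁻¹) k hk' (hZo _ hz) hcomm (by group)
    -- `x s x⁻¹ = s`
    have h3 : x * s * x⁻¹ = s := by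
      have := mul_inv_eq_one.mp hz1
      exact this
    calc s * x = (x * s * x⁻¹) * x := by rw [h3]
      _ = x * s := by group
  · intro hx
    rw [Subgroup.mem_centralizer_iff] at hx ⊢
    intro y hy
    obtain ⟨s, hs, rfl⟩ := Subgroup.mem_map.mp hy
    rw [← map_mul, ← map_mul, hx s hs]

end Cfsg.Agent.Lib.helper46.AIC
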