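/-
S2202 piece QB5 (helper42's split): `inv_lift`.
-/
import Mathlib
import Cfsg.Agent.Lib.helper42.AICDefs

set_option autoImplicit false

open Cfsg.Agent.Lib.helper42.AIC

namespace Cfsg.Agent.Lib.helper46.AIC

/-- QB5 -/
theorem inv_lift {G : Type*} [Group G] [Finite G] (Z : Subgroup G) [Z.Normal]
    (hZo : ∀ z ∈ Z, Odd (orderOf z)) (t' : G ⧸ Z) (ht' : orderOf t' = 2) :
    ∃ t : G, orderOf t = 2 ∧ QuotientGroup.mk' Z t = t' := by
  obtain ⟨g, hg⟩ := QuotientGroup.mk'_surjective Z t'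
  have ht'2 : t' ^ 2 = 1 := by rw [← ht']; exact pow_orderOf_eq_one t'
  have ht'1 : t' ≠ 1 := by
    intro h
    rw [h, orderOf_one] at ht'
    omega
  have h1 : g ^ 2 ∈ Z := by
    rw [← QuotientGroup.eq_one_iff, QuotientGroup.mk_pow]
    have : (QuotientGroup.mk' Z g) ^ 2 = 1 := by rw [hg]; exact ht'2
    exact this
  obtain ⟨j, hj⟩ := hZo _ h1
  have himg : QuotientGroup.mk' Z (g ^ orderOf (g ^ 2)) = t' := by
    rw [map_pow, hg, hj, pow_succ, pow_mul, ht'2, one_pow, one_mul]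
  refine ⟨g ^ orderOf (g ^ 2), ?_, himg⟩
  have : Fact (Nat.Prime 2) := ⟨Nat.prime_two⟩
  apply orderOf_eq_prime
  · rw [← pow_mul, mul_comm, pow_mul, pow_orderOf_eq_one]
  · intro h
    apply ht'1
    rw [← himg, h, map_one]

end Cfsg.Agent.Lib.helper46.AIC
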