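/-
S2202 piece QB1 (helper42's split): `aic_quot`.
-/
import Mathlib
import Cfsg.Agent.Lib.helper42.AICDefs
import Cfsg.Agent.Lib.helper46.AIC_QB3
import Cfsg.Agent.Lib.helper46.AIC_QB5

set_option autoImplicit false

open Cfsg.Agent.Lib.helper42.AIC

namespace Cfsg.Agent.Lib.helper46.AIC

/-- a lift of an element centralizing the image of an involution `t` centralizes `t`. -/
theorem qb1_lift_cent {G : Type*} [Group G] [Finite G] (Z : Subgroup G) [Z.Normal]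
    (hZo : ∀ z ∈ Z, Odd (orderOf z)) (hZc : ∀ z ∈ Z, ∀ P : Sylow 2 G, z ∈ CP P)
    (t : G) (ht : orderOf t = 2) (a : G)
    (ha : QuotientGroup.mk' Z a ∈ Subgroup.centralizer ({QuotientGroup.mk' Z t} : Set (G ⧸ Z))) :
    a ∈ Subgroup.centralizer ({t} : Set G) := by
  rw [Subgroup.mem_centralizer_singleton_iff] at ha ⊢
  -- `t` lies in a Sylow 2-subgroup
  have hp : IsPGroup 2 (Subgroup.zpowers t) := by
    apply IsPGroup.of_card (n := 1)
    rw [Nat.card_zpowers, ht, pow_one]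
  obtain ⟨R, hR⟩ := hp.exists_le_sylow
  have htR : t ∈ (R : Subgroup G) := hR (Subgroup.mem_zpowers t)
  have hz : a * t * a⁻¹ * t⁻¹ ∈ Z := by
    rw [← QuotientGroup.eq_one_iff]
    have h2 : (QuotientGroup.mk' Z a) * (QuotientGroup.mk' Z t) * (QuotientGroup.mk' Z a)⁻¹ *
        (QuotientGroup.mk' Z t)⁻¹ = 1 := by
      rw [ha, mul_inv_cancel_right, mul_inv_cancel]
    simpa using h2
  have hzc : a * t * a⁻¹ * t⁻¹ ∈ CP R := hZc _ hz R
  rw [Subgroup.mem_centralizer_iff] at hzc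
  have hcomm : (a * t * a⁻¹ * t⁻¹) * t = t * (a * t * a⁻¹ * t⁻¹) := (hzc t htR).symm
  have ht2 : t ^ 2 ^ 1 = 1 := by
    rw [pow_one, ← ht]; exact pow_orderOf_eq_one t
  have hz1 := qb_eq_one_of_conj a t (a * t * a⁻¹ * t⁻¹) 1 ht2 (hZo _ hz) hcomm (by group)
  have h3 : a * t * a⁻¹ = t := mul_inv_eq_one.mp hz1
  calc a * t = (a * t * a⁻¹) * a := by group
    _ = t * a := by rw [h3]

/-- QB1 -/
theorem aic_quot {G : Type*} [Group G] [Finite G] (hA : AIC G) (Z : Subgroup G) [Z.Normal]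
    (hZo : ∀ z ∈ Z, Odd (orderOf z)) (hZc : ∀ z ∈ Z, ∀ P : Sylow 2 G, z ∈ CP P) :
    AIC (G ⧸ Z) := by
  intro t' ht'
  obtain ⟨t, ht, rfl⟩ := inv_lift Z hZo t' ht'
  have hcomm := hA t ht
  refine ⟨⟨fun a' b' => ?_⟩⟩
  obtain ⟨a', ha'⟩ := a'
  obtain ⟨b', hb'⟩ := b'
  obtain ⟨a, rfl⟩ := QuotientGroup.mk'_surjective Z a'
  obtain ⟨b, rfl⟩ := QuotientGroup.mk'_surjective Z b'
  have ha := qb1_lift_cent Z hZo hZc t ht a ha'
  have hb := qb1_lift_cent Z hZo hZc t ht b hb'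
  have hab : a * b = b * a := by
    have := hcomm.is_comm.comm ⟨a, ha⟩ ⟨b, hb⟩
    exact congrArg Subtype.val this
  apply Subtype.ext
  show QuotientGroup.mk' Z a * QuotientGroup.mk' Z b = QuotientGroup.mk' Z b * QuotientGroup.mk' Z a
  rw [← map_mul, ← map_mul, hab]

end Cfsg.Agent.Lib.helper46.AIC
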