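/-
S2202 piece E3d (helper42's split), core: `caseA_core` = the statement of `caseA` with the
statements of INVM (`card_inv`) and HALL (`no_hall`) for the subgroups of `G` as hypotheses.
-/
import Mathlib
import Cfsg.Prelude.Def_Involutions
import Cfsg.Agent.Lib.helper42.AICDefs
import Cfsg.Agent.Lib.helper42.AIC_A
import Cfsg.Agent.Lib.helper42.AIC_A2
import Cfsg.Agent.Lib.helper4.AIC_SUB
import Cfsg.Agent.Lib.helper4.AIC_KS
import Cfsg.Agent.Lib.helper76.AIC_E3a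
import Cfsg.Agent.Lib.helper76.AIC_E3b
import Cfsg.Agent.Lib.helper76.AIC_E3c

set_option autoImplicit false

open Cfsg.Agent.Lib.helper42.AIC

namespace Cfsg.Agent.Lib.helper46.AIC

/-- the involutions of a subgroup, counted inside the subgroup or inside the group. -/
theorem e3d_card_inv_sub {G : Type*} [Group G] (M : Subgroup G) :
    Nat.card {t : ↥M // orderOf t = 2} = Nat.card {t : G // orderOf t = 2 ∧ t ∈ M} := by
  refine Nat.card_congr
    { toFun := fun t => ⟨(t.1 : G), by rw [Subgroup.orderOf_coe]; exact t.2, t.1.2⟩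
      invFun := fun t => ⟨⟨t.1, t.2.2⟩, by rw [← Subgroup.orderOf_coe]; exact t.2.1⟩
      left_inv := fun t => rfl
      right_inv := fun t => rfl }

/-- E3d, core. -/
theorem caseA_core {G : Type*} [Group G] [Finite G] (hA : AIC G) (hnc : NCyc G) (hnn : NNor G)
    (hIH : ∀ M : Subgroup G, M ≠ ⊤ → AIC ↥M → NCyc ↥M → KEq ↥M) (hD : Dich G)
    (hINV : ∀ M : Subgroup G, AIC ↥M → NCyc ↥M → NNor ↥M → KEq ↥M → ∀ P' : Sylow 2 ↥M,
      Nat.card {t : ↥M // orderOf t = 2} =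
        (Nat.card (P' : Subgroup ↥M) + 1) * (Nat.card (P' : Subgroup ↥M) - 1))
    (hHALL : ∀ M : Subgroup G, AIC ↥M → NCyc ↥M → NNor ↥M → KEq ↥M →
      ∀ (Z : Subgroup ↥M) [Z.Normal], IsKsub Z → ∀ (P' : Sylow 2 ↥M) (Y : Subgroup ↥M),
      Odd (Nat.card Y) →
      (Nat.card (P' : Subgroup ↥M) + 1) * (Nat.card (P' : Subgroup ↥M) - 1) *
        Nat.card ↥(Y ⊓ Z) ≤ Nat.card Y → False)
    (P Q : Sylow 2 G) (hPQ : P ≠ Q) (z : G) (hz1 : z ≠ 1) (hzo : Odd (orderOf z))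
    (hzP : z ∈ CP P) (hzQ : z ∈ CP Q) : KEq G := by
  by_contra hne
  -- some `R` has `K_R ≠ K_P`
  have hR : ∃ R : Sylow 2 G, ¬ ∀ x : G, Odd (orderOf x) → (x ∈ CP R ↔ x ∈ CP P) := by
    by_contra hall
    push Not at hall
    apply hne
    intro P₁ Q₁ x hx hxP
    exact ((hall Q₁) x hx).mpr (((hall P₁) x hx).mp hxP)
  obtain ⟨R, hR⟩ := hR
  -- the dichotomy in both directions
  have hDeq : ∀ S T : Sylow 2 G, (∃ z : G, z ≠ 1 ∧ Odd (orderOf z) ∧ z ∈ CP S ∧ z ∈ CP T) →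
      ∀ x : G, Odd (orderOf x) → (x ∈ CP S ↔ x ∈ CP T) := by
    rintro S T ⟨z, h1, h2, h3, h4⟩ x hx
    exact ⟨hD S T ⟨z, h1, h2, h3, h4⟩ x hx, hD T S ⟨z, h1, h2, h4, h3⟩ x hx⟩
  obtain ⟨M, hM⟩ := Cfsg.Agent.Lib.helper76.AIC.exists_blockStab P
  have hNP : NP P ≤ M := Cfsg.Agent.Lib.helper76.AIC.np_le_blockStab P M hM
  have hPM : (P : Subgroup G) ≤ M := le_trans Subgroup.le_normalizer hNP
  -- `Q = g₀ • P` with `g₀ ∈ M`
  obtain ⟨g₀, hg₀⟩ := MulAction.exists_smul_eq G P Q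
  have hg₀M : g₀ ∈ M := by
    rw [hM g₀, hg₀]
    intro x hx
    exact hDeq Q P ⟨z, hz1, hzo, hzQ, hzP⟩ x hx
  -- `R = g₁ • P` with `g₁ ∉ M`
  obtain ⟨g₁, hg₁⟩ := MulAction.exists_smul_eq G P R
  have hg₁M : g₁ ∉ M := by
    intro h
    rw [hM g₁, hg₁] at h
    exact hR h
  have hMtop : M ≠ ⊤ := by
    intro h
    apply hg₁M
    rw [h]
    exact Subgroup.mem_top _
  have hAM : AIC ↥M := Cfsg.Agent.Lib.helper4.AIC.aic_sub hA M
  have hncM : NCyc ↥M := Cfsg.Agent.Lib.helper4.AIC.ncyc_sub hnc M P hPM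
  have hEM : KEq ↥M := hIH M hMtop hAM hncM
  -- `Q ≤ M`
  have hQM : (Q : Subgroup G) ≤ M := by
    intro y hy
    rw [← hg₀, mem_smul_sylow] at hy
    have h1 := M.mul_mem (M.mul_mem hg₀M (hPM hy)) (M.inv_mem hg₀M)
    have h2 : g₀ * (g₀⁻¹ * y * g₀) * g₀⁻¹ = y := by group
    rwa [h2] at h1
  -- `↥M` has no normal Sylow 2-subgroup
  have hnnM : NNor ↥M := by
    intro S hS
    have hsub : Subsingleton (Sylow 2 ↥M) := by
      have := Sylow.unique_of_normal S hS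
      infer_instance
    have h1 : P.subtype hPM = Q.subtype hQM := Subsingleton.elim _ _
    have h2 : ((P.subtype hPM : Sylow 2 ↥M) : Subgroup ↥M) =
        ((Q.subtype hQM : Sylow 2 ↥M) : Subgroup ↥M) := by rw [h1]
    rw [Sylow.coe_subtype, Sylow.coe_subtype] at h2
    apply hPQ
    apply Sylow.ext
    have h3 := congrArg (Subgroup.map M.subtype) h2
    rwa [Subgroup.map_subgroupOf_eq_of_le hPM, Subgroup.map_subgroupOf_eq_of_le hQM] at h3
  -- the involution `u`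
  obtain ⟨s, t, -, htP, -, ht2, -, -⟩ := exists_two_inv hA hnc P
  obtain ⟨u, hu⟩ : ∃ u : G, u = g₁ * t * g₁⁻¹ := ⟨_, rfl⟩
  have hu2 : orderOf u = 2 := by
    rw [hu, Cfsg.Agent.Lib.helper76.AIC.h76_orderOf_conj]
    exact ht2
  have huR : u ∈ (R : Subgroup G) := by
    rw [← hg₁, mem_smul_sylow]
    have h1 : g₁⁻¹ * u * g₁ = t := by rw [hu]; group
    rw [h1]
    exact htP
  have hu1 : u ≠ 1 := by
    intro h
    rw [h, orderOf_one] at hu2
    omega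
  have huM : u ∉ M := by
    intro huM
    obtain ⟨m, hmM, hum⟩ :=
      Cfsg.Agent.Lib.helper76.AIC.exists_smul_of_inv_mem P M hPM huM hu2
    have hRm : m • P = R := sylow_ti hA hnc (m • P) R hum huR hu1
    apply hR
    rw [← hRm]
    exact (hM m).mp hmM
  have hSE : Cfsg.IsStronglyEmbedded M :=
    Cfsg.Agent.Lib.helper76.AIC.block_se hA hnc P M hM hMtop
  have hineq := Cfsg.Agent.Lib.helper76.AIC.block_ineq hA hnc hD P M hM hSE u hu2 huM
  have hodd : Odd (Nat.card ↥(M ⊓ M.map (MulAut.conj u).toMonoidHom)) := hSE.2.2 u huM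
  have hinv := hINV M hAM hncM hnnM hEM (P.subtype hPM)
  rw [e3d_card_inv_sub] at hinv
  obtain ⟨Z, hZn, hZ⟩ := Cfsg.Agent.Lib.helper4.AIC.exists_ksub hAM hncM
  obtain ⟨M₂, hM₂⟩ : ∃ M₂ : Subgroup G, M₂ = M ⊓ M.map (MulAut.conj u).toMonoidHom := ⟨_, rfl⟩
  rw [← hM₂] at hineq hodd
  have hM₂M : M₂ ≤ M := by rw [hM₂]; exact inf_le_left
  have hcardY : Nat.card ↥(M₂.subgroupOf M) = Nat.card ↥M₂ :=
    Nat.card_congr (Subgroup.subgroupOfEquivOfLe hM₂M).toEquiv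
  have hYZeq : M₂.subgroupOf M ⊓ Z = (M₂ ⊓ CP P).subgroupOf M := by
    ext y
    rw [Subgroup.mem_inf, Subgroup.mem_subgroupOf, Subgroup.mem_subgroupOf, Subgroup.mem_inf]
    constructor
    · rintro ⟨hy, hyZ⟩
      refine ⟨hy, ?_⟩
      have h1 := ((hZ y).mp hyZ).2 (P.subtype hPM)
      exact (Cfsg.Agent.Lib.helper4.AIC.cp_sub M P hPM y).mp h1
    · rintro ⟨hy, hyC⟩
      refine ⟨hy, ?_⟩
      rw [hZ y]
      have hyo : Odd (orderOf y) := by
        have h1 : orderOf (⟨(y : G), hy⟩ : ↥M₂) ∣ Nat.card ↥M₂ := orderOf_dvd_natCard _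
        have h2 : orderOf (⟨(y : G), hy⟩ : ↥M₂) = orderOf (y : G) := Subgroup.orderOf_mk _ _
        rw [h2, Subgroup.orderOf_coe] at h1
        exact Odd.of_dvd_nat hodd h1
      refine ⟨hyo, fun P' => ?_⟩
      exact hEM (P.subtype hPM) P' y hyo
        ((Cfsg.Agent.Lib.helper4.AIC.cp_sub M P hPM y).mpr hyC)
  have hcardYZ : Nat.card ↥(M₂.subgroupOf M ⊓ Z) = Nat.card ↥(M₂ ⊓ CP P) := by
    rw [hYZeq]
    exact Nat.card_congr
      (Subgroup.subgroupOfEquivOfLe (le_trans inf_le_left hM₂M)).toEquiv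
  have hcardP : Nat.card ↥((P.subtype hPM : Sylow 2 ↥M) : Subgroup ↥M) =
      Nat.card ↥(P : Subgroup G) := by
    rw [Sylow.coe_subtype]
    exact Nat.card_congr (Subgroup.subgroupOfEquivOfLe hPM).toEquiv
  refine hHALL M hAM hncM hnnM hEM Z hZ (P.subtype hPM) (M₂.subgroupOf M) ?_ ?_
  · rw [hcardY]
    exact hodd
  · rw [hcardYZ, hcardY, ← hinv]
    exact hineq

end Cfsg.Agent.Lib.helper46.AIC
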