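import Mathlib
import Cfsg.Prelude.Def_LieTypeChar
import Cfsg.Agent.Lib.helper44.LODefs
import Cfsg.Agent.S0280

/-!
S2363 piece PSU: the order bounds for `PSU_n(q)`, `n ≥ 3`, from the order formula S0280.
-/

set_option autoImplicit false

namespace Cfsg.Agent.Lib.helper44.LO

open Cfsg

/-- Private copy of the core arithmetic lemma (so that this file does not wait for ARITH). -/
theorem helper46_lo_good_aux {p : ℕ} (hp : p.Prime) (f : ℕ) (_hf : 1 ≤ f) (c n N M e : ℕ)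
    (hc : c * n = (p ^ f) ^ N * M) (hcp : ¬ p ∣ c) (hMp : ¬ p ∣ M) (hM : M < c * (p ^ f) ^ e)
    (h1 : e ≤ 2 * N) (h2 : 3 * e ≤ 5 * N) : LOGood p n := by
  have hc0 : c ≠ 0 := fun h => hcp (h ▸ dvd_zero p)
  have hM0 : M ≠ 0 := fun h => hMp (h ▸ dvd_zero p)
  have hq0 : 0 < p ^ f := pow_pos hp.pos f
  have hn0 : n ≠ 0 := by
    intro h
    rw [h, mul_zero] at hc
    exact (mul_ne_zero (pow_ne_zero N hq0.ne') hM0) hc.symm
  have hk : n.factorization p = f * N := by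
    have h3 : (c * n).factorization p = ((p ^ f) ^ N * M).factorization p := by rw [hc]
    rw [Nat.factorization_mul hc0 hn0, Nat.factorization_mul (pow_ne_zero N hq0.ne') hM0, ← pow_mul,
      Finsupp.add_apply, Finsupp.add_apply, Nat.factorization_eq_zero_of_not_dvd hcp,
      Nat.factorization_eq_zero_of_not_dvd hMp, Nat.Prime.factorization_pow hp, zero_add, add_zero,
      Finsupp.single_eq_same] at h3
    exact h3
  have hlt : n < (p ^ f) ^ (N + e) := by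
    have h3 : c * n < c * (p ^ f) ^ (N + e) := by
      rw [hc, pow_add]
      calc (p ^ f) ^ N * M < (p ^ f) ^ N * (c * (p ^ f) ^ e) :=
            Nat.mul_lt_mul_of_pos_left hM (pow_pos hq0 N)
        _ = c * ((p ^ f) ^ N * (p ^ f) ^ e) := by ring
    exact Nat.lt_of_mul_lt_mul_left h3
  rw [← pow_mul] at hlt
  refine ⟨?_, ?_⟩
  · rw [hk]
    exact lt_of_lt_of_le hlt (Nat.pow_le_pow_right hp.pos (by nlinarith))
  · rw [hk]
    calc n ^ 3 < (p ^ (f * (N + e))) ^ 3 := Nat.pow_lt_pow_left hlt (by norm_num)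
      _ = p ^ (3 * (f * (N + e))) := by rw [← pow_mul, mul_comm]
      _ ≤ p ^ (8 * (f * N)) := Nat.pow_le_pow_right hp.pos (by nlinarith)

/-- The alternating-sign product. -/
def helper46_P (q n : ℕ) : ℕ :=
  ∏ i ∈ Finset.range n, (if Even i then q ^ (i + 1) + 1 else q ^ (i + 1) - 1)

theorem helper46_P_succ (q n : ℕ) :
    helper46_P q (n + 1) = helper46_P q n * (if Even n then q ^ (n + 1) + 1 else q ^ (n + 1) - 1) :=
  Finset.prod_range_succ _ n

theorem helper46_P_odd_step (q j : ℕ) :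
    helper46_P q (2 * j + 2) = helper46_P q (2 * j + 1) * (q ^ (2 * j + 2) - 1) := by
  have h1 : ¬ Even (2 * j + 1) := by
    rw [Nat.not_even_iff_odd]
    exact ⟨j, rfl⟩
  rw [helper46_P_succ, if_neg h1]

theorem helper46_P_even_step (q j : ℕ) :
    helper46_P q (2 * j + 3) = helper46_P q (2 * j + 2) * (q ^ (2 * j + 3) + 1) := by
  have h1 : Even (2 * j + 2) := ⟨j + 1, by ring⟩
  rw [helper46_P_succ, if_pos h1]

/-- `(q^(2j+2) - 1) (q^(2j+3) + 1) < q^(4j+5)`. -/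
theorem helper46_pair_lt (q : ℕ) (hq : 2 ≤ q) (j : ℕ) :
    (q ^ (2 * j + 2) - 1) * (q ^ (2 * j + 3) + 1) < q ^ (4 * j + 5) := by
  have hA : 1 ≤ q ^ (2 * j + 2) := Nat.one_le_pow _ _ (by omega)
  obtain ⟨B, hB⟩ : ∃ B, q ^ (2 * j + 2) = B + 1 := ⟨q ^ (2 * j + 2) - 1, by omega⟩
  have h3 : q ^ (2 * j + 3) = (B + 1) * q := by rw [← hB, ← pow_succ]
  have h5 : q ^ (4 * j + 5) = (B + 1) * (B + 1) * q := by
    rw [← hB, ← pow_add, ← pow_succ]
    congr 1
    ring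
  rw [hB, h3, h5, Nat.add_sub_cancel]
  nlinarith [Nat.zero_le B, Nat.zero_le (B * q), Nat.zero_le (B * B * q)]

/-- `P(2j+1) ≤ (q+1) q^(2j²+3j)`. -/
theorem helper46_P_odd_le (q : ℕ) (hq : 2 ≤ q) (j : ℕ) :
    helper46_P q (2 * j + 1) ≤ (q + 1) * q ^ (2 * j * j + 3 * j) := by
  induction j with
  | zero => simp [helper46_P]
  | succ j ih =>
    have h1 : 2 * (j + 1) + 1 = 2 * j + 3 := by ring
    rw [h1, helper46_P_even_step, helper46_P_odd_step, mul_assoc]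
    have h2 : 2 * (j + 1) * (j + 1) + 3 * (j + 1) = (2 * j * j + 3 * j) + (4 * j + 5) := by ring
    rw [h2, pow_add q (2 * j * j + 3 * j) (4 * j + 5), ← mul_assoc (q + 1)]
    exact Nat.mul_le_mul ih (helper46_pair_lt q hq j).le

/-- `P(2j+3) < (q+1) q^(2(j+1)²+3(j+1))`. -/
theorem helper46_P_odd_lt (q : ℕ) (hq : 2 ≤ q) (j : ℕ) :
    helper46_P q (2 * j + 3) < (q + 1) * q ^ (2 * j * j + 7 * j + 5) := by
  rw [helper46_P_even_step, helper46_P_odd_step, mul_assoc]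
  have h2 : 2 * j * j + 7 * j + 5 = (2 * j * j + 3 * j) + (4 * j + 5) := by ring
  rw [h2, pow_add q (2 * j * j + 3 * j) (4 * j + 5), ← mul_assoc (q + 1)]
  have hpos : 0 < (q + 1) * q ^ (2 * j * j + 3 * j) := Nat.mul_pos (by omega) (pow_pos (by omega) _)
  calc helper46_P q (2 * j + 1) * ((q ^ (2 * j + 2) - 1) * (q ^ (2 * j + 3) + 1))
      ≤ (q + 1) * q ^ (2 * j * j + 3 * j) * ((q ^ (2 * j + 2) - 1) * (q ^ (2 * j + 3) + 1)) :=
        Nat.mul_le_mul_right _ (helper46_P_odd_le q hq j)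
    _ < (q + 1) * q ^ (2 * j * j + 3 * j) * q ^ (4 * j + 5) :=
        Nat.mul_lt_mul_of_pos_left (helper46_pair_lt q hq j) hpos

/-- `P(2j+2) < (q+1) q^(2j²+5j+2)`. -/
theorem helper46_P_even_lt (q : ℕ) (hq : 2 ≤ q) (j : ℕ) :
    helper46_P q (2 * j + 2) < (q + 1) * q ^ (2 * j * j + 5 * j + 2) := by
  rw [helper46_P_odd_step]
  have h2 : 2 * j * j + 5 * j + 2 = (2 * j * j + 3 * j) + (2 * j + 2) := by ring
  rw [h2, pow_add q (2 * j * j + 3 * j) (2 * j + 2), ← mul_assoc (q + 1)]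
  have hpos : 0 < (q + 1) * q ^ (2 * j * j + 3 * j) := Nat.mul_pos (by omega) (pow_pos (by omega) _)
  have hA : 1 ≤ q ^ (2 * j + 2) := Nat.one_le_pow _ _ (by omega)
  calc helper46_P q (2 * j + 1) * (q ^ (2 * j + 2) - 1)
      ≤ (q + 1) * q ^ (2 * j * j + 3 * j) * (q ^ (2 * j + 2) - 1) :=
        Nat.mul_le_mul_right _ (helper46_P_odd_le q hq j)
    _ < (q + 1) * q ^ (2 * j * j + 3 * j) * q ^ (2 * j + 2) :=
        Nat.mul_lt_mul_of_pos_left (by omega) hpos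

/-- The bound on the product in the form used below: for `n ≥ 2` there are `N, e` with `N = n(n-1)/2`,
`P(n) < (q+1) q^e`, `e ≤ 2N` and (for `n ≥ 3`) `3e ≤ 5N`. -/
theorem helper46_P_bound (q : ℕ) (hq : 2 ≤ q) (n : ℕ) (hn : 3 ≤ n) :
    ∃ e : ℕ, helper46_P q n < (q + 1) * q ^ e ∧ e ≤ 2 * (n * (n - 1) / 2) ∧ 3 * e ≤ 5 * (n * (n - 1) / 2) := by
  rcases Nat.even_or_odd' n with ⟨k, hk | hk⟩
  · -- n = 2k, k ≥ 2: write k = j + 1
    obtain ⟨j, rfl⟩ : ∃ j, k = j + 1 := ⟨k - 1, by omega⟩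
    have hj : 1 ≤ j := by omega
    have hn' : n = 2 * j + 2 := by omega
    subst hn'
    have hN : (2 * j + 2) * (2 * j + 2 - 1) / 2 = 2 * j * j + 3 * j + 1 := by
      have : (2 * j + 2) * (2 * j + 2 - 1) = 2 * (2 * j * j + 3 * j + 1) := by
        rw [Nat.add_sub_cancel_right (n := 2 * j + 1) (m := 1)]
        ring
      rw [this, Nat.mul_div_cancel_left _ (by norm_num : 0 < 2)]
    refine ⟨2 * j * j + 5 * j + 2, helper46_P_even_lt q hq j, ?_, ?_⟩
    · rw [hN]; nlinarith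
    · rw [hN]; nlinarith
  · -- n = 2k + 1, k ≥ 1: write k = j + 1
    obtain ⟨j, rfl⟩ : ∃ j, k = j + 1 := ⟨k - 1, by omega⟩
    have hn' : n = 2 * j + 3 := by omega
    subst hn'
    have hN : (2 * j + 3) * (2 * j + 3 - 1) / 2 = 2 * j * j + 5 * j + 3 := by
      have : (2 * j + 3) * (2 * j + 3 - 1) = 2 * (2 * j * j + 5 * j + 3) := by
        rw [Nat.add_sub_cancel_right (n := 2 * j + 2) (m := 1)]
        ring
      rw [this, Nat.mul_div_cancel_left _ (by norm_num : 0 < 2)]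
    refine ⟨2 * j * j + 7 * j + 5, helper46_P_odd_lt q hq j, ?_, ?_⟩
    · rw [hN]; nlinarith
    · rw [hN]; nlinarith

theorem lo_psu {F : Type} [Field F] [Fintype F] (p : ℕ) (hp : p.Prime) [CharP F p] (n q : ℕ)
    (hF : Fintype.card F = q ^ 2) (hn : 3 ≤ n) : LOGood p (Nat.card (Cfsg.PSU n F q)) := by
  -- `q = p ^ f`, `f ≥ 1`
  obtain ⟨k, -, hk⟩ := FiniteField.card F p
  have hqdvd : q ∣ p ^ (k : ℕ) := by
    rw [← hk, hF]
    exact Dvd.intro_left (q ^ 1) (by ring)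
  obtain ⟨f, -, hqf⟩ := (Nat.dvd_prime_pow hp).mp hqdvd
  have hf : 1 ≤ f := by
    rcases Nat.eq_zero_or_pos f with h0 | h0
    · exfalso
      rw [h0, pow_zero] at hqf
      have h1 := Fintype.one_lt_card (α := F)
      rw [hF, hqf] at h1
      norm_num at h1
    · exact h0
  have hq2 : 2 ≤ q := by
    rw [hqf]
    calc 2 ≤ p := hp.two_le
      _ = p ^ 1 := (pow_one p).symm
      _ ≤ p ^ f := Nat.pow_le_pow_right hp.pos hf
  have hpq : p ∣ q := by rw [hqf]; exact dvd_pow_self p (by omega)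
  have hord := Cfsg.Agent.S0280.result hF n (by omega)
  obtain ⟨e, hMe, he1, he2⟩ := helper46_P_bound q hq2 n hn
  have hgpos : 0 < Nat.gcd n (q + 1) := Nat.gcd_pos_of_pos_left _ (by omega)
  refine helper46_lo_good_aux hp f hf (Nat.gcd n (q + 1) * (q + 1)) _ (n * (n - 1) / 2) (helper46_P q n) e
    ?_ ?_ ?_ ?_ he1 he2
  · rw [← hqf, mul_assoc]
    exact hord
  · intro hdiv
    have h1 : p ∣ q + 1 := by
      rcases (Nat.Prime.dvd_mul hp).mp hdiv with h | h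
      · exact dvd_trans h (Nat.gcd_dvd_right _ _)
      · exact h
    have h2 : p ∣ 1 := (Nat.dvd_add_right hpq).mp h1
    exact hp.one_lt.ne' (Nat.dvd_one.mp h2)
  · intro hdiv
    unfold helper46_P at hdiv
    obtain ⟨i, -, hi⟩ := (Prime.dvd_finsetProd_iff hp.prime _).mp hdiv
    have hpqi : p ∣ q ^ (i + 1) := dvd_pow hpq (by omega)
    have hA : 1 ≤ q ^ (i + 1) := Nat.one_le_pow _ _ (by omega)
    split_ifs at hi with hev
    · have h2 : p ∣ 1 := (Nat.dvd_add_right hpqi).mp hi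
      exact hp.one_lt.ne' (Nat.dvd_one.mp h2)
    · have h3 : q ^ (i + 1) = (q ^ (i + 1) - 1) + 1 := by omega
      rw [h3] at hpqi
      have h2 : p ∣ 1 := (Nat.dvd_add_right hi).mp hpqi
      exact hp.one_lt.ne' (Nat.dvd_one.mp h2)
  · rw [← hqf]
    calc helper46_P q n < (q + 1) * q ^ e := hMe
      _ = 1 * ((q + 1) * q ^ e) := (one_mul _).symm
      _ ≤ Nat.gcd n (q + 1) * ((q + 1) * q ^ e) := Nat.mul_le_mul_right _ hgpos
      _ = Nat.gcd n (q + 1) * (q + 1) * q ^ e := by ring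

end Cfsg.Agent.Lib.helper44.LO
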