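import Mathlib
import Cfsg.Agent.Lib.helper11.ReeToriArith

/-!
# Ward's counting argument: the two classes of tori (helper46, piece F2 of S1158/S1159)

`G` has order `q³(q³+1)(q-1)`, the number of nonidentity solutions of `g ^ (q²-q+1) = 1` is
`q⁴(q²-1)(q-2)/3`, and the centralizer `T` of every element of prime order dividing `q²-q+1` is a
cyclic TI-subgroup with `|N(T) : T|` dividing `6`.  Then there are exactly two classes of such
tori, of orders `q + 1 ∓ r` (`r² = 3q`), with `|N(T) : T| = 6`.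
-/

set_option autoImplicit false

namespace Cfsg.Agent.Lib.helper46

variable {G : Type*} [Group G]

/-- The nonidentity elements conjugate into `T`. -/
def wardCls (T : Subgroup G) : Set G := {g | g ≠ 1 ∧ ∃ c : G, c⁻¹ * g * c ∈ T}

/-- The nonidentity solutions of `g ^ n = 1`. -/
def wardSol (G : Type*) [Group G] (n : ℕ) : Set G := {g | g ≠ 1 ∧ g ^ n = 1}

/-- The local package for a torus. -/
structure WardLoc (n : ℕ) (T : Subgroup G) : Prop where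
  cyc : IsCyclic ↥T
  dvd : Nat.card ↥T ∣ n
  one_lt : 1 < Nat.card ↥T
  ti : ∀ y ∈ T, y ≠ 1 → Subgroup.centralizer ({y} : Set G) = T
  norm : ∃ e : ℕ, e ∣ 6 ∧ Nat.card ↥(Subgroup.normalizer (T : Set G)) = e * Nat.card ↥T
  sub : ∀ A₀ : Subgroup G, A₀ ≤ T → A₀ ≠ ⊥ →
    Subgroup.normalizer (A₀ : Set G) = Subgroup.normalizer (T : Set G)
  cnt : (wardCls T).ncard * Nat.card ↥(Subgroup.normalizer (T : Set G)) =
    Nat.card G * (Nat.card ↥T - 1)

theorem wardCls_subset [Finite G] {n : ℕ} {T : Subgroup G} (h : WardLoc n T) :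
    wardCls T ⊆ wardSol G n := by
  rintro g ⟨hg1, c, hc⟩
  refine ⟨hg1, ?_⟩
  have h1 : (⟨c⁻¹ * g * c, hc⟩ : ↥T) ^ Nat.card ↥T = 1 := pow_card_eq_one'
  have h2 : (c⁻¹ * g * c) ^ Nat.card ↥T = 1 := by
    have := congrArg Subtype.val h1
    rw [Subgroup.coe_pow, Subgroup.coe_one] at this
    exact this
  obtain ⟨k, hk⟩ := h.dvd
  have h3 : (c⁻¹ * g * c) ^ n = 1 := by rw [hk, pow_mul, h2, one_pow]
  have h4 : g = c * (c⁻¹ * g * c) * c⁻¹ := by group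
  rw [h4, conj_pow, h3]
  group

/-- Two TI-subgroups whose classes meet are conjugate. -/
theorem wardCls_conj {T T' : Subgroup G}
    (hT : ∀ y ∈ T, y ≠ 1 → Subgroup.centralizer ({y} : Set G) = T)
    (hT' : ∀ y ∈ T', y ≠ 1 → Subgroup.centralizer ({y} : Set G) = T')
    {h : G} (h1 : h ∈ wardCls T) (h2 : h ∈ wardCls T') {g : G} (hg : g ∈ T') (hg1 : g ≠ 1) :
    g ∈ wardCls T := by
  obtain ⟨hne, c, hc⟩ := h1
  obtain ⟨-, d, hd⟩ := h2
  have hc1 : c⁻¹ * h * c ≠ 1 := by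
    intro h0
    apply hne
    have : h = c * (c⁻¹ * h * c) * c⁻¹ := by group
    rw [this, h0]
    group
  have hd1 : d⁻¹ * h * d ≠ 1 := by
    intro h0
    apply hne
    have : h = d * (d⁻¹ * h * d) * d⁻¹ := by group
    rw [this, h0]
    group
  refine ⟨hg1, d⁻¹ * c, ?_⟩
  rw [← hT _ hc hc1, Subgroup.mem_centralizer_iff]
  intro y hy
  rw [Set.mem_singleton_iff] at hy
  have hgc : g ∈ Subgroup.centralizer ({d⁻¹ * h * d} : Set G) := by
    rw [hT' _ hd hd1]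
    exact hg
  rw [Subgroup.mem_centralizer_iff] at hgc
  have h3 := hgc _ (Set.mem_singleton _)
  -- `h3 : d⁻¹ * h * d * g = g * (d⁻¹ * h * d)`
  have h4 : h * (d * g * d⁻¹) = (d * g * d⁻¹) * h := by
    calc h * (d * g * d⁻¹) = d * (d⁻¹ * h * d * g) * d⁻¹ := by group
      _ = d * (g * (d⁻¹ * h * d)) * d⁻¹ := by rw [h3]
      _ = (d * g * d⁻¹) * h := by group
  rw [hy]
  calc c⁻¹ * h * c * ((d⁻¹ * c)⁻¹ * g * (d⁻¹ * c))
      = c⁻¹ * (h * (d * g * d⁻¹)) * c := by group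
    _ = c⁻¹ * ((d * g * d⁻¹) * h) * c := by rw [h4]
    _ = (d⁻¹ * c)⁻¹ * g * (d⁻¹ * c) * (c⁻¹ * h * c) := by group

/-- A nonidentity solution of `g ^ n = 1` centralizes a power of itself of prime order. -/
theorem ward_exists_prime_pow [Finite G] {n : ℕ} {g : G} (hg1 : g ≠ 1) (hgn : g ^ n = 1) :
    ∃ x : G, (orderOf x).Prime ∧ x ^ n = 1 ∧ g ∈ Subgroup.centralizer ({x} : Set G) := by
  have hpos : 0 < orderOf g := orderOf_pos g
  have hne1 : orderOf g ≠ 1 := fun h => hg1 (orderOf_eq_one_iff.mp h)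
  have hdvd : orderOf g ∣ n := orderOf_dvd_of_pow_eq_one hgn
  have hp : (orderOf g).minFac.Prime := Nat.minFac_prime hne1
  have hpd : (orderOf g).minFac ∣ orderOf g := Nat.minFac_dvd _
  have hk0 : orderOf g / (orderOf g).minFac ≠ 0 := by
    have := Nat.div_pos (Nat.le_of_dvd hpos hpd) hp.pos
    omega
  have hord : orderOf (g ^ (orderOf g / (orderOf g).minFac)) = (orderOf g).minFac := by
    rw [orderOf_pow_of_dvd hk0 (Nat.div_dvd_of_dvd hpd), Nat.div_div_self hpd hpos.ne']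
  refine ⟨g ^ (orderOf g / (orderOf g).minFac), by rw [hord]; exact hp, ?_, ?_⟩
  · rw [← orderOf_dvd_iff_pow_eq_one, hord]
    exact hpd.trans hdvd
  · rw [Subgroup.mem_centralizer_iff]
    intro y hy
    rw [Set.mem_singleton_iff] at hy
    rw [hy, ← pow_succ, ← pow_succ']

/-- In a finite cyclic group, an element killed by `p` is a power of any element of order `p`. -/
theorem ward_mem_zpowers_of_cyclic {C : Type*} [Group C] [Finite C] [IsCyclic C] {p : ℕ}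
    (hp : 0 < p) {y z : C} (hy : orderOf y = p) (hz : z ^ p = 1) : z ∈ Subgroup.zpowers y := by
  classical
  have : Fintype C := Fintype.ofFinite C
  have h1 := IsCyclic.card_pow_eq_one_le (α := C) hp
  have hsub : (Finset.univ.filter (fun a : C => a ∈ Subgroup.zpowers y)) ⊆
      Finset.univ.filter (fun a : C => a ^ p = 1) := by
    intro a ha
    rw [Finset.mem_filter] at ha ⊢
    refine ⟨Finset.mem_univ _, ?_⟩
    obtain ⟨k, rfl⟩ := ha.2
    rw [← zpow_natCast, ← zpow_mul, mul_comm, zpow_mul, zpow_natCast, ← hy, pow_orderOf_eq_one,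
      one_zpow]
  have hcard : (Finset.univ.filter (fun a : C => a ∈ Subgroup.zpowers y)).card = p := by
    rw [← hy, ← Nat.card_zpowers, Nat.card_eq_fintype_card, Fintype.card_subtype]
  have heq := Finset.eq_of_subset_of_card_le hsub (by rw [hcard]; exact h1)
  have hzmem : z ∈ Finset.univ.filter (fun a : C => a ^ p = 1) := by
    rw [Finset.mem_filter]
    exact ⟨Finset.mem_univ _, hz⟩
  rw [← heq, Finset.mem_filter] at hzmem
  exact hzmem.2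

/-- **Piece F2.**  Ward's counting argument: exactly two classes of tori, of orders `q + 1 ∓ r`. -/
theorem ward_tori_global {G : Type*} [Group G] [Finite G] (q r : ℕ) (hq : 27 ≤ q) (h3 : 3 ∣ q)
    (hodd : Odd q) (hr : r * r = 3 * q)
    (hG : Nat.card G = q ^ 3 * (q ^ 3 + 1) * (q - 1))
    (hX : 3 * Nat.card {g : G // g ≠ 1 ∧ g ^ (q ^ 2 - q + 1) = 1} = q ^ 4 * (q ^ 2 - 1) * (q - 2))
    (hcyc : ∀ (p : ℕ) [Fact p.Prime], p ∣ q ^ 2 - q + 1 → ∀ P : Sylow p G, IsCyclic ↥(P : Subgroup G))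
    (hloc : ∀ x : G, (orderOf x).Prime → x ^ (q ^ 2 - q + 1) = 1 → ∀ T : Subgroup G, T = Subgroup.centralizer ({x} : Set G) →
      IsCyclic ↥T ∧ Nat.card ↥T ∣ q ^ 2 - q + 1 ∧ 1 < Nat.card ↥T ∧
      (∀ y ∈ T, y ≠ 1 → Subgroup.centralizer ({y} : Set G) = T) ∧
      (∃ e : ℕ, e ∣ 6 ∧ Nat.card ↥(Subgroup.normalizer (T : Set G)) = e * Nat.card ↥T) ∧
      (∀ A₀ : Subgroup G, A₀ ≤ T → A₀ ≠ ⊥ → Subgroup.normalizer (A₀ : Set G) = Subgroup.normalizer (T : Set G)) ∧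
      Nat.card {g : G // g ≠ 1 ∧ ∃ c : G, c⁻¹ * g * c ∈ T} * Nat.card ↥(Subgroup.normalizer (T : Set G)) = Nat.card G * (Nat.card ↥T - 1)) :
    ∃ T₁ T₂ : Subgroup G, IsCyclic ↥T₁ ∧ IsCyclic ↥T₂ ∧ Nat.card ↥T₁ = q + 1 - r ∧ Nat.card ↥T₂ = q + 1 + r ∧
      Nat.card ↥(Subgroup.normalizer (T₁ : Set G)) = 6 * (q + 1 - r) ∧ Nat.card ↥(Subgroup.normalizer (T₂ : Set G)) = 6 * (q + 1 + r) ∧
      (∀ A₀ : Subgroup G, A₀ ≤ T₁ → A₀ ≠ ⊥ → Subgroup.normalizer (A₀ : Set G) = Subgroup.normalizer (T₁ : Set G)) ∧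
      (∀ A₀ : Subgroup G, A₀ ≤ T₂ → A₀ ≠ ⊥ → Subgroup.normalizer (A₀ : Set G) = Subgroup.normalizer (T₂ : Set G)) ∧
      (∀ g : G, g ≠ 1 → g ^ (q ^ 2 - q + 1) = 1 → ∃ c : G, c⁻¹ * g * c ∈ T₁ ∨ c⁻¹ * g * c ∈ T₂) := by
  classical
  set n := q ^ 2 - q + 1 with hn
  have hL : ∀ x : G, (orderOf x).Prime → x ^ n = 1 →
      WardLoc n (Subgroup.centralizer ({x} : Set G)) := by
    intro x hx hxn
    obtain ⟨a1, a2, a3, a4, a5, a6, a7⟩ := hloc x hx hxn _ rfl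
    exact ⟨a1, a2, a3, a4, a5, a6, a7⟩
  have hXc : 3 * (wardSol G n).ncard = q ^ 4 * (q ^ 2 - 1) * (q - 2) := hX
  have hcount : ∀ T : Subgroup G, WardLoc n T → ∃ e : ℕ, e ∣ 6 ∧
      Nat.card ↥(Subgroup.normalizer (T : Set G)) = e * Nat.card ↥T ∧
      (wardCls T).ncard * (e * Nat.card ↥T) =
        q ^ 3 * (q ^ 3 + 1) * (q - 1) * (Nat.card ↥T - 1) := by
    intro T hT
    obtain ⟨e, he, hN⟩ := hT.norm
    refine ⟨e, he, hN, ?_⟩
    rw [← hN, ← hG]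
    exact hT.cnt
  have hqq : q < q ^ 2 := by nlinarith
  have hn1 : 1 < n := by omega
  have hndvd : n ∣ Nat.card G := by
    rw [hG]
    have h1 : q ^ 3 + 1 = (q + 1) * n := by
      obtain ⟨k, hk⟩ : ∃ k, q ^ 2 = q + k := ⟨q ^ 2 - q, by omega⟩
      have hnk : n = k + 1 := by omega
      rw [hnk]
      nlinarith [hk]
    rw [h1]
    exact ((dvd_mul_left n (q + 1)).mul_left (q ^ 3)).mul_right (q - 1)
  -- the first torus
  obtain ⟨p, hp, hpn⟩ := Nat.exists_prime_and_dvd hn1.ne'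
  have hpF : Fact p.Prime := ⟨hp⟩
  obtain ⟨x₁, hx₁⟩ := exists_prime_orderOf_dvd_card' p (hpn.trans hndvd)
  have hx₁n : x₁ ^ n = 1 := by
    rw [← orderOf_dvd_iff_pow_eq_one, hx₁]
    exact hpn
  have L₁ := hL x₁ (by rw [hx₁]; exact hp) hx₁n
  generalize Subgroup.centralizer ({x₁} : Set G) = T₁ at L₁
  obtain ⟨e₁, he₁, hN₁, hc₁⟩ := hcount T₁ L₁
  have hne1 : (wardCls T₁).ncard ≠ (wardSol G n).ncard :=
    Cfsg.Agent.Lib.helper11.ree_tori_arith_one q _ e₁ _ _ hq h3 hodd L₁.dvd L₁.one_lt he₁ hc₁ hXc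
  obtain ⟨g₂, hg₂X, hg₂1⟩ : ∃ g, g ∈ wardSol G n ∧ g ∉ wardCls T₁ := by
    by_contra hcon
    push Not at hcon
    exact hne1 (congrArg Set.ncard (Set.Subset.antisymm (wardCls_subset L₁) hcon))
  -- the second torus
  obtain ⟨x₂, hx₂, hx₂n, hg₂T⟩ := ward_exists_prime_pow hg₂X.1 hg₂X.2
  have L₂ := hL x₂ hx₂ hx₂n
  generalize Subgroup.centralizer ({x₂} : Set G) = T₂ at L₂ hg₂T
  obtain ⟨e₂, he₂, hN₂, hc₂⟩ := hcount T₂ L₂
  have hdisj12 : Disjoint (wardCls T₁) (wardCls T₂) := by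
    rw [Set.disjoint_left]
    intro h h1 h2
    exact hg₂1 (wardCls_conj L₁.ti L₂.ti h1 h2 hg₂T hg₂X.1)
  -- no third class
  have hcover : wardSol G n ⊆ wardCls T₁ ∪ wardCls T₂ := by
    by_contra hcon
    rw [Set.not_subset] at hcon
    obtain ⟨g₃, hg₃X, hg₃⟩ := hcon
    rw [Set.mem_union, not_or] at hg₃
    obtain ⟨x₃, hx₃, hx₃n, hg₃T⟩ := ward_exists_prime_pow hg₃X.1 hg₃X.2
    have L₃ := hL x₃ hx₃ hx₃n
    generalize Subgroup.centralizer ({x₃} : Set G) = T₃ at L₃ hg₃T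
    obtain ⟨e₃, he₃, hN₃, hc₃⟩ := hcount T₃ L₃
    have hdisj13 : Disjoint (wardCls T₁) (wardCls T₃) := by
      rw [Set.disjoint_left]
      intro h h1 h2
      exact hg₃.1 (wardCls_conj L₁.ti L₃.ti h1 h2 hg₃T hg₃X.1)
    have hdisj23 : Disjoint (wardCls T₂) (wardCls T₃) := by
      rw [Set.disjoint_left]
      intro h h1 h2
      exact hg₃.2 (wardCls_conj L₂.ti L₃.ti h1 h2 hg₃T hg₃X.1)
    have hlt := Cfsg.Agent.Lib.helper11.ree_tori_arith_three q _ _ _ e₁ e₂ e₃ _ _ _ _ hq h3 hodd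
      L₁.dvd L₂.dvd L₃.dvd L₁.one_lt L₂.one_lt L₃.one_lt he₁ he₂ he₃ hc₁ hc₂ hc₃ hXc
    have hsub : wardCls T₁ ∪ wardCls T₂ ∪ wardCls T₃ ⊆ wardSol G n :=
      Set.union_subset (Set.union_subset (wardCls_subset L₁) (wardCls_subset L₂))
        (wardCls_subset L₃)
    have hle := Set.ncard_le_ncard hsub (Set.toFinite _)
    rw [Set.ncard_union_eq (Set.disjoint_union_left.mpr ⟨hdisj13, hdisj23⟩) (Set.toFinite _)
      (Set.toFinite _), Set.ncard_union_eq hdisj12 (Set.toFinite _) (Set.toFinite _)] at hle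
    omega
  have hsum : (wardCls T₁).ncard + (wardCls T₂).ncard = (wardSol G n).ncard := by
    rw [← Set.ncard_union_eq hdisj12 (Set.toFinite _) (Set.toFinite _)]
    exact congrArg Set.ncard (Set.Subset.antisymm
      (Set.union_subset (wardCls_subset L₁) (wardCls_subset L₂)) hcover)
  -- the orders are coprime
  have hcop : Nat.Coprime (Nat.card ↥T₁) (Nat.card ↥T₂) := by
    apply Nat.coprime_of_dvd
    intro s hs hs1 hs2
    have hsF : Fact s.Prime := ⟨hs⟩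
    obtain ⟨y₁, hy₁⟩ := exists_prime_orderOf_dvd_card' (G := ↥T₁) s hs1
    obtain ⟨y₂, hy₂⟩ := exists_prime_orderOf_dvd_card' (G := ↥T₂) s hs2
    have hy₁' : orderOf (y₁ : G) = s := by rw [Subgroup.orderOf_coe, hy₁]
    have hy₂' : orderOf (y₂ : G) = s := by rw [Subgroup.orderOf_coe, hy₂]
    have hpg₁ : IsPGroup s ↥(Subgroup.zpowers (y₁ : G)) :=
      IsPGroup.of_card (n := 1) (by rw [Nat.card_zpowers, hy₁', pow_one])
    have hpg₂ : IsPGroup s ↥(Subgroup.zpowers (y₂ : G)) :=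
      IsPGroup.of_card (n := 1) (by rw [Nat.card_zpowers, hy₂', pow_one])
    obtain ⟨S₁, hS₁⟩ := hpg₁.exists_le_sylow
    obtain ⟨S₂, hS₂⟩ := hpg₂.exists_le_sylow
    obtain ⟨u, hu⟩ := MulAction.exists_smul_eq G S₁ S₂
    have hS₂c : IsCyclic ↥(S₂ : Subgroup G) := hcyc s (hs1.trans L₁.dvd) S₂
    have hmem : u * (y₁ : G) * u⁻¹ ∈ (S₂ : Subgroup G) := by
      rw [← hu, Sylow.coe_subgroup_smul]
      exact Subgroup.smul_mem_pointwise_smul _ (MulAut.conj u) _ (hS₁ (Subgroup.mem_zpowers _))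
    have hy₂S : (y₂ : G) ∈ (S₂ : Subgroup G) := hS₂ (Subgroup.mem_zpowers _)
    have hpow : (u * (y₁ : G) * u⁻¹) ^ s = 1 := by
      rw [conj_pow, ← hy₁', pow_orderOf_eq_one]
      group
    have hz := ward_mem_zpowers_of_cyclic (C := ↥(S₂ : Subgroup G)) hs.pos
      (y := ⟨(y₂ : G), hy₂S⟩) (z := ⟨u * (y₁ : G) * u⁻¹, hmem⟩)
      (by rw [← Subgroup.orderOf_coe]; exact hy₂')
      (by
        apply Subtype.ext
        rw [Subgroup.coe_pow, Subgroup.coe_one]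
        exact hpow)
    have hz' : u * (y₁ : G) * u⁻¹ ∈ T₂ := by
      obtain ⟨k, hk⟩ := hz
      have h1 : (y₂ : G) ^ k = u * (y₁ : G) * u⁻¹ := by
        have h0 := congrArg Subtype.val hk
        rw [Subgroup.coe_zpow] at h0
        exact h0
      rw [← h1]
      exact T₂.zpow_mem y₂.2 k
    have hne : u * (y₁ : G) * u⁻¹ ≠ 1 := by
      intro h0
      have h1 : (y₁ : G) = u⁻¹ * (u * (y₁ : G) * u⁻¹) * u := by group
      rw [h0] at h1
      have h2 : (y₁ : G) = 1 := by rw [h1]; group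
      rw [h2, orderOf_one] at hy₁'
      exact hs.one_lt.ne hy₁'
    have h1 : u * (y₁ : G) * u⁻¹ ∈ wardCls T₁ := by
      refine ⟨hne, u, ?_⟩
      have h2 : u⁻¹ * (u * (y₁ : G) * u⁻¹) * u = y₁ := by group
      rw [h2]
      exact y₁.2
    have h2 : u * (y₁ : G) * u⁻¹ ∈ wardCls T₂ := by
      refine ⟨hne, 1, ?_⟩
      rw [inv_one, one_mul, mul_one]
      exact hz'
    exact Set.disjoint_left.mp hdisj12 h1 h2
  obtain ⟨h6₁, h6₂, hm⟩ := Cfsg.Agent.Lib.helper11.ree_tori_arith_two q r _ _ e₁ e₂ _ _ _ hq h3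
    hodd hr L₁.dvd L₂.dvd L₁.one_lt L₂.one_lt he₁ he₂ hc₁ hc₂ hXc hsum hcop
  rw [h6₁] at hN₁
  rw [h6₂] at hN₂
  rcases hm with ⟨hm₁, hm₂⟩ | ⟨hm₁, hm₂⟩
  · refine ⟨T₁, T₂, L₁.cyc, L₂.cyc, hm₁, hm₂, by rw [hN₁, hm₁], by rw [hN₂, hm₂], L₁.sub,
      L₂.sub, ?_⟩
    intro g hg1 hgn
    rcases hcover ⟨hg1, hgn⟩ with h | h
    · obtain ⟨-, c, hc⟩ := h
      exact ⟨c, Or.inl hc⟩
    · obtain ⟨-, c, hc⟩ := h
      exact ⟨c, Or.inr hc⟩
  · refine ⟨T₂, T₁, L₂.cyc, L₁.cyc, hm₂, hm₁, by rw [hN₂, hm₂], by rw [hN₁, hm₁], L₂.sub,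
      L₁.sub, ?_⟩
    intro g hg1 hgn
    rcases hcover ⟨hg1, hgn⟩ with h | h
    · obtain ⟨-, c, hc⟩ := h
      exact ⟨c, Or.inr hc⟩
    · obtain ⟨-, c, hc⟩ := h
      exact ⟨c, Or.inl hc⟩

end Cfsg.Agent.Lib.helper46
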