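/-
S2202 piece E3d (helper42's split): `caseA`, verbatim, from `caseA_core` (AIC_E3dcore) and
the landed INVM (`card_inv`) and HALL (`no_hall`).
-/
import Mathlib
import Cfsg.Agent.Lib.helper42.AICDefs
import Cfsg.Agent.Lib.helper42.AIC_W3
import Cfsg.Agent.Lib.helper46.AIC_E3dcore

set_option autoImplicit false

open Cfsg.Agent.Lib.helper42.AIC

namespace Cfsg.Agent.Lib.helper46.AIC

/-- E3d -/
theorem caseA {G : Type*} [Group G] [Finite G] (hA : AIC G) (hnc : NCyc G) (hnn : NNor G)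
    (hIH : ∀ M : Subgroup G, M ≠ ⊤ → AIC ↥M → NCyc ↥M → KEq ↥M) (hD : Dich G)
    (P Q : Sylow 2 G) (hPQ : P ≠ Q) (z : G) (hz1 : z ≠ 1) (hzo : Odd (orderOf z))
    (hzP : z ∈ CP P) (hzQ : z ∈ CP Q) : KEq G :=
  caseA_core hA hnc hnn hIH hD
    (fun _ hAM hncM hnnM hEM P' => card_inv hAM hncM hnnM hEM P')
    (fun _ hAM hncM hnnM hEM Z _ hZ P' Y hYodd hY =>
      no_hall hAM hncM hnnM hEM Z hZ P' Y hYodd hY)
    P Q hPQ z hz1 hzo hzP hzQ

end Cfsg.Agent.Lib.helper46.AIC
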