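/-
S2202 piece QB4 (helper42's split): `odd_quot`.
-/
import Mathlib
import Cfsg.Agent.Lib.helper42.AICDefs

set_option autoImplicit false

open Cfsg.Agent.Lib.helper42.AIC

namespace Cfsg.Agent.Lib.helper46.AIC

/-- QB4 -/
theorem odd_quot {G : Type*} [Group G] [Finite G] (Z : Subgroup G) [Z.Normal]
    (hZo : ∀ z ∈ Z, Odd (orderOf z)) (x : G) :
    Odd (orderOf (QuotientGroup.mk' Z x)) ↔ Odd (orderOf x) := by
  constructor
  · intro hm
    have h1 : x ^ orderOf (QuotientGroup.mk' Z x) ∈ Z := by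
      rw [← QuotientGroup.eq_one_iff, QuotientGroup.mk_pow]
      exact pow_orderOf_eq_one (QuotientGroup.mk' Z x)
    have hk := hZo _ h1
    have h2 : x ^ (orderOf (QuotientGroup.mk' Z x) *
        orderOf (x ^ orderOf (QuotientGroup.mk' Z x))) = 1 := by
      rw [pow_mul, pow_orderOf_eq_one]
    exact Odd.of_dvd_nat (hm.mul hk) (orderOf_dvd_of_pow_eq_one h2)
  · intro hx
    exact Odd.of_dvd_nat hx (orderOf_map_dvd (QuotientGroup.mk' Z) x)

end Cfsg.Agent.Lib.helper46.AIC
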