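/-
S0997 piece AR2 (helper19's split): `ar_minus` (pure arithmetic).
-/
import Mathlib

set_option autoImplicit false

namespace Cfsg.Agent.Lib.helper46.BU

/-- AR2 : the case `ε = -1` (`S = X ∖ 1`, `d` = degrees, `δ` = signs, `N = |Syl_p|`). -/
theorem ar_minus (p q e b N : ℕ) (hp : p.Prime) (hq : q.Prime) (hpq : p ≠ q)
    (he2 : 2 ≤ e) (hep : e ∣ p - 1) (hef : e + 2 ≤ p) (hN : e * N = q ^ b * (p - e))
    {ι : Type*} (S : Finset ι) (d : ι → ℕ) (δ : ι → ℤ) (hS : S.card + 1 = e)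
    (hδ : ∀ i ∈ S, δ i = 1 ∨ δ i = -1)
    (hq' : ∀ i ∈ S, q ∣ d i) (hd : ∀ i ∈ S, d i ∣ q ^ b * (p - e))
    (hmod : ∀ i ∈ S, (d i : ℤ) ≡ δ i [ZMOD p])
    (hsum : ∑ i ∈ S, δ i * (d i : ℤ) = -((p : ℤ) - (e : ℤ)) - 1) :
    q = 2 ∧ ((e = 2 ∧ ∃ i ∈ S, δ i = -1 ∧ d i = p - 1 ∧ ∃ k : ℕ, p - 1 = 2 ^ k) ∨
      (4 ≤ e ∧ p - 1 = 2 * e ∧ ∃ a : ℕ, e = 2 ^ a)) := by
  have hp1 : 1 ≤ p := hp.one_le
  -- `e` is coprime to `p - e`
  have hcop : Nat.Coprime e (p - e) := by
    have hg1 : Nat.gcd e (p - e) ∣ e := Nat.gcd_dvd_left _ _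
    have hg2 : Nat.gcd e (p - e) ∣ p - e := Nat.gcd_dvd_right _ _
    have hg3 : Nat.gcd e (p - e) ∣ p := by
      have h : (p - e) + e = p := by omega
      have h' := dvd_add hg2 hg1
      rwa [h] at h'
    rcases (Nat.dvd_prime hp).mp hg3 with h | h
    · exact h
    · exfalso
      have h' : p ≤ e := by
        rw [← h]
        exact Nat.le_of_dvd (by omega) hg1
      omega
  have heq : e ∣ q ^ b := hcop.dvd_of_dvd_mul_right (Dvd.intro N hN)
  obtain ⟨a, hab, hea⟩ := (Nat.dvd_prime_pow hq).mp heq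
  have ha1 : 1 ≤ a := by
    by_contra h
    have h0 : a = 0 := by omega
    rw [h0, pow_zero] at hea
    omega
  have hqe : q ∣ e := by
    rw [hea]
    exact dvd_pow_self q (by omega)
  -- `q = 2`
  have hq2 : q = 2 := by
    have h1 : (q : ℤ) ∣ ∑ i ∈ S, δ i * (d i : ℤ) := by
      apply Finset.dvd_sum
      intro i hi
      exact Dvd.dvd.mul_left (Int.natCast_dvd_natCast.mpr (hq' i hi)) _
    rw [hsum] at h1
    have h2 : (q : ℤ) ∣ (p : ℤ) - 1 := by
      have h : q ∣ p - 1 := dvd_trans hqe hep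
      have h3 : ((p - 1 : ℕ) : ℤ) = (p : ℤ) - 1 := by
        rw [Nat.cast_sub hp1]
        simp
      rw [← h3]
      exact Int.natCast_dvd_natCast.mpr h
    have h4 : (q : ℤ) ∣ (e : ℤ) := Int.natCast_dvd_natCast.mpr hqe
    have h5 : (q : ℤ) ∣ 2 := by
      have h : (2 : ℤ) = -((-((p : ℤ) - (e : ℤ)) - 1) + ((p : ℤ) - 1) - (e : ℤ)) := by ring
      rw [h]
      exact (dvd_neg).mpr (dvd_sub (dvd_add h1 h2) h4)
    have h6 : q ∣ 2 := by exact_mod_cast h5
    exact (Nat.prime_dvd_prime_iff_eq hq Nat.prime_two).mp h6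
  subst hq2
  refine ⟨rfl, ?_⟩
  rcases Nat.lt_or_ge a 2 with ha | ha
  · -- `e = 2`
    have ha1' : a = 1 := by omega
    have he : e = 2 := by rw [hea, ha1', pow_one]
    left
    refine ⟨he, ?_⟩
    have hcard : S.card = 1 := by omega
    obtain ⟨i, hSi⟩ := Finset.card_eq_one.mp hcard
    have hiS : i ∈ S := by
      rw [hSi]
      exact Finset.mem_singleton_self i
    rw [hSi, Finset.sum_singleton] at hsum
    have hdi := hd i hiS
    have hdpos : 0 < d i := by
      apply Nat.pos_of_ne_zero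
      intro h0
      rw [h0, zero_dvd_iff] at hdi
      have h : 2 ^ b * (p - e) ≠ 0 := Nat.mul_ne_zero (by positivity) (by omega)
      exact h hdi
    have hpe : (e : ℤ) + 2 ≤ (p : ℤ) := by exact_mod_cast hef
    have hdposZ : (0 : ℤ) < (d i : ℤ) := by exact_mod_cast hdpos
    have hδi : δ i = -1 := by
      rcases hδ i hiS with h | h
      · exfalso
        rw [h, one_mul] at hsum
        linarith
      · exact h
    have hdi' : d i = p - 1 := by
      rw [hδi] at hsum
      have heZ : (e : ℤ) = 2 := by exact_mod_cast he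
      have h : (d i : ℤ) = (p : ℤ) - 1 := by linarith
      omega
    refine ⟨i, hiS, hδi, hdi', ?_⟩
    have hcop2 : Nat.Coprime (p - 1) (p - 2) := by
      have h : p - 1 = (p - 2) + 1 := by omega
      rw [h]
      simp
    rw [hdi', he] at hdi
    have h7 : p - 1 ∣ 2 ^ b := hcop2.dvd_of_dvd_mul_right hdi
    obtain ⟨k, -, hk⟩ := (Nat.dvd_prime_pow Nat.prime_two).mp h7
    exact ⟨k, hk⟩
  · -- `4 ∣ e`
    right
    have h4e : 4 ∣ e := by
      rw [hea]
      have h : (4 : ℕ) = 2 ^ 2 := by norm_num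
      rw [h]
      exact pow_dvd_pow 2 ha
    have he4 : 4 ≤ e := Nat.le_of_dvd (by omega) h4e
    refine ⟨he4, ?_, a, hea⟩
    have h4p : 4 ∣ p - 1 := dvd_trans h4e hep
    obtain ⟨k4, hk4⟩ := h4p
    obtain ⟨m4, hm4⟩ := h4e
    have hex : ∃ i ∈ S, d i % 4 = 2 := by
      by_contra hcon
      push Not at hcon
      have hall : ∀ i ∈ S, (4 : ℤ) ∣ δ i * (d i : ℤ) := by
        intro i hi
        have h2 : 2 ∣ d i := hq' i hi
        have h3 : d i % 4 ≠ 2 := hcon i hi
        have h4 : 4 ∣ d i := by omega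
        exact Dvd.dvd.mul_left (by exact_mod_cast h4) _
      have hsum4 : (4 : ℤ) ∣ ∑ i ∈ S, δ i * (d i : ℤ) := Finset.dvd_sum hall
      rw [hsum] at hsum4
      have hpk : (p : ℤ) = 4 * k4 + 1 := by
        have h : p = 4 * k4 + 1 := by omega
        exact_mod_cast h
      have hem : (e : ℤ) = 4 * m4 := by exact_mod_cast hm4
      rw [hpk, hem] at hsum4
      omega
    obtain ⟨i, hiS, hi2⟩ := hex
    obtain ⟨d', hd'⟩ : ∃ d', d i = 2 * d' := hq' i hiS
    have hd'odd : d' % 2 = 1 := by omega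
    have hdvd := hd i hiS
    have hd'dvd : d' ∣ p - e := by
      have h1 : d' ∣ 2 ^ b * (p - e) := dvd_trans (Dvd.intro_left 2 hd'.symm) hdvd
      have hc : Nat.Coprime d' (2 ^ b) := by
        apply Nat.Coprime.pow_right
        rw [Nat.coprime_two_right]
        exact Nat.odd_iff.mpr hd'odd
      exact hc.dvd_of_dvd_mul_left h1
    have hmodi := hmod i hiS
    have hdge : p - 1 ≤ d i := by
      have hdi2 : 2 ≤ d i := by omega
      rcases hδ i hiS with h | h
      · rw [h] at hmodi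
        have h1 : (p : ℤ) ∣ (d i : ℤ) - 1 := Int.modEq_iff_dvd.mp hmodi.symm
        have h2 : p ∣ d i - 1 := by
          have h3 : ((d i - 1 : ℕ) : ℤ) = (d i : ℤ) - 1 := by
            rw [Nat.cast_sub (by omega)]
            simp
          rw [← h3] at h1
          exact_mod_cast h1
        have h4 := Nat.le_of_dvd (by omega) h2
        omega
      · rw [h] at hmodi
        have h1 : (p : ℤ) ∣ (d i : ℤ) + 1 := by
          have h0 := Int.modEq_iff_dvd.mp hmodi.symm
          simpa using h0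
        have h2 : p ∣ d i + 1 := by exact_mod_cast h1
        have h4 := Nat.le_of_dvd (by omega) h2
        omega
    have hd'eq : d' = p - e := by
      obtain ⟨c, hc⟩ := hd'dvd
      have hcodd : c % 2 = 1 := by
        have h1 : (p - e) % 2 = 1 := by omega
        rw [hc, Nat.mul_mod, hd'odd] at h1
        omega
      rcases Nat.lt_or_ge c 3 with h | h
      · have h1 : c = 1 := by omega
        rw [h1, mul_one] at hc
        exact hc.symm
      · exfalso
        have h1 : d' * 3 ≤ p - e := by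
          rw [hc]
          exact Nat.mul_le_mul_left d' h
        omega
    have h2e : 2 * e ≤ p - 1 := by
      obtain ⟨c, hc⟩ := hep
      have h2c : 2 ≤ c := by
        by_contra hlt
        have h : c = 0 ∨ c = 1 := by omega
        rcases h with h | h
        · rw [h, mul_zero] at hc
          omega
        · rw [h, mul_one] at hc
          omega
      calc 2 * e = e * 2 := by ring
        _ ≤ e * c := Nat.mul_le_mul_left e h2c
        _ = p - 1 := hc.symm
    have h3 : ((2 * (p - e) : ℕ) : ℤ) = 2 * ((p : ℤ) - (e : ℤ)) := by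
      rw [Nat.cast_mul, Nat.cast_sub (by omega)]
      simp
    rcases hδ i hiS with h | h
    · rw [h, hd', hd'eq] at hmodi
      have h1 : (p : ℤ) ∣ ((2 * (p - e) : ℕ) : ℤ) - 1 := Int.modEq_iff_dvd.mp hmodi.symm
      have h2 : (p : ℤ) ∣ 2 * (e : ℤ) + 1 := by
        rw [h3] at h1
        have h5 : 2 * (e : ℤ) + 1 = 2 * (p : ℤ) - (2 * ((p : ℤ) - (e : ℤ)) - 1) := by ring
        rw [h5]
        exact dvd_sub (Dvd.intro_left 2 rfl) h1
      have h4 : p ∣ 2 * e + 1 := by exact_mod_cast h2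
      have h6 := Nat.le_of_dvd (by omega) h4
      omega
    · exfalso
      rw [h, hd', hd'eq] at hmodi
      have h1 : (p : ℤ) ∣ ((2 * (p - e) : ℕ) : ℤ) - (-1) := Int.modEq_iff_dvd.mp hmodi.symm
      have h2 : (p : ℤ) ∣ 2 * (e : ℤ) - 1 := by
        rw [h3] at h1
        have h5 : 2 * (e : ℤ) - 1 = 2 * (p : ℤ) - (2 * ((p : ℤ) - (e : ℤ)) - (-1)) := by ring
        rw [h5]
        exact dvd_sub (Dvd.intro_left 2 rfl) h1
      have h4 : p ∣ 2 * e - 1 := by
        have h7 : ((2 * e - 1 : ℕ) : ℤ) = 2 * (e : ℤ) - 1 := by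
          rw [Nat.cast_sub (by omega)]
          simp
        rw [← h7] at h2
        exact_mod_cast h2
      have h6 := Nat.le_of_dvd (by omega) h4
      omega

end Cfsg.Agent.Lib.helper46.BU
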