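import Cfsg.Agent.Lib.helper84.Def1Defs
import Cfsg.Agent.Lib.helper46.D1GS

/-!
# S4441 / S0960 piece Y7b (helper46), hypothesis-passing core

`d1_exceptional_PI_of`: the statement of piece Y7b with the conclusions of the pieces Y7a
(`d1_exceptional_identity`), Y7c (`d1_congruences`) and Y1 (`d1_classSum_fixC`,
`d1_classSum_kerTr`, for the lattice `d1L Y`) as explicit hypotheses.
-/

set_option autoImplicit false

namespace Cfsg.Agent.Lib.helper46

open Cfsg Cfsg.Agent.Lib.helper84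

variable {G : Type*} [Group G] [Fintype G]

omit [Fintype G] in
/-- Powers of an equivariant endomorphism are equivariant. -/
theorem d1y7b_pow_comm {L : Type*} [AddCommGroup L] (ρ : Representation ℤ G L)
    (δ : L →ₗ[ℤ] L) (hδ : ∀ g : G, δ ∘ₗ ρ g = ρ g ∘ₗ δ) (k : ℕ) (g : G) (w : L) :
    ρ g ((δ ^ k) w) = (δ ^ k) (ρ g w) := by
  induction k generalizing w with
  | zero => simp
  | succ k ih =>
    rw [pow_succ, Module.End.mul_apply, Module.End.mul_apply, ih]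
    have h := LinearMap.congr_fun (hδ g) w
    simp only [LinearMap.comp_apply] at h
    rw [h]

/-- Powers of an equivariant endomorphism commute with the trace map of `P`. -/
theorem d1y7b_tr_comm {L : Type*} [AddCommGroup L] (ρ : Representation ℤ G L)
    (δ : L →ₗ[ℤ] L) (hδ : ∀ g : G, δ ∘ₗ ρ g = ρ g ∘ₗ δ) (P : Subgroup G) (k : ℕ) (w : L) :
    d1Tr ρ P ((δ ^ k) w) = (δ ^ k) (d1Tr ρ P w) := by
  unfold d1Tr
  rw [LinearMap.sum_apply, LinearMap.sum_apply, map_sum]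
  refine Finset.sum_congr rfl (fun y _ => ?_)
  by_cases hy : y ∈ (P : Set G)
  · rw [Set.indicator_of_mem hy]
    exact d1y7b_pow_comm ρ δ hδ k y w
  · rw [Set.indicator_of_notMem hy, LinearMap.zero_apply, LinearMap.zero_apply, map_zero]

/-- The class sum acting on the lattice `d1L Y` is left multiplication by `d1ClassSum`. -/
theorem d1y7b_classSum_coe (Y : Finset (IrrCharacter G)) (z : G) (w : d1L Y) :
    (((∑ g : G, Set.indicator {g : G | IsConj z g} (fun g => d1Rho Y g w) g : d1L Y)) :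
        MonoidAlgebra ℤ G) = d1ClassSum z * (w : MonoidAlgebra ℤ G) := by
  unfold d1ClassSum
  rw [Submodule.coe_sum, Finset.sum_mul]
  refine Finset.sum_congr rfl (fun g _ => ?_)
  by_cases hg : g ∈ {g : G | IsConj z g}
  · rw [Set.indicator_of_mem hg, Set.indicator_of_mem hg, d1Rho_apply]
  · rw [Set.indicator_of_notMem hg, Set.indicator_of_notMem hg, Submodule.coe_zero, zero_mul]

/-- The abstract computation behind Y7b. -/
theorem d1y7b_core (Y : Finset (IrrCharacter G)) (p f : ℕ) (x : G) (s w₀ e idx : ℤ)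
    (y : ℕ → ℕ → ℤ) (δ : d1L Y →ₗ[ℤ] d1L Y) (I : Submodule ℤ (d1L Y)) (v : d1L Y)
    (hid : ∑ k ∈ Finset.range (f + 1),
        (∑ v' ∈ Finset.Ico 1 p, y k v' • ((s * (f : ℤ)) • d1ClassSum (x ^ v')
            + (s * w₀ * idx) • (1 : MonoidAlgebra ℤ G)))
          * (((δ ^ k) v : d1L Y) : MonoidAlgebra ℤ G) = 0)
    (hI : ∀ k ∈ Finset.range (f + 1), ∀ v' ∈ Finset.Ico 1 p,
        (∑ g : G, Set.indicator {g : G | IsConj (x ^ v') g}
          (fun g => d1Rho Y g ((δ ^ k) v)) g) - e • ((δ ^ k) v) ∈ I) :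
    Polynomial.aeval δ (∑ k ∈ Finset.range (f + 1),
      Polynomial.C (∑ v' ∈ Finset.Ico 1 p, y k v' * (s * (f : ℤ) * e + s * w₀ * idx))
        * Polynomial.X ^ k) v ∈ I := by
  -- step 1: evaluate the polynomial
  have h1 : Polynomial.aeval δ (∑ k ∈ Finset.range (f + 1),
      Polynomial.C (∑ v' ∈ Finset.Ico 1 p, y k v' * (s * (f : ℤ) * e + s * w₀ * idx))
        * Polynomial.X ^ k) v
      = ∑ k ∈ Finset.range (f + 1),
        (∑ v' ∈ Finset.Ico 1 p, y k v' * (s * (f : ℤ) * e + s * w₀ * idx)) • (δ ^ k) v := by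
    rw [map_sum, LinearMap.sum_apply]
    refine Finset.sum_congr rfl (fun k _ => ?_)
    rw [map_mul, Polynomial.aeval_C, map_pow, Polynomial.aeval_X, Module.End.mul_apply,
      Module.algebraMap_end_apply]
  rw [h1]
  -- step 2: the identity inside the lattice
  obtain ⟨T, hT⟩ : ∃ T : ℕ → ℕ → d1L Y, ∀ k v', T k v' =
      ∑ g : G, Set.indicator {g : G | IsConj (x ^ v') g} (fun g => d1Rho Y g ((δ ^ k) v)) g :=
    ⟨_, fun _ _ => rfl⟩
  have hZ : ∑ k ∈ Finset.range (f + 1), ∑ v' ∈ Finset.Ico 1 p,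
      y k v' • ((s * (f : ℤ)) • T k v' + (s * w₀ * idx) • (δ ^ k) v) = 0 := by
    apply Subtype.ext
    rw [Submodule.coe_sum, Submodule.coe_zero, ← hid]
    refine Finset.sum_congr rfl (fun k _ => ?_)
    rw [Submodule.coe_sum, Finset.sum_mul]
    refine Finset.sum_congr rfl (fun v' _ => ?_)
    rw [Submodule.coe_smul, Submodule.coe_add, Submodule.coe_smul, Submodule.coe_smul, hT,
      d1y7b_classSum_coe, smul_mul_assoc, add_mul, smul_mul_assoc, smul_mul_assoc, one_mul]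
  -- step 3: rearrange
  have h2 : ∑ k ∈ Finset.range (f + 1),
      (∑ v' ∈ Finset.Ico 1 p, y k v' * (s * (f : ℤ) * e + s * w₀ * idx)) • (δ ^ k) v
      = (∑ k ∈ Finset.range (f + 1), ∑ v' ∈ Finset.Ico 1 p,
          y k v' • ((s * (f : ℤ)) • T k v' + (s * w₀ * idx) • (δ ^ k) v))
        - ∑ k ∈ Finset.range (f + 1), ∑ v' ∈ Finset.Ico 1 p,
          (y k v' * (s * (f : ℤ))) • (T k v' - e • (δ ^ k) v) := by
    rw [← Finset.sum_sub_distrib]
    refine Finset.sum_congr rfl (fun k _ => ?_)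
    rw [Finset.sum_smul, ← Finset.sum_sub_distrib]
    refine Finset.sum_congr rfl (fun v' _ => ?_)
    module
  rw [h2, hZ, zero_sub]
  apply Submodule.neg_mem
  refine Submodule.sum_mem _ (fun k hk => Submodule.sum_mem _ (fun v' hv' => ?_))
  apply Submodule.smul_mem
  rw [hT]
  exact hI k hk v' hv'

/-- The arithmetic behind the nonvanishing coefficient. -/
theorem d1y7b_arith (p : ℕ) [Fact p.Prime] (f : ℕ) (w₀ s : ℤ) (hs : s = 1 ∨ s = -1)
    (e t : ℕ) (idx : ℤ) (h2 : idx ≡ (e : ℤ) [ZMOD p]) (h3 : (f : ℤ) + w₀ ≡ s * (e : ℤ) [ZMOD p])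
    (h4 : t * e = p - 1) :
    ¬ (p : ℤ) ∣ -((p : ℤ) - 1) * (s * (f : ℤ) * (e : ℤ) + s * w₀ * idx) := by
  have hp : p.Prime := Fact.out
  intro hdiv
  obtain ⟨c1, hc1⟩ := hdiv
  obtain ⟨c2, hc2⟩ := h2.dvd
  obtain ⟨c3, hc3⟩ := h3.dvd
  have hs2 : s * s = 1 := by
    rcases hs with h | h <;> rw [h] <;> norm_num
  have key : (e : ℤ) ^ 2 = (p : ℤ) *
      (s * (f : ℤ) * (e : ℤ) + s * w₀ * idx + c1 + s * w₀ * c2 + s * (e : ℤ) * c3) := by
    linear_combination hc1 + s * w₀ * hc2 + s * (e : ℤ) * hc3 - (e : ℤ) ^ 2 * hs2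
  have hpe : (p : ℤ) ∣ (e : ℤ) ^ 2 := ⟨_, key⟩
  have hpe' : (p : ℤ) ∣ (e : ℤ) := (Nat.prime_iff_prime_int.mp hp).dvd_of_dvd_pow hpe
  have hpe'' : p ∣ e := Int.natCast_dvd_natCast.mp hpe'
  have hepos : 0 < e := by
    rcases Nat.eq_zero_or_pos e with h | h
    · rw [h, mul_zero] at h4
      have := hp.two_le
      omega
    · exact h
  have hle : e ≤ p - 1 := by
    rw [← h4]
    have htpos : 0 < t := by
      rcases Nat.eq_zero_or_pos t with h | h
      · rw [h, zero_mul] at h4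
        have := hp.two_le
        omega
      · exact h
    exact Nat.le_mul_of_pos_left e htpos
  have := Nat.le_of_dvd hepos hpe''
  have := hp.two_le
  omega

/-- **Piece Y7b, hypothesis-passing form.**  `hA` is the conclusion of Y7a, `hC1`–`hC4` are the
conclusions of Y7c, `hY1` and `hY1'` are the two statements of Y1 for the lattice `d1L Y`. -/
theorem d1_exceptional_PI_of (p : ℕ) [Fact p.Prime]
    (P : Sylow p G) (hP : Nat.card P = p)
    (x : G) (hx : x ∈ (P : Subgroup G)) (hx1 : x ≠ 1)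
    (H : Subgroup (ZMod p)ˣ)
    (Y : Finset (Cfsg.IrrCharacter G))
    (f : ℕ) (w₀ s : ℤ) (hs : s = 1 ∨ s = -1)
    (δ : d1L Y →ₗ[ℤ] d1L Y) (hδ : ∀ g : G, δ ∘ₗ d1Rho Y g = d1Rho Y g ∘ₗ δ)
    (hA : ∃ y : ℕ → ℕ → ℤ,
      (∑ v ∈ Finset.Ico 1 p, y f v = -((p : ℤ) - 1)) ∧
      ∀ b : d1L Y, ∑ k ∈ Finset.range (f + 1),
        (∑ v ∈ Finset.Ico 1 p, y k v • ((s * (f : ℤ)) • d1ClassSum (x ^ v)
            + (s * w₀ * ((Subgroup.centralizer ((P : Subgroup G) : Set G)).index : ℤ))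
              • (1 : MonoidAlgebra ℤ G)))
          * (((δ ^ k) b : d1L Y) : MonoidAlgebra ℤ G) = 0)
    (hC1 : ∀ v : ℕ, ¬ p ∣ v →
        Nat.card {g : G // IsConj (x ^ v) g ∧ g ∈ (P : Subgroup G)} = Nat.card H)
    (hC2 : ((Subgroup.centralizer ((P : Subgroup G) : Set G)).index : ℤ)
        ≡ (Nat.card H : ℤ) [ZMOD p])
    (hC3 : (f : ℤ) + w₀ ≡ s * (Nat.card H : ℤ) [ZMOD p])
    (hC4 : Y.card * Nat.card H = p - 1)
    (hY1 : ∀ (z : G), z ∈ (P : Subgroup G) → z ≠ 1 → ∀ v : d1L Y,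
      v ∈ d1FixC (d1Rho Y) (P : Subgroup G) →
      (∑ g : G, Set.indicator {g : G | IsConj z g} (fun g => d1Rho Y g v) g)
          - (Nat.card {g : G // IsConj z g ∧ g ∈ (P : Subgroup G)} : ℤ) • v
        ∈ (d1FixK p (d1Rho Y) (P : Subgroup G)).map (d1Tr (d1Rho Y) (P : Subgroup G)))
    (hY1' : ∀ (z : G), z ∈ (P : Subgroup G) → z ≠ 1 → ∀ v : d1L Y,
      v ∈ d1FixK p (d1Rho Y) (P : Subgroup G) → d1Tr (d1Rho Y) (P : Subgroup G) v = 0 →
      (∑ g : G, Set.indicator {g : G | IsConj z g} (fun g => d1Rho Y g v) g)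
          - (Nat.card {g : G // IsConj z g ∧ g ∈ (P : Subgroup G)} : ℤ) • v
        ∈ d1Aug p (d1Rho Y) (P : Subgroup G)) :
    ∃ q : Polynomial ℤ, q.natDegree ≤ f ∧ (∃ k, ¬ (p : ℤ) ∣ q.coeff k) ∧
      (∀ v ∈ d1FixC (d1Rho Y) (P : Subgroup G),
        Polynomial.aeval δ q v ∈
          (d1FixK p (d1Rho Y) (P : Subgroup G)).map (d1Tr (d1Rho Y) (P : Subgroup G))) ∧
      (∀ v ∈ d1FixK p (d1Rho Y) (P : Subgroup G), d1Tr (d1Rho Y) (P : Subgroup G) v = 0 →
        Polynomial.aeval δ q v ∈ d1Aug p (d1Rho Y) (P : Subgroup G)) := by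
  have hp : p.Prime := Fact.out
  obtain ⟨y, hy1, hy2⟩ := hA
  obtain ⟨-, hxo⟩ := d1gs_eq_zpowers p (P : Subgroup G) hP x hx hx1
  have hnd : ∀ v' ∈ Finset.Ico 1 p, ¬ p ∣ v' := by
    intro v' hv' hdvd
    rw [Finset.mem_Ico] at hv'
    have := Nat.le_of_dvd (by omega) hdvd
    omega
  have hxv : ∀ v' ∈ Finset.Ico 1 p, x ^ v' ≠ 1 := by
    intro v' hv' h
    apply hnd v' hv'
    rw [← hxo]
    exact orderOf_dvd_of_pow_eq_one h
  refine ⟨∑ k ∈ Finset.range (f + 1),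
      Polynomial.C (∑ v' ∈ Finset.Ico 1 p, y k v' * (s * (f : ℤ) * (Nat.card H : ℤ)
        + s * w₀ * ((Subgroup.centralizer ((P : Subgroup G) : Set G)).index : ℤ)))
        * Polynomial.X ^ k, ?_, ⟨f, ?_⟩, ?_, ?_⟩
  · apply Polynomial.natDegree_sum_le_of_forall_le
    intro k hk
    exact (Polynomial.natDegree_C_mul_X_pow_le _ _).trans
      (Nat.lt_succ_iff.mp (Finset.mem_range.mp hk))
  · rw [Polynomial.finsetSum_coeff]
    simp only [Polynomial.coeff_C_mul_X_pow]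
    rw [Finset.sum_ite_eq (Finset.range (f + 1)) f, if_pos (Finset.mem_range.mpr (Nat.lt_succ_self f)),
      ← Finset.sum_mul, hy1]
    exact d1y7b_arith p f w₀ s hs (Nat.card H) Y.card _ hC2 hC3 hC4
  · intro v hv
    apply d1y7b_core Y p f x s w₀ (Nat.card H : ℤ) _ y δ _ v (hy2 v)
    intro k hk v' hv'
    have hw : (δ ^ k) v ∈ d1FixC (d1Rho Y) (P : Subgroup G) := by
      intro g hg
      rw [d1y7b_pow_comm (d1Rho Y) δ hδ k g v, hv g hg]
    have h := hY1 (x ^ v') (pow_mem hx v') (hxv v' hv') _ hw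
    rw [hC1 v' (hnd v' hv')] at h
    exact h
  · intro v hv hv0
    apply d1y7b_core Y p f x s w₀ (Nat.card H : ℤ) _ y δ _ v (hy2 v)
    intro k hk v' hv'
    have hw : (δ ^ k) v ∈ d1FixK p (d1Rho Y) (P : Subgroup G) := by
      intro g hg hgp
      rw [d1y7b_pow_comm (d1Rho Y) δ hδ k g v, hv g hg hgp]
    have hw0 : d1Tr (d1Rho Y) (P : Subgroup G) ((δ ^ k) v) = 0 := by
      rw [d1y7b_tr_comm (d1Rho Y) δ hδ (P : Subgroup G) k v, hv0, map_zero]
    have h := hY1' (x ^ v') (pow_mem hx v') (hxv v' hv') _ hw hw0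
    rw [hC1 v' (hnd v' hv')] at h
    exact h

end Cfsg.Agent.Lib.helper46
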