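import Mathlib
import Cfsg.Agent.Lib.helper46.DicksonSylow
import Cfsg.Agent.Lib.helper46.SL2Sylow

/-!
# `p'`-subgroups of `SL₂(F)` normalised by a `p`-element (helper46)

Let `F` be a finite field of odd characteristic `p`, `a` a `p`-element of `SL₂(F)` normalising a
subgroup `R` of order prime to `p` with `[R, a] ≠ 1`.  Then `p = 3`, `|R| = 8` and `R⟨a⟩` is a copy
of `SL₂(3)`.
-/

set_option autoImplicit false
set_option linter.unusedSectionVars false

namespace Cfsg.Agent.Lib.helper46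

open Matrix

section NormalizedSup

variable {G : Type*} [Group G]

theorem conj_zpow_mem_of_mem_normalizer (R : Subgroup G) (a : G)
    (ha : a ∈ Subgroup.normalizer (R : Set G)) (k : ℤ) (r : G) (hr : r ∈ R) :
    a ^ k * r * (a ^ k)⁻¹ ∈ R := by
  have hk : a ^ k ∈ Subgroup.normalizer (R : Set G) := Subgroup.zpow_mem _ ha k
  exact (Subgroup.mem_normalizer_iff.mp hk r).mp hr

/-- The subgroup `R · ⟨a⟩` when `a` normalises `R`. -/
def mulZpowers (R : Subgroup G) (a : G) (ha : a ∈ Subgroup.normalizer (R : Set G)) :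
    Subgroup G where
  carrier := {x | ∃ k : ℤ, x * a ^ k ∈ R}
  one_mem' := ⟨0, by simp [R.one_mem]⟩
  mul_mem' := by
    rintro x y ⟨k, hk⟩ ⟨l, hl⟩
    refine ⟨l + k, ?_⟩
    have h1 := conj_zpow_mem_of_mem_normalizer R a ha (-k) _ hl
    have h2 : x * y * a ^ (l + k) = (x * a ^ k) * (a ^ (-k) * (y * a ^ l) * (a ^ (-k))⁻¹) := by
      group
    rw [h2]
    exact R.mul_mem hk h1
  inv_mem' := by
    rintro x ⟨k, hk⟩
    refine ⟨-k, ?_⟩
    have h1 := conj_zpow_mem_of_mem_normalizer R a ha k _ (R.inv_mem hk)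
    have h2 : x⁻¹ * a ^ (-k) = a ^ k * (x * a ^ k)⁻¹ * (a ^ k)⁻¹ := by group
    rw [h2]
    exact h1

theorem exists_zpow_mul_mem (R : Subgroup G) (a : G) (ha : a ∈ Subgroup.normalizer (R : Set G))
    (x : G) (hx : x ∈ R ⊔ Subgroup.zpowers a) : ∃ k : ℤ, x * a ^ k ∈ R := by
  have hle : R ⊔ Subgroup.zpowers a ≤ mulZpowers R a ha := by
    apply sup_le
    · intro r hr
      exact ⟨0, by simpa using hr⟩
    · rw [Subgroup.zpowers_le]
      exact ⟨-1, by simp [R.one_mem]⟩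
  exact hle hx

/-- Commutators of `R⟨a⟩` lie in `R`. -/
theorem commutator_mem_of_mem_sup (R : Subgroup G) (a : G)
    (ha : a ∈ Subgroup.normalizer (R : Set G)) (x y : G) (hx : x ∈ R ⊔ Subgroup.zpowers a)
    (hy : y ∈ R ⊔ Subgroup.zpowers a) : x * y * x⁻¹ * y⁻¹ ∈ R := by
  obtain ⟨k, hk⟩ := exists_zpow_mul_mem R a ha x hx
  obtain ⟨l, hl⟩ := exists_zpow_mul_mem R a ha y hy
  have h1 := conj_zpow_mem_of_mem_normalizer R a ha (-k) _ hl
  have h2 := conj_zpow_mem_of_mem_normalizer R a ha (-l) _ (R.inv_mem hk)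
  have h3 : x * y * x⁻¹ * y⁻¹ = (x * a ^ k) * (a ^ (-k) * (y * a ^ l) * (a ^ (-k))⁻¹)
      * (a ^ (-l) * (x * a ^ k)⁻¹ * (a ^ (-l))⁻¹) * (y * a ^ l)⁻¹ := by group
  rw [h3]
  exact R.mul_mem (R.mul_mem (R.mul_mem hk h1) h2) (R.inv_mem hl)

theorem card_sup_zpowers_le [Finite G] (R : Subgroup G) (a : G)
    (ha : a ∈ Subgroup.normalizer (R : Set G)) :
    Nat.card (R ⊔ Subgroup.zpowers a : Subgroup G) ≤ Nat.card R * orderOf a := by
  rw [← Nat.card_zpowers, ← Nat.card_prod]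
  let f : R × Subgroup.zpowers a → (R ⊔ Subgroup.zpowers a : Subgroup G) := fun x =>
    ⟨x.1.1 * x.2.1, Subgroup.mul_mem _ (le_sup_left (a := R) x.1.2)
      (le_sup_right (b := Subgroup.zpowers a) x.2.2)⟩
  apply Nat.card_le_card_of_surjective f
  rintro ⟨x, hx⟩
  obtain ⟨k, hk⟩ := exists_zpow_mul_mem R a ha x hx
  refine ⟨(⟨x * a ^ k, hk⟩, ⟨a ^ (-k), Subgroup.zpow_mem_zpowers a (-k)⟩), ?_⟩
  apply Subtype.ext
  show x * a ^ k * a ^ (-k) = x
  group

/-- A subgroup of order prime to `n` has no non-trivial element of order dividing `n`. -/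
theorem eq_one_of_pow_eq_one_of_coprime (R : Subgroup G) (n : ℕ) (hR : (Nat.card R).Coprime n)
    (g : G) (hg : g ∈ R) (hn : g ^ n = 1) : g = 1 := by
  have h1 : orderOf g ∣ n := orderOf_dvd_of_pow_eq_one hn
  have h2 : orderOf g ∣ Nat.card R := by
    have := orderOf_dvd_natCard (⟨g, hg⟩ : R)
    rwa [Subgroup.orderOf_mk] at this
  have h3 : orderOf g ∣ 1 := by
    have := Nat.dvd_gcd h2 h1
    rwa [Nat.Coprime.gcd_eq_one hR] at this
  exact orderOf_eq_one_iff.mp (Nat.dvd_one.mp h3)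

end NormalizedSup

section CharThree

variable {F : Type*} [Field F] [Fintype F] [DecidableEq F]

theorem dkX_zpow (s : F) (k : ℤ) : dkX s ^ k = dkX (k * s) := by
  cases k with
  | ofNat n =>
    rw [Int.ofNat_eq_natCast, zpow_natCast, ← dkX_nsmul, nsmul_eq_mul, Int.cast_natCast]
  | negSucc n =>
    rw [zpow_negSucc, ← dkX_nsmul, ← dkX_neg, nsmul_eq_mul, Int.cast_negSucc]
    congr 1
    push_cast
    ring

theorem dk3_comm (t : F) :
    dkX 1 * dkY t * (dkX 1)⁻¹ * (dkY t)⁻¹ = mkSL (1 + t + t ^ 2) (-t) (t ^ 2) (1 - t) (by ring) := by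
  rw [← dkX_neg, ← dkY_neg]
  apply sl_ext <;>
    simp [Matrix.SpecialLinearGroup.coe_mul, mkSL_coe, dkX_coe, dkY_coe, Matrix.mul_apply,
      Fin.sum_univ_two] <;> ring

theorem dk3_shift (r : Matrix.SpecialLinearGroup (Fin 2) F) :
    (dkX 1 * r * (dkX 1)⁻¹).1 1 0 = r.1 1 0 ∧
      (dkX 1 * r * (dkX 1)⁻¹).1 0 0 = r.1 0 0 + r.1 1 0 := by
  rw [← dkX_neg]
  constructor <;>
    simp only [Matrix.SpecialLinearGroup.coe_mul, Matrix.mul_apply, Fin.sum_univ_two, dkX_coe,
      Matrix.of_apply, Matrix.cons_val', Matrix.cons_val_zero, Matrix.cons_val_one,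
      Matrix.cons_val_fin_one] <;> ring

variable [CharP F 3]

theorem three_eq_zero' : (3 : F) = 0 := by
  have := CharP.cast_eq_zero F 3
  exact_mod_cast this

theorem intCast_pow_three (k : ℤ) : ((k : F)) ^ 3 = k := by
  have := map_intCast (frobenius F 3) k
  rwa [frobenius_def] at this

/-- If `x(1)` normalises the `3'`-group `R` and `y(t) ∈ R⟨x(1)⟩`, `t ≠ 0`, then `t = ±1`. -/
theorem dk3_sq_eq_one (R : Subgroup (Matrix.SpecialLinearGroup (Fin 2) F))
    (hR : (Nat.card R).Coprime 3)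
    (hx : dkX (1 : F) ∈ Subgroup.normalizer (R : Set (Matrix.SpecialLinearGroup (Fin 2) F)))
    (t : F) (ht : t ≠ 0) (hy : dkY t ∈ R ⊔ Subgroup.zpowers (dkX (1 : F))) : t ^ 2 = 1 := by
  have hx1 : dkX (1 : F) ∈ R ⊔ Subgroup.zpowers (dkX (1 : F)) :=
    le_sup_right (a := R) (Subgroup.mem_zpowers _)
  rcases dk_main 3 (by norm_num) (R ⊔ Subgroup.zpowers (dkX (1 : F))) hx1 t ht hy with
    ⟨K', htK, hK⟩ | ⟨-, htt⟩
  · obtain ⟨k, hk⟩ := exists_zpow_mul_mem R (dkX 1) hx (dkX t) (hK t htK).1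
    rw [dkX_zpow, ← dkX_add] at hk
    have h1 : dkX (t + k * 1) = 1 :=
      eq_one_of_pow_eq_one_of_coprime R 3 hR _ hk (dkX_pow_char 3 _)
    rw [← dkX_zero] at h1
    have h2 : t + k * 1 = 0 := dkX_injective h1
    have h3 : t = ((-k : ℤ) : F) := by
      push_cast
      linear_combination h2
    have h4 : t ^ 3 = t := by
      rw [h3]
      exact intCast_pow_three _
    have h5 : t * (t ^ 2 - 1) = 0 := by linear_combination h4
    rcases mul_eq_zero.mp h5 with h | h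
    · exact absurd h ht
    · linear_combination h
  · exfalso
    have hg := commutator_mem_of_mem_sup R (dkX 1) hx (dkX 1) (dkY t) hx1 hy
    rw [dk3_comm] at hg
    generalize hgdef : mkSL (1 + t + t ^ 2) (-t) (t ^ 2) (1 - t) (by ring) = g at hg
    have hg00 : g.1 0 0 = 1 + t + t ^ 2 := by rw [← hgdef]; simp [mkSL_coe]
    have hg11 : g.1 1 1 = 1 - t := by rw [← hgdef]; simp [mkSL_coe]
    have hg10 : g.1 1 0 = t ^ 2 := by rw [← hgdef]; simp [mkSL_coe]
    have htr : g.1 0 0 + g.1 1 1 = 1 := by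
      rw [hg00, hg11]
      linear_combination htt
    have hCH : g.1 * g.1 = g.1 - 1 := by
      rw [cayley_two g.1 g.det_coe, htr, one_smul]
    have h3 : g.1 * g.1 * g.1 = -1 := by
      rw [hCH, sub_mul, one_mul, hCH]
      abel
    have hgg : g * g ∈ R := R.mul_mem hg hg
    have h6 : (g * g) ^ 3 = 1 := by
      apply Subtype.ext
      rw [Matrix.SpecialLinearGroup.coe_pow, Matrix.SpecialLinearGroup.coe_mul,
        Matrix.SpecialLinearGroup.coe_one]
      have : (g.1 * g.1) ^ 3 = (g.1 * g.1 * g.1) * (g.1 * g.1 * g.1) := by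
        rw [pow_succ, pow_two]
        simp only [mul_assoc]
      rw [this, h3]
      simp
    have h7 := eq_one_of_pow_eq_one_of_coprime R 3 hR _ hgg h6
    have h8 : g.1 * g.1 = 1 := by
      have := congrArg (fun m : Matrix.SpecialLinearGroup (Fin 2) F => m.1) h7
      simpa using this
    rw [hCH] at h8
    have h9 := congrFun (congrFun h8 1) 0
    simp only [Matrix.sub_apply, Matrix.one_apply_ne, ne_eq, one_ne_zero, not_false_eq_true,
      sub_zero, hg10] at h9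
    rw [htt] at h9
    simp at h9

/-- In normalised coordinates the lower left entries of `R` are fourth roots of unity. -/
theorem dk3_entry_pow_four (R : Subgroup (Matrix.SpecialLinearGroup (Fin 2) F))
    (hR : (Nat.card R).Coprime 3)
    (hx : dkX (1 : F) ∈ Subgroup.normalizer (R : Set (Matrix.SpecialLinearGroup (Fin 2) F)))
    (r : Matrix.SpecialLinearGroup (Fin 2) F) (hr : r ∈ R) (hc : r.1 1 0 ≠ 0) :
    r.1 1 0 ^ 4 = 1 := by
  obtain ⟨k, hk⟩ : ∃ k : F, k = r.1 0 0 / r.1 1 0 := ⟨_, rfl⟩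
  obtain ⟨r', hr'_def⟩ : ∃ r' : Matrix.SpecialLinearGroup (Fin 2) F,
      r' = dkX (-k) * r * (dkX (-k))⁻¹ := ⟨_, rfl⟩
  have hr' : r' ∈ R.map (MulAut.conj (dkX (-k))).toMonoidHom := ⟨r, hr, hr'_def.symm⟩
  have hR₁ : (Nat.card (R.map (MulAut.conj (dkX (-k))).toMonoidHom)).Coprime 3 := by
    rw [Subgroup.card_map_of_injective (MulAut.conj (dkX (-k))).injective]
    exact hR
  have hx₁ : dkX (1 : F) ∈ Subgroup.normalizer
      ((R.map (MulAut.conj (dkX (-k))).toMonoidHom : Subgroup _) :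
        Set (Matrix.SpecialLinearGroup (Fin 2) F)) := by
    rw [← Subgroup.map_equiv_normalizer_eq]
    refine ⟨dkX 1, hx, ?_⟩
    show dkX (-k) * dkX 1 * (dkX (-k))⁻¹ = dkX 1
    rw [← dkX_neg, ← dkX_add, ← dkX_add]
    congr 1
    ring
  have h00 : r'.1 0 0 = 0 := by
    rw [hr'_def, ← dkX_neg, neg_neg]
    simp only [Matrix.SpecialLinearGroup.coe_mul, Matrix.mul_apply, Fin.sum_univ_two, dkX_coe,
      Matrix.of_apply, Matrix.cons_val', Matrix.cons_val_zero, Matrix.cons_val_one,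
      Matrix.cons_val_fin_one]
    rw [hk]
    field_simp
    ring
  have h10 : r'.1 1 0 = r.1 1 0 := by
    rw [hr'_def, ← dkX_neg, neg_neg]
    simp only [Matrix.SpecialLinearGroup.coe_mul, Matrix.mul_apply, Fin.sum_univ_two, dkX_coe,
      Matrix.of_apply, Matrix.cons_val', Matrix.cons_val_zero, Matrix.cons_val_one,
      Matrix.cons_val_fin_one]
    ring
  have hy : dkY (-(r.1 1 0 ^ 2 * 1)) ∈ R.map (MulAut.conj (dkX (-k))).toMonoidHom ⊔
      Subgroup.zpowers (dkX (1 : F)) := by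
    rw [← h10, ← conj_dkX_of_zero r' h00 1]
    exact Subgroup.mul_mem _ (Subgroup.mul_mem _ (le_sup_left (b := Subgroup.zpowers (dkX (1 : F))) hr')
      (le_sup_right (a := R.map (MulAut.conj (dkX (-k))).toMonoidHom) (Subgroup.mem_zpowers _)))
      (Subgroup.inv_mem _ (le_sup_left (b := Subgroup.zpowers (dkX (1 : F))) hr'))
  have hne : -(r.1 1 0 ^ 2 * 1) ≠ 0 := by
    rw [mul_one, neg_ne_zero]
    exact pow_ne_zero 2 hc
  have := dk3_sq_eq_one _ hR₁ hx₁ _ hne hy
  linear_combination this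

/-- In normalised coordinates the only upper triangular elements of `R` are `±1`. -/
theorem dk3_upper (R : Subgroup (Matrix.SpecialLinearGroup (Fin 2) F))
    (hR : (Nat.card R).Coprime 3)
    (hx : dkX (1 : F) ∈ Subgroup.normalizer (R : Set (Matrix.SpecialLinearGroup (Fin 2) F)))
    (r : Matrix.SpecialLinearGroup (Fin 2) F) (hr : r ∈ R) (hc : r.1 1 0 = 0) :
    r = 1 ∨ r = -1 := by
  have h2 : (2 : F) ≠ 0 := two_ne_zero_of_char 3 (by norm_num)
  have h1 : r * dkX 1 * r⁻¹ * (dkX 1)⁻¹ ∈ R := by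
    have := (Subgroup.mem_normalizer_iff.mp hx r⁻¹).mp (R.inv_mem hr)
    have h' := R.mul_mem hr this
    have e : r * dkX 1 * r⁻¹ * (dkX 1)⁻¹ = r * (dkX 1 * r⁻¹ * (dkX 1)⁻¹) := by group
    rw [e]
    exact h'
  rw [conj_dkX r hc, ← dkX_neg, ← dkX_add] at h1
  have h4 := eq_one_of_pow_eq_one_of_coprime R 3 hR _ h1 (dkX_pow_char 3 _)
  rw [← dkX_zero] at h4
  have he : r.1 0 0 ^ 2 = 1 := by
    have := dkX_injective h4
    linear_combination this
  have hdet := sl_det r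
  rw [hc, mul_zero, sub_zero] at hdet
  have hd : r.1 1 1 = r.1 0 0 := by
    linear_combination (r.1 0 0) * hdet - (r.1 1 1) * he
  have h5 : r * r = dkX (2 * r.1 0 0 * r.1 0 1) := by
    apply sl_ext <;>
      simp [Matrix.SpecialLinearGroup.coe_mul, Matrix.mul_apply, Fin.sum_univ_two, dkX_coe, hc,
        hd] <;>
      first | linear_combination he | ring
  have h6 : dkX (2 * r.1 0 0 * r.1 0 1) = 1 := by
    rw [← h5]
    apply eq_one_of_pow_eq_one_of_coprime R 3 hR _ (R.mul_mem hr hr)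
    rw [h5]
    exact dkX_pow_char 3 _
  rw [← dkX_zero] at h6
  have h7 : 2 * r.1 0 0 * r.1 0 1 = 0 := dkX_injective h6
  have he0 : r.1 0 0 ≠ 0 := by
    intro h
    rw [h] at he
    simp at he
  have hf : r.1 0 1 = 0 := by
    rcases mul_eq_zero.mp h7 with h | h
    · rcases mul_eq_zero.mp h with h' | h'
      · exact absurd h' h2
      · exact absurd h' he0
    · exact h
  have he' : (r.1 0 0 - 1) * (r.1 0 0 + 1) = 0 := by linear_combination he
  rcases mul_eq_zero.mp he' with h | h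
  · left
    have h00 : r.1 0 0 = 1 := by linear_combination h
    apply sl_ext <;> simp [h00, hf, hc, hd]
  · right
    have h00 : r.1 0 0 = -1 := by linear_combination h
    apply sl_ext <;> simp [h00, hf, hc, hd]

/-- Two elements of `R` with non-zero lower left entries: equal up to sign, or the cross term is a
fourth root of unity. -/
theorem dk3_pair (R : Subgroup (Matrix.SpecialLinearGroup (Fin 2) F))
    (hR : (Nat.card R).Coprime 3)
    (hx : dkX (1 : F) ∈ Subgroup.normalizer (R : Set (Matrix.SpecialLinearGroup (Fin 2) F)))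
    (r s : Matrix.SpecialLinearGroup (Fin 2) F) (hr : r ∈ R) (hs : s ∈ R) :
    (s = r ∨ s = -r) ∨ (r.1 0 0 * s.1 1 0 - s.1 0 0 * r.1 1 0) ^ 4 = 1 := by
  have hg : r⁻¹ * s ∈ R := R.mul_mem (R.inv_mem hr) hs
  have hg10 : (r⁻¹ * s).1 1 0 = r.1 0 0 * s.1 1 0 - s.1 0 0 * r.1 1 0 := by
    simp [Matrix.SpecialLinearGroup.coe_mul, Matrix.mul_apply, Fin.sum_univ_two,
      Matrix.adjugate_fin_two]
    ring
  by_cases h0 : (r⁻¹ * s).1 1 0 = 0
  · left
    rcases dk3_upper R hR hx _ hg h0 with h | h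
    · left
      have : s = r * (r⁻¹ * s) := by group
      rw [this, h, mul_one]
    · right
      have : s = r * (r⁻¹ * s) := by group
      rw [this, h, mul_neg, mul_one]
  · right
    rw [← hg10]
    exact dk3_entry_pow_four R hR hx _ hg h0

/-- In normalised coordinates, `|R| ≤ 8`. -/
theorem dk3_card_le (R : Subgroup (Matrix.SpecialLinearGroup (Fin 2) F))
    (hR : (Nat.card R).Coprime 3)
    (hx : dkX (1 : F) ∈ Subgroup.normalizer (R : Set (Matrix.SpecialLinearGroup (Fin 2) F))) :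
    Nat.card R ≤ 8 := by
  have h3 := three_eq_zero' (F := F)
  have h2 : (2 : F) ≠ 0 := two_ne_zero_of_char 3 (by norm_num)
  have key : ∀ f : Fin 8 → Matrix.SpecialLinearGroup (Fin 2) F,
      (∀ r ∈ R, ∃ i, f i = r) → Nat.card R ≤ 8 := by
    intro f hf
    choose i hi using fun r : R => hf r.1 r.2
    have hinj : Function.Injective i := by
      intro a b hab
      apply Subtype.ext
      rw [← hi a, ← hi b, hab]
    have := Nat.card_le_card_of_injective i hinj
    simpa using this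
  by_cases hall : ∀ r ∈ R, r.1 1 0 = 0
  · apply key ![1, -1, 1, 1, 1, 1, 1, 1]
    intro r hr
    rcases dk3_upper R hR hx r hr (hall r hr) with h | h
    · exact ⟨0, by rw [h]; rfl⟩
    · exact ⟨1, by rw [h]; rfl⟩
  · push Not at hall
    obtain ⟨r₀, hr₀, hc₀⟩ := hall
    have hconj : ∀ r ∈ R, dkX 1 * r * (dkX 1)⁻¹ ∈ R := fun r hr =>
      (Subgroup.mem_normalizer_iff.mp hx r).mp hr
    obtain ⟨r₁, hr₁_def⟩ : ∃ r₁ : Matrix.SpecialLinearGroup (Fin 2) F,
        r₁ = dkX 1 * r₀ * (dkX 1)⁻¹ := ⟨_, rfl⟩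
    obtain ⟨r₂, hr₂_def⟩ : ∃ r₂ : Matrix.SpecialLinearGroup (Fin 2) F,
        r₂ = dkX 1 * r₁ * (dkX 1)⁻¹ := ⟨_, rfl⟩
    have hr₁ : r₁ ∈ R := hr₁_def ▸ hconj r₀ hr₀
    have hr₂ : r₂ ∈ R := hr₂_def ▸ hconj r₁ hr₁
    have h1a : r₁.1 1 0 = r₀.1 1 0 := by rw [hr₁_def]; exact (dk3_shift r₀).1
    have h1b : r₁.1 0 0 = r₀.1 0 0 + r₀.1 1 0 := by rw [hr₁_def]; exact (dk3_shift r₀).2
    have h2a : r₂.1 1 0 = r₀.1 1 0 := by rw [hr₂_def, (dk3_shift r₁).1, h1a]
    have h2b : r₂.1 0 0 = r₀.1 0 0 + r₀.1 1 0 + r₀.1 1 0 := by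
      rw [hr₂_def, (dk3_shift r₁).2, h1a, h1b]
    apply key ![1, -1, r₀, -r₀, r₁, -r₁, r₂, -r₂]
    intro s hs
    by_cases hs0 : s.1 1 0 = 0
    · rcases dk3_upper R hR hx s hs hs0 with h | h
      · exact ⟨0, by rw [h]; rfl⟩
      · exact ⟨1, by rw [h]; rfl⟩
    · rcases dk3_pair R hR hx r₀ s hr₀ hs with (h | h) | hP0
      · exact ⟨2, by rw [h]; rfl⟩
      · exact ⟨3, by rw [h]; rfl⟩
      rcases dk3_pair R hR hx r₁ s hr₁ hs with (h | h) | hP1
      · exact ⟨4, by rw [h]; rfl⟩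
      · exact ⟨5, by rw [h]; rfl⟩
      rcases dk3_pair R hR hx r₂ s hr₂ hs with (h | h) | hP2
      · exact ⟨6, by rw [h]; rfl⟩
      · exact ⟨7, by rw [h]; rfl⟩
      exfalso
      rw [h1a, h1b] at hP1
      rw [h2a, h2b] at hP2
      have hc4 := dk3_entry_pow_four R hR hx r₀ hr₀ hc₀
      have hd4 := dk3_entry_pow_four R hR hx s hs hs0
      have he : (r₀.1 1 0 * s.1 1 0) ^ 4 = 1 := by rw [mul_pow, hc4, hd4, one_mul]
      apply h2
      generalize r₀.1 0 0 = u at *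
      generalize r₀.1 1 0 = c at *
      generalize s.1 0 0 = v at *
      generalize s.1 1 0 = d at *
      linear_combination (-2 : F) * he + hP0 + hP1 + hP2 +
        (1 - (u * d - v * c) ^ 4 - 4 * (u * d - v * c) ^ 3 * (c * d)
          - 10 * (u * d - v * c) ^ 2 * (c * d) ^ 2 - 12 * (u * d - v * c) * (c * d) ^ 3
          - 5 * (c * d) ^ 4) * h3

end CharThree

section DicksonThreeMain

variable {F : Type*} [Field F] [Fintype F] [DecidableEq F]

/-- Let `a` be a `p`-element of `SL₂(F)` (`F` finite of odd characteristic `p`) normalising a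
subgroup `R` of order prime to `p` with `[R, a] ≠ 1`.  Then `p = 3`, `|R| = 8`, and `R⟨a⟩` is the
image of an embedding of `SL₂(𝔽_p)`. -/
theorem dk3_structure (p : ℕ) [Fact p.Prime] [CharP F p] (hp : p ≠ 2)
    (a : Matrix.SpecialLinearGroup (Fin 2) F) (ha : IsPGroup p ↥(Subgroup.zpowers a))
    (R : Subgroup (Matrix.SpecialLinearGroup (Fin 2) F)) (hR : (Nat.card R).Coprime p)
    (haR : a ∈ Subgroup.normalizer (R : Set (Matrix.SpecialLinearGroup (Fin 2) F)))
    (hnt : ⁅R, Subgroup.zpowers a⁆ ≠ ⊥) :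
    p = 3 ∧ Nat.card R = 8 ∧
      ∃ φ : Matrix.SpecialLinearGroup (Fin 2) (ZMod p) →* Matrix.SpecialLinearGroup (Fin 2) F,
        Function.Injective φ ∧ φ.range = R ⊔ Subgroup.zpowers a := by
  have hpp : p.Prime := Fact.out
  -- an element of `R` not commuting with `a`
  obtain ⟨r, hr, hra⟩ : ∃ r ∈ R, r * a ≠ a * r := by
    by_contra hno
    push Not at hno
    apply hnt
    rw [Subgroup.commutator_eq_bot_iff_le_centralizer]
    intro r hr
    rw [Subgroup.mem_centralizer_iff]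
    intro z hz
    obtain ⟨k, rfl⟩ := Subgroup.mem_zpowers_iff.mp hz
    have hc : Commute r a := hno r hr
    exact (hc.zpow_right k).eq.symm
  -- `a` is a `p`-element, hence of trace `2`
  obtain ⟨k, hk⟩ := ha ⟨a, Subgroup.mem_zpowers a⟩
  have hak : a ^ p ^ k = 1 := by
    have := congrArg Subtype.val hk
    simpa using this
  have htr := trace_of_pow_char_pow p a k hak
  have htr2 : (r * a * r⁻¹).1 0 0 + (r * a * r⁻¹).1 1 1 = 2 := by rw [dk_trace_conj, htr]
  have hnc : a * (r * a * r⁻¹) ≠ (r * a * r⁻¹) * a := by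
    intro hcomm
    apply hra
    have hc : a * r * a⁻¹ * r⁻¹ ∈ R :=
      R.mul_mem ((Subgroup.mem_normalizer_iff.mp haR r).mp hr) (R.inv_mem hr)
    have hc' : a * r * a⁻¹ * r⁻¹ = a * (r * a * r⁻¹)⁻¹ := by group
    have hpow : (a * r * a⁻¹ * r⁻¹) ^ p ^ k = 1 := by
      rw [hc']
      have hcm : Commute a (r * a * r⁻¹)⁻¹ := Commute.inv_right hcomm
      rw [hcm.mul_pow, hak, one_mul, inv_pow, conj_pow, hak]
      simp
    have h1 := eq_one_of_pow_eq_one_of_coprime R (p ^ k) (Nat.Coprime.pow_right k hR) _ hc hpow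
    have h2 : a * r = r * a := by
      have := congrArg (fun g => g * r * a) h1
      simpa [mul_assoc] using this
    exact h2.symm
  -- Dickson: a copy of `SL₂(p)` inside `R⟨a⟩`
  have haH : a ∈ R ⊔ Subgroup.zpowers a := le_sup_right (a := R) (Subgroup.mem_zpowers a)
  have hrH : r ∈ R ⊔ Subgroup.zpowers a := le_sup_left (b := Subgroup.zpowers a) hr
  obtain ⟨φ, hinj, hφ⟩ := dk_exists_hom p hp (R ⊔ Subgroup.zpowers a) a (r * a * r⁻¹) haH
    (Subgroup.mul_mem _ (Subgroup.mul_mem _ hrH haH) (Subgroup.inv_mem _ hrH)) htr htr2 hnc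
  -- `p = 3`
  have hp3 : p = 3 := by
    by_contra hne
    have h2z : (2 : ZMod p) ≠ 0 := two_ne_zero_of_char p hp
    obtain ⟨h, hh00, hh10⟩ : ∃ h : Matrix.SpecialLinearGroup (Fin 2) (ZMod p),
        h.1 0 0 = 2 ∧ h.1 1 0 = 0 :=
      ⟨mkSL 2 0 0 2⁻¹ (by rw [mul_inv_cancel₀ h2z]; ring), by simp [mkSL_coe], by simp [mkSL_coe]⟩
    have hcomm : φ (h * dkX 1 * h⁻¹ * (dkX 1)⁻¹) ∈ R := by
      rw [map_mul, map_mul, map_mul, map_inv, map_inv]
      exact commutator_mem_of_mem_sup R a haR _ _ (hφ h) (hφ (dkX 1))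
    rw [conj_dkX h hh10, ← dkX_neg, ← dkX_add, hh00] at hcomm
    have h1 := eq_one_of_pow_eq_one_of_coprime R p hR _ hcomm
      (by rw [← map_pow, dkX_pow_char p, map_one])
    have h3 : dkX ((2 : ZMod p) ^ 2 * 1 + -1) = (1 : Matrix.SpecialLinearGroup (Fin 2) (ZMod p)) :=
      hinj (by rw [h1, map_one])
    rw [← dkX_zero] at h3
    have h4 := dkX_injective h3
    have h5 : (3 : ZMod p) = 0 := by linear_combination h4
    have h6 : ((3 : ℕ) : ZMod p) = 0 := by exact_mod_cast h5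
    rw [ZMod.natCast_eq_zero_iff] at h6
    exact hne ((Nat.prime_dvd_prime_iff_eq hpp Nat.prime_three).mp h6)
  subst hp3
  -- normalise `a` to `x(1)`
  obtain ⟨A, s, t, hs, ht, hA₁, hA₂⟩ :=
    exists_conj_dkX_dkY (two_ne_zero_of_char 3 hp) a (r * a * r⁻¹) htr htr2 hnc
  obtain ⟨Θ, hΘa⟩ : ∃ Θ : Matrix.SpecialLinearGroup (Fin 2) F ≃* Matrix.SpecialLinearGroup (Fin 2) F,
      Θ a = dkX 1 := by
    refine ⟨(MulAut.conj A).trans (dkDiag s hs), ?_⟩
    show dkDiag s hs (A * a * A⁻¹) = _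
    rw [hA₁, dkDiag_dkX]
  have hR' : (Nat.card (R.map Θ.toMonoidHom)).Coprime 3 := by
    rw [Subgroup.card_map_of_injective Θ.injective]
    exact hR
  have hx' : dkX (1 : F) ∈ Subgroup.normalizer ((R.map Θ.toMonoidHom : Subgroup _) :
      Set (Matrix.SpecialLinearGroup (Fin 2) F)) := by
    rw [← Subgroup.map_equiv_normalizer_eq]
    exact ⟨a, haR, hΘa⟩
  have hle8 : Nat.card R ≤ 8 := by
    have e := Subgroup.card_map_of_injective (K := R) (f := Θ.toMonoidHom) Θ.injective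
    rw [← e]
    exact dk3_card_le _ hR' hx'
  have ha3 : a ^ 3 = 1 := by
    apply Θ.injective
    rw [map_pow, hΘa, dkX_pow_char 3, map_one]
  have hord : orderOf a ≤ 3 := Nat.le_of_dvd (by norm_num) (orderOf_dvd_of_pow_eq_one ha3)
  have hH3 : Nat.card (R ⊔ Subgroup.zpowers a : Subgroup _) ≤ Nat.card R * 3 :=
    (card_sup_zpowers_le R a haR).trans (Nat.mul_le_mul_left _ hord)
  have h24 : Nat.card (Matrix.SpecialLinearGroup (Fin 2) (ZMod 3)) = 24 := by
    rw [card_SL2' (F := ZMod 3) (q := 3) (ZMod.card 3)]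
    norm_num
  have hK : Nat.card φ.range = 24 := by
    rw [← h24]
    exact (Nat.card_congr (MonoidHom.ofInjective hinj).toEquiv).symm
  have hKH : φ.range ≤ R ⊔ Subgroup.zpowers a := by
    rintro _ ⟨g, rfl⟩
    exact hφ g
  have hHge : 24 ≤ Nat.card (R ⊔ Subgroup.zpowers a : Subgroup _) := by
    rw [← hK]
    exact Subgroup.card_le_of_le hKH
  refine ⟨rfl, by omega, φ, hinj, ?_⟩
  exact Subgroup.eq_of_le_of_card_ge hKH (by rw [hK]; omega)

end DicksonThreeMain

end Cfsg.Agent.Lib.helper46
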