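import Mathlib
import Cfsg.Agent.Lib.helper46.TorusAll
import Cfsg.Agent.Lib.helper98.DicksonTame
import Cfsg.Agent.Lib.helper98.DicksonWild
import Cfsg.Agent.Lib.helper98.SubfieldSL2
import Cfsg.Agent.Lib.helper6.SLCard

/-!
# Maximality of the torus normalizers of `SL₂(q)` and the dihedral maximal subgroups of `PSL₂(q)`
(helper46)

Uses the order-level Dickson classification of helper98 (`wild_orders`, `tame_odd`,
`tame_even_odd_card`) together with the double coset bound `torus_card_bound`.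
-/

set_option autoImplicit false

namespace Cfsg.Agent.Lib.helper46

open Cfsg.Agent.Lib.helper98

section Arith

theorem arith_tame (q n c : ℕ) (hq2 : 2 ≤ q) (hodd : Odd q)
    (hF3 : n ^ 2 + 4 * n ≤ 2 * c) (hdvd : c ∣ q * (q ^ 2 - 1)) (hlt : c < q * (q ^ 2 - 1))
    (hcase : (n + 1 = q ∧ q ≠ 2 ∧ q ≠ 3 ∧ q ≠ 5 ∧ q ≠ 7 ∧ q ≠ 9 ∧ q ≠ 11) ∨
      (n = q + 1 ∧ q ≠ 2 ∧ q ≠ 7 ∧ q ≠ 9))
    (hc : c = 2 ∨ c ≤ 4 * q ∨ c = 24 ∨ c = 48 ∨ c = 120) : n = 12 ∧ q = 11 ∧ c = 120 := by
  obtain ⟨k, hk⟩ := hodd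
  rcases hc with rfl | hc | rfl | rfl | rfl
  · exfalso
    have hn : n = 0 := by nlinarith
    rcases hcase with ⟨h, -⟩ | ⟨h, -⟩ <;> omega
  · exfalso
    rcases hcase with ⟨h, h2, h3, h5, -⟩ | ⟨h, -⟩
    · have : n ≤ 5 := by nlinarith
      omega
    · subst h; nlinarith
  · have hn : n ≤ 5 := by nlinarith
    rcases hcase with ⟨h, h2, h3, h5, -⟩ | ⟨h, -⟩
    · exfalso; omega
    · exfalso
      have hq3 : q = 3 := by omega
      subst hq3
      norm_num at hlt
  · have hn : n ≤ 8 := by nlinarith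
    rcases hcase with ⟨h, h2, h3, h5, h7, h9, -⟩ | ⟨h, h2, h7, h9⟩
    · exfalso; omega
    · exfalso
      have : q = 3 ∨ q = 5 := by omega
      rcases this with rfl | rfl
      · norm_num at hlt
      · norm_num at hdvd
  · have hn : n ≤ 13 := by nlinarith
    rcases hcase with ⟨h, h2, h3, h5, h7, h9, h11⟩ | ⟨h, h2, h7, h9⟩
    · exfalso
      have : q = 13 := by omega
      subst this
      norm_num at hdvd
    · have : q = 3 ∨ q = 5 ∨ q = 11 := by omega
      rcases this with rfl | rfl | rfl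
      · exfalso; norm_num at hlt
      · exfalso; norm_num at hlt
      · exact ⟨by omega, rfl, rfl⟩

theorem arith_borel (q n c d : ℕ) (hq2 : 2 ≤ q) (hd : (Even q ∧ d = 1) ∨ (Odd q ∧ d = 2))
    (hF1 : 2 * n ∣ c) (hF3 : n ^ 2 + d * (2 * n) ≤ d * c) (hdvd : c ∣ q * (q - 1))
    (hcase : n + 1 = q ∨ n = q + 1) : False := by
  rcases hcase with h | h
  · subst h
    simp only [Nat.add_sub_cancel] at hdvd
    have hn1 : 1 ≤ n := by omega
    have h1 : n * 2 ∣ n * (n + 1) := by
      have := hF1.trans hdvd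
      rwa [mul_comm 2 n, mul_comm (n + 1) n] at this
    have h2 : 2 ∣ n + 1 := Nat.dvd_of_mul_dvd_mul_left (by omega) h1
    rcases hd with ⟨-, rfl⟩ | ⟨hodd, -⟩
    · have hle := Nat.le_of_dvd (by positivity) hdvd
      nlinarith
    · obtain ⟨k, hk⟩ := hodd
      omega
  · subst h
    obtain ⟨s, rfl⟩ : ∃ s, q = s + 2 := ⟨q - 2, by omega⟩
    have h1 : (s + 2 + 1) ∣ (s + 2) * (s + 2 - 1) :=
      (Dvd.intro_left 2 rfl).trans (hF1.trans hdvd)
    have h2 : (s + 2) * (s + 2 - 1) = (s + 2 + 1) * s + 2 := by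
      have : s + 2 - 1 = s + 1 := by omega
      rw [this]; ring
    rw [h2] at h1
    have h3 : (s + 2 + 1) ∣ 2 := (Nat.dvd_add_right (dvd_mul_right _ _)).mp h1
    have := Nat.le_of_dvd (by norm_num) h3
    omega

theorem arith_wild_two (q n c : ℕ) (hq2 : 2 ≤ q) (heven : Even q) (hF3 : n ^ 2 + 2 * n ≤ c)
    (hc : c ≤ 2 * (q + 1)) (hcase : (n + 1 = q ∧ q ≠ 2) ∨ n = q + 1) : False := by
  obtain ⟨k, hk⟩ := heven
  rcases hcase with ⟨h, h2⟩ | h
  · have : n ≤ 2 := by nlinarith
    omega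
  · subst h; nlinarith

theorem arith_wild_A (q n c d A : ℕ) (hq2 : 2 ≤ q) (hd : (Even q ∧ d = 1) ∨ (Odd q ∧ d = 2))
    (hA2 : 2 ≤ A) (hAq : A ∣ q) (hA1 : A - 1 ∣ q - 1)
    (hF3 : n ^ 2 + d * (2 * n) ≤ d * c) (hlt : c < q * (q ^ 2 - 1))
    (hcard : c = A * (A ^ 2 - 1) ∨ (Odd q ∧ c = 2 * A * (A ^ 2 - 1)))
    (hcase : (n + 1 = q ∧ q ≠ 9) ∨ n = q + 1) : False := by
  have hAne : A ≠ q := by
    rintro rfl
    rcases hcard with h | ⟨-, h⟩
    · omega
    · rw [mul_assoc] at h
      omega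
  obtain ⟨m, hm⟩ := hAq
  obtain ⟨a, rfl⟩ : ∃ a, A = a + 1 := ⟨A - 1, by omega⟩
  simp only [Nat.add_sub_cancel] at hA1
  have hm2 : 2 ≤ m := by
    by_contra hcon
    have : m = 0 ∨ m = 1 := by omega
    rcases this with h | h
    · rw [h, mul_zero] at hm; omega
    · rw [h, mul_one] at hm; omega
  have hq1 : q - 1 = a * m + (m - 1) := by
    have : (a + 1) * m = a * m + m := by ring
    omega
  have hdvd : a ∣ m - 1 := by
    rw [hq1] at hA1
    exact (Nat.dvd_add_right (dvd_mul_right a m)).mp hA1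
  have ham : a ≤ m - 1 := Nat.le_of_dvd (by omega) hdvd
  have hAA : (a + 1) * (a + 1) ≤ q := by
    rw [hm]; exact Nat.mul_le_mul_left _ (by omega)
  have hsq : (a + 1) ^ 2 - 1 = a * (a + 2) := by
    have : (a + 1) ^ 2 = a * (a + 2) + 1 := by ring
    omega
  rw [hsq] at hcard
  have hq' : a * (a + 2) + 1 ≤ q := by nlinarith
  have ha1 : 1 ≤ a := by omega
  rcases hd with ⟨heven, rfl⟩ | ⟨hodd, rfl⟩
  · rcases hcard with h | ⟨hodd, -⟩
    · subst h
      rcases hcase with ⟨hn, -⟩ | hn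
      · subst hn
        have h1 : a * (a + 2) ≤ n := by omega
        have h2 : (a + 1) * (a * (a + 2)) ≤ (a + 1) * n := Nat.mul_le_mul_left _ h1
        have h3 : n + 2 ≤ a + 1 := by
          by_contra hcon
          have : a + 1 < n + 2 := by omega
          nlinarith
        nlinarith
      · subst hn
        have h1 : a * (a + 2) ≤ q := by omega
        have h2 : (a + 1) * (a * (a + 2)) ≤ (a + 1) * q := Nat.mul_le_mul_left _ h1
        nlinarith
    · exact (Nat.not_even_iff_odd.mpr hodd) heven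
  · have hc : c ≤ 2 * (a + 1) * (a * (a + 2)) := by
      rcases hcard with h | ⟨-, h⟩
      · rw [h]; nlinarith
      · rw [h]
    rcases hcase with ⟨hn, h9⟩ | hn
    · subst hn
      have h1 : a * (a + 2) ≤ n := by omega
      have h2 : 2 * (a + 1) * (a * (a + 2)) ≤ 2 * (a + 1) * n := Nat.mul_le_mul_left _ h1
      have hn1 : 1 ≤ n := by nlinarith
      have h3 : n + 4 ≤ 4 * (a + 1) := by
        by_contra hcon
        have : 4 * (a + 1) < n + 4 := by omega
        nlinarith
      have ha : a ≤ 2 := by nlinarith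
      obtain ⟨k, hk⟩ := hodd
      interval_cases a
      · omega
      · omega
    · subst hn
      have h1 : a * (a + 2) ≤ q := by omega
      have h2 : 2 * (a + 1) * (a * (a + 2)) ≤ 2 * (a + 1) * q := Nat.mul_le_mul_left _ h1
      have h3 : q + 5 < 4 * (a + 1) := by
        by_contra hcon
        have : 4 * (a + 1) ≤ q + 5 := by omega
        nlinarith
      nlinarith


end Arith

section Max

variable {F : Type*} [Field F] [Fintype F]

/-- A proper subgroup of `SL₂(q)` cannot satisfy the numerical conditions of a subgroup properly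
containing a torus normalizer. -/
theorem eq_top_of_bound (K : Subgroup (Matrix.SpecialLinearGroup (Fin 2) F)) (hneg : negOne ∈ K)
    (n : ℕ) (hF1 : 2 * n ∣ Nat.card K)
    (hF3 : n ^ 2 + Nat.gcd 2 (Fintype.card F - 1) * (2 * n)
      ≤ Nat.gcd 2 (Fintype.card F - 1) * Nat.card K)
    (hel : ∃ g ∈ K, orderOf g = n)
    (hcase : (n + 1 = Fintype.card F ∧ Fintype.card F ∉ ({2, 3, 5, 7, 9, 11} : Finset ℕ)) ∨
      (n = Fintype.card F + 1 ∧ Fintype.card F ∉ ({2, 7, 9} : Finset ℕ))) : K = ⊤ := by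
  classical
  by_contra hne
  have hSL := Cfsg.Agent.Lib.helper7.card_SL2 (F := F) rfl
  have hbor := card_borelSL (F := F)
  have hprime : Fact (ringChar F).Prime := ⟨CharP.char_is_prime F (ringChar F)⟩
  obtain ⟨e, -, hqe⟩ := FiniteField.card F (ringChar F)
  have hq2 : 2 ≤ Fintype.card F := Fintype.one_lt_card
  have hdvdSL : Nat.card K ∣ Fintype.card F * (Fintype.card F ^ 2 - 1) := by
    rw [← hSL]; exact Subgroup.card_subgroup_dvd_card K
  have hltSL : Nat.card K < Fintype.card F * (Fintype.card F ^ 2 - 1) := by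
    rw [← hSL]
    exact lt_of_le_of_ne (Subgroup.card_le_card_group K)
      (fun h => hne ((Subgroup.card_eq_iff_eq_top K).mp h))
  have hpar : ((2 : F) = 0 ∧ Even (Fintype.card F) ∧ Nat.gcd 2 (Fintype.card F - 1) = 1 ∧
        ringChar F = 2) ∨
      ((2 : F) ≠ 0 ∧ Odd (Fintype.card F) ∧ Nat.gcd 2 (Fintype.card F - 1) = 2 ∧
        ringChar F ≠ 2) := by
    by_cases hchar : ringChar F = 2
    · left
      have heven : Even (Fintype.card F) :=
        Nat.even_iff.mpr (FiniteField.even_card_iff_char_two.mp hchar)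
      refine ⟨two_eq_zero_of_even_card heven, heven, ?_, hchar⟩
      obtain ⟨k, hk⟩ := heven
      have hodd : Odd (Fintype.card F - 1) := ⟨k - 1, by omega⟩
      exact Nat.coprime_two_left.mpr hodd
    · right
      have hodd : Odd (Fintype.card F) :=
        Nat.odd_iff.mpr (FiniteField.odd_card_of_char_ne_two hchar)
      refine ⟨?_, hodd, ?_, hchar⟩
      · intro h2
        apply hchar
        have h3 : ((2 : ℕ) : F) = 0 := by exact_mod_cast h2
        have h4 := (ringChar.spec F 2).mp h3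
        exact (Nat.prime_dvd_prime_iff_eq hprime.out Nat.prime_two).mp h4
      · obtain ⟨k, hk⟩ := hodd
        exact Nat.gcd_eq_left ⟨k, by omega⟩
  obtain ⟨g₀, hg₀K, hg₀⟩ := hel
  obtain ⟨q, hqdef⟩ : ∃ q, q = Fintype.card F := ⟨_, rfl⟩
  rw [← hqdef] at hF3 hcase hSL hbor hqe hq2 hdvdSL hltSL hpar
  have hcase' : (n + 1 = q ∧ q ≠ 2 ∧ q ≠ 3 ∧ q ≠ 5 ∧ q ≠ 7 ∧ q ≠ 9 ∧ q ≠ 11) ∨
      (n = q + 1 ∧ q ≠ 2 ∧ q ≠ 7 ∧ q ≠ 9) := by
    simpa only [Finset.mem_insert, Finset.mem_singleton, not_or, and_assoc] using hcase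
  have hd : (Even q ∧ Nat.gcd 2 (q - 1) = 1) ∨ (Odd q ∧ Nat.gcd 2 (q - 1) = 2) := by
    rcases hpar with ⟨-, h1, h2, -⟩ | ⟨-, h1, h2, -⟩
    · exact Or.inl ⟨h1, h2⟩
    · exact Or.inr ⟨h1, h2⟩
  by_cases hw : ∃ g ∈ K, g ≠ 1 ∧ g 0 0 + g 1 1 = 2
  · rcases wild_orders (ringChar F) K hneg hw with ⟨c, hc⟩ | ⟨hp2, N, hN, hcard⟩ |
      ⟨A, hA2, hAq, hA1, hcard⟩ | ⟨hp3, h4, hcard⟩
    · have hle : conjSub c K ≤ borelSL F := by
        intro x hx
        rw [mem_conjSub] at hx
        have h1 := hc _ hx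
        have e : c * (c⁻¹ * x * c) * c⁻¹ = x := by group
        rw [e] at h1
        exact h1
      have h2 := Subgroup.card_dvd_of_le hle
      rw [card_conjSub, hbor] at h2
      exact arith_borel q n (Nat.card K) _ hq2 hd hF1 hF3 h2
        (hcase'.imp (fun h => h.1) (fun h => h.1))
    · rw [← hqdef] at hN
      rcases hpar with ⟨-, heven, hd1, -⟩ | ⟨-, -, -, hchar⟩
      · rw [hd1, one_mul, one_mul] at hF3
        refine arith_wild_two q n (Nat.card K) hq2 heven hF3 ?_
          (hcase'.imp (fun h => ⟨h.1, h.2.1⟩) (fun h => h.1))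
        rw [hcard]; omega
      · exact hchar hp2
    · rw [← hqdef] at hAq hA1 hcard
      refine arith_wild_A q n (Nat.card K) _ A hq2 hd hA2 hAq hA1 hF3 hltSL ?_
        (hcase'.imp (fun h => ⟨h.1, h.2.2.2.2.2.1⟩) (fun h => h.1))
      rcases hcard with h | ⟨hp, -, h⟩
      · exact Or.inl h
      · right
        rcases hpar with ⟨-, -, -, hchar⟩ | ⟨-, hodd, -, -⟩
        · exact absurd hchar hp
        · exact ⟨hodd, h⟩
    · rcases hpar with ⟨-, -, -, hchar⟩ | ⟨-, hodd, hd2, -⟩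
      · rw [hchar] at hp3; omega
      · rw [hd2] at hF3
        have h1 : n ^ 2 + 4 * n ≤ 2 * Nat.card K := by linarith
        obtain ⟨-, hq11, -⟩ := arith_tame q n (Nat.card K) hq2 hodd h1 hdvdSL hltSL hcase'
          (Or.inr (Or.inr (Or.inr (Or.inr hcard))))
        rw [hp3, hq11] at hqe
        have he : (e : ℕ) < 3 := by
          by_contra hcon
          have : 3 ^ 3 ≤ 3 ^ (e : ℕ) := Nat.pow_le_pow_right (by norm_num) (by omega)
          omega
        have hepos := e.pos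
        interval_cases (e : ℕ) <;> omega
  · have htame : ∀ g ∈ K, g 0 0 + g 1 1 = 2 → g = 1 := by
      intro g hg htr
      by_contra h1
      exact hw ⟨g, hg, h1, htr⟩
    rcases hpar with ⟨h2, -, -, -⟩ | ⟨h2, hodd, hd2, hchar⟩
    · exact tame_even_odd_card h2 K htame ((dvd_mul_right 2 n).trans hF1)
    · obtain ⟨δ, hδ⟩ := FiniteField.exists_nonsquare hchar
      have hδ0 : δ ≠ 0 := by
        rintro rfl; exact hδ ⟨0, by rw [mul_zero]⟩
      rw [hd2] at hF3
      have h1 : n ^ 2 + 4 * n ≤ 2 * Nat.card K := by linarith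
      have key := arith_tame q n (Nat.card K) hq2 hodd h1 hdvdSL hltSL hcase'
      rcases tame_odd h2 hδ K hneg htame with h | ⟨J, hJ⟩ | ⟨J, hJ⟩ | h | h | h
      · obtain ⟨-, -, h3⟩ := key (Or.inl h)
        omega
      · have h3 := tz_stab_card_le h2 hδ0 J K hJ
        rw [← hqdef] at h3
        obtain ⟨-, h4, h5⟩ := key (Or.inr (Or.inl (by omega)))
        omega
      · have h3 := tz_stab_card_le h2 hδ0 J _ (inf_le_right :
          K ⊓ MulAction.stabilizer (Matrix.SpecialLinearGroup (Fin 2) F) J ≤ _)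
        rw [← hqdef] at h3
        obtain ⟨-, h4, h5⟩ := key (Or.inr (Or.inl (by omega)))
        omega
      · obtain ⟨-, -, h3⟩ := key (Or.inr (Or.inr (Or.inl h.1)))
        omega
      · obtain ⟨-, -, h3⟩ := key (Or.inr (Or.inr (Or.inr (Or.inl h.1))))
        omega
      · obtain ⟨hn12, -, -⟩ := key (Or.inr (Or.inr (Or.inr (Or.inr h.1))))
        rw [hn12] at hg₀
        have hg1 : g₀ ≠ 1 := by
          rintro rfl
          rw [orderOf_one] at hg₀
          omega
        have hgn : g₀ ≠ negOne := by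
          rintro rfl
          have h3 : (negOne : Matrix.SpecialLinearGroup (Fin 2) F) ^ 2 = 1 := by
            rw [pow_two]; exact negOne_mul_self
          have h4 := orderOf_dvd_of_pow_eq_one h3
          rw [hg₀] at h4
          omega
        have hns := nonscalar_of_ne g₀ hg1 hgn
        have htr : (g₀ 0 0 + g₀ 1 1) ^ 2 ≠ 4 := by
          intro h4
          have hfac : (g₀ 0 0 + g₀ 1 1 - 2) * (g₀ 0 0 + g₀ 1 1 + 2) = 0 := by
            linear_combination h4
          rcases mul_eq_zero.mp hfac with h5 | h5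
          · exact hg1 (htame g₀ hg₀K (sub_eq_zero.mp h5))
          · have h6 : ((negOne : Matrix.SpecialLinearGroup (Fin 2) F) * g₀) 0 0
                + ((negOne : Matrix.SpecialLinearGroup (Fin 2) F) * g₀) 1 1 = 2 := by
              simp only [sl2_mul_apply, negOne_00, negOne_01, negOne_10, negOne_11]
              linear_combination (-1 : F) * h5
            have h7 := htame _ (K.mul_mem hneg hg₀K) h6
            apply hgn
            have h8 := negOne_mul_cancel g₀
            rw [h7, mul_one] at h8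
            exact h8.symm
        have hfix := tz_fixCard_two h2 hδ g₀ hns htr
        unfold fixCard at hfix
        obtain ⟨J, hJ⟩ := Finset.card_pos.mp (by rw [hfix]; norm_num)
        have hJ' : g₀ • J = J := (Finset.mem_filter.mp hJ).2
        have hle : Subgroup.zpowers g₀ ≤
            K ⊓ MulAction.stabilizer (Matrix.SpecialLinearGroup (Fin 2) F) J := by
          rw [Subgroup.zpowers_le]
          exact ⟨hg₀K, hJ'⟩
        have h3 := Subgroup.card_le_of_le hle
        rw [Nat.card_zpowers, hg₀] at h3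
        have h4 := h.2.1 J
        omega

/-- **Dihedral maximal subgroups of `PSL₂(q)`** from a torus package. -/
theorem dihedral_max_of_pkg (n : ℕ) (t w : Matrix.SpecialLinearGroup (Fin 2) F)
    (h : TorusPkg n t w)
    (hcase : (n + 1 = Fintype.card F ∧ Fintype.card F ∉ ({2, 3, 5, 7, 9, 11} : Finset ℕ)) ∨
      (n = Fintype.card F + 1 ∧ Fintype.card F ∉ ({2, 7, 9} : Finset ℕ))) :
    ∃ H : Subgroup (Matrix.ProjectiveSpecialLinearGroup (Fin 2) F), IsCoatom H ∧
      Nonempty (H ≃* DihedralGroup (n / Nat.gcd 2 (Fintype.card F - 1))) := by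
  classical
  obtain ⟨ht, hC, hcent, hconj, hw, hwT, hw2Z, hZ⟩ := h
  have hq2 : 2 ≤ Fintype.card F := Fintype.one_lt_card
  have hSL := Cfsg.Agent.Lib.helper7.card_SL2 (F := F) rfl
  have hdZ : Nat.card (Subgroup.center (Matrix.SpecialLinearGroup (Fin 2) F))
      = Nat.gcd 2 (Fintype.card F - 1) := Cfsg.Agent.Lib.helper6.card_center_SL 2 (by norm_num)
  have hTN : Subgroup.zpowers t ≤ dicSub t w hw (hZ hw2Z) := fun x hx => Or.inl hx
  have hcardN : Nat.card (dicSub t w hw (hZ hw2Z)) = 2 * n := by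
    rw [card_dicSub t w hw (hZ hw2Z) hwT, ht]
  have hdvd : Nat.gcd 2 (Fintype.card F - 1) ∣ n := by
    rw [← hdZ, ← ht, ← Nat.card_zpowers]
    exact Subgroup.card_dvd_of_le hZ
  have hm : orderOf t = n / Nat.gcd 2 (Fintype.card F - 1)
      * Nat.card (Subgroup.center (Matrix.SpecialLinearGroup (Fin 2) F)) := by
    rw [hdZ, Nat.div_mul_cancel hdvd, ht]
  have hnegZ : (negOne : Matrix.SpecialLinearGroup (Fin 2) F) ∈
      Subgroup.center (Matrix.SpecialLinearGroup (Fin 2) F) := by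
    rw [mem_center_sl2_iff]
    exact ⟨rfl, rfl, rfl⟩
  have hq3 : 3 ≤ Fintype.card F := by
    rcases hcase with ⟨-, h⟩ | ⟨-, h⟩ <;>
      simp only [Finset.mem_insert, Finset.mem_singleton, not_or] at h <;> omega
  have hnle : n ≤ Fintype.card F + 1 := by
    rcases hcase with ⟨h, -⟩ | ⟨h, -⟩ <;> omega
  have hNtop : dicSub t w hw (hZ hw2Z) ≠ ⊤ := by
    intro htop
    have h1 : Nat.card (dicSub t w hw (hZ hw2Z))
        = Nat.card (Matrix.SpecialLinearGroup (Fin 2) F) := by
      rw [htop, Subgroup.card_top]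
    rw [hcardN, hSL] at h1
    have h2 : 9 ≤ Fintype.card F ^ 2 := by nlinarith
    have h3 : 8 ≤ Fintype.card F ^ 2 - 1 := by omega
    nlinarith
  have hmax : ∀ K : Subgroup (Matrix.SpecialLinearGroup (Fin 2) F),
      dicSub t w hw (hZ hw2Z) ≤ K → K ≠ dicSub t w hw (hZ hw2Z) → K = ⊤ := by
    intro K hNK hKne
    obtain ⟨g, hgK, hgN⟩ := SetLike.exists_of_lt (lt_of_le_of_ne hNK (Ne.symm hKne))
    have hF3 := torus_card_bound t w (Subgroup.center (Matrix.SpecialLinearGroup (Fin 2) F))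
      hC hcent hconj hw (hZ hw2Z) K hNK g hgK hgN
    rw [ht, hcardN, hdZ] at hF3
    have hF1 : 2 * n ∣ Nat.card K := by
      rw [← hcardN]; exact Subgroup.card_dvd_of_le hNK
    exact eq_top_of_bound K (hNK (hTN (hZ hnegZ))) n hF1 hF3
      ⟨t, hNK (hTN (Subgroup.mem_zpowers t)), ht⟩ hcase
  exact ⟨(dicSub t w hw (hZ hw2Z)).map (QuotientGroup.mk'
      (Subgroup.center (Matrix.SpecialLinearGroup (Fin 2) F))),
    isCoatom_map_mk _ _ (hZ.trans hTN) hNtop hmax,
    torus_quotient_dihedral t w _ hZ hw hw2Z hwT _ hm⟩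

end Max

end Cfsg.Agent.Lib.helper46
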