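import Mathlib
import Cfsg.Agent.Lib.helper30.OmegaCent

/-!
# S4404, piece A (helper46): a `Q`-invariant elementary abelian subgroup of order `27`

If a finite group `S` has `3`-rank at least `3` and `Q` is a `3`-subgroup, then `Q` normalizes some
elementary abelian subgroup of order `27`: take a Sylow `3`-subgroup `Y ≥ Q`, a normal elementary
abelian subgroup `D` of `Y` of order `> 9` (helper30), and a normal subgroup of `Y` of order `27`
inside `D`.
-/

set_option autoImplicit false

namespace Cfsg.Agent.Lib.helper46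

/-- A nontrivial normal subgroup of a finite `p`-group contains a central element of order `p`. -/
theorem fqa_exists_central_order {R : Type*} [Group R] [Finite R] (p : ℕ) [Fact p.Prime]
    (hR : IsPGroup p R) (N : Subgroup R) (hN : N.Normal) (hN1 : N ≠ ⊥) :
    ∃ z : R, z ∈ N ∧ z ∈ Subgroup.center R ∧ orderOf z = p := by
  classical
  haveI := hN
  letI : MulAction R ↥N := MulAction.compHom ↥N (MulAut.conjNormal : R →* MulAut ↥N)
  have hsmul : ∀ (g : R) (n : ↥N), ((g • n : ↥N) : R) = g * n * g⁻¹ := fun g n => rfl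
  have hpN : p ∣ Nat.card ↥N := by
    rcases (hR.to_subgroup N).card_eq_or_dvd with h | h
    · exact absurd (Subgroup.card_eq_one.mp h) hN1
    · exact h
  have h1 : (1 : ↥N) ∈ MulAction.fixedPoints R ↥N := by
    intro g
    apply Subtype.ext
    rw [hsmul]
    simp
  obtain ⟨b, hb, hb1⟩ := hR.exists_fixed_point_of_prime_dvd_card_of_fixed_point (α := ↥N) hpN h1
  have hbc : (b : R) ∈ Subgroup.center R := by
    rw [Subgroup.mem_center_iff]
    intro g
    have := congrArg Subtype.val (hb g)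
    rw [hsmul] at this
    calc g * (b : R) = g * b * g⁻¹ * g := by group
      _ = b * g := by rw [this]
  have hb1' : (b : R) ≠ 1 := fun h => hb1 (Subtype.ext h.symm)
  obtain ⟨k, hk⟩ := (IsPGroup.iff_orderOf.mp hR) (b : R)
  have hk0 : k ≠ 0 := by
    rintro rfl
    rw [pow_zero, orderOf_eq_one_iff] at hk
    exact hb1' hk
  obtain ⟨m, rfl⟩ := Nat.exists_eq_succ_of_ne_zero hk0
  have hp : p.Prime := Fact.out
  refine ⟨(b : R) ^ (p ^ m), N.pow_mem b.2 _, Subgroup.pow_mem _ hbc _, ?_⟩
  rw [orderOf_pow_of_dvd (pow_ne_zero m hp.ne_zero) (by rw [hk]; exact pow_dvd_pow p (Nat.le_succ m)),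
    hk, pow_succ, Nat.mul_div_cancel_left _ (pow_pos hp.pos m)]

/-- A normal subgroup `D` of a finite `p`-group contains normal subgroups of every order
`p ^ k ≤ |D|`. -/
theorem fqa_exists_normal_card {R : Type*} [Group R] [Finite R] (p : ℕ) [Fact p.Prime]
    (hR : IsPGroup p R) (D : Subgroup R) (hD : D.Normal) (k : ℕ) (hk : p ^ k ≤ Nat.card ↥D) :
    ∃ F : Subgroup R, F.Normal ∧ F ≤ D ∧ Nat.card ↥F = p ^ k := by
  have hp : p.Prime := Fact.out
  induction k with
  | zero => exact ⟨⊥, inferInstance, bot_le, by simp⟩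
  | succ k ih =>
    obtain ⟨F, hFn, hFD, hFc⟩ := ih (le_trans (Nat.pow_le_pow_right hp.pos (Nat.le_succ k)) hk)
    have := hFn
    have hDbar : (D.map (QuotientGroup.mk' F)).Normal :=
      Subgroup.Normal.map hD _ (QuotientGroup.mk'_surjective F)
    have hDbar1 : D.map (QuotientGroup.mk' F) ≠ ⊥ := by
      intro h
      rw [Subgroup.map_eq_bot_iff, QuotientGroup.ker_mk'] at h
      have h1 := Subgroup.card_le_of_le h
      rw [hFc] at h1
      have h2 : p ^ k < p ^ (k + 1) := Nat.pow_lt_pow_right hp.one_lt (Nat.lt_succ_self k)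
      omega
    obtain ⟨z, hzD, hzc, hzo⟩ := fqa_exists_central_order p (hR.to_quotient F) _ hDbar hDbar1
    have hZn : (Subgroup.zpowers z).Normal := by
      constructor
      intro n hn g
      have hnc : n ∈ Subgroup.center (R ⧸ F) := (Subgroup.zpowers_le.mpr hzc) hn
      have h1 : g * n * g⁻¹ = n := by
        rw [Subgroup.mem_center_iff] at hnc
        rw [hnc g]
        group
      rw [h1]
      exact hn
    refine ⟨(Subgroup.zpowers z).comap (QuotientGroup.mk' F), hZn.comap _, ?_, ?_⟩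
    · intro x hx
      have hx' : QuotientGroup.mk' F x ∈ D.map (QuotientGroup.mk' F) :=
        (Subgroup.zpowers_le.mpr hzD) hx
      obtain ⟨d, hd, hdx⟩ := hx'
      have h1 : d⁻¹ * x ∈ F := QuotientGroup.eq.mp hdx
      have h2 : x = d * (d⁻¹ * x) := by group
      rw [h2]
      exact D.mul_mem hd (hFD h1)
    · have h1 := Subgroup.card_mul_index ((Subgroup.zpowers z).comap (QuotientGroup.mk' F))
      rw [Subgroup.index_comap_of_surjective _ (QuotientGroup.mk'_surjective F)] at h1
      have h2 := Subgroup.card_mul_index (Subgroup.zpowers z)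
      have h3 : Nat.card R = Nat.card (R ⧸ F) * Nat.card F :=
        Subgroup.card_eq_card_quotient_mul_card_subgroup F
      have h4 : Nat.card (Subgroup.zpowers z) = p := by rw [Nat.card_zpowers, hzo]
      have hidx : 0 < (Subgroup.zpowers z).index :=
        Nat.pos_of_ne_zero Subgroup.index_ne_zero_of_finite
      have h5 : Nat.card ↥((Subgroup.zpowers z).comap (QuotientGroup.mk' F)) *
          (Subgroup.zpowers z).index = p ^ (k + 1) * (Subgroup.zpowers z).index := by
        rw [h1, h3, ← h2, h4, hFc]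
        ring
      exact Nat.eq_of_mul_eq_mul_right hidx h5

/-- The image in `G` of a normal subgroup `K` of a subgroup `H` is normalized by `H`. -/
theorem fqa_le_normalizer_map_subtype {G : Type*} [Group G] (H : Subgroup G) (K : Subgroup ↥H)
    (hK : K.Normal) :
    H ≤ Subgroup.normalizer ((K.map H.subtype : Subgroup G) : Set G) := by
  have h1 := Subgroup.le_normalizer_map (H := K) H.subtype
  rw [Subgroup.normalizer_eq_top_iff.mpr hK, ← MonoidHom.range_eq_map, Subgroup.range_subtype]
    at h1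
  exact h1

/-- **S4404, piece A.**  In a finite group of `3`-rank at least `3`, every `3`-subgroup `Q`
normalizes an elementary abelian subgroup of order `27`. -/
theorem exists_invariant_27 {S : Type*} [Group S] [Finite S] (Q : Subgroup S)
    (hQ3 : IsPGroup 3 ↥Q) (h3 : ¬ Cfsg.PRankLE 3 2 S) :
    ∃ F : Subgroup S, Cfsg.IsElementaryAbelian 3 F ∧ Nat.card ↥F = 27 ∧
      Q ≤ Subgroup.normalizer (F : Set S) := by
  have : Fact (Nat.Prime 3) := ⟨by norm_num⟩
  obtain ⟨Y, hQY⟩ := hQ3.exists_le_sylow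
  -- an elementary abelian subgroup of order `> 9`, moved into `Y`
  unfold Cfsg.PRankLE at h3
  push Not at h3
  obtain ⟨A, hAc, hAe, hAcard⟩ := h3
  have hA3 : IsPGroup 3 ↥A := by
    intro a
    refine ⟨1, ?_⟩
    apply Subtype.ext
    rw [pow_one, Subgroup.coe_pow, Subgroup.coe_one]
    exact hAe a a.2
  obtain ⟨Y', hAY'⟩ := hA3.exists_le_sylow
  obtain ⟨g, hg⟩ := MulAction.exists_smul_eq S Y' Y
  have hAY : A.map (MulAut.conj g).toMonoidHom ≤ (Y : Subgroup S) := by
    rintro _ ⟨a, ha, rfl⟩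
    have h1 : (MulAut.conj g) a ∈ ((g • Y' : Sylow 3 S) : Subgroup S) := by
      rw [Sylow.coe_subgroup_smul]
      exact Subgroup.smul_mem_pointwise_smul a (MulAut.conj g) (Y' : Subgroup S) (hAY' ha)
    rw [hg] at h1
    exact h1
  have hrY : ¬ Cfsg.PRankLE 3 2 ↥(Y : Subgroup S) := by
    intro h
    have h1 := h ((A.map (MulAut.conj g).toMonoidHom).subgroupOf (Y : Subgroup S)) ?_ ?_
    · have h2 : Nat.card ↥((A.map (MulAut.conj g).toMonoidHom).subgroupOf (Y : Subgroup S)) =
          Nat.card ↥A := by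
        rw [Nat.card_congr (Subgroup.subgroupOfEquivOfLe hAY).toEquiv,
          Subgroup.card_map_of_injective (MulAut.conj g).injective]
      rw [h2] at h1
      omega
    · refine ⟨⟨?_⟩⟩
      rintro ⟨x, hx⟩ ⟨y, hy⟩
      obtain ⟨a, ha, hax⟩ := Subgroup.mem_subgroupOf.mp hx
      obtain ⟨b, hb, hby⟩ := Subgroup.mem_subgroupOf.mp hy
      apply Subtype.ext
      apply Subtype.ext
      show (x : S) * (y : S) = (y : S) * (x : S)
      rw [← hax, ← hby, ← map_mul, ← map_mul]
      congr 1
      exact congrArg Subtype.val (hAc.is_comm.comm ⟨a, ha⟩ ⟨b, hb⟩)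
    · intro x hx
      obtain ⟨a, ha, hax⟩ := Subgroup.mem_subgroupOf.mp hx
      apply Subtype.ext
      rw [Subgroup.coe_pow, Subgroup.coe_one, ← hax, ← map_pow, hAe a ha, map_one]
  obtain ⟨D, -, hDn, hDab, hDexp, -, hDcard⟩ :=
    Cfsg.Agent.Lib.helper30.exists_max_normal_elemAb_large (R := ↥(Y : Subgroup S)) 3 (by norm_num)
      Y.2 hrY ⊥ inferInstance
      (fun x hx y hy => by rw [Subgroup.mem_bot.mp hx, Subgroup.mem_bot.mp hy])
      (fun x hx => by rw [Subgroup.mem_bot.mp hx, one_pow])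
  have h27 : 3 ^ 3 ≤ Nat.card ↥D := by
    obtain ⟨n, hn⟩ := (Y.2.to_subgroup D).exists_card_eq
    rw [hn] at hDcard ⊢
    have h2 : 2 < n := (Nat.pow_lt_pow_iff_right (by norm_num)).mp hDcard
    exact Nat.pow_le_pow_right (by norm_num) h2
  obtain ⟨F₀, hF₀n, hF₀D, hF₀c⟩ := fqa_exists_normal_card 3 Y.2 D hDn 3 h27
  refine ⟨F₀.map (Y : Subgroup S).subtype, ⟨⟨⟨?_⟩⟩, ?_⟩, ?_, ?_⟩
  · rintro ⟨_, x, hx, rfl⟩ ⟨_, y, hy, rfl⟩
    apply Subtype.ext
    show (Y : Subgroup S).subtype x * (Y : Subgroup S).subtype y =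
      (Y : Subgroup S).subtype y * (Y : Subgroup S).subtype x
    rw [← map_mul, ← map_mul, hDab x (hF₀D hx) y (hF₀D hy)]
  · rintro _ ⟨x, hx, rfl⟩
    rw [← map_pow, hDexp x (hF₀D hx), map_one]
  · rw [Subgroup.card_map_of_injective (Y : Subgroup S).subtype_injective, hF₀c]
    norm_num
  · exact hQY.trans (fqa_le_normalizer_map_subtype (Y : Subgroup S) F₀ hF₀n)

end Cfsg.Agent.Lib.helper46
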