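import Cfsg.Agent.Lib.helper3.GfHeis

/-!
# S4395, EXB sub-split, piece HCOV2: `HP` is a `p`-group and `p`-th powers land in `HN`
-/

set_option autoImplicit false

namespace Cfsg.Agent.Lib.helper3.Gf

universe u

open HG

section
variable {n : ℕ} [NeZero n] {L : Type u} [Field L] {σ : L →+* L} {lam : L} [h : HData n L σ lam]

theorem helper46_HP_pow (u : HG n L σ lam) (hu : u.k = 0) (m : ℕ) :
    (u ^ m).x = m * u.x ∧ (u ^ m).k = 0 := by
  induction m with
  | zero => simp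
  | succ m ih =>
    rw [pow_succ]
    refine ⟨?_, ?_⟩
    · rw [mul_x, ih.1, ih.2, pw_zero]
      push_cast
      ring
    · rw [mul_k, ih.2, hu, add_zero]

theorem helper46_HN_pow (w : HG n L σ lam) (hw : w.x = 0 ∧ w.k = 0) (m : ℕ) :
    (w ^ m).z = m * w.z := by
  induction m with
  | zero => simp
  | succ m ih =>
    rw [pow_succ, mul_z, ih, (helper46_HP_pow w hw.2 m).1, hw.1]
    push_cast
    ring

/-- HCOV2 (M) : `P` is a `p`-group, `p`-th powers land in `N`. -/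
theorem hcov2 (p : ℕ) [Fact p.Prime] [CharP L p] :
    IsPGroup p ↥(HP : Subgroup (HG n L σ lam)) ∧
    ∀ u ∈ (HP : Subgroup (HG n L σ lam)), u ^ p ∈ (HN : Subgroup (HG n L σ lam)) := by
  have hpow : ∀ u ∈ (HP : Subgroup (HG n L σ lam)), u ^ p ∈ (HN : Subgroup (HG n L σ lam)) := by
    intro u hu
    rw [mem_HP] at hu
    rw [mem_HN]
    obtain ⟨h1, h2⟩ := helper46_HP_pow u hu p
    exact ⟨by rw [h1, CharP.cast_eq_zero, zero_mul], h2⟩
  refine ⟨?_, hpow⟩
  intro g
  refine ⟨2, ?_⟩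
  apply Subtype.ext
  rw [Subgroup.coe_pow, Subgroup.coe_one, pow_two, pow_mul]
  have hw := hpow g.1 g.2
  rw [mem_HN] at hw
  ext
  · rw [(helper46_HP_pow _ hw.2 p).1, hw.1, mul_zero, one_x]
  · rw [helper46_HN_pow _ hw p, CharP.cast_eq_zero, zero_mul, one_z]
  · rw [(helper46_HP_pow _ hw.2 p).2, one_k]

end

end Cfsg.Agent.Lib.helper3.Gf
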