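import Cfsg.Agent.Lib.helper3.GfHeis

/-!
# S4395, EXB sub-split, piece HFC (racer copy): trace facts in a field with `m * m` elements
-/

set_option autoImplicit false

namespace Cfsg.Agent.Lib.helper3.Gf

universe u

theorem helper46_roots_card_le {L : Type*} [Field L] [Fintype L] [DecidableEq L]
    (P : Polynomial L) (hP : P ≠ 0) (m : ℕ) (hm : P.natDegree ≤ m) :
    (Finset.univ.filter (fun z : L => P.eval z = 0)).card ≤ m := by
  have hsub : Finset.univ.filter (fun z : L => P.eval z = 0) ⊆ P.roots.toFinset := by
    intro z hz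
    rw [Finset.mem_filter] at hz
    rw [Multiset.mem_toFinset, Polynomial.mem_roots hP]
    exact hz.2
  calc (Finset.univ.filter (fun z : L => P.eval z = 0)).card
      ≤ P.roots.toFinset.card := Finset.card_le_card hsub
    _ ≤ Multiset.card P.roots := Multiset.toFinset_card_le _
    _ ≤ P.natDegree := Polynomial.card_roots' P
    _ ≤ m := hm

/-- fibres of a map compatible with subtraction are no larger than the kernel -/
theorem helper46_fib_le {L : Type*} [AddGroup L] [Fintype L] [DecidableEq L] (f : L → L)
    (hf : ∀ a b, f (a - b) = f a - f b) (c : L) :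
    (Finset.univ.filter (fun x : L => f x = c)).card
      ≤ (Finset.univ.filter (fun x : L => f x = 0)).card := by
  by_cases hne : (Finset.univ.filter (fun x : L => f x = c)).Nonempty
  · obtain ⟨x₀, hx₀⟩ := hne
    rw [Finset.mem_filter] at hx₀
    apply Finset.card_le_card_of_injOn (fun x => x - x₀)
    · intro x hx
      have hx' : f x = c := (Finset.mem_filter.1 hx).2
      simp only [Finset.coe_filter, Finset.mem_univ, true_and, Set.mem_ofPred_eq]
      rw [hf, hx', hx₀.2, sub_self]
    · intro x _ y _ hxy
      exact sub_left_injective hxy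
  · rw [Finset.not_nonempty_iff_eq_empty] at hne
    rw [hne, Finset.card_empty]
    exact Nat.zero_le _

/-- HFC (racer copy) : trace facts in a field with `m^2` elements, `σ x = x^m`. -/
theorem helper46_hfc (L : Type u) [Field L] [Finite L] (m : ℕ) (hm : Nat.card L = m * m)
    (σ : L →+* L) (hσ : ∀ x, σ x = x ^ m) :
    (∀ x : L, ∃ z, z + σ z = x * σ x) ∧ (∀ z : L, z + σ z = 0 → ∃ x, x - σ x = z) ∧
    Nat.card {z : L // z + σ z = 0} = m := by
  classical
  have : Fintype L := Fintype.ofFinite L
  have hcardF : Fintype.card L = m * m := by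
    rw [← Nat.card_eq_fintype_card]
    exact hm
  have hm2 : 2 ≤ m := by
    have h1 : 1 < Fintype.card L := Fintype.one_lt_card
    rw [hcardF] at h1
    by_contra hlt
    push Not at hlt
    interval_cases m <;> simp at h1
  have hinv : ∀ x : L, σ (σ x) = x := by
    intro x
    rw [hσ, hσ, ← pow_mul, ← hcardF, FiniteField.pow_card]
  -- the two kernels
  have hKp_le : (Finset.univ.filter (fun z : L => z + σ z = 0)).card ≤ m := by
    have hdeg : (Polynomial.X ^ m + Polynomial.X : Polynomial L).natDegree = m := by
      rw [Polynomial.natDegree_add_eq_left_of_natDegree_lt, Polynomial.natDegree_X_pow]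
      rw [Polynomial.natDegree_X_pow, Polynomial.natDegree_X]
      omega
    have hne : (Polynomial.X ^ m + Polynomial.X : Polynomial L) ≠ 0 :=
      Polynomial.ne_zero_of_natDegree_gt (n := 1) (by rw [hdeg]; omega)
    refine le_trans (Finset.card_le_card ?_) (helper46_roots_card_le _ hne m hdeg.le)
    intro z hz
    rw [Finset.mem_filter] at hz ⊢
    refine ⟨Finset.mem_univ _, ?_⟩
    have h1 := hz.2
    rw [hσ] at h1
    simp only [Polynomial.eval_add, Polynomial.eval_pow, Polynomial.eval_X]
    rw [add_comm]
    exact h1
  have hKm_le : (Finset.univ.filter (fun x : L => x - σ x = 0)).card ≤ m := by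
    have hdeg : (Polynomial.X ^ m - Polynomial.X : Polynomial L).natDegree = m :=
      FiniteField.X_pow_card_sub_X_natDegree_eq L (by omega)
    have hne : (Polynomial.X ^ m - Polynomial.X : Polynomial L) ≠ 0 :=
      FiniteField.X_pow_card_sub_X_ne_zero L (by omega)
    refine le_trans (Finset.card_le_card ?_) (helper46_roots_card_le _ hne m hdeg.le)
    intro z hz
    rw [Finset.mem_filter] at hz ⊢
    refine ⟨Finset.mem_univ _, ?_⟩
    have h1 := hz.2
    rw [hσ] at h1
    simp only [Polynomial.eval_sub, Polynomial.eval_pow, Polynomial.eval_X]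
    linear_combination (-1 : L) * h1
  -- the maps
  have hdsub : ∀ a b : L, (a - b) - σ (a - b) = (a - σ a) - (b - σ b) := by
    intro a b
    rw [map_sub]
    ring
  have htsub : ∀ a b : L, (a - b) + σ (a - b) = (a + σ a) - (b + σ b) := by
    intro a b
    rw [map_sub]
    ring
  have hmpos : 0 < m := by omega
  -- image of d
  have hd_sub : (Finset.univ.image (fun x : L => x - σ x))
      ⊆ Finset.univ.filter (fun z : L => z + σ z = 0) := by
    intro z hz
    rw [Finset.mem_image] at hz
    obtain ⟨x, -, rfl⟩ := hz
    rw [Finset.mem_filter]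
    refine ⟨Finset.mem_univ _, ?_⟩
    rw [map_sub, hinv]
    ring
  have hd_card : m ≤ (Finset.univ.image (fun x : L => x - σ x)).card := by
    have h1 := Finset.card_le_mul_card_image (f := fun x : L => x - σ x) Finset.univ
      (Finset.univ.filter (fun x : L => x - σ x = 0)).card
      (fun c _ => helper46_fib_le (fun x : L => x - σ x) hdsub c)
    rw [Finset.card_univ, hcardF] at h1
    have h2 : m * m ≤ m * (Finset.univ.image (fun x : L => x - σ x)).card :=
      le_trans h1 (Nat.mul_le_mul_right _ hKm_le)
    exact Nat.le_of_mul_le_mul_left h2 hmpos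
  have hKp_card : (Finset.univ.filter (fun z : L => z + σ z = 0)).card = m :=
    le_antisymm hKp_le (le_trans hd_card (Finset.card_le_card hd_sub))
  have hd_eq : (Finset.univ.image (fun x : L => x - σ x))
      = Finset.univ.filter (fun z : L => z + σ z = 0) :=
    Finset.eq_of_subset_of_card_le hd_sub (by rw [hKp_card]; exact hd_card)
  -- image of tr
  have ht_sub : (Finset.univ.image (fun z : L => z + σ z))
      ⊆ Finset.univ.filter (fun x : L => x - σ x = 0) := by
    intro x hx
    rw [Finset.mem_image] at hx
    obtain ⟨z, -, rfl⟩ := hx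
    rw [Finset.mem_filter]
    refine ⟨Finset.mem_univ _, ?_⟩
    rw [map_add, hinv]
    ring
  have ht_card : m ≤ (Finset.univ.image (fun z : L => z + σ z)).card := by
    have h1 := Finset.card_le_mul_card_image (f := fun z : L => z + σ z) Finset.univ
      (Finset.univ.filter (fun z : L => z + σ z = 0)).card
      (fun c _ => helper46_fib_le (fun z : L => z + σ z) htsub c)
    rw [Finset.card_univ, hcardF, hKp_card] at h1
    exact Nat.le_of_mul_le_mul_left h1 hmpos
  have ht_eq : (Finset.univ.image (fun z : L => z + σ z))
      = Finset.univ.filter (fun x : L => x - σ x = 0) :=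
    Finset.eq_of_subset_of_card_le ht_sub (le_trans hKm_le ht_card)
  refine ⟨?_, ?_, ?_⟩
  · intro x
    have hx : x * σ x ∈ Finset.univ.filter (fun x : L => x - σ x = 0) := by
      rw [Finset.mem_filter]
      refine ⟨Finset.mem_univ _, ?_⟩
      rw [map_mul, hinv]
      ring
    rw [← ht_eq, Finset.mem_image] at hx
    obtain ⟨z, -, hz⟩ := hx
    exact ⟨z, hz⟩
  · intro z hz
    have hz' : z ∈ Finset.univ.filter (fun z : L => z + σ z = 0) := by
      rw [Finset.mem_filter]
      exact ⟨Finset.mem_univ _, hz⟩
    rw [← hd_eq, Finset.mem_image] at hz'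
    obtain ⟨x, -, hx⟩ := hz'
    exact ⟨x, hx⟩
  · rw [Nat.card_eq_fintype_card, Fintype.card_subtype]
    exact hKp_card

end Cfsg.Agent.Lib.helper3.Gf
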