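import Mathlib
import Cfsg.Agent.Lib.helper46.SL2
import Cfsg.Agent.Lib.helper46.SL2Tori
import Cfsg.Agent.Lib.helper46.SL2NonSplit

/-!
# Companion forms and products of conjugates in `SL₂(F)` (helper46)
-/

set_option autoImplicit false
set_option linter.unusedTactic false
set_option linter.unreachableTactic false
set_option linter.unnecessarySeqFocus false

namespace Cfsg.Agent.Lib.helper46

open Matrix

section Companion

variable {F : Type*} [Field F]

/-- A non-central element of `SL₂(F)` is conjugate in `SL₂(F)` to a companion-type matrix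
`!![0, -c; d, τ]` with `c d = 1`. -/
theorem exists_companion (G : Matrix.SpecialLinearGroup (Fin 2) F)
    (hG : G ∉ Subgroup.center (Matrix.SpecialLinearGroup (Fin 2) F)) :
    ∃ (Q : Matrix.SpecialLinearGroup (Fin 2) F) (c d : F), c * d = 1 ∧
      (G : Matrix (Fin 2) (Fin 2) F) * (Q : Matrix (Fin 2) (Fin 2) F)
        = (Q : Matrix (Fin 2) (Fin 2) F) * !![0, -c; d, (G : Matrix (Fin 2) (Fin 2) F) 0 0
          + (G : Matrix (Fin 2) (Fin 2) F) 1 1] := by
  have hdet := G.det_coe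
  rw [Matrix.det_fin_two] at hdet
  have hGm := Matrix.eta_fin_two (G : Matrix (Fin 2) (Fin 2) F)
  generalize (G : Matrix (Fin 2) (Fin 2) F) 0 0 = p at hdet hGm ⊢
  generalize (G : Matrix (Fin 2) (Fin 2) F) 0 1 = r at hdet hGm ⊢
  generalize (G : Matrix (Fin 2) (Fin 2) F) 1 0 = s at hdet hGm ⊢
  generalize (G : Matrix (Fin 2) (Fin 2) F) 1 1 = u at hdet hGm ⊢
  rw [hGm]
  by_cases hs : s = 0
  · by_cases hr : r = 0
    · have hpu : u - p ≠ 0 := by
        intro h
        apply hG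
        rw [mem_center_iff_smul]
        have hup : u = p := sub_eq_zero.mp h
        refine ⟨p, ?_, ?_⟩
        · rw [hs, hr, hup] at hdet
          linear_combination hdet
        · rw [hGm, hs, hr, hup]
          ext i j
          fin_cases i <;> fin_cases j <;> simp
      refine ⟨mkSL 1 (p / (u - p)) 1 (u / (u - p)) (by field_simp), 1 / (u - p), u - p,
        by field_simp, ?_⟩
      rw [mkSL_coe, hs, hr, Matrix.mul_fin_two, Matrix.mul_fin_two]
      rw [hs, hr] at hdet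
      congr 1
      ext i j
      fin_cases i <;> fin_cases j <;> simp <;> (try field_simp) <;>
        first | ring1 | linear_combination hdet | linear_combination (-1 : F) * hdet
    · refine ⟨mkSL 0 (-1) 1 (-u / r) (by ring), -1 / r, -r, by field_simp, ?_⟩
      rw [mkSL_coe, Matrix.mul_fin_two, Matrix.mul_fin_two]
      congr 1
      ext i j
      fin_cases i <;> fin_cases j <;> simp <;> (try field_simp) <;>
        first | ring1 | linear_combination hdet | linear_combination (-1 : F) * hdet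
  · refine ⟨mkSL 1 (p / s) 0 1 (by ring), 1 / s, s, by field_simp, ?_⟩
    rw [mkSL_coe, Matrix.mul_fin_two, Matrix.mul_fin_two]
    congr 1
    ext i j
    fin_cases i <;> fin_cases j <;> simp <;> (try field_simp) <;>
        first | ring1 | linear_combination hdet | linear_combination (-1 : F) * hdet

/-- The companion matrix `!![0, -c; d, τ]` (`c d = 1`), for `τ = l + l⁻¹` with `l² ≠ 1`, is
diagonalizable by an element of `SL₂(F)`. -/
theorem companion_diag (c d τ l : F) (hcd : c * d = 1) (hl : l ^ 2 - τ * l + 1 = 0)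
    (hl2 : l ^ 2 ≠ 1) :
    ∃ P : Matrix.SpecialLinearGroup (Fin 2) F,
      (!![0, -c; d, τ] : Matrix (Fin 2) (Fin 2) F) * (P : Matrix (Fin 2) (Fin 2) F)
        = (P : Matrix (Fin 2) (Fin 2) F) * !![l, 0; 0, τ - l] := by
  have hd : d ≠ 0 := by
    rintro rfl
    simp at hcd
  have h2l : 2 * l - τ ≠ 0 := by
    intro h
    apply hl2
    linear_combination (-1 : F) * hl + l * h
  obtain ⟨s, hs⟩ : ∃ s : F, s * (d * (2 * l - τ)) = 1 :=
    ⟨(d * (2 * l - τ))⁻¹, inv_mul_cancel₀ (mul_ne_zero hd h2l)⟩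
  refine ⟨mkSL 1 s (-(d * l)) (-(d * (τ - l)) * s) (by linear_combination hs), ?_⟩
  rw [mkSL_coe, Matrix.mul_fin_two, Matrix.mul_fin_two]
  have e00 : (0 : F) * 1 + -c * -(d * l) = 1 * l + s * 0 := by linear_combination l * hcd
  have e01 : (0 : F) * s + -c * (-(d * (τ - l)) * s) = 1 * 0 + s * (τ - l) := by
    linear_combination ((τ - l) * s) * hcd
  have e10 : d * 1 + τ * -(d * l) = -(d * l) * l + -(d * (τ - l)) * s * 0 := by
    linear_combination d * hl
  have e11 : d * s + τ * (-(d * (τ - l)) * s) = -(d * l) * 0 + -(d * (τ - l)) * s * (τ - l) := by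
    linear_combination (d * s) * hl
  rw [e00, e01, e10, e11]

/-- An element of `SL₂(F)` whose characteristic polynomial has distinct roots `l, τ - l` in `F`
is diagonalizable by an element of `SL₂(F)`. -/
theorem exists_diag_conj (X : Matrix.SpecialLinearGroup (Fin 2) F) (l : F)
    (hl : l ^ 2 - ((X : Matrix (Fin 2) (Fin 2) F) 0 0 + (X : Matrix (Fin 2) (Fin 2) F) 1 1) * l
      + 1 = 0) (hl2 : l ^ 2 ≠ 1) :
    ∃ R : Matrix.SpecialLinearGroup (Fin 2) F,
      (X : Matrix (Fin 2) (Fin 2) F) * (R : Matrix (Fin 2) (Fin 2) F)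
        = (R : Matrix (Fin 2) (Fin 2) F) * !![l, 0; 0, (X : Matrix (Fin 2) (Fin 2) F) 0 0
          + (X : Matrix (Fin 2) (Fin 2) F) 1 1 - l] := by
  have hX : X ∉ Subgroup.center (Matrix.SpecialLinearGroup (Fin 2) F) := by
    intro hc
    rw [mem_center_iff_smul] at hc
    obtain ⟨a, ha, hXa⟩ := hc
    apply hl2
    have h00 : (X : Matrix (Fin 2) (Fin 2) F) 0 0 = a := by rw [hXa]; simp
    have h11 : (X : Matrix (Fin 2) (Fin 2) F) 1 1 = a := by rw [hXa]; simp
    rw [h00, h11] at hl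
    have h0 : (l - a) ^ 2 = 0 := by linear_combination hl + ha
    have hla : l = a := sub_eq_zero.mp (pow_eq_zero_iff (two_ne_zero) |>.mp h0)
    rw [hla]
    exact ha
  obtain ⟨Q, c, d, hcd, hQ⟩ := exists_companion X hX
  obtain ⟨P, hP⟩ := companion_diag c d _ l hcd hl hl2
  refine ⟨Q * P, ?_⟩
  rw [Matrix.SpecialLinearGroup.coe_mul, ← mul_assoc, hQ, mul_assoc, hP, mul_assoc]

/-- Two elements of `SL₂(F)` with the same trace `τ = l + l⁻¹`, `l ∈ F`, `l² ≠ 1`, are conjugate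
in `SL₂(F)`. -/
theorem conj_of_trace_eq_split (X Y : Matrix.SpecialLinearGroup (Fin 2) F)
    (htr : (X : Matrix (Fin 2) (Fin 2) F) 0 0 + (X : Matrix (Fin 2) (Fin 2) F) 1 1
      = (Y : Matrix (Fin 2) (Fin 2) F) 0 0 + (Y : Matrix (Fin 2) (Fin 2) F) 1 1) (l : F)
    (hl : l ^ 2 - ((X : Matrix (Fin 2) (Fin 2) F) 0 0 + (X : Matrix (Fin 2) (Fin 2) F) 1 1) * l
      + 1 = 0) (hl2 : l ^ 2 ≠ 1) :
    ∃ h : Matrix.SpecialLinearGroup (Fin 2) F, h * X * h⁻¹ = Y := by
  obtain ⟨R₁, hR₁⟩ := exists_diag_conj X l hl hl2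
  obtain ⟨R₂, hR₂⟩ := exists_diag_conj Y l (by rw [← htr]; exact hl) hl2
  rw [← htr] at hR₂
  have e1 : X * R₁ = R₁ * mkSL l 0 0 ((X : Matrix (Fin 2) (Fin 2) F) 0 0
      + (X : Matrix (Fin 2) (Fin 2) F) 1 1 - l) (by linear_combination (-1 : F) * hl) := by
    apply Subtype.ext
    rw [Matrix.SpecialLinearGroup.coe_mul, Matrix.SpecialLinearGroup.coe_mul, mkSL_coe]
    exact hR₁
  have e2 : Y * R₂ = R₂ * mkSL l 0 0 ((X : Matrix (Fin 2) (Fin 2) F) 0 0
      + (X : Matrix (Fin 2) (Fin 2) F) 1 1 - l) (by linear_combination (-1 : F) * hl) := by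
    apply Subtype.ext
    rw [Matrix.SpecialLinearGroup.coe_mul, Matrix.SpecialLinearGroup.coe_mul, mkSL_coe]
    exact hR₂
  refine ⟨R₂ * R₁⁻¹, ?_⟩
  rw [eq_mul_inv_of_mul_eq e1, eq_mul_inv_of_mul_eq e2]
  group

/-- If `G` is conjugate to `C = Y Z` with `Y, Z` conjugates of `X`, then `G` is a product of two
conjugates of `X`. -/
theorem prod_of_conj_companion (X G Q C Y Z : Matrix.SpecialLinearGroup (Fin 2) F)
    (hGQ : G * Q = Q * C) (hC : C = Y * Z)
    (hY : ∃ h : Matrix.SpecialLinearGroup (Fin 2) F, h * X * h⁻¹ = Y)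
    (hZ : ∃ h : Matrix.SpecialLinearGroup (Fin 2) F, h * X * h⁻¹ = Z) :
    ∃ h₁ h₂ : Matrix.SpecialLinearGroup (Fin 2) F, G = (h₁ * X * h₁⁻¹) * (h₂ * X * h₂⁻¹) := by
  obtain ⟨a, rfl⟩ := hY
  obtain ⟨b, rfl⟩ := hZ
  refine ⟨Q * a, Q * b, ?_⟩
  rw [eq_mul_inv_of_mul_eq hGQ, hC]
  group

/-- If `X` has distinct eigenvalues in `F`, every non-central element of `SL₂(F)` is a product of
two conjugates of `X`. -/
theorem prod_of_split (X G : Matrix.SpecialLinearGroup (Fin 2) F)
    (hG : G ∉ Subgroup.center (Matrix.SpecialLinearGroup (Fin 2) F)) (l : F)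
    (hl : l ^ 2 - ((X : Matrix (Fin 2) (Fin 2) F) 0 0 + (X : Matrix (Fin 2) (Fin 2) F) 1 1) * l
      + 1 = 0) (hl2 : l ^ 2 ≠ 1) :
    ∃ h₁ h₂ : Matrix.SpecialLinearGroup (Fin 2) F, G = (h₁ * X * h₁⁻¹) * (h₂ * X * h₂⁻¹) := by
  obtain ⟨Q, c, d, hcd, hQ⟩ := exists_companion G hG
  generalize hτ : (X : Matrix (Fin 2) (Fin 2) F) 0 0 + (X : Matrix (Fin 2) (Fin 2) F) 1 1 = τ
    at hl
  generalize (G : Matrix (Fin 2) (Fin 2) F) 0 0 + (G : Matrix (Fin 2) (Fin 2) F) 1 1 = σ at hQ
  have hlτ : l * (τ - l) = 1 := by linear_combination (-1 : F) * hl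
  have hGQ : G * Q = Q * mkSL 0 (-c) d σ (by linear_combination hcd) := by
    apply Subtype.ext
    rw [Matrix.SpecialLinearGroup.coe_mul, Matrix.SpecialLinearGroup.coe_mul, mkSL_coe]
    exact hQ
  have hC : mkSL 0 (-c) d σ (by linear_combination hcd)
      = mkSL 0 (-(l * c)) (d * (τ - l)) τ (by linear_combination (c * d) * hlτ + hcd)
        * mkSL l ((l * σ - τ) * c) 0 (τ - l) (by linear_combination hlτ) := by
    apply Subtype.ext
    rw [Matrix.SpecialLinearGroup.coe_mul, mkSL_coe, mkSL_coe, mkSL_coe, Matrix.mul_fin_two]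
    congr 1
    ext i j
    fin_cases i <;> fin_cases j <;> simp
    · linear_combination (-c) * hlτ
    · linear_combination (-d) * hlτ
    · linear_combination (-σ) * hlτ + (-(τ - l) * (l * σ - τ)) * hcd
  refine prod_of_conj_companion X G Q _ _ _ hGQ hC ?_ ?_
  · apply conj_of_trace_eq_split X _ ?_ l (by rw [hτ]; exact hl) hl2
    rw [hτ, mkSL_coe]
    simp
  · apply conj_of_trace_eq_split X _ ?_ l (by rw [hτ]; exact hl) hl2
    rw [hτ, mkSL_coe]
    simp

end Companion

section NonSplitProd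

variable {F : Type*} [Field F] [Fintype F]

/-- If `X` (of non-zero trace, `q` odd) has no eigenvalue in `F`, every non-central element of
`SL₂(F)` of trace `≠ 2` is a product of two conjugates of `X`. -/
theorem prod_of_nonsplit (hodd : Odd (Fintype.card F))
    (X G : Matrix.SpecialLinearGroup (Fin 2) F)
    (hG : G ∉ Subgroup.center (Matrix.SpecialLinearGroup (Fin 2) F))
    (hτ : (X : Matrix (Fin 2) (Fin 2) F) 0 0 + (X : Matrix (Fin 2) (Fin 2) F) 1 1 ≠ 0)
    (hno : ∀ x : F, x ^ 2 - ((X : Matrix (Fin 2) (Fin 2) F) 0 0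
      + (X : Matrix (Fin 2) (Fin 2) F) 1 1) * x + 1 ≠ 0)
    (hσ : (G : Matrix (Fin 2) (Fin 2) F) 0 0 + (G : Matrix (Fin 2) (Fin 2) F) 1 1 ≠ 2) :
    ∃ h₁ h₂ : Matrix.SpecialLinearGroup (Fin 2) F, G = (h₁ * X * h₁⁻¹) * (h₂ * X * h₂⁻¹) := by
  have h2 : (2 : F) ≠ 0 := two_ne_zero_of_odd_card hodd
  obtain ⟨Q, c, d, hcd, hQ⟩ := exists_companion G hG
  generalize hτ' : (X : Matrix (Fin 2) (Fin 2) F) 0 0 + (X : Matrix (Fin 2) (Fin 2) F) 1 1 = τ
    at hτ hno
  generalize (G : Matrix (Fin 2) (Fin 2) F) 0 0 + (G : Matrix (Fin 2) (Fin 2) F) 1 1 = σ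
    at hQ hσ
  -- a point on the conic
  obtain ⟨y, z, hconic⟩ : ∃ y z : F, y ^ 2 - σ * y * z + z ^ 2 - τ * (y - z) + 1 = 0 := by
    by_cases hσ2 : σ = -2
    · refine ⟨1 / (2 * τ), -1 / (2 * τ), ?_⟩
      rw [hσ2]
      field_simp
      ring
    · have hu : 2 - σ ≠ 0 := fun h => hσ (by linear_combination (-1 : F) * h)
      have hv : 2 + σ ≠ 0 := fun h => hσ2 (by linear_combination h)
      obtain ⟨m, s', hms⟩ :=
        exists_quadratic_sol hodd (2 - σ) (2 + σ) (4 * τ ^ 2 / (2 + σ) - 4) hu hv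
      refine ⟨(m + (s' + 2 * τ / (2 + σ))) / 2, (m - (s' + 2 * τ / (2 + σ))) / 2, ?_⟩
      field_simp
      field_simp at hms
      linear_combination (2 + σ) * hms
  have hGQ : G * Q = Q * mkSL 0 (-c) d σ (by linear_combination hcd) := by
    apply Subtype.ext
    rw [Matrix.SpecialLinearGroup.coe_mul, Matrix.SpecialLinearGroup.coe_mul, mkSL_coe]
    exact hQ
  have hYdet : y * (τ - y) - (z * c) * (d * (τ - σ * y + z)) = 1 := by
    linear_combination (-1 : F) * hconic + (-(z * (τ - σ * y + z))) * hcd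
  obtain ⟨Y, hY⟩ : ∃ Y : Matrix.SpecialLinearGroup (Fin 2) F,
      (Y : Matrix (Fin 2) (Fin 2) F) = !![y, z * c; d * (τ - σ * y + z), τ - y] :=
    ⟨mkSL _ _ _ _ hYdet, rfl⟩
  refine prod_of_conj_companion X G Q _ Y (Y⁻¹ * mkSL 0 (-c) d σ (by linear_combination hcd))
    hGQ (by group) ?_ ?_
  · apply conj_of_trace_eq_noroot hodd X Y ?_ (by rw [hτ']; exact hno)
    rw [hτ', hY]
    simp
  · apply conj_of_trace_eq_noroot hodd X _ ?_ (by rw [hτ']; exact hno)
    rw [hτ', Matrix.SpecialLinearGroup.coe_mul, Matrix.SpecialLinearGroup.coe_inv, hY,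
      Matrix.adjugate_fin_two_of, mkSL_coe, Matrix.mul_fin_two]
    simp
    linear_combination (-(τ - σ * y)) * hcd

/-- Eigenvalue data for an element of `SL₂(F)` without eigenvalues in `F`: a root `α` of the
characteristic polynomial in the algebraic closure, with `α ∉ F` and `α ^ (q + 1) = 1`. -/
theorem noroot_eigen_data (τ : F) (hno : ∀ x : F, x ^ 2 - τ * x + 1 ≠ 0) :
    ∃ α : AlgebraicClosure F, α ≠ 0 ∧ α ∉ Set.range (algebraMap F (AlgebraicClosure F)) ∧
      algebraMap F (AlgebraicClosure F) τ = α + α⁻¹ ∧ α ^ (Fintype.card F + 1) = 1 := by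
  have hdeg : (Polynomial.C (1 : AlgebraicClosure F) * Polynomial.X ^ 2
      + Polynomial.C (-(algebraMap F (AlgebraicClosure F) τ)) * Polynomial.X
      + Polynomial.C (1 : AlgebraicClosure F)).degree ≠ 0 := by
    rw [Polynomial.degree_quadratic one_ne_zero]
    norm_num
  obtain ⟨α, hα'⟩ := IsAlgClosed.exists_root _ hdeg
  have hα : α ^ 2 - algebraMap F (AlgebraicClosure F) τ * α + 1 = 0 := by
    rw [Polynomial.IsRoot.def] at hα'
    simp only [Polynomial.eval_add, Polynomial.eval_mul, Polynomial.eval_C, Polynomial.eval_pow,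
      Polynomial.eval_X] at hα'
    linear_combination hα'
  have hα0 : α ≠ 0 := by
    rintro rfl
    simp at hα
  have hαF : α ∉ Set.range (algebraMap F (AlgebraicClosure F)) := by
    rintro ⟨x, rfl⟩
    apply hno x
    apply (algebraMap F (AlgebraicClosure F)).injective
    rw [map_add, map_sub, map_mul, map_pow, map_one, map_zero]
    exact hα
  have hαi : α * α⁻¹ = 1 := mul_inv_cancel₀ hα0
  have hτα : algebraMap F (AlgebraicClosure F) τ = α + α⁻¹ := by
    have : α * (algebraMap F (AlgebraicClosure F) τ - (α + α⁻¹)) = 0 := by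
      linear_combination (-1 : AlgebraicClosure F) * hα - hαi
    rcases mul_eq_zero.mp this with h | h
    · exact absurd h hα0
    · exact sub_eq_zero.mp h
  have hfrobτ : (α + α⁻¹) ^ Fintype.card F = α + α⁻¹ := by
    rw [← hτα, ← map_pow, FiniteField.pow_card]
  rw [add_pow_card (F := F), inv_pow] at hfrobτ
  have hαq0 : α ^ Fintype.card F ≠ 0 := pow_ne_zero _ hα0
  have hαqi : α ^ Fintype.card F * (α ^ Fintype.card F)⁻¹ = 1 := mul_inv_cancel₀ hαq0
  have hfac : (α ^ Fintype.card F - α) * (α ^ Fintype.card F - α⁻¹) = 0 := by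
    linear_combination α ^ Fintype.card F * hfrobτ - hαqi + hαi
  have hαq' : α ^ Fintype.card F = α⁻¹ := by
    rcases mul_eq_zero.mp hfac with h | h
    · exact absurd (mem_range_of_pow_card_eq α (sub_eq_zero.mp h)) hαF
    · exact sub_eq_zero.mp h
  refine ⟨α, hα0, hαF, hτα, ?_⟩
  rw [pow_succ, hαq', inv_mul_cancel₀ hα0]

/-- An element of `SL₂(F)` without eigenvalues in `F` has order dividing `q + 1`. -/
theorem pow_card_add_one_of_noroot (M : Matrix (Fin 2) (Fin 2) F) (hdet : M.det = 1)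
    (hno : ∀ x : F, x ^ 2 - (M 0 0 + M 1 1) * x + 1 ≠ 0) : M ^ (Fintype.card F + 1) = 1 := by
  obtain ⟨α, hα0, hαF, hτα, hα1⟩ := noroot_eigen_data (M 0 0 + M 1 1) hno
  have hne : α ≠ α⁻¹ := ne_inv_of_not_mem _ α hαF
  obtain ⟨a', b', hab'⟩ := pow_mem_span M hdet (Fintype.card F + 1)
  have hj' := eigen_pow (algebraMap F (AlgebraicClosure F)) M hdet α hα0 hτα hne _ a' b' hab'
  have heq := eq_of_eigen_eq (algebraMap F (AlgebraicClosure F)) α hαF M a' b' 1 0
    (by rw [hj', hα1, map_one, map_zero, zero_mul, add_zero])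
  rw [hab', heq, one_smul, zero_smul, add_zero]

end NonSplitProd

end Cfsg.Agent.Lib.helper46
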