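import Mathlib
import Cfsg.Agent.Lib.helper46.SL2
import Cfsg.Agent.Lib.helper46.Dicyclic
import Cfsg.Agent.Lib.helper46.SL2Tori
import Cfsg.Agent.Lib.helper46.SL2NonSplit
import Cfsg.Agent.Lib.helper46.SL2Sylow
import Cfsg.Agent.Lib.helper46.Sylow2Torus
import Cfsg.Agent.Lib.helper46.SL2Products

/-!
# Elements of order 4 in `SL₂(q)`, `q` odd, and involutions of `PSL₂(q)` (helper46)

* `torus4_data` : the torus of `SL₂(q)` whose order is divisible by `4`, uniformly in `q mod 4`;
* `conj_of_trace_zero` : all elements of trace `0` are conjugate in `SL₂(q)`;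
* `exists_gen_of_card_four` : a subgroup of order `4` is cyclic, generated by an element of
  trace `0`;
* `conj_of_card_four`, `card_normalizer_of_card_four`, `isConj_of_orderOf_two`.
-/

set_option autoImplicit false

namespace Cfsg.Agent.Lib.helper46

open Matrix

section General

variable {G : Type*} [Group G]

/-- If `⟨t⟩` is the centralizer of `t ^ m`, then `⟨t ^ m⟩` and `⟨t⟩` have the same
normalizer. -/
theorem normalizer_zpowers_pow (t : G) (m : ℕ)
    (hcent : ∀ h : G, h * t ^ m = t ^ m * h → h ∈ Subgroup.zpowers t) :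
    Subgroup.normalizer (Subgroup.zpowers (t ^ m) : Set G)
      = Subgroup.normalizer (Subgroup.zpowers t : Set G) := by
  have hsT : t ^ m ∈ Subgroup.zpowers t := Subgroup.pow_mem _ (Subgroup.mem_zpowers t) m
  have hCQ : Subgroup.centralizer ((Subgroup.zpowers (t ^ m) : Subgroup G) : Set G)
      = Subgroup.zpowers t := by
    ext h
    rw [Subgroup.mem_centralizer_iff]
    constructor
    · intro hh
      exact hcent h (hh _ (Subgroup.mem_zpowers _)).symm
    · intro hh x hx
      have hxT : x ∈ Subgroup.zpowers t := by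
        obtain ⟨k, rfl⟩ := Subgroup.mem_zpowers_iff.mp hx
        exact Subgroup.zpow_mem _ hsT k
      obtain ⟨i, rfl⟩ := Subgroup.mem_zpowers_iff.mp hh
      obtain ⟨j, rfl⟩ := Subgroup.mem_zpowers_iff.mp hxT
      rw [← _root_.zpow_add, ← _root_.zpow_add, add_comm]
  apply le_antisymm
  · have := normalizer_le_normalizer_centralizer (Subgroup.zpowers (t ^ m))
    rw [hCQ] at this
    exact this
  · intro g hg
    have key : ∀ g : G, g ∈ Subgroup.normalizer (Subgroup.zpowers t : Set G) →
        g * t ^ m * g⁻¹ ∈ Subgroup.zpowers (t ^ m) := by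
      intro g hg
      have h1 : g * t * g⁻¹ ∈ Subgroup.zpowers t :=
        (Subgroup.mem_normalizer_iff.mp hg t).mp (Subgroup.mem_zpowers t)
      obtain ⟨i, hi⟩ := Subgroup.mem_zpowers_iff.mp h1
      have e : (t ^ i) ^ m = (t ^ m) ^ i := by
        rw [← zpow_natCast (t ^ i) m, ← _root_.zpow_mul, mul_comm, _root_.zpow_mul,
          zpow_natCast]
      rw [← conj_pow, ← hi, e]
      exact Subgroup.zpow_mem _ (Subgroup.mem_zpowers _) i
    apply mem_normalizer_zpowers
    · exact key g hg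
    · have := key g⁻¹ (Subgroup.inv_mem _ hg)
      rw [inv_inv] at this
      exact this

end General

section Torus4

variable {F : Type*} [Field F] [Fintype F]

/-- The torus of `SL₂(q)`, `q` odd, whose order `2n` is divisible by `4` (split if
`q ≡ 1 mod 4`, non-split if `q ≡ 3 mod 4`), with its structural properties. -/
theorem torus4_data (hodd : Odd (Fintype.card F)) :
    ∃ (n : ℕ) (t w : Matrix.SpecialLinearGroup (Fin 2) F),
      2 ≤ n ∧ Even n ∧
      ((Fintype.card F % 4 = 1 ∧ 2 * n = Fintype.card F - 1) ∨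
        (Fintype.card F % 4 = 3 ∧ 2 * n = Fintype.card F + 1)) ∧
      orderOf t = 2 * n ∧
      (∀ g : Matrix.SpecialLinearGroup (Fin 2) F, g * t = t * g → g ∈ Subgroup.zpowers t) ∧
      (∀ g : Matrix.SpecialLinearGroup (Fin 2) F, g * t * g⁻¹ ∈ Subgroup.zpowers t →
        g * t * g⁻¹ = t ∨ g * t * g⁻¹ = t⁻¹) ∧
      (∀ g : Matrix.SpecialLinearGroup (Fin 2) F, g * g = 1 → g = 1 ∨ g = t ^ n) ∧
      w * t * w⁻¹ = t⁻¹ ∧
      ((t ^ n : Matrix.SpecialLinearGroup (Fin 2) F) : Matrix (Fin 2) (Fin 2) F) = -1 ∧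
      (∀ x ∈ Subgroup.zpowers t, x * x ≠ 1 →
        ∀ h : Matrix.SpecialLinearGroup (Fin 2) F, h * x = x * h → h ∈ Subgroup.zpowers t) := by
  classical
  have hq2 : 1 < Fintype.card F := Fintype.one_lt_card
  obtain ⟨k, hk⟩ := hodd
  rcases Nat.even_or_odd k with hke | hko
  · obtain ⟨r, hr⟩ := hke
    have h5 : 5 ≤ Fintype.card F := by omega
    obtain ⟨t, w, hord, hdiag, hC, hconj, hinv, hw, htn⟩ :=
      split_torus_data (F := F) ⟨k, hk⟩ h5
    have hn : (Fintype.card F - 1) / 2 = k := by omega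
    rw [hn] at hord hinv htn
    refine ⟨k, t, w, by omega, ⟨r, hr⟩, Or.inl ⟨by omega, by omega⟩, hord, hC, hconj, hinv, hw,
      htn, ?_⟩
    intro x hx hxx h hh
    obtain ⟨hx01, hx10⟩ := (hdiag x).mp hx
    have hxa : (x : Matrix (Fin 2) (Fin 2) F) 0 0 ^ 2 ≠ 1 := by
      intro ha
      apply hxx
      have hdet := x.det_coe
      rw [Matrix.det_fin_two, hx01, hx10, mul_zero, sub_zero] at hdet
      apply Subtype.ext
      rw [Matrix.SpecialLinearGroup.coe_mul, Matrix.SpecialLinearGroup.coe_one]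
      ext i j
      fin_cases i <;> fin_cases j <;>
        simp [Matrix.mul_apply, Fin.sum_univ_two, hx01, hx10]
      · linear_combination ha
      · linear_combination (-((x : Matrix (Fin 2) (Fin 2) F) 1 1) ^ 2) * ha
          + ((x : Matrix (Fin 2) (Fin 2) F) 0 0 * (x : Matrix (Fin 2) (Fin 2) F) 1 1 + 1) * hdet
    rw [hdiag]
    apply (mem_centralizer_diag x hx01 hx10 hxa h).mp
    rw [Subgroup.mem_centralizer_iff]
    intro y hy
    rw [Set.mem_singleton_iff] at hy
    subst hy
    exact hh.symm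
  · obtain ⟨r, hr⟩ := hko
    obtain ⟨t, w, hord, hC, hconj, hinv, hw, htn, hN8, hN9⟩ :=
      nonsplit_torus_data (F := F) ⟨k, hk⟩
    have hn : (Fintype.card F + 1) / 2 = k + 1 := by omega
    rw [hn] at hord hinv htn
    refine ⟨k + 1, t, w, by omega, ⟨r + 1, by omega⟩, Or.inr ⟨by omega, by omega⟩, hord, hC,
      hconj, hinv, hw, htn, ?_⟩
    intro x hx hxx h hh
    refine hN8 x hx ?_ ?_ h hh
    · intro h1
      apply hxx
      apply Subtype.ext
      rw [Matrix.SpecialLinearGroup.coe_mul, h1, Matrix.SpecialLinearGroup.coe_one, mul_one]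
    · intro h1
      apply hxx
      apply Subtype.ext
      rw [Matrix.SpecialLinearGroup.coe_mul, h1, Matrix.SpecialLinearGroup.coe_one, neg_mul_neg,
        mul_one]

/-- All elements of trace zero are conjugate in `SL₂(q)`, `q` odd. -/
theorem conj_of_trace_zero (hodd : Odd (Fintype.card F))
    (X Y : Matrix.SpecialLinearGroup (Fin 2) F)
    (hX : (X : Matrix (Fin 2) (Fin 2) F) 0 0 + (X : Matrix (Fin 2) (Fin 2) F) 1 1 = 0)
    (hY : (Y : Matrix (Fin 2) (Fin 2) F) 0 0 + (Y : Matrix (Fin 2) (Fin 2) F) 1 1 = 0) :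
    ∃ h : Matrix.SpecialLinearGroup (Fin 2) F, h * X * h⁻¹ = Y := by
  have h2 : (2 : F) ≠ 0 := two_ne_zero_of_odd_card hodd
  by_cases hroot : ∃ l : F, l ^ 2 + 1 = 0
  · obtain ⟨l, hl⟩ := hroot
    apply conj_of_trace_eq_split X Y (by rw [hX, hY]) l (by rw [hX]; linear_combination hl)
    intro h1
    apply h2
    linear_combination hl - h1
  · push Not at hroot
    apply conj_of_trace_eq_noroot hodd X Y (by rw [hX, hY])
    intro x hx
    apply hroot x
    rw [hX] at hx
    linear_combination hx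

omit [Fintype F] in
/-- An element `g` of `SL₂(F)` (`2 ≠ 0`) with `g² ≠ 1`, `g⁴ = 1` has `g² = -1` and trace `0`. -/
theorem trace_zero_of_order_four (h2 : (2 : F) ≠ 0) (g : Matrix.SpecialLinearGroup (Fin 2) F)
    (h1 : g * g ≠ 1) (h4 : (g * g) * (g * g) = 1) :
    (g : Matrix (Fin 2) (Fin 2) F) * (g : Matrix (Fin 2) (Fin 2) F) = -1 ∧
      (g : Matrix (Fin 2) (Fin 2) F) 0 0 + (g : Matrix (Fin 2) (Fin 2) F) 1 1 = 0 := by
  have h5 : ((g * g : Matrix.SpecialLinearGroup (Fin 2) F) : Matrix (Fin 2) (Fin 2) F)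
      * ((g * g : Matrix.SpecialLinearGroup (Fin 2) F) : Matrix (Fin 2) (Fin 2) F) = 1 := by
    rw [← Matrix.SpecialLinearGroup.coe_mul, h4, Matrix.SpecialLinearGroup.coe_one]
  have h6 : (g : Matrix (Fin 2) (Fin 2) F) * (g : Matrix (Fin 2) (Fin 2) F) = -1 := by
    rcases sq_eq_one_cases h2 _ (g * g).det_coe h5 with h | h
    · exfalso
      apply h1
      apply Subtype.ext
      rw [h, Matrix.SpecialLinearGroup.coe_one]
    · rw [← Matrix.SpecialLinearGroup.coe_mul]
      exact h
  exact ⟨h6, trace_zero_of_sq _ g.det_coe h6⟩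

omit [Fintype F] in
/-- A subgroup of order `4` of `SL₂(F)` (`2 ≠ 0`) is generated by an element of square `-1`,
hence of trace `0`. -/
theorem exists_gen_of_card_four (h2 : (2 : F) ≠ 0)
    (B : Subgroup (Matrix.SpecialLinearGroup (Fin 2) F)) (hB : Nat.card B = 4) :
    ∃ g : Matrix.SpecialLinearGroup (Fin 2) F, B = Subgroup.zpowers g ∧
      (g : Matrix (Fin 2) (Fin 2) F) * (g : Matrix (Fin 2) (Fin 2) F) = -1 ∧
      (g : Matrix (Fin 2) (Fin 2) F) 0 0 + (g : Matrix (Fin 2) (Fin 2) F) 1 1 = 0 := by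
  classical
  have hfin : Finite B := Nat.finite_of_card_ne_zero (by rw [hB]; norm_num)
  have hex : ∃ g ∈ B, g * g ≠ 1 := by
    by_contra hcon
    push Not at hcon
    have hsub : (B : Set (Matrix.SpecialLinearGroup (Fin 2) F))
        ⊆ {1, mkSL (-1 : F) 0 0 (-1) (by ring)} := by
      intro g hg
      have h1 := hcon g hg
      have h1' : (g : Matrix (Fin 2) (Fin 2) F) * (g : Matrix (Fin 2) (Fin 2) F) = 1 := by
        rw [← Matrix.SpecialLinearGroup.coe_mul, h1, Matrix.SpecialLinearGroup.coe_one]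
      rcases sq_eq_one_cases h2 _ g.det_coe h1' with h | h
      · left
        apply Subtype.ext
        rw [h, Matrix.SpecialLinearGroup.coe_one]
      · right
        rw [Set.mem_singleton_iff]
        apply Subtype.ext
        rw [h, mkSL_coe]
        ext i j
        fin_cases i <;> fin_cases j <;> simp
    have hle := Set.ncard_le_ncard hsub (Set.toFinite _)
    rw [← Nat.card_coe_set_eq] at hle
    have h3 : Nat.card (B : Set (Matrix.SpecialLinearGroup (Fin 2) F)) = 4 := hB
    have h4 := Set.ncard_insert_le (1 : Matrix.SpecialLinearGroup (Fin 2) F)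
      {mkSL (-1 : F) 0 0 (-1) (by ring)}
    rw [Set.ncard_singleton] at h4
    omega
  obtain ⟨g, hgB, hgg⟩ := hex
  have hdvd : orderOf g ∣ 4 := by
    rw [← hB]
    exact Subgroup.orderOf_dvd_natCard B hgB
  have h4 : (g * g) * (g * g) = 1 := by
    have := orderOf_dvd_iff_pow_eq_one.mp hdvd
    calc (g * g) * (g * g) = g ^ 4 := by
          rw [show (4 : ℕ) = 2 + 2 from rfl, pow_add, pow_two]
      _ = 1 := this
  have hord : orderOf g = 4 := by
    have hle := Nat.le_of_dvd (by norm_num) hdvd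
    have hpos : 0 < orderOf g := Nat.pos_of_dvd_of_pos hdvd (by norm_num)
    have h1 : orderOf g ≠ 1 := by
      intro h
      rw [orderOf_eq_one_iff] at h
      apply hgg
      rw [h, mul_one]
    have h2' : orderOf g ≠ 2 := by
      intro h
      apply hgg
      have := pow_orderOf_eq_one g
      rw [h, pow_two] at this
      exact this
    have h3 : orderOf g ≠ 3 := by
      intro h
      rw [h] at hdvd
      omega
    omega
  refine ⟨g, ?_, trace_zero_of_order_four h2 g hgg h4⟩
  symm
  apply Subgroup.eq_of_le_of_card_ge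
  · rw [Subgroup.zpowers_le]
    exact hgB
  · rw [Nat.card_zpowers, hord, hB]

/-- Any two subgroups of order `4` of `SL₂(q)`, `q` odd, are conjugate. -/
theorem conj_of_card_four (hodd : Odd (Fintype.card F))
    (A B : Subgroup (Matrix.SpecialLinearGroup (Fin 2) F)) (hA : Nat.card A = 4)
    (hB : Nat.card B = 4) :
    ∃ g : Matrix.SpecialLinearGroup (Fin 2) F, B = A.map (MulAut.conj g).toMonoidHom := by
  have h2 : (2 : F) ≠ 0 := two_ne_zero_of_odd_card hodd
  obtain ⟨a, rfl, -, ha⟩ := exists_gen_of_card_four h2 A hA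
  obtain ⟨b, rfl, -, hb⟩ := exists_gen_of_card_four h2 B hB
  obtain ⟨h, hh⟩ := conj_of_trace_zero hodd a b ha hb
  refine ⟨h, ?_⟩
  rw [MonoidHom.map_zpowers]
  congr 1
  rw [← hh]
  rfl

/-- The normalizer of a subgroup of order `4` of `SL₂(q)`, `q` odd, has order `2 (q - 1)` or
`2 (q + 1)` according as `q ≡ 1` or `3 mod 4`. -/
theorem card_normalizer_of_card_four (hodd : Odd (Fintype.card F))
    (A : Subgroup (Matrix.SpecialLinearGroup (Fin 2) F)) (hA : Nat.card A = 4) :
    (Fintype.card F % 4 = 1 → Nat.card (Subgroup.normalizer (A : Set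
      (Matrix.SpecialLinearGroup (Fin 2) F))) = 2 * (Fintype.card F - 1)) ∧
    (Fintype.card F % 4 = 3 → Nat.card (Subgroup.normalizer (A : Set
      (Matrix.SpecialLinearGroup (Fin 2) F))) = 2 * (Fintype.card F + 1)) := by
  have h2 : (2 : F) ≠ 0 := two_ne_zero_of_odd_card hodd
  obtain ⟨a, rfl, -, ha⟩ := exists_gen_of_card_four h2 A hA
  obtain ⟨n, t, w, hn2, ⟨r, hr⟩, hcases, hord, hC, hconj, hinv, hw, htn, hcent⟩ :=
    torus4_data (F := F) hodd
  have hnz : NeZero n := ⟨by omega⟩
  have huu : ((t ^ (n / 2) : Matrix.SpecialLinearGroup (Fin 2) F) : Matrix (Fin 2) (Fin 2) F)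
      * ((t ^ (n / 2) : Matrix.SpecialLinearGroup (Fin 2) F) : Matrix (Fin 2) (Fin 2) F) = -1 := by
    rw [← Matrix.SpecialLinearGroup.coe_mul, ← pow_add, (show n / 2 + n / 2 = n by omega)]
    exact htn
  have hu0 := trace_zero_of_sq _ (t ^ (n / 2)).det_coe huu
  obtain ⟨h, hh⟩ := conj_of_trace_zero hodd (t ^ (n / 2)) a hu0 ha
  have hmap : Subgroup.zpowers a
      = (Subgroup.zpowers (t ^ (n / 2))).map (MulAut.conj h).toMonoidHom := by
    rw [MonoidHom.map_zpowers]
    congr 1
    rw [← hh]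
    rfl
  have huu1 : t ^ (n / 2) * t ^ (n / 2) ≠ 1 := by
    intro h1
    have h3 := congrArg (fun x : Matrix.SpecialLinearGroup (Fin 2) F =>
      (x : Matrix (Fin 2) (Fin 2) F)) h1
    simp only [Matrix.SpecialLinearGroup.coe_mul, Matrix.SpecialLinearGroup.coe_one] at h3
    rw [huu] at h3
    have h4 := congrFun (congrFun h3 0) 0
    simp at h4
    apply h2
    linear_combination (-1 : F) * h4
  have hN : Subgroup.normalizer (Subgroup.zpowers (t ^ (n / 2)) : Set
      (Matrix.SpecialLinearGroup (Fin 2) F)) = Subgroup.normalizer (Subgroup.zpowers t : Set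
      (Matrix.SpecialLinearGroup (Fin 2) F)) :=
    normalizer_zpowers_pow t (n / 2) (fun g hg =>
      hcent _ (Subgroup.pow_mem _ (Subgroup.mem_zpowers t) _) huu1 g hg)
  obtain ⟨hcardN, -, -⟩ := torus_normalizer_structure n hn2 t w hord hC hconj hinv hw
  have hcard : Nat.card (Subgroup.normalizer (Subgroup.zpowers a : Set
      (Matrix.SpecialLinearGroup (Fin 2) F))) = 4 * n := by
    rw [hmap, ← Subgroup.map_equiv_normalizer_eq,
      Subgroup.card_map_of_injective (MulAut.conj h).injective, hN, hcardN]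
  have hq2 : 1 < Fintype.card F := Fintype.one_lt_card
  constructor
  · intro h1
    rw [hcard]
    rcases hcases with ⟨-, h3⟩ | ⟨h3, -⟩
    · omega
    · omega
  · intro h1
    rw [hcard]
    rcases hcases with ⟨h3, -⟩ | ⟨-, h3⟩
    · omega
    · omega

/-- All involutions of `PSL₂(q)`, `q` odd, are conjugate. -/
theorem isConj_of_orderOf_two (hodd : Odd (Fintype.card F))
    (x y : Matrix.ProjectiveSpecialLinearGroup (Fin 2) F) (hx : orderOf x = 2)
    (hy : orderOf y = 2) : IsConj x y := by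
  have h2 : (2 : F) ≠ 0 := two_ne_zero_of_odd_card hodd
  have key : ∀ X : Matrix.SpecialLinearGroup (Fin 2) F,
      orderOf (QuotientGroup.mk X : Matrix.ProjectiveSpecialLinearGroup (Fin 2) F) = 2 →
      (X : Matrix (Fin 2) (Fin 2) F) 0 0 + (X : Matrix (Fin 2) (Fin 2) F) 1 1 = 0 := by
    intro X hX
    have h1 : (QuotientGroup.mk X : Matrix.ProjectiveSpecialLinearGroup (Fin 2) F) ^ 2 = 1 := by
      have h0 := pow_orderOf_eq_one
        (QuotientGroup.mk X : Matrix.ProjectiveSpecialLinearGroup (Fin 2) F)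
      rw [hX] at h0
      exact h0
    have hne : (QuotientGroup.mk X : Matrix.ProjectiveSpecialLinearGroup (Fin 2) F) ≠ 1 := by
      intro h
      rw [h, orderOf_one] at hX
      omega
    rw [mk_pow_eq_one_iff] at h1
    obtain ⟨c, hc, hXc⟩ := h1
    have hfac : (c - 1) * (c + 1) = 0 := by linear_combination hc
    rw [pow_two (X : Matrix (Fin 2) (Fin 2) F)] at hXc
    rcases mul_eq_zero.mp hfac with h | h
    · exfalso
      apply hne
      rw [QuotientGroup.eq_one_iff, mem_center_iff_smul]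
      rw [sub_eq_zero.mp h, one_smul] at hXc
      rcases sq_eq_one_cases h2 _ X.det_coe hXc with h3 | h3
      · exact ⟨1, by norm_num, by rw [h3, one_smul]⟩
      · exact ⟨-1, by norm_num, by rw [h3, neg_smul, one_smul]⟩
    · rw [eq_neg_of_add_eq_zero_left h, neg_smul, one_smul] at hXc
      exact trace_zero_of_sq _ X.det_coe hXc
  obtain ⟨X, rfl⟩ := QuotientGroup.mk_surjective x
  obtain ⟨Y, rfl⟩ := QuotientGroup.mk_surjective y
  obtain ⟨h, hh⟩ := conj_of_trace_zero hodd X Y (key X hx) (key Y hy)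
  rw [isConj_iff]
  refine ⟨QuotientGroup.mk h, ?_⟩
  rw [← hh]
  rfl

end Torus4

end Cfsg.Agent.Lib.helper46
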