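import Mathlib
import Cfsg.Agent.Lib.helper46.TorusBound
import Cfsg.Agent.Lib.helper46.SL2Order4
import Cfsg.Agent.Lib.helper98.DicksonTame
import Cfsg.Agent.Lib.helper98.DicksonMax
import Cfsg.Agent.Lib.helper7.CardSL

/-!
# Hall `{2,3}`-subgroups of `PSL₂(q)`, `p ≥ 5` (helper46)

Arithmetic of `{2,3}`-parts, Hall subgroups inside torus normalizers, and the analysis of a
`{2,3}`-subgroup of `SL₂(q)` via helper98's `tame_odd`.
-/

set_option autoImplicit false

namespace Cfsg.Agent.Lib.helper46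

open Cfsg.Agent.Lib.helper98

section Arith23

/-- Splitting off the `{2,3}`-part. -/
theorem p23_split (m : ℕ) (hm : m ≠ 0) :
    ∃ r, m = 2 ^ m.factorization 2 * 3 ^ m.factorization 3 * r ∧ ¬ 2 ∣ r ∧ ¬ 3 ∣ r := by
  have h1 := Nat.ordProj_mul_ordCompl_eq_self m 2
  have hm1 : ¬ 2 ∣ m / 2 ^ m.factorization 2 := Nat.not_dvd_ordCompl Nat.prime_two hm
  have hm10 : m / 2 ^ m.factorization 2 ≠ 0 := by
    intro h0
    rw [h0, mul_zero] at h1
    exact hm h1.symm
  have hfac : (m / 2 ^ m.factorization 2).factorization 3 = m.factorization 3 := by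
    rw [Nat.factorization_ordCompl m 2, Finsupp.erase_ne (by norm_num)]
  have h2 := Nat.ordProj_mul_ordCompl_eq_self (m / 2 ^ m.factorization 2) 3
  have hr3 : ¬ 3 ∣ (m / 2 ^ m.factorization 2) / 3 ^ (m / 2 ^ m.factorization 2).factorization 3 :=
    Nat.not_dvd_ordCompl Nat.prime_three hm10
  rw [hfac] at h2 hr3
  refine ⟨(m / 2 ^ m.factorization 2) / 3 ^ m.factorization 3, ?_, ?_, hr3⟩
  · rw [mul_assoc, h2, h1]
  · intro h
    apply hm1
    rw [← h2]
    exact Dvd.dvd.mul_left h _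

/-- Uniqueness of the `{2,3}`-part. -/
theorem p23_unique (k i m : ℕ) (hm : m ≠ 0) (h : k * i = m)
    (hk : ∀ p : ℕ, p.Prime → p ∣ k → p = 2 ∨ p = 3) (h2 : ¬ 2 ∣ i) (h3 : ¬ 3 ∣ i) :
    k = 2 ^ m.factorization 2 * 3 ^ m.factorization 3 := by
  have hk0 : k ≠ 0 := by
    rintro rfl
    rw [zero_mul] at h
    exact hm h.symm
  have hi0 : i ≠ 0 := by
    rintro rfl
    rw [mul_zero] at h
    exact hm h.symm
  have hf : m.factorization = k.factorization + i.factorization := by
    rw [← h, Nat.factorization_mul hk0 hi0]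
  have e2 : m.factorization 2 = k.factorization 2 := by
    rw [hf, Finsupp.add_apply, Nat.factorization_eq_zero_of_not_dvd h2, add_zero]
  have e3 : m.factorization 3 = k.factorization 3 := by
    rw [hf, Finsupp.add_apply, Nat.factorization_eq_zero_of_not_dvd h3, add_zero]
  obtain ⟨r, hr, hr2, hr3⟩ := p23_split k hk0
  have hr1 : r = 1 := by
    by_contra hne
    obtain ⟨p, hp, hpr⟩ := Nat.exists_prime_and_dvd hne
    have hpk : p ∣ k := by
      rw [hr]
      exact Dvd.dvd.mul_left hpr _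
    rcases hk p hp hpk with rfl | rfl
    · exact hr2 hpr
    · exact hr3 hpr
  rw [e2, e3]
  rw [hr1, mul_one] at hr
  exact hr

theorem sq_sub_one_ne_zero (q : ℕ) (hq : 2 ≤ q) : q ^ 2 - 1 ≠ 0 := by
  have : 4 ≤ q ^ 2 := by nlinarith
  omega

/-- The `{2,3}`-part of `q (q² - 1)` is that of `q² - 1` when `q` is prime to `6`. -/
theorem p23_card_sl (q : ℕ) (hq : 2 ≤ q) (hq2 : ¬ 2 ∣ q) (hq3 : ¬ 3 ∣ q) :
    (q * (q ^ 2 - 1)).factorization 2 = (q ^ 2 - 1).factorization 2 ∧
    (q * (q ^ 2 - 1)).factorization 3 = (q ^ 2 - 1).factorization 3 := by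
  have h0 := sq_sub_one_ne_zero q hq
  rw [Nat.factorization_mul (by omega) h0]
  constructor
  · rw [Finsupp.add_apply, Nat.factorization_eq_zero_of_not_dvd hq2, zero_add]
  · rw [Finsupp.add_apply, Nat.factorization_eq_zero_of_not_dvd hq3, zero_add]

theorem dvd_sq_sub_one (q : ℕ) (hq2 : ¬ 2 ∣ q) (hq3 : ¬ 3 ∣ q) : 24 ∣ q ^ 2 - 1 := by
  have h : q ^ 2 % 24 = 1 := by
    rw [Nat.pow_mod]
    have hlt : q % 24 < 24 := Nat.mod_lt _ (by norm_num)
    have h2 : q % 24 % 2 = 1 := by omega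
    have h3 : q % 24 % 3 ≠ 0 := by omega
    interval_cases (q % 24) <;> simp_all
  omega

theorem dvd_p23 (m : ℕ) (hm : m ≠ 0) (h : 24 ∣ m) :
    24 ∣ 2 ^ m.factorization 2 * 3 ^ m.factorization 3 := by
  have h8 : 2 ^ 3 ∣ m := Dvd.dvd.trans (by norm_num) h
  have h3 : 3 ^ 1 ∣ m := Dvd.dvd.trans (by norm_num) h
  have e8 := (Nat.Prime.pow_dvd_iff_le_factorization Nat.prime_two hm).mp h8
  have e3 := (Nat.Prime.pow_dvd_iff_le_factorization Nat.prime_three hm).mp h3
  have : (24 : ℕ) = 2 ^ 3 * 3 ^ 1 := by norm_num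
  rw [this]
  exact mul_dvd_mul (pow_dvd_pow 2 e8) (pow_dvd_pow 3 e3)

theorem prime_dvd_p23 (a b p : ℕ) (hp : p.Prime) (h : p ∣ 2 ^ a * 3 ^ b) : p = 2 ∨ p = 3 := by
  rcases (Nat.Prime.dvd_mul hp).mp h with h1 | h1
  · left
    exact (Nat.prime_dvd_prime_iff_eq hp Nat.prime_two).mp (hp.dvd_of_dvd_pow h1)
  · right
    exact (Nat.prime_dvd_prime_iff_eq hp Nat.prime_three).mp (hp.dvd_of_dvd_pow h1)

end Arith23

section HallTorus

variable {G : Type*} [Group G] [Finite G]

/-- The image modulo `Z` of `⟨t ^ r⟩ ∪ w ⟨t ^ r⟩`, with its order and index. -/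
theorem hall_of_torus_pow (t w : G) (Z : Subgroup G) [Z.Normal]
    (hw : w * t * w⁻¹ = t⁻¹) (hwT : w ∉ Subgroup.zpowers t) (r : ℕ)
    (hZ : Z ≤ Subgroup.zpowers (t ^ r)) (hw2Z : w * w ∈ Z) :
    ∃ H : Subgroup (G ⧸ Z), Nat.card H * Nat.card Z = 2 * orderOf (t ^ r) ∧
      H.index * (2 * orderOf (t ^ r)) = Nat.card G := by
  have hw' : w * t ^ r * w⁻¹ = (t ^ r)⁻¹ := by rw [← conj_pow, hw, inv_pow]
  have hle : Subgroup.zpowers (t ^ r) ≤ Subgroup.zpowers t :=
    Subgroup.zpowers_le.mpr (Subgroup.pow_mem _ (Subgroup.mem_zpowers t) r)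
  have hwT' : w ∉ Subgroup.zpowers (t ^ r) := fun h => hwT (hle h)
  have hTN : Subgroup.zpowers (t ^ r) ≤ dicSub (t ^ r) w hw' (hZ hw2Z) := fun x hx => Or.inl hx
  have hcard := card_dicSub (t ^ r) w hw' (hZ hw2Z) hwT'
  refine ⟨(dicSub (t ^ r) w hw' (hZ hw2Z)).map (QuotientGroup.mk' Z), ?_, ?_⟩
  · rw [card_map_mk_mul Z _ (hZ.trans hTN), hcard]
  · rw [Subgroup.index_map_eq _ (QuotientGroup.mk'_surjective Z)
      (by rw [QuotientGroup.ker_mk']; exact hZ.trans hTN), ← hcard, mul_comm]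
    exact Subgroup.card_mul_index _

end HallTorus

section Hall23

variable {F : Type*} [Field F] [Fintype F]

/-- Field facts in characteristic `p ≥ 5`. -/
theorem char_ge_five_facts (p : ℕ) [Fact p.Prime] [CharP F p] (hp : 5 ≤ p) :
    ¬ 2 ∣ Fintype.card F ∧ ¬ 3 ∣ Fintype.card F ∧ (2 : F) ≠ 0 ∧ ringChar F ≠ 2 ∧
      Odd (Fintype.card F) := by
  obtain ⟨e, hprime, hqe⟩ := FiniteField.card F p
  have h2 : ¬ 2 ∣ Fintype.card F := by
    rw [hqe]
    intro h
    have := (Nat.prime_dvd_prime_iff_eq Nat.prime_two hprime).mp (Nat.prime_two.dvd_of_dvd_pow h)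
    omega
  have h3 : ¬ 3 ∣ Fintype.card F := by
    rw [hqe]
    intro h
    have := (Nat.prime_dvd_prime_iff_eq Nat.prime_three hprime).mp
      (Nat.prime_three.dvd_of_dvd_pow h)
    omega
  have hchar : ringChar F ≠ 2 := by
    rw [ringChar.eq F p]; omega
  refine ⟨h2, h3, ?_, hchar, ?_⟩
  · intro h
    have h3' : ((2 : ℕ) : F) = 0 := by exact_mod_cast h
    have h4 := (CharP.cast_eq_zero_iff F p 2).mp h3'
    have := Nat.le_of_dvd (by norm_num) h4
    omega
  · rcases Nat.even_or_odd (Fintype.card F) with he | ho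
    · exact absurd (even_iff_two_dvd.mp he) h2
    · exact ho

/-- An abelian subgroup of `SL₂(q)` (`q` odd) of order divisible by `12` forces `3 ∣ q - ε`. -/
theorem three_dvd_of_abelian (hodd : Odd (Fintype.card F))
    (A : Subgroup (Matrix.SpecialLinearGroup (Fin 2) F))
    (hcomm : ∀ a ∈ A, ∀ b ∈ A, a * b = b * a) (h12 : 12 ∣ Nat.card A) :
    (3 ∣ Fintype.card F - 1 ∧ Fintype.card F % 4 = 1) ∨
      (3 ∣ Fintype.card F + 1 ∧ Fintype.card F % 4 = 3) := by
  classical
  have h2 : (2 : F) ≠ 0 := two_ne_zero_of_odd_card hodd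
  obtain ⟨n, t, w, hn2, hneven, hcase, hord, hC, hconj, hinv, hw, htn, hcent⟩ :=
    torus4_data (F := F) hodd
  -- an element of order 3
  have hfact3 : Fact (Nat.Prime 3) := ⟨Nat.prime_three⟩
  have hfact2 : Fact (Nat.Prime 2) := ⟨Nat.prime_two⟩
  obtain ⟨x, hx⟩ := exists_prime_orderOf_dvd_card' (G := A) 3 (Dvd.dvd.trans (by norm_num) h12)
  have hx3 : orderOf (x : Matrix.SpecialLinearGroup (Fin 2) F) = 3 := by
    rw [Subgroup.orderOf_coe]; exact hx
  -- a subgroup of order 4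
  obtain ⟨Q, hQ⟩ := Sylow.exists_subgroup_card_pow_prime (G := A) 2 (n := 2)
    (Dvd.dvd.trans (by norm_num) h12)
  have hQ' : Nat.card (Q.map A.subtype) = 4 := by
    rw [Subgroup.card_map_of_injective A.subtype_injective, hQ]; norm_num
  obtain ⟨g, hgQ, -, hg0⟩ := exists_gen_of_card_four h2 (Q.map A.subtype) hQ'
  have hgA : g ∈ A := by
    have h1 : g ∈ Q.map A.subtype := by rw [hgQ]; exact Subgroup.mem_zpowers g
    obtain ⟨y, -, rfl⟩ := Subgroup.mem_map.mp h1
    exact y.2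
  -- the element of order 4 of the torus
  obtain ⟨m, hm⟩ := hneven
  have hsq : ((t ^ m : Matrix.SpecialLinearGroup (Fin 2) F) : Matrix (Fin 2) (Fin 2) F)
      * ((t ^ m : Matrix.SpecialLinearGroup (Fin 2) F) : Matrix (Fin 2) (Fin 2) F) = -1 := by
    rw [← Matrix.SpecialLinearGroup.coe_mul, ← pow_add, ← hm, htn]
  have htm0 := trace_zero_of_sq _ (t ^ m).det_coe hsq
  obtain ⟨c, hc⟩ := conj_of_trace_zero hodd g (t ^ m) hg0 htm0
  have hcomm' : (c * (x : Matrix.SpecialLinearGroup (Fin 2) F) * c⁻¹) * t ^ m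
      = t ^ m * (c * (x : Matrix.SpecialLinearGroup (Fin 2) F) * c⁻¹) := by
    rw [← hc]
    have e := hcomm x x.2 g hgA
    calc c * (x : Matrix.SpecialLinearGroup (Fin 2) F) * c⁻¹ * (c * g * c⁻¹)
        = c * ((x : Matrix.SpecialLinearGroup (Fin 2) F) * g) * c⁻¹ := by group
      _ = c * (g * (x : Matrix.SpecialLinearGroup (Fin 2) F)) * c⁻¹ := by rw [e]
      _ = c * g * c⁻¹ * (c * (x : Matrix.SpecialLinearGroup (Fin 2) F) * c⁻¹) := by group
  have hne1 : t ^ m * t ^ m ≠ 1 := by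
    intro h1
    have h3 := congrArg (fun y : Matrix.SpecialLinearGroup (Fin 2) F =>
      (y : Matrix (Fin 2) (Fin 2) F) 0 0) h1
    simp only [Matrix.SpecialLinearGroup.coe_mul, hsq, Matrix.SpecialLinearGroup.coe_one] at h3
    apply h2
    have h4 : (-1 : F) = 1 := by simpa using h3
    linear_combination (-1 : F) * h4
  have hmem := hcent (t ^ m) (Subgroup.pow_mem _ (Subgroup.mem_zpowers t) m) hne1 _ hcomm'
  have hdvd := orderOf_dvd_of_mem_zpowers hmem
  have hconjord : orderOf (c * (x : Matrix.SpecialLinearGroup (Fin 2) F) * c⁻¹) = 3 := by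
    have := MulEquiv.orderOf_eq (MulAut.conj c) (x : Matrix.SpecialLinearGroup (Fin 2) F)
    rw [MulAut.conj_apply] at this
    rw [this, hx3]
  rw [hconjord, hord] at hdvd
  rcases hcase with ⟨h4, hn⟩ | ⟨h4, hn⟩
  · left
    exact ⟨by rw [← hn]; exact hdvd, h4⟩
  · right
    exact ⟨by rw [← hn]; exact hdvd, h4⟩

/-- **Necessity.** A Hall `{2,3}`-subgroup of `PSL₂(q)`, `p ≥ 5`. -/
theorem hall23_cases (p : ℕ) [Fact p.Prime] [CharP F p] (hp : 5 ≤ p)
    (H : Subgroup (Matrix.ProjectiveSpecialLinearGroup (Fin 2) F))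
    (hH1 : ∀ r : ℕ, r.Prime → r ∣ Nat.card H → r = 2 ∨ r = 3)
    (hH2 : ¬ 2 ∣ H.index) (hH3 : ¬ 3 ∣ H.index) :
    (3 ∣ Fintype.card F - 1 ∧ Fintype.card F % 4 = 1) ∨
      (3 ∣ Fintype.card F + 1 ∧ Fintype.card F % 4 = 3) ∨
      2 ^ (Fintype.card F ^ 2 - 1).factorization 2 * 3 ^ (Fintype.card F ^ 2 - 1).factorization 3
        = 24 ∨
      2 ^ (Fintype.card F ^ 2 - 1).factorization 2 * 3 ^ (Fintype.card F ^ 2 - 1).factorization 3
        = 48 := by
  classical
  obtain ⟨hq2, hq3, h2, hchar, hodd⟩ := char_ge_five_facts (F := F) p hp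
  have hq : 2 ≤ Fintype.card F := Fintype.one_lt_card
  have hSL := Cfsg.Agent.Lib.helper7.card_SL2 (F := F) rfl
  obtain ⟨K, hKdef⟩ : ∃ K, K = H.comap (QuotientGroup.mk' (Subgroup.center
      (Matrix.SpecialLinearGroup (Fin 2) F))) := ⟨_, rfl⟩
  have hcardK : Nat.card K = 2 * Nat.card H := by rw [hKdef]; exact card_comap_mk h2 H
  have hidx : K.index = H.index := by
    rw [hKdef]
    exact Subgroup.index_comap_of_surjective H (QuotientGroup.mk'_surjective _)
  have hmul : Nat.card K * K.index = Fintype.card F * (Fintype.card F ^ 2 - 1) := by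
    rw [Subgroup.card_mul_index, hSL]
  have hneg : negOne ∈ K := by rw [hKdef]; exact negOne_mem_comap H
  have hKprime : ∀ r : ℕ, r.Prime → r ∣ Nat.card K → r = 2 ∨ r = 3 := by
    intro r hr hrK
    rw [hcardK] at hrK
    rcases (Nat.Prime.dvd_mul hr).mp hrK with h | h
    · left
      exact (Nat.prime_dvd_prime_iff_eq hr Nat.prime_two).mp h
    · exact hH1 r hr h
  have hM0 : Fintype.card F * (Fintype.card F ^ 2 - 1) ≠ 0 :=
    Nat.mul_ne_zero (by omega) (sq_sub_one_ne_zero _ hq)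
  have hP := p23_unique (Nat.card K) K.index _ hM0 hmul hKprime (by rw [hidx]; exact hH2)
    (by rw [hidx]; exact hH3)
  obtain ⟨e2, e3⟩ := p23_card_sl (Fintype.card F) hq hq2 hq3
  rw [e2, e3] at hP
  have h24 : 24 ∣ Nat.card K := by
    rw [hP]
    exact dvd_p23 _ (sq_sub_one_ne_zero _ hq) (dvd_sq_sub_one _ hq2 hq3)
  have htame : ∀ g ∈ K, g 0 0 + g 1 1 = 2 → g = 1 := by
    intro g hg htr
    by_contra hg1
    have hgp : g ^ p = 1 := unip_pow_char p g htr
    have hordg : orderOf g = p := orderOf_eq_prime hgp hg1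
    have hdvd : p ∣ Nat.card K := by
      rw [← hordg]
      have := orderOf_dvd_natCard (⟨g, hg⟩ : K)
      rwa [← Subgroup.orderOf_coe] at this
    rcases hKprime p Fact.out hdvd with h | h <;> omega
  obtain ⟨δ, hδ⟩ := FiniteField.exists_nonsquare hchar
  have hδ0 : δ ≠ 0 := by
    rintro rfl; exact hδ ⟨0, by rw [mul_zero]⟩
  have habel : ∀ J : TZ δ, 12 ∣ Nat.card ↥(K ⊓ MulAction.stabilizer
      (Matrix.SpecialLinearGroup (Fin 2) F) J) →
      (3 ∣ Fintype.card F - 1 ∧ Fintype.card F % 4 = 1) ∨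
        (3 ∣ Fintype.card F + 1 ∧ Fintype.card F % 4 = 3) := by
    intro J h12
    refine three_dvd_of_abelian hodd _ ?_ h12
    intro a ha b hb
    exact tz_stab_comm h2 hδ0 J a b (Subgroup.mem_inf.mp ha).2 (Subgroup.mem_inf.mp hb).2
  rcases tame_odd h2 hδ K hneg htame with h | ⟨J, hJ⟩ | ⟨J, hJ⟩ | h | h | h
  · rw [h] at h24
    omega
  · have e : K ⊓ MulAction.stabilizer (Matrix.SpecialLinearGroup (Fin 2) F) J = K :=
      inf_eq_left.mpr hJ
    rcases habel J (by rw [e]; exact Dvd.dvd.trans (by norm_num) h24) with h | h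
    · exact Or.inl h
    · exact Or.inr (Or.inl h)
  · rcases habel J (by
      rw [← hJ] at h24
      omega) with h | h
    · exact Or.inl h
    · exact Or.inr (Or.inl h)
  · right; right; left
    rw [← hP, h.1]
  · right; right; right
    rw [← hP, h.1]
  · exfalso
    have h5 : (5 : ℕ) ∣ Nat.card K := by rw [h.1]; norm_num
    rcases hKprime 5 (by norm_num) h5 with h | h <;> omega

/-- A subgroup of order `c ∈ {12, 24}` is a Hall `{2,3}`-subgroup when the `{2,3}`-part of
`q² - 1` is `2c`. -/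
theorem hall23_of_card (p : ℕ) [Fact p.Prime] [CharP F p] (hp : 5 ≤ p)
    (H : Subgroup (Matrix.ProjectiveSpecialLinearGroup (Fin 2) F)) (c : ℕ)
    (hc : Nat.card H = c) (hc' : c = 12 ∨ c = 24)
    (hP : 2 ^ (Fintype.card F ^ 2 - 1).factorization 2
      * 3 ^ (Fintype.card F ^ 2 - 1).factorization 3 = 2 * c) :
    (∀ r : ℕ, r.Prime → r ∣ Nat.card H → r = 2 ∨ r = 3) ∧ ¬ 2 ∣ H.index ∧ ¬ 3 ∣ H.index := by
  obtain ⟨hq2, hq3, h2, hchar, hodd⟩ := char_ge_five_facts (F := F) p hp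
  have hq : 2 ≤ Fintype.card F := Fintype.one_lt_card
  have hG := Cfsg.Agent.Lib.helper7.two_mul_card_PSL2 (F := F) rfl h2
  obtain ⟨r, hr, hr2, hr3⟩ := p23_split _ (sq_sub_one_ne_zero _ hq)
  rw [hP] at hr
  have hidx : H.index = Fintype.card F * r := by
    have h1 := Subgroup.card_mul_index H
    rw [hc] at h1
    have h3 : 2 * c * H.index = 2 * c * (Fintype.card F * r) := by
      calc 2 * c * H.index = 2 * (c * H.index) := by ring
        _ = Fintype.card F * (Fintype.card F ^ 2 - 1) := by rw [h1, hG]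
        _ = Fintype.card F * (2 * c * r) := by rw [← hr]
        _ = 2 * c * (Fintype.card F * r) := by ring
    exact Nat.eq_of_mul_eq_mul_left (by rcases hc' with h | h <;> omega) h3
  refine ⟨?_, ?_, ?_⟩
  · intro s hs hsH
    rw [hc] at hsH
    rcases hc' with h | h
    · rw [h] at hsH
      exact prime_dvd_p23 2 1 s hs (by norm_num; exact hsH)
    · rw [h] at hsH
      exact prime_dvd_p23 3 1 s hs (by norm_num; exact hsH)
  · rw [hidx]
    intro h
    rcases (Nat.Prime.dvd_mul Nat.prime_two).mp h with h | h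
    · exact hq2 h
    · exact hr2 h
  · rw [hidx]
    intro h
    rcases (Nat.Prime.dvd_mul Nat.prime_three).mp h with h | h
    · exact hq3 h
    · exact hr3 h

/-- **Sufficiency, torus case.** -/
theorem hall23_exists_of_torus (p : ℕ) [Fact p.Prime] [CharP F p] (hp : 5 ≤ p)
    (h : (3 ∣ Fintype.card F - 1 ∧ Fintype.card F % 4 = 1) ∨
      (3 ∣ Fintype.card F + 1 ∧ Fintype.card F % 4 = 3)) :
    ∃ H : Subgroup (Matrix.ProjectiveSpecialLinearGroup (Fin 2) F),
      (∀ r : ℕ, r.Prime → r ∣ Nat.card H → r = 2 ∨ r = 3) ∧ ¬ 2 ∣ H.index ∧ ¬ 3 ∣ H.index := by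
  classical
  obtain ⟨hq2, hq3, h2, hchar, hodd⟩ := char_ge_five_facts (F := F) p hp
  have hq : 2 ≤ Fintype.card F := Fintype.one_lt_card
  have hSL := Cfsg.Agent.Lib.helper7.card_SL2 (F := F) rfl
  have hdZ := Cfsg.Agent.Lib.helper7.card_center_SL2 (F := F) h2
  obtain ⟨n, t, w, hn2, hneven, hcase, hord, hC, hconj, hinv, hw, htn, hcent⟩ :=
    torus4_data (F := F) hodd
  obtain ⟨hwT, hw2⟩ := torus_w_sq n hn2 t w hord hC hinv hw
  obtain ⟨r, hr, hr2, hr3⟩ := p23_split (2 * n) (by omega)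
  obtain ⟨c, hcdef⟩ : ∃ c, c = 2 ^ (2 * n).factorization 2 * 3 ^ (2 * n).factorization 3 :=
    ⟨_, rfl⟩
  rw [← hcdef] at hr
  have hr0 : 0 < r := by
    rcases Nat.eq_zero_or_pos r with h0 | h0
    · rw [h0, mul_zero] at hr; omega
    · exact h0
  have hc0 : 0 < c := by
    rcases Nat.eq_zero_or_pos c with h0 | h0
    · rw [h0, zero_mul] at hr; omega
    · exact h0
  have hrn : r ∣ n := by
    have h1 : r ∣ 2 * n := ⟨c, by rw [hr]; ring⟩
    have hcop : Nat.Coprime r 2 := by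
      rw [Nat.coprime_comm]
      exact (Nat.Prime.coprime_iff_not_dvd Nat.prime_two).mpr hr2
    exact hcop.dvd_of_dvd_mul_left h1
  obtain ⟨n', hn'⟩ := hrn
  have hordr : orderOf (t ^ r) = c := by
    rw [orderOf_pow' t (by omega), hord, hr, Nat.gcd_eq_right ⟨c, by ring⟩]
    exact Nat.mul_div_cancel c hr0
  have htnZ : t ^ n ∈ Subgroup.zpowers (t ^ r) := by
    rw [hn', pow_mul]
    exact Subgroup.pow_mem _ (Subgroup.mem_zpowers _) n'
  have hZ : Subgroup.center (Matrix.SpecialLinearGroup (Fin 2) F) ≤ Subgroup.zpowers (t ^ r) := by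
    intro g hg
    obtain ⟨a, ha2, ha⟩ := (mem_center_iff_smul g).mp hg
    have hfac : (a - 1) * (a + 1) = 0 := by linear_combination ha2
    rcases mul_eq_zero.mp hfac with h1 | h1
    · have : g = 1 := by
        apply Subtype.ext
        rw [ha, sub_eq_zero.mp h1, one_smul]
        rfl
      rw [this]
      exact Subgroup.one_mem _
    · have : g = t ^ n := by
        apply Subtype.ext
        rw [ha, eq_neg_of_add_eq_zero_left h1, htn, neg_smul, one_smul]
      rw [this]
      exact htnZ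
  have hw2Z : w * w ∈ Subgroup.center (Matrix.SpecialLinearGroup (Fin 2) F) := by
    rw [mem_center_iff_smul]
    exact ⟨-1, by ring, by rw [hw2, htn]; simp⟩
  obtain ⟨H, hH1, hH2⟩ := hall_of_torus_pow t w
    (Subgroup.center (Matrix.SpecialLinearGroup (Fin 2) F)) hw hwT r hZ hw2Z
  rw [hordr, hdZ] at hH1
  rw [hordr, hSL] at hH2
  have hcardH : Nat.card H = c := by omega
  refine ⟨H, ?_, ?_⟩
  · intro s hs hsH
    rw [hcardH, hcdef] at hsH
    exact prime_dvd_p23 _ _ s hs hsH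
  · -- the index
    obtain ⟨u, hu⟩ : ∃ u, r = 2 * u + 1 := ⟨r / 2, by omega⟩
    rcases hcase with ⟨h4, hn⟩ | ⟨h4, hn⟩
    · have h3q : 3 ∣ Fintype.card F - 1 := by
        rcases h with ⟨h3, -⟩ | ⟨-, h4'⟩
        · exact h3
        · omega
      obtain ⟨j, hj⟩ : ∃ j, Fintype.card F = 4 * j + 1 := ⟨Fintype.card F / 4, by omega⟩
      have hsq : Fintype.card F ^ 2 - 1 = (2 * n) * (2 * (2 * j + 1)) := by
        have e1 : 2 * n = 4 * j := by omega
        have e2 : Fintype.card F ^ 2 = 4 * j * (2 * (2 * j + 1)) + 1 := by rw [hj]; ring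
        rw [e1]; omega
      have hidx : H.index = Fintype.card F * (r * (2 * j + 1)) := by
        have h5 : 2 * c * H.index = 2 * c * (Fintype.card F * (r * (2 * j + 1))) := by
          calc 2 * c * H.index = H.index * (2 * c) := by ring
            _ = Fintype.card F * (Fintype.card F ^ 2 - 1) := hH2
            _ = Fintype.card F * (c * r * (2 * (2 * j + 1))) := by rw [hsq, hr]
            _ = 2 * c * (Fintype.card F * (r * (2 * j + 1))) := by ring
        exact Nat.eq_of_mul_eq_mul_left (by omega) h5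
      have hj3 : ¬ 3 ∣ 2 * j + 1 := by omega
      have hj2 : ¬ 2 ∣ 2 * j + 1 := by omega
      rw [hidx]
      constructor
      · intro hd
        rcases (Nat.Prime.dvd_mul Nat.prime_two).mp hd with hd | hd
        · exact hq2 hd
        · rcases (Nat.Prime.dvd_mul Nat.prime_two).mp hd with hd | hd
          · exact hr2 hd
          · exact hj2 hd
      · intro hd
        rcases (Nat.Prime.dvd_mul Nat.prime_three).mp hd with hd | hd
        · exact hq3 hd
        · rcases (Nat.Prime.dvd_mul Nat.prime_three).mp hd with hd | hd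
          · exact hr3 hd
          · exact hj3 hd
    · have h3q : 3 ∣ Fintype.card F + 1 := by
        rcases h with ⟨-, h4'⟩ | ⟨h3, -⟩
        · omega
        · exact h3
      obtain ⟨j, hj⟩ : ∃ j, Fintype.card F = 4 * j + 3 := ⟨Fintype.card F / 4, by omega⟩
      have hsq : Fintype.card F ^ 2 - 1 = (2 * n) * (2 * (2 * j + 1)) := by
        have e1 : 2 * n = 4 * j + 4 := by omega
        have e2 : Fintype.card F ^ 2 = (4 * j + 4) * (2 * (2 * j + 1)) + 1 := by rw [hj]; ring
        rw [e1]; omega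
      have hidx : H.index = Fintype.card F * (r * (2 * j + 1)) := by
        have h5 : 2 * c * H.index = 2 * c * (Fintype.card F * (r * (2 * j + 1))) := by
          calc 2 * c * H.index = H.index * (2 * c) := by ring
            _ = Fintype.card F * (Fintype.card F ^ 2 - 1) := hH2
            _ = Fintype.card F * (c * r * (2 * (2 * j + 1))) := by rw [hsq, hr]
            _ = 2 * c * (Fintype.card F * (r * (2 * j + 1))) := by ring
        exact Nat.eq_of_mul_eq_mul_left (by omega) h5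
      have hj3 : ¬ 3 ∣ 2 * j + 1 := by omega
      have hj2 : ¬ 2 ∣ 2 * j + 1 := by omega
      rw [hidx]
      constructor
      · intro hd
        rcases (Nat.Prime.dvd_mul Nat.prime_two).mp hd with hd | hd
        · exact hq2 hd
        · rcases (Nat.Prime.dvd_mul Nat.prime_two).mp hd with hd | hd
          · exact hr2 hd
          · exact hj2 hd
      · intro hd
        rcases (Nat.Prime.dvd_mul Nat.prime_three).mp hd with hd | hd
        · exact hq3 hd
        · rcases (Nat.Prime.dvd_mul Nat.prime_three).mp hd with hd | hd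
          · exact hr3 hd
          · exact hj3 hd

end Hall23

end Cfsg.Agent.Lib.helper46
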