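import Mathlib
import Cfsg.Agent.Lib.helper46.SL2
import Cfsg.Agent.Lib.helper46.SL2Tori
import Cfsg.Agent.Lib.helper46.SL2Order4

/-!
# The odd-order-product graph on involutions of `PSL₂(q)`: algebraic part

* `conn_diam_two`: a graph in which any two distinct vertices are adjacent or have a common
  neighbour, and which has two distinct non-adjacent vertices, is connected of diameter `2`.
* `comb_props`: for trace-zero `g, h` of determinant one, the matrix
  `k = α g + β h + s (gh - hg)` has trace zero, determinant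
  `α² + β² - αβτ + s²(4 - τ²)` (`τ = tr(gh)`), `tr(gk) = -2α + βτ`, `tr(hk) = ατ - 2β`.
-/

set_option autoImplicit false

namespace Cfsg.Agent.Lib.helper46

open Matrix

section Graph

variable {V : Type*}

/-- A graph in which any two distinct vertices are adjacent or have a common neighbour, and which
has two distinct non-adjacent vertices, is connected of diameter exactly `2`. -/
theorem conn_diam_two [Nonempty V] (G : SimpleGraph V)
    (h1 : ∀ u v : V, u ≠ v → G.Adj u v ∨ ∃ w, G.Adj u w ∧ G.Adj w v)
    (h2 : ∃ u v : V, u ≠ v ∧ ¬ G.Adj u v) : G.Connected ∧ G.diam = 2 := by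
  have hd : ∀ u v : V, G.edist u v ≤ 2 := by
    intro u v
    by_cases huv : u = v
    · subst huv
      simp
    · rcases h1 u v huv with h | ⟨w, huw, hwv⟩
      · have := (SimpleGraph.Walk.cons h SimpleGraph.Walk.nil).edist_le
        simp only [SimpleGraph.Walk.length_cons, SimpleGraph.Walk.length_nil] at this
        exact this.trans (by norm_num)
      · have := (SimpleGraph.Walk.cons huw (SimpleGraph.Walk.cons hwv SimpleGraph.Walk.nil)).edist_le
        simp only [SimpleGraph.Walk.length_cons, SimpleGraph.Walk.length_nil] at this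
        exact this.trans (by norm_num)
  have hle : G.ediam ≤ 2 := SimpleGraph.ediam_le_of_edist_le hd
  have hne : G.ediam ≠ ⊤ := by
    intro h
    rw [h] at hle
    exact absurd hle (by simp)
  refine ⟨SimpleGraph.connected_of_ediam_ne_top hne, ?_⟩
  obtain ⟨u, v, huv, hadj⟩ := h2
  have h0 : G.edist u v ≠ 0 := by
    rw [Ne, SimpleGraph.edist_eq_zero_iff]
    exact huv
  have h1' : G.edist u v ≠ 1 := by
    rw [Ne, SimpleGraph.edist_eq_one_iff_adj]
    exact hadj
  have hge : (2 : ℕ∞) ≤ G.ediam := by
    refine le_trans ?_ (SimpleGraph.edist_le_ediam (u := u) (v := v))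
    have hfin : G.edist u v ≠ ⊤ := by
      intro h
      have := hd u v
      rw [h] at this
      exact absurd this (by simp)
    obtain ⟨n, hn⟩ := ENat.ne_top_iff_exists.mp hfin
    rw [← hn] at h0 h1' ⊢
    have h0' : n ≠ 0 := by
      intro h; apply h0; rw [h]; rfl
    have h1'' : n ≠ 1 := by
      intro h; apply h1'; rw [h]; rfl
    have : 2 ≤ n := by omega
    exact_mod_cast this
  have heq : G.ediam = 2 := le_antisymm hle hge
  rw [SimpleGraph.diam, heq]
  rfl

end Graph

section Comb

variable {F : Type*} [Field F]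

/-- The combination `k = α g + β h + s (gh - hg)` of two trace-zero matrices of determinant one. -/
theorem comb_props (g h : Matrix (Fin 2) (Fin 2) F) (hg : g.det = 1) (hh : h.det = 1)
    (tg : g 0 0 + g 1 1 = 0) (th : h 0 0 + h 1 1 = 0) (α β s : F) :
    (α • g + β • h + s • (g * h - h * g)) 0 0 + (α • g + β • h + s • (g * h - h * g)) 1 1 = 0 ∧
    (α • g + β • h + s • (g * h - h * g)).det
      = α ^ 2 + β ^ 2 - α * β * ((g * h) 0 0 + (g * h) 1 1)
        + s ^ 2 * (4 - ((g * h) 0 0 + (g * h) 1 1) ^ 2) ∧
    (g * (α • g + β • h + s • (g * h - h * g))) 0 0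
      + (g * (α • g + β • h + s • (g * h - h * g))) 1 1
      = -2 * α + β * ((g * h) 0 0 + (g * h) 1 1) ∧
    (h * (α • g + β • h + s • (g * h - h * g))) 0 0
      + (h * (α • g + β • h + s • (g * h - h * g))) 1 1
      = α * ((g * h) 0 0 + (g * h) 1 1) - 2 * β := by
  have g11 : g 1 1 = -g 0 0 := by linear_combination tg
  have h11 : h 1 1 = -h 0 0 := by linear_combination th
  rw [Matrix.det_fin_two] at hg hh
  rw [g11] at hg
  rw [h11] at hh
  refine ⟨?_, ?_, ?_, ?_⟩
  · simp only [Matrix.add_apply, Matrix.smul_apply, Matrix.sub_apply, Matrix.mul_apply,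
      Fin.sum_univ_two, smul_eq_mul, g11, h11]
    ring
  · rw [Matrix.det_fin_two]
    simp only [Matrix.add_apply, Matrix.smul_apply, Matrix.sub_apply, Matrix.mul_apply,
      Fin.sum_univ_two, smul_eq_mul, g11, h11]
    linear_combination (α ^ 2 - 4 * s ^ 2 * (h 0 0 ^ 2 + h 0 1 * h 1 0)) * hg
      + (β ^ 2 + 4 * s ^ 2) * hh
  · simp only [Matrix.add_apply, Matrix.smul_apply, Matrix.sub_apply, Matrix.mul_apply,
      Fin.sum_univ_two, smul_eq_mul, g11, h11]
    linear_combination (-2 * α) * hg
  · simp only [Matrix.add_apply, Matrix.smul_apply, Matrix.sub_apply, Matrix.mul_apply,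
      Fin.sum_univ_two, smul_eq_mul, g11, h11]
    linear_combination (-2 * β) * hh

end Comb

end Cfsg.Agent.Lib.helper46
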