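import Mathlib
import Cfsg.Agent.Lib.helper46.InvGraph
import Cfsg.Agent.Lib.helper46.Sylow2Torus

set_option autoImplicit false

namespace Cfsg.Agent.Lib.helper46

open Matrix

section Squares

variable {F : Type*} [Field F] [Fintype F]

/-- The product of two non-squares of a finite field is a square. -/
theorem isSquare_mul_of_not (a b : F) (ha : ¬ IsSquare a) (hb : ¬ IsSquare b) :
    IsSquare (a * b) := by
  classical
  have ha0 : a ≠ 0 := fun h => ha (h ▸ IsSquare.zero)
  have hb0 : b ≠ 0 := fun h => hb (h ▸ IsSquare.zero)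
  rw [← quadraticChar_one_iff_isSquare (mul_ne_zero ha0 hb0), map_mul,
    quadraticChar_neg_one_iff_not_isSquare.mpr ha, quadraticChar_neg_one_iff_not_isSquare.mpr hb]
  norm_num

/-- If `-1` is not a square, the negative of a non-square is a square. -/
theorem isSquare_neg_of_not (hm : ¬ IsSquare (-1 : F)) (a : F) (ha : ¬ IsSquare a) :
    IsSquare (-a) := by
  have := isSquare_mul_of_not (-1) a hm ha
  rwa [neg_one_mul] at this

/-- If `-1` is not a square, the negative of a nonzero square is not a square. -/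
theorem not_isSquare_neg_of_sq (hm : ¬ IsSquare (-1 : F)) (a : F) (ha0 : a ≠ 0) :
    ¬ IsSquare (-(a * a)) := by
  rintro ⟨r, hr⟩
  apply hm
  refine ⟨r / a, ?_⟩
  field_simp
  linear_combination hr

/-- **The parameters of a common neighbour**, `q ≡ 3 (mod 4)`: if `4 - τ²` is a nonzero
square then there are a sign `ε` and `α, s` with `α²(2 + ετ) + s²(4 - τ²) = 1` such that
`α²(2 + ετ)² - 4` is a nonzero square. -/
theorem exists_params (hq : Fintype.card F % 4 = 3) (h4 : 4 ≤ Fintype.card F) (τ ρ : F)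
    (hρ : ρ ^ 2 = 4 - τ ^ 2) (hρ0 : ρ ≠ 0) :
    ∃ ε α s δ : F, (ε = 1 ∨ ε = -1) ∧ α ^ 2 * (2 + ε * τ) + s ^ 2 * (4 - τ ^ 2) = 1 ∧
      α ^ 2 * (2 + ε * τ) ^ 2 - 4 = δ ^ 2 ∧ δ ≠ 0 := by
  classical
  have hm : ¬ IsSquare (-1 : F) := by
    rw [FiniteField.isSquare_neg_one_iff]
    simp [hq]
  have hoddq : Odd (Fintype.card F) := Nat.odd_iff.mpr (Nat.odd_of_mod_four_eq_three hq)
  have h2 : (2 : F) ≠ 0 := two_ne_zero_of_odd_card hoddq
  have hp : 2 + τ ≠ 0 := by
    intro h
    apply hρ0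
    have : ρ ^ 2 = 0 := by rw [hρ]; linear_combination (2 - τ) * h
    exact pow_eq_zero_iff (two_ne_zero) |>.mp this
  have hmn : 2 - τ ≠ 0 := by
    intro h
    apply hρ0
    have : ρ ^ 2 = 0 := by rw [hρ]; linear_combination (2 + τ) * h
    exact pow_eq_zero_iff (two_ne_zero) |>.mp this
  by_cases hA : IsSquare (2 + τ)
  · -- case A
    obtain ⟨σ, hσ⟩ := hA
    obtain ⟨μ, hμ⟩ : ∃ μ : F, σ = 2 * μ := ⟨σ / 2, by field_simp⟩
    subst hμ
    have hσ' : 2 + τ = 4 * μ ^ 2 := by rw [hσ]; ring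
    have hμ0 : μ ≠ 0 := by
      rintro rfl
      apply hp
      rw [hσ']
      ring
    have hm0 : μ ^ 2 ≠ 0 := pow_ne_zero 2 hμ0
    have hρ' : ρ ^ 2 = 16 * μ ^ 2 * (1 - μ ^ 2) := by
      rw [hρ]
      linear_combination (2 - τ - 4 * μ ^ 2) * hσ'
    have h4F : (4 : F) ≠ 0 := by
      have : (4 : F) = 2 * 2 := by norm_num
      rw [this]
      exact mul_ne_zero h2 h2
    have hP : ∃ j : ℕ, ¬ IsSquare (1 - (μ ^ 2) ^ j) := by
      refine ⟨Fintype.card F - 2, ?_⟩
      have hpow : (μ ^ 2) ^ (Fintype.card F - 2) * μ ^ 2 = 1 := by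
        rw [← pow_succ]
        have : Fintype.card F - 2 + 1 = Fintype.card F - 1 := by omega
        rw [this]
        exact FiniteField.pow_card_sub_one_eq_one _ hm0
      have hinv : (μ ^ 2) ^ (Fintype.card F - 2) = (μ ^ 2)⁻¹ :=
        eq_inv_of_mul_eq_one_left hpow
      rw [hinv]
      have h3 : 1 - (μ ^ 2)⁻¹ = -((ρ / (4 * μ * μ)) * (ρ / (4 * μ * μ))) := by
        field_simp
        linear_combination hρ'
      rw [h3]
      exact not_isSquare_neg_of_sq hm _
        (div_ne_zero hρ0 (mul_ne_zero (mul_ne_zero h4F hμ0) hμ0))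
    have hj := Nat.find_spec hP
    have hj0 : Nat.find hP ≠ 0 := by
      intro h0
      rw [h0] at hj
      apply hj
      simp
    obtain ⟨j₁, hj₁⟩ := Nat.exists_eq_succ_of_ne_zero hj0
    have hsq : IsSquare (1 - (μ ^ 2) ^ j₁) := by
      by_contra hcon
      exact Nat.find_min hP (by omega) hcon
    obtain ⟨R, hR⟩ := hsq
    rw [hj₁, Nat.succ_eq_add_one] at hj
    obtain ⟨δ₀, hδ₀⟩ := isSquare_neg_of_not hm _ hj
    have hδ₀0 : δ₀ ≠ 0 := by
      rintro rfl
      apply hj
      have : 1 - (μ ^ 2) ^ (j₁ + 1) = 0 := by linear_combination -hδ₀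
      rw [this]
      exact IsSquare.zero
    have e1 : (μ ^ j₁ / (2 * μ)) ^ 2 * (2 + τ) = (μ ^ 2) ^ j₁ := by
      rw [hσ']
      field_simp
      ring
    have e2 : (R / ρ) ^ 2 * (4 - τ ^ 2) = R * R := by
      rw [← hρ]
      field_simp
    refine ⟨1, μ ^ j₁ / (2 * μ), R / ρ, 2 * δ₀, Or.inl rfl, ?_, ?_, mul_ne_zero h2 hδ₀0⟩
    · rw [one_mul]
      linear_combination e1 + e2 - hR
    · rw [one_mul]
      rw [pow_succ] at hδ₀
      linear_combination (2 + τ) * e1 + (μ ^ 2) ^ j₁ * hσ' + 4 * hδ₀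
  · -- case B
    obtain ⟨ν, hν⟩ := isSquare_neg_of_not hm _ hA
    have hν0 : ν ≠ 0 := by
      rintro rfl
      apply hp
      linear_combination -hν
    by_cases hτ : τ = 0
    · subst hτ
      have h2ns : ¬ IsSquare (2 : F) := by simpa using hA
      obtain ⟨u, hu0, hu1, hum1, huns⟩ :
          ∃ u : F, u ≠ 0 ∧ u ≠ 1 ∧ u ≠ -1 ∧ ¬ IsSquare (u * (1 - u ^ 2)) := by
        obtain ⟨u, -, hu⟩ := Finset.exists_mem_notMem_of_card_lt_card
          (s := ({0, 1, -1} : Finset F)) (t := Finset.univ) (by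
            rw [Finset.card_univ]
            exact lt_of_le_of_lt Finset.card_le_three (by omega))
        simp only [Finset.mem_insert, Finset.mem_singleton, not_or] at hu
        obtain ⟨hu0, hu1, hum1⟩ := hu
        have hw0 : u * (1 - u ^ 2) ≠ 0 := by
          have : u * (1 - u ^ 2) = u * ((1 - u) * (1 + u)) := by ring
          rw [this]
          refine mul_ne_zero hu0 (mul_ne_zero ?_ ?_)
          · intro h; apply hu1; linear_combination -h
          · intro h; apply hum1; linear_combination h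
        by_cases hs : IsSquare (u * (1 - u ^ 2))
        · refine ⟨-u, neg_ne_zero.mpr hu0, ?_, ?_, ?_⟩
          · intro h; apply hum1; linear_combination -h
          · intro h; apply hu1; linear_combination -h
          · obtain ⟨r, hr⟩ := hs
            have hr0 : r ≠ 0 := by
              rintro rfl
              apply hw0
              rw [hr]
              ring
            have : (-u) * (1 - (-u) ^ 2) = -(r * r) := by rw [← hr]; ring
            rw [this]
            exact not_isSquare_neg_of_sq hm r hr0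
        · exact ⟨u, hu0, hu1, hum1, hs⟩
      have hw0 : u * (1 - u ^ 2) ≠ 0 := fun h => huns (h ▸ IsSquare.zero)
      obtain ⟨κ, hκ⟩ := isSquare_mul_of_not 2 _ h2ns huns
      obtain ⟨κ', hκ'⟩ := isSquare_neg_of_not hm _ huns
      have hκ0 : κ ≠ 0 := by
        rintro rfl
        apply mul_ne_zero h2 hw0
        rw [hκ]
        ring
      have hκ'0 : κ' ≠ 0 := by
        rintro rfl
        apply hw0
        linear_combination -hκ'
      have h4F : (4 : F) ≠ 0 := by
        have : (4 : F) = 2 * 2 := by norm_num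
        rw [this]
        exact mul_ne_zero h2 h2
      refine ⟨1, (u ^ 2 - 2 * u - 1) / (2 * κ), (u ^ 2 + 1) / (4 * κ'), (u ^ 2 + 2 * u - 1) / κ,
        Or.inl rfl, ?_, ?_, ?_⟩
      · field_simp
        linear_combination (-32 * (u ^ 2 - 2 * u - 1) ^ 2 + 128 * (u * (1 - u ^ 2))) * hκ' + (-16 * (u ^ 2 + 1) ^ 2 + 64 * κ' ^ 2) * hκ
      · field_simp
        linear_combination 16 * hκ
      · apply div_ne_zero _ hκ0
        intro h
        apply h2ns
        exact ⟨u + 1, by linear_combination -h⟩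
    · by_cases hB : IsSquare (2 * τ)
      · obtain ⟨θ, hθ⟩ := hB
        have hθ0 : θ ≠ 0 := by
          rintro rfl
          apply mul_ne_zero h2 hτ
          rw [hθ]
          ring
        refine ⟨1, 1 / θ, 1 / (θ * ν), (2 - τ) / θ, Or.inl rfl, ?_, ?_, div_ne_zero hmn hθ0⟩
        · field_simp
          linear_combination (-(2 - τ)) * hν + ν ^ 2 * hθ
        · field_simp
          linear_combination 4 * hθ
      · obtain ⟨θ, hθ⟩ := isSquare_neg_of_not hm _ hB
        have hθ0 : θ ≠ 0 := by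
          rintro rfl
          apply mul_ne_zero h2 hτ
          linear_combination -hθ
        refine ⟨-1, 1 / θ, ν / (θ * ρ), (2 + τ) / θ, Or.inr rfl, ?_, ?_, div_ne_zero hp hθ0⟩
        · field_simp
          linear_combination (2 + τ) * hρ + ρ ^ 2 * hθ - (4 - τ ^ 2) * hν
        · field_simp
          linear_combination 4 * hθ

end Squares

section PSL

variable {F : Type*} [Field F]

local notation "SL2" => Matrix.SpecialLinearGroup (Fin 2) F
local notation "PSL2" => Matrix.ProjectiveSpecialLinearGroup (Fin 2) F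
local notation "Mat" => Matrix (Fin 2) (Fin 2) F

/-- A scalar odd power of the matrix gives odd order in `PSL₂`. -/
theorem odd_orderOf_mk_of_pow (M : SL2) (n : ℕ) (hn : Odd n) (c : F) (hc : c ^ 2 = 1)
    (h : (M : Mat) ^ n = c • (1 : Mat)) : Odd (orderOf (QuotientGroup.mk M : PSL2)) := by
  have h1 : (QuotientGroup.mk M : PSL2) ^ n = 1 := (mk_pow_eq_one_iff M n).mpr ⟨c, hc, h⟩
  exact Odd.of_dvd_nat hn (orderOf_dvd_of_pow_eq_one h1)

/-- Elements of trace `±2` have odd order in `PSL₂` in odd characteristic. -/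
theorem odd_of_trace_two (p : ℕ) [Fact p.Prime] [CharP F p] (hp : p ≠ 2) (M : SL2) (l : F)
    (hl : l * l = 1) (ht : (M : Mat) 0 0 + (M : Mat) 1 1 = 2 * l) :
    Odd (orderOf (QuotientGroup.mk M : PSL2)) := by
  have h1 := pow_char_eq_of_trace p (M : Mat) M.det_coe l hl ht
  refine odd_orderOf_mk_of_pow M p ((Fact.out : p.Prime).odd_of_ne_two hp) (l ^ p) ?_ h1
  rw [← pow_mul, mul_comm, pow_mul, pow_two, hl, one_pow]

/-- Split elements have odd order in `PSL₂(q)`, `q ≡ 3 (mod 4)`. -/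
theorem odd_of_split [Fintype F] (hq : Fintype.card F % 4 = 3) (M : SL2) (δ : F) (hδ : δ ≠ 0)
    (h : ((M : Mat) 0 0 + (M : Mat) 1 1) ^ 2 - 4 = δ ^ 2) :
    Odd (orderOf (QuotientGroup.mk M : PSL2)) := by
  have hoddq : Odd (Fintype.card F) := Nat.odd_iff.mpr (Nat.odd_of_mod_four_eq_three hq)
  have h2 : (2 : F) ≠ 0 := two_ne_zero_of_odd_card hoddq
  have hsum : ((M : Mat) 0 0 + (M : Mat) 1 1 + δ) / 2 + ((M : Mat) 0 0 + (M : Mat) 1 1 - δ) / 2
      = (M : Mat) 0 0 + (M : Mat) 1 1 := by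
    field_simp
    ring
  have hprod : ((M : Mat) 0 0 + (M : Mat) 1 1 + δ) / 2 * (((M : Mat) 0 0 + (M : Mat) 1 1 - δ) / 2)
      = 1 := by
    field_simp
    linear_combination h
  have hne : ((M : Mat) 0 0 + (M : Mat) 1 1 + δ) / 2 ≠ ((M : Mat) 0 0 + (M : Mat) 1 1 - δ) / 2 := by
    intro e
    apply hδ
    have e2 : ((M : Mat) 0 0 + (M : Mat) 1 1 + δ) / 2 * 2
        = ((M : Mat) 0 0 + (M : Mat) 1 1 - δ) / 2 * 2 := by rw [e]
    rw [div_mul_cancel₀ _ h2, div_mul_cancel₀ _ h2] at e2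
    have e3 : 2 * δ = 0 := by linear_combination e2
    rcases mul_eq_zero.mp e3 with h' | h'
    · exact absurd h' h2
    · exact h'
  have hl0 : ((M : Mat) 0 0 + (M : Mat) 1 1 + δ) / 2 ≠ 0 := left_ne_zero_of_mul_eq_one hprod
  obtain ⟨n, hn⟩ : ∃ n, Fintype.card F = 4 * n + 3 := ⟨Fintype.card F / 4, by omega⟩
  have hlq := FiniteField.pow_card_sub_one_eq_one _ hl0
  have hk : Fintype.card F - 1 = 2 * (2 * n + 1) := by omega
  have hc : ((((M : Mat) 0 0 + (M : Mat) 1 1 + δ) / 2) ^ (2 * n + 1)) ^ 2 = 1 := by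
    rw [← pow_mul, mul_comm, ← hk]
    exact hlq
  have hμ : (((M : Mat) 0 0 + (M : Mat) 1 1 - δ) / 2) ^ (2 * n + 1)
      = (((M : Mat) 0 0 + (M : Mat) 1 1 + δ) / 2) ^ (2 * n + 1) := by
    have h3 : (((M : Mat) 0 0 + (M : Mat) 1 1 - δ) / 2) ^ (2 * n + 1)
        * (((M : Mat) 0 0 + (M : Mat) 1 1 + δ) / 2) ^ (2 * n + 1) = 1 := by
      rw [← mul_pow, mul_comm, hprod, one_pow]
    linear_combination
      (((M : Mat) 0 0 + (M : Mat) 1 1 + δ) / 2) ^ (2 * n + 1) * h3
      - (((M : Mat) 0 0 + (M : Mat) 1 1 - δ) / 2) ^ (2 * n + 1) * hc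
  have h5 := pow_eq_smul_of_eigen (M : Mat) M.det_coe _ _ hsum hprod hne (2 * n + 1) _ rfl hμ
  exact odd_orderOf_mk_of_pow M (2 * n + 1) ⟨n, rfl⟩ _ hc h5

/-- An element of order `2` of `PSL₂` (`2 ≠ 0`) is the image of a matrix of trace zero. -/
theorem trace_zero_of_orderOf_mk (h2 : (2 : F) ≠ 0) (X : SL2)
    (hX : orderOf (QuotientGroup.mk X : PSL2) = 2) : (X : Mat) 0 0 + (X : Mat) 1 1 = 0 := by
  have h1 : (QuotientGroup.mk X : PSL2) ^ 2 = 1 := by
    have h0 := pow_orderOf_eq_one (QuotientGroup.mk X : PSL2)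
    rw [hX] at h0
    exact h0
  have hne : (QuotientGroup.mk X : PSL2) ≠ 1 := by
    intro h
    rw [h, orderOf_one] at hX
    omega
  rw [mk_pow_eq_one_iff] at h1
  obtain ⟨c, hc, hXc⟩ := h1
  have hfac : (c - 1) * (c + 1) = 0 := by linear_combination hc
  rw [pow_two (X : Mat)] at hXc
  rcases mul_eq_zero.mp hfac with h | h
  · exfalso
    apply hne
    rw [QuotientGroup.eq_one_iff, mem_center_iff_smul]
    rw [sub_eq_zero.mp h, one_smul] at hXc
    rcases sq_eq_one_cases h2 _ X.det_coe hXc with h3 | h3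
    · exact ⟨1, by norm_num, by rw [h3, one_smul]⟩
    · exact ⟨-1, by norm_num, by rw [h3, neg_smul, one_smul]⟩
  · rw [eq_neg_of_add_eq_zero_left h, neg_smul, one_smul] at hXc
    exact trace_zero_of_sq _ X.det_coe hXc

/-- The image in `PSL₂` (`2 ≠ 0`) of a matrix of trace zero has order `2`. -/
theorem orderOf_mk_of_trace_zero (h2 : (2 : F) ≠ 0) (X : SL2)
    (hX : (X : Mat) 0 0 + (X : Mat) 1 1 = 0) : orderOf (QuotientGroup.mk X : PSL2) = 2 := by
  have hCH := cayley_two (X : Mat) X.det_coe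
  rw [hX, zero_smul, zero_sub] at hCH
  apply orderOf_eq_prime
  · rw [mk_pow_eq_one_iff]
    exact ⟨-1, by norm_num, by rw [pow_two, hCH, neg_smul, one_smul]⟩
  · intro h
    rw [QuotientGroup.eq_one_iff, mem_center_iff_smul] at h
    obtain ⟨c, hc, hXc⟩ := h
    have h00 : (X : Mat) 0 0 = c := by rw [hXc]; simp
    have h11 : (X : Mat) 1 1 = c := by rw [hXc]; simp
    rw [h00, h11] at hX
    have hc0 : c = 0 := by
      have : 2 * c = 0 := by linear_combination hX
      rcases mul_eq_zero.mp this with h | h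
      · exact absurd h h2
      · exact h
    rw [hc0] at hc
    norm_num at hc

/-- If `k` and `g` have the same image in `PSL₂` then `k = c • g` with `c² = 1`. -/
theorem exists_smul_of_mk_eq (g k : SL2)
    (h : (QuotientGroup.mk k : PSL2) = QuotientGroup.mk g) :
    ∃ c : F, c ^ 2 = 1 ∧ (k : Mat) = c • (g : Mat) := by
  have h1 : g⁻¹ * k ∈ Subgroup.center SL2 := QuotientGroup.eq.mp h.symm
  rw [mem_center_iff_smul] at h1
  obtain ⟨c, hc, hgk⟩ := h1
  refine ⟨c, hc, ?_⟩
  have : (k : Mat) = (g : Mat) * ((g⁻¹ * k : SL2) : Mat) := by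
    rw [← Matrix.SpecialLinearGroup.coe_mul, mul_inv_cancel_left]
  rw [this, hgk, mul_smul_comm, mul_one]

/-- The combination `α g + β h + s (gh - hg)` as an element of `SL₂`. -/
theorem exists_comb (g h : SL2) (tg : (g : Mat) 0 0 + (g : Mat) 1 1 = 0)
    (th : (h : Mat) 0 0 + (h : Mat) 1 1 = 0) (α β s : F)
    (hdet : α ^ 2 + β ^ 2 - α * β * (((g : Mat) * (h : Mat)) 0 0 + ((g : Mat) * (h : Mat)) 1 1)
        + s ^ 2 * (4 - (((g : Mat) * (h : Mat)) 0 0 + ((g : Mat) * (h : Mat)) 1 1) ^ 2) = 1) :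
    ∃ k : SL2, (k : Mat) 0 0 + (k : Mat) 1 1 = 0 ∧
      ((g * k : SL2) : Mat) 0 0 + ((g * k : SL2) : Mat) 1 1
        = -2 * α + β * (((g : Mat) * (h : Mat)) 0 0 + ((g : Mat) * (h : Mat)) 1 1) ∧
      ((h * k : SL2) : Mat) 0 0 + ((h * k : SL2) : Mat) 1 1
        = α * (((g : Mat) * (h : Mat)) 0 0 + ((g : Mat) * (h : Mat)) 1 1) - 2 * β := by
  obtain ⟨h1, h2, h3, h4⟩ := comb_props (g : Mat) (h : Mat) g.det_coe h.det_coe tg th α β s
  have hd : (α • (g : Mat) + β • (h : Mat)
      + s • ((g : Mat) * (h : Mat) - (h : Mat) * (g : Mat))).det = 1 := by rw [h2]; exact hdet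
  obtain ⟨k, hkc⟩ : ∃ k : SL2, (k : Mat) = α • (g : Mat) + β • (h : Mat)
      + s • ((g : Mat) * (h : Mat) - (h : Mat) * (g : Mat)) := ⟨⟨_, hd⟩, rfl⟩
  refine ⟨k, ?_, ?_, ?_⟩
  · rw [hkc]
    exact h1
  · rw [Matrix.SpecialLinearGroup.coe_mul, hkc]
    exact h3
  · rw [Matrix.SpecialLinearGroup.coe_mul, hkc]
    exact h4

/-- If `k` and `g` (of trace zero) have the same image in `PSL₂`, then `tr(gk)² = 4` and
`tr(hk)² = tr(gh)²`. -/
theorem trace_sq_of_mk_eq (g h k : SL2) (tg : (g : Mat) 0 0 + (g : Mat) 1 1 = 0)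
    (hk : (QuotientGroup.mk k : PSL2) = QuotientGroup.mk g) :
    (((g * k : SL2) : Mat) 0 0 + ((g * k : SL2) : Mat) 1 1) ^ 2 = 4 ∧
    (((h * k : SL2) : Mat) 0 0 + ((h * k : SL2) : Mat) 1 1) ^ 2
      = (((g : Mat) * (h : Mat)) 0 0 + ((g : Mat) * (h : Mat)) 1 1) ^ 2 := by
  obtain ⟨c, hc, hkc⟩ := exists_smul_of_mk_eq g k hk
  have hCH := cayley_two (g : Mat) g.det_coe
  rw [tg, zero_smul, zero_sub] at hCH
  constructor
  · rw [Matrix.SpecialLinearGroup.coe_mul, hkc, mul_smul_comm, hCH]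
    simp only [Matrix.smul_apply, Matrix.neg_apply, Matrix.one_apply_eq, smul_eq_mul]
    linear_combination 4 * hc
  · rw [Matrix.SpecialLinearGroup.coe_mul, hkc, mul_smul_comm]
    simp only [Matrix.smul_apply, Matrix.mul_apply, Fin.sum_univ_two, smul_eq_mul]
    linear_combination ((h : Mat) 0 0 * (g : Mat) 0 0 + (h : Mat) 0 1 * (g : Mat) 1 0
      + ((h : Mat) 1 0 * (g : Mat) 0 1 + (h : Mat) 1 1 * (g : Mat) 1 1)) ^ 2 * hc

/-- **Common neighbours, odd `q`.** Two distinct involutions of `PSL₂(q)` (images of the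
trace-zero matrices `g`, `h`) have a product of odd order, or there is a third involution (image
of a trace-zero `k`) whose products with both have odd order. -/
theorem common_neighbor_odd [Fintype F] (hodd : Odd (Fintype.card F)) (h4 : 4 ≤ Fintype.card F)
    (g h : SL2) (tg : (g : Mat) 0 0 + (g : Mat) 1 1 = 0)
    (th : (h : Mat) 0 0 + (h : Mat) 1 1 = 0) :
    Odd (orderOf ((QuotientGroup.mk g : PSL2) * QuotientGroup.mk h)) ∨
    ∃ k : SL2, (k : Mat) 0 0 + (k : Mat) 1 1 = 0 ∧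
      (QuotientGroup.mk k : PSL2) ≠ QuotientGroup.mk g ∧
      (QuotientGroup.mk k : PSL2) ≠ QuotientGroup.mk h ∧
      Odd (orderOf ((QuotientGroup.mk g : PSL2) * QuotientGroup.mk k)) ∧
      Odd (orderOf ((QuotientGroup.mk h : PSL2) * QuotientGroup.mk k)) := by
  classical
  have h2 : (2 : F) ≠ 0 := two_ne_zero_of_odd_card hodd
  obtain ⟨p, hp⟩ := CharP.exists F
  haveI : Fact p.Prime := ⟨CharP.char_is_prime F p⟩
  have hp2 : p ≠ 2 := by
    rintro rfl
    apply h2
    exact_mod_cast CharP.cast_eq_zero F 2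
  have hmul : ∀ a b : SL2, (QuotientGroup.mk a : PSL2) * QuotientGroup.mk b
      = QuotientGroup.mk (a * b) := fun a b => rfl
  have hsymm : ((h : Mat) * (g : Mat)) 0 0 + ((h : Mat) * (g : Mat)) 1 1
      = ((g : Mat) * (h : Mat)) 0 0 + ((g : Mat) * (h : Mat)) 1 1 := by
    simp only [Matrix.mul_apply, Fin.sum_univ_two]
    ring
  generalize hτ : ((g : Mat) * (h : Mat)) 0 0 + ((g : Mat) * (h : Mat)) 1 1 = τ at hsymm
  have htr : ((g * h : SL2) : Mat) 0 0 + ((g * h : SL2) : Mat) 1 1 = τ := by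
    rw [Matrix.SpecialLinearGroup.coe_mul]
    exact hτ
  by_cases hτ4 : τ ^ 2 = 4
  · left
    rw [hmul]
    have : (τ - 2) * (τ + 2) = 0 := by linear_combination hτ4
    rcases mul_eq_zero.mp this with h' | h'
    · exact odd_of_trace_two p hp2 (g * h) 1 (by ring) (by rw [htr]; linear_combination h')
    · exact odd_of_trace_two p hp2 (g * h) (-1) (by ring) (by rw [htr]; linear_combination h')
  by_cases hi : IsSquare (-1 : F)
  · right
    obtain ⟨i, hi⟩ := hi
    have h2τ : 2 - τ ≠ 0 := by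
      intro h'
      apply hτ4
      linear_combination (-(2 + τ)) * h'
    obtain ⟨k, hk0, hgk, hhk⟩ := exists_comb g h tg th (-2 / (2 - τ)) (-2 / (2 - τ)) (i / (2 - τ))
      (by
        rw [hτ]
        field_simp
        linear_combination (τ ^ 2 - 4) * hi)
    rw [hτ] at hgk hhk
    have hgk2 : ((g * k : SL2) : Mat) 0 0 + ((g * k : SL2) : Mat) 1 1 = 2 := by
      rw [hgk]
      field_simp
      ring
    have hhk2 : ((h * k : SL2) : Mat) 0 0 + ((h * k : SL2) : Mat) 1 1 = 2 := by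
      rw [hhk]
      field_simp
      ring
    refine ⟨k, hk0, ?_, ?_, ?_, ?_⟩
    · intro hkg
      obtain ⟨-, h6⟩ := trace_sq_of_mk_eq g h k tg hkg
      rw [hτ, hhk2] at h6
      apply hτ4
      linear_combination -h6
    · intro hkh
      obtain ⟨-, h6⟩ := trace_sq_of_mk_eq h g k th hkh
      rw [hsymm, hgk2] at h6
      apply hτ4
      linear_combination -h6
    · rw [hmul]
      exact odd_of_trace_two p hp2 (g * k) 1 (by ring) (by rw [hgk2]; ring)
    · rw [hmul]
      exact odd_of_trace_two p hp2 (h * k) 1 (by ring) (by rw [hhk2]; ring)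
  · have hq : Fintype.card F % 4 = 3 := by
      by_contra hcon
      exact hi (FiniteField.isSquare_neg_one_iff.mpr hcon)
    by_cases hsq : IsSquare (τ ^ 2 - 4)
    · left
      rw [hmul]
      obtain ⟨δ, hδ⟩ := hsq
      have hδ0 : δ ≠ 0 := by
        rintro rfl
        apply hτ4
        linear_combination hδ
      exact odd_of_split hq (g * h) δ hδ0 (by rw [htr, hδ]; ring)
    · right
      obtain ⟨ρ, hρ⟩ := isSquare_neg_of_not hi _ hsq
      have hρ0 : ρ ≠ 0 := by
        rintro rfl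
        apply hτ4
        linear_combination -hρ
      obtain ⟨ε, α, s, δ, hε, h1, h2', hδ0⟩ := exists_params hq h4 τ ρ
        (by linear_combination -hρ) hρ0
      have hε2 : ε * ε = 1 := by rcases hε with rfl | rfl <;> ring
      obtain ⟨k, hk0, hgk, hhk⟩ := exists_comb g h tg th α (-ε * α) (ε * s)
        (by
          rw [hτ]
          linear_combination h1 + (α ^ 2 + s ^ 2 * (4 - τ ^ 2)) * hε2)
      rw [hτ] at hgk hhk
      have hgk2 : (((g * k : SL2) : Mat) 0 0 + ((g * k : SL2) : Mat) 1 1) ^ 2 - 4 = δ ^ 2 := by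
        rw [hgk]
        linear_combination h2'
      have hhk2 : (((h * k : SL2) : Mat) 0 0 + ((h * k : SL2) : Mat) 1 1) ^ 2 - 4 = δ ^ 2 := by
        rw [hhk]
        linear_combination h2' - α ^ 2 * (τ ^ 2 - 4) * hε2
      have hδ2 : δ ^ 2 ≠ 0 := pow_ne_zero 2 hδ0
      refine ⟨k, hk0, ?_, ?_, ?_, ?_⟩
      · intro hkg
        obtain ⟨h6, -⟩ := trace_sq_of_mk_eq g h k tg hkg
        apply hδ2
        rw [← hgk2, h6]
        ring
      · intro hkh
        obtain ⟨h6, -⟩ := trace_sq_of_mk_eq h g k th hkh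
        apply hδ2
        rw [← hhk2, h6]
        ring
      · rw [hmul]
        exact odd_of_split hq (g * k) δ hδ0 hgk2
      · rw [hmul]
        exact odd_of_split hq (h * k) δ hδ0 hhk2

end PSL

end Cfsg.Agent.Lib.helper46
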