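import Mathlib
import Cfsg.Agent.Lib.helper46.TorusAll
import Cfsg.Agent.Lib.helper98.DicksonTame
import Cfsg.Agent.Lib.helper98.DicksonWild
import Cfsg.Agent.Lib.helper98.DicksonMax
import Cfsg.Agent.Lib.helper7.CardSL

/-!
# Solvability of proper subgroups of `SL₂(q)` (helper46)

Generic solvability lemmas (groups of order dividing `48`, abelian subgroups of index two),
solvability of the Borel subgroup, the fine structure of subgroups of `SL₂(2ⁿ)` of order
divisible by `4`, and the solvability of the proper subgroups in the minimal simple cases.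
-/

set_option autoImplicit false

namespace Cfsg.Agent.Lib.helper46

open Cfsg.Agent.Lib.helper98

section GenericSolvable

variable {G : Type*} [Group G]

/-- A normal commutative subgroup with commutative quotient. -/
theorem solvable_of_normal_comm (N : Subgroup G) [N.Normal]
    (hN : ∀ a ∈ N, ∀ b ∈ N, a * b = b * a) (hQ : ∀ a b : G ⧸ N, a * b = b * a) :
    Group.IsSolvable G := by
  have h1 : Group.IsSolvable N :=
    Group.isSolvable_of_comm (fun a b => Subtype.ext (hN a a.2 b b.2))
  have h2 : Group.IsSolvable (G ⧸ N) := Group.isSolvable_of_comm hQ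
  exact Group.isSolvable_of_ker_le_range N.subtype (QuotientGroup.mk' N)
    (by rw [QuotientGroup.ker_mk', Subgroup.range_subtype])

/-- A group of prime order or order one is commutative. -/
theorem comm_of_card_le_three [Finite G] (h : Nat.card G ≤ 3) : ∀ a b : G, a * b = b * a := by
  have hpos : 0 < Nat.card G := Nat.card_pos
  have hcases : Nat.card G = 1 ∨ Nat.card G = 2 ∨ Nat.card G = 3 := by omega
  rcases hcases with h1 | h1 | h1
  · have := (Nat.card_eq_one_iff_unique.mp h1).1
    intro a b
    rw [Subsingleton.elim a 1, Subsingleton.elim b 1]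
  · have : Fact (Nat.Prime 2) := ⟨Nat.prime_two⟩
    have hc := isCyclic_of_prime_card h1
    intro a b
    exact (IsCyclic.commGroup (α := G)).mul_comm a b
  · have : Fact (Nat.Prime 3) := ⟨Nat.prime_three⟩
    have hc := isCyclic_of_prime_card h1
    intro a b
    exact (IsCyclic.commGroup (α := G)).mul_comm a b

/-- A commutative subgroup of index at most two. -/
theorem solvable_of_index_two_comm [Finite G] (N : Subgroup G) (hidx : N.index = 2)
    (hN : ∀ a ∈ N, ∀ b ∈ N, a * b = b * a) : Group.IsSolvable G := by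
  have hn : N.Normal := Subgroup.normal_of_index_eq_two hidx
  refine solvable_of_normal_comm N hN (comm_of_card_le_three ?_)
  rw [← Subgroup.index_eq_card, hidx]
  norm_num

/-- Groups of order dividing `6` are solvable. -/
theorem solvable_of_card_dvd_six [Finite G] (h : Nat.card G ∣ 6) : Group.IsSolvable G := by
  classical
  have hle := Nat.le_of_dvd (by norm_num) h
  have hpos : 0 < Nat.card G := Nat.card_pos
  by_cases h6 : Nat.card G = 6
  · have : Fact (Nat.Prime 3) := ⟨Nat.prime_three⟩
    obtain ⟨Q, hQ⟩ := Sylow.exists_subgroup_card_pow_prime (G := G) 3 (n := 1)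
      (by rw [h6]; norm_num)
    have hidx : Q.index = 2 := by
      have := Subgroup.card_mul_index Q
      rw [hQ, h6] at this
      omega
    refine solvable_of_index_two_comm Q hidx ?_
    have hc := comm_of_card_le_three (G := Q) (by rw [hQ]; norm_num)
    intro a ha b hb
    have := hc ⟨a, ha⟩ ⟨b, hb⟩
    exact congrArg Subtype.val this
  · have h3 : Nat.card G ≤ 3 := by
      obtain ⟨k, hk⟩ := h
      have : k ≠ 1 := by rintro rfl; omega
      have : k ≠ 0 := by rintro rfl; omega
      have : 2 ≤ k := by omega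
      nlinarith
    exact Group.isSolvable_of_comm (comm_of_card_le_three h3)

/-- Groups of order dividing `48` are solvable. -/
theorem solvable_of_card_dvd_48 [Finite G] (h : Nat.card G ∣ 48) : Group.IsSolvable G := by
  classical
  have : Fact (Nat.Prime 2) := ⟨Nat.prime_two⟩
  obtain ⟨P⟩ : Nonempty (Sylow 2 G) := inferInstance
  have hPcard := Sylow.card_eq_multiplicity P
  have hidx3 : (P : Subgroup G).index ∣ 3 := by
    have h1 := Subgroup.card_mul_index (P : Subgroup G)
    have h2 := P.not_dvd_index
    have h3 : (P : Subgroup G).index ∣ 48 := Dvd.dvd.trans ⟨_, h1.symm.trans (mul_comm _ _)⟩ h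
    have h4 : (48 : ℕ) = 2 ^ 4 * 3 := by norm_num
    rw [h4] at h3
    have hcop : Nat.Coprime (P : Subgroup G).index (2 ^ 4) :=
      Nat.Coprime.pow_right 4 (by
        rw [Nat.coprime_comm]
        exact (Nat.Prime.coprime_iff_not_dvd Nat.prime_two).mpr h2)
    exact hcop.dvd_of_dvd_mul_left h3
  -- the kernel of the action on the cosets of `P`
  have hker : (MulAction.toPermHom G (G ⧸ (P : Subgroup G))).ker ≤ (P : Subgroup G) := by
    rw [← Subgroup.normalCore_eq_ker]
    exact Subgroup.normalCore_le _
  have hsolvker : Group.IsSolvable (MulAction.toPermHom G (G ⧸ (P : Subgroup G))).ker := by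
    have hp : IsPGroup 2 (MulAction.toPermHom G (G ⧸ (P : Subgroup G))).ker :=
      P.2.to_le hker
    have := hp.isNilpotent
    infer_instance
  have hsolvperm : Group.IsSolvable (Equiv.Perm (G ⧸ (P : Subgroup G))) := by
    apply solvable_of_card_dvd_six
    rw [Nat.card_perm, ← Subgroup.index_eq_card]
    have hle := Nat.le_of_dvd (by norm_num) hidx3
    have hpos : 0 < (P : Subgroup G).index := Nat.pos_of_ne_zero Subgroup.index_ne_zero_of_finite
    interval_cases (P : Subgroup G).index <;> simp_all [Nat.factorial]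
  exact Group.isSolvable_of_ker_le_range
    (MulAction.toPermHom G (G ⧸ (P : Subgroup G))).ker.subtype
    (MulAction.toPermHom G (G ⧸ (P : Subgroup G)))
    (by rw [Subgroup.range_subtype])

end GenericSolvable

section BorelSolvable

variable {F : Type*} [Field F]

theorem borel_00_ne_zero (g : borelSL F) :
    (g : Matrix.SpecialLinearGroup (Fin 2) F) 0 0 ≠ 0 := by
  have h10 : (g : Matrix.SpecialLinearGroup (Fin 2) F) 1 0 = 0 := (mem_borelSL _).mp g.2
  have hd := sl2_det' (g : Matrix.SpecialLinearGroup (Fin 2) F)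
  rw [h10, mul_zero, sub_zero] at hd
  intro h0
  rw [h0, zero_mul] at hd
  exact zero_ne_one hd

/-- The diagonal character of the Borel subgroup. -/
noncomputable def borelChar (F : Type*) [Field F] : borelSL F →* Fˣ where
  toFun g := Units.mk0 ((g : Matrix.SpecialLinearGroup (Fin 2) F) 0 0) (borel_00_ne_zero g)
  map_one' := by
    apply Units.ext
    simp only [Units.val_mk0, Units.val_one, Subgroup.coe_one, sl2_one_00]
  map_mul' g h := by
    apply Units.ext
    have h10 : (h : Matrix.SpecialLinearGroup (Fin 2) F) 1 0 = 0 := (mem_borelSL _).mp h.2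
    simp only [Units.val_mk0, Units.val_mul, Subgroup.coe_mul, sl2_mul_apply, h10, mul_zero,
      add_zero]

/-- The Borel subgroup is solvable. -/
theorem borel_solvable : Group.IsSolvable (borelSL F) := by
  have hker : ∀ a ∈ (borelChar F).ker, ∀ b ∈ (borelChar F).ker, a * b = b * a := by
    intro a ha b hb
    have ha0 : (a : Matrix.SpecialLinearGroup (Fin 2) F) 0 0 = 1 := by
      have := congrArg Units.val (MonoidHom.mem_ker.mp ha)
      simpa [borelChar] using this
    have hb0 : (b : Matrix.SpecialLinearGroup (Fin 2) F) 0 0 = 1 := by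
      have := congrArg Units.val (MonoidHom.mem_ker.mp hb)
      simpa [borelChar] using this
    have ea := eq_upSL ha0 ((mem_borelSL _).mp a.2)
    have eb := eq_upSL hb0 ((mem_borelSL _).mp b.2)
    apply Subtype.ext
    rw [Subgroup.coe_mul, Subgroup.coe_mul, ea, eb, upSL_add, upSL_add, add_comm]
  have h1 : Group.IsSolvable (borelChar F).ker :=
    Group.isSolvable_of_comm (fun a b => Subtype.ext (hker a a.2 b b.2))
  exact Group.isSolvable_of_ker_le_range (borelChar F).ker.subtype (borelChar F)
    (by rw [Subgroup.range_subtype])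

/-- A subgroup conjugate into the Borel subgroup is solvable. -/
theorem solvable_of_conj_borel (K : Subgroup (Matrix.SpecialLinearGroup (Fin 2) F))
    (c : Matrix.SpecialLinearGroup (Fin 2) F) (hc : ∀ g ∈ K, (c * g * c⁻¹) 1 0 = 0) :
    Group.IsSolvable K := by
  let ψ : K →* borelSL F :=
    { toFun := fun x => ⟨c * (x : Matrix.SpecialLinearGroup (Fin 2) F) * c⁻¹, hc x x.2⟩
      map_one' := by
        apply Subtype.ext
        simp
      map_mul' := fun x y => by
        apply Subtype.ext
        simp only [Subgroup.coe_mul]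
        group }
  have hinj : Function.Injective ψ := by
    intro x y hxy
    have h1 : c * (x : Matrix.SpecialLinearGroup (Fin 2) F) * c⁻¹
        = c * (y : Matrix.SpecialLinearGroup (Fin 2) F) * c⁻¹ := congrArg Subtype.val hxy
    apply Subtype.ext
    have h2 := congrArg (fun g => c⁻¹ * g * c) h1
    simpa [mul_assoc] using h2
  have := borel_solvable (F := F)
  exact Group.isSolvable_of_isSolvable_injective hinj

/-- A nontrivial element of trace `2` is conjugate to some `upSL t₀`. -/
theorem exists_conj_eq_upSL (g : Matrix.SpecialLinearGroup (Fin 2) F) (hg1 : g ≠ 1)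
    (htr : g 0 0 + g 1 1 = 2) :
    ∃ (c : Matrix.SpecialLinearGroup (Fin 2) F) (t₀ : F), t₀ ≠ 0 ∧ c * g * c⁻¹ = upSL t₀ := by
  have hd := sl2_det' g
  by_cases hc : g 1 0 = 0
  · have h00 : g 0 0 = 1 := by
      have : (g 0 0 - 1) * (g 0 0 - 1) = 0 := by
        linear_combination -hd - g 0 1 * hc + g 0 0 * htr
      rcases mul_eq_zero.mp this with h | h <;> linear_combination h
    have hgu := eq_upSL h00 hc
    refine ⟨1, g 0 1, ?_, ?_⟩
    · intro h0
      apply hg1
      rw [hgu, h0, upSL_zero]
    · rw [inv_one, one_mul, mul_one]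
      exact hgu
  · refine ⟨(conjP (g 0 0) (g 1 0) hc)⁻¹, -(g 1 0)⁻¹, neg_ne_zero.mpr (inv_ne_zero hc), ?_⟩
    rw [inv_inv]
    symm
    apply sl2_ext <;> simp only [sl2_mul_apply, sl2_inv_00, sl2_inv_01, sl2_inv_10, sl2_inv_11,
      conjP_00, conjP_01, conjP_10, conjP_11, upSL_00, upSL_01, upSL_10, upSL_11]
    · field_simp
      linear_combination -htr
    · field_simp
      ring
    · field_simp
      linear_combination -(g 1 0) * hd + (g 1 0) * htr
    · field_simp
      ring

end BorelSolvable

section CharTwoSolvable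

variable {F : Type*} [Field F] [Fintype F]

/-- In characteristic `2`, a subgroup of odd order is commutative. -/
theorem comm_of_odd_card (h2 : (2 : F) = 0)
    (K : Subgroup (Matrix.SpecialLinearGroup (Fin 2) F)) (hodd : ¬ 2 ∣ Nat.card K) :
    ∀ a ∈ K, ∀ b ∈ K, a * b = b * a := by
  have hchar : CharP F 2 := CharTwo.of_one_ne_zero_of_two_eq_zero one_ne_zero h2
  have : Fact (Nat.Prime 2) := ⟨Nat.prime_two⟩
  have htame := tame_of_coprime 2 K hodd
  obtain ⟨ν, hν, hν'⟩ := exists_artinSchreier h2
  rcases tame_even h2 hν hν' K htame with h1 | ⟨J, hJ⟩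
  · intro a ha b hb
    have := (Nat.card_eq_one_iff_unique.mp h1).1
    have e1 : (⟨a, ha⟩ : K) = ⟨b, hb⟩ := Subsingleton.elim _ _
    have : a = b := congrArg Subtype.val e1
    rw [this]
  · intro a ha b hb
    exact to_stab_comm h2 J a b (hJ ha) (hJ hb)

/-- In characteristic `2`, a subgroup of order not divisible by `4` is solvable. -/
theorem solvable_of_not_four_dvd (h2 : (2 : F) = 0)
    (K : Subgroup (Matrix.SpecialLinearGroup (Fin 2) F)) (h4 : ¬ 4 ∣ Nat.card K) :
    Group.IsSolvable K := by
  classical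
  by_cases hodd : 2 ∣ Nat.card K
  · have : Fact (Nat.Prime 2) := ⟨Nat.prime_two⟩
    obtain ⟨P⟩ : Nonempty (Sylow 2 K) := inferInstance
    have hPcard : Nat.card P = 2 := by
      have h1 := Sylow.card_eq_multiplicity P
      have hf : (Nat.card K).factorization 2 = 1 := by
        have hpos : Nat.card K ≠ 0 := Nat.card_pos.ne'
        have hge : 1 ≤ (Nat.card K).factorization 2 :=
          (Nat.Prime.dvd_iff_one_le_factorization Nat.prime_two hpos).mp hodd
        have hlt : ¬ 2 ≤ (Nat.card K).factorization 2 := by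
          intro h
          apply h4
          have := (Nat.Prime.pow_dvd_iff_le_factorization Nat.prime_two hpos).mpr h
          simpa using this
        omega
      rw [hf, pow_one] at h1
      exact h1
    have hcyc : IsCyclic P := isCyclic_of_prime_card hPcard
    have hmin : (Nat.card K).minFac = 2 := (Nat.minFac_eq_two_iff _).mpr hodd
    have hNC := IsCyclic.normalizer_le_centralizer (P := P) hmin hcyc
    have hnd := MonoidHom.not_dvd_card_ker_transferSylow P hNC
    have hcomm := comm_of_odd_card h2 ((MonoidHom.transferSylow P hNC).ker.map K.subtype) (by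
      rw [Subgroup.card_map_of_injective K.subtype_injective]
      exact hnd)
    have hker : Group.IsSolvable (MonoidHom.transferSylow P hNC).ker := by
      apply Group.isSolvable_of_comm
      intro a b
      apply Subtype.ext
      apply Subtype.ext
      have := hcomm (a : K) (Subgroup.mem_map_of_mem _ a.2) (b : K) (Subgroup.mem_map_of_mem _ b.2)
      simpa using this
    have hPs : Group.IsSolvable P :=
      Group.isSolvable_of_comm (comm_of_card_le_three (by rw [hPcard]; norm_num))
    exact Group.isSolvable_of_ker_le_range (MonoidHom.transferSylow P hNC).ker.subtype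
      (MonoidHom.transferSylow P hNC) (by rw [Subgroup.range_subtype])
  · have hcomm := comm_of_odd_card h2 K hodd
    exact Group.isSolvable_of_comm (fun a b => Subtype.ext (hcomm a a.2 b b.2))

/-- In characteristic `2`, `-1 = 1`. -/
theorem negOne_eq_one_of_two (h2 : (2 : F) = 0) :
    (negOne : Matrix.SpecialLinearGroup (Fin 2) F) = 1 := by
  apply sl2_ext <;> simp only [negOne_00, negOne_01, negOne_10, negOne_11, sl2_one_00, sl2_one_01,
    sl2_one_10, sl2_one_11]
  · linear_combination -h2
  · linear_combination -h2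

/-- In characteristic `2`, a subgroup of order divisible by `4` is conjugate into the Borel
subgroup or has order `(A+1)A(A-1)` with `4 ≤ A`. -/
theorem wild_even_fine (h2 : (2 : F) = 0)
    (K : Subgroup (Matrix.SpecialLinearGroup (Fin 2) F)) (h4 : 4 ∣ Nat.card K) :
    (∃ c : Matrix.SpecialLinearGroup (Fin 2) F, ∀ g ∈ K, (c * g * c⁻¹) 1 0 = 0) ∨
    ∃ A, 4 ≤ A ∧ A ∣ Fintype.card F ∧ (A - 1) ∣ (Fintype.card F - 1) ∧
      Nat.card K = (A + 1) * A * (A - 1) := by
  classical
  have hchar : CharP F 2 := CharTwo.of_one_ne_zero_of_two_eq_zero one_ne_zero h2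
  have : Fact (Nat.Prime 2) := ⟨Nat.prime_two⟩
  have hneg1 := negOne_eq_one_of_two h2
  obtain ⟨Q, hQ⟩ := Sylow.exists_subgroup_card_pow_prime (G := K) 2 (n := 2) (by simpa using h4)
  have hQcomm := IsPGroup.commutative_of_card_eq_prime_sq (p := 2) (G := Q) hQ
  obtain ⟨z, hz⟩ := exists_prime_orderOf_dvd_card' (G := Q) 2 (by rw [hQ]; norm_num)
  have hz2 : z * z = 1 := by
    have h3 := pow_orderOf_eq_one z
    rw [hz] at h3
    rw [← pow_two]; exact h3
  have hz1 : z ≠ 1 := by
    intro h
    rw [h, orderOf_one] at hz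
    norm_num at hz
  have hz2' : ((z : K) : Matrix.SpecialLinearGroup (Fin 2) F) *
      ((z : K) : Matrix.SpecialLinearGroup (Fin 2) F) = 1 := by
    have := congrArg (fun x : Q => ((x : K) : Matrix.SpecialLinearGroup (Fin 2) F)) hz2
    simpa using this
  have hz1' : ((z : K) : Matrix.SpecialLinearGroup (Fin 2) F) ≠ 1 :=
    fun h => hz1 (Subtype.ext (Subtype.ext h))
  have htr : ((z : K) : Matrix.SpecialLinearGroup (Fin 2) F) 0 0 +
      ((z : K) : Matrix.SpecialLinearGroup (Fin 2) F) 1 1 = 2 := by
    rcases trace_of_sq_eq_one h2 _ hz2' with h | h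
    · exact h
    · exact absurd h hz1'
  obtain ⟨c, t₀, ht₀, hc⟩ := exists_conj_eq_upSL _ hz1' htr
  obtain ⟨s, hB⟩ := exists_conj_hB (conjSub c K) (by rw [hneg1]; exact Subgroup.one_mem _)
  -- the elements of `Q` become upper unitriangular
  have hQup : ∀ x : Q, c * ((x : K) : Matrix.SpecialLinearGroup (Fin 2) F) * c⁻¹ =
      upSL ((c * ((x : K) : Matrix.SpecialLinearGroup (Fin 2) F) * c⁻¹) 0 1) := by
    intro x
    apply eq_upSL_of_comm 2 _ t₀ ht₀ _ 2
    · have h1 : x ^ 2 ^ 2 = 1 := by
        rw [← hQ]
        exact pow_card_eq_one'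
      have h2' := congrArg (fun x : Q => ((x : K) : Matrix.SpecialLinearGroup (Fin 2) F)) h1
      simp only [Subgroup.coe_pow, Subgroup.coe_one] at h2'
      rw [conj_pow, h2']
      group
    · rw [← hc]
      have h1 := hQcomm x z
      have h2' := congrArg (fun x : Q => ((x : K) : Matrix.SpecialLinearGroup (Fin 2) F)) h1
      simp only [Subgroup.coe_mul] at h2'
      calc c * ((x : K) : Matrix.SpecialLinearGroup (Fin 2) F) * c⁻¹ *
            (c * ((z : K) : Matrix.SpecialLinearGroup (Fin 2) F) * c⁻¹)
          = c * (((x : K) : Matrix.SpecialLinearGroup (Fin 2) F) *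
            ((z : K) : Matrix.SpecialLinearGroup (Fin 2) F)) * c⁻¹ := by group
        _ = c * (((z : K) : Matrix.SpecialLinearGroup (Fin 2) F) *
            ((x : K) : Matrix.SpecialLinearGroup (Fin 2) F)) * c⁻¹ := by rw [h2']
        _ = _ := by group
  have hQmem : ∀ x : Q, upSL ((c * ((x : K) : Matrix.SpecialLinearGroup (Fin 2) F) * c⁻¹) 0 1) ∈
      conjSub (upSL s) (conjSub c K) := by
    intro x
    apply upSL_mem_conjSub_upSL
    rw [← hQup x]
    exact conj_mem_conjSub c K _ (x : K).2
  have hu : upSL t₀ ∈ conjSub (upSL s) (conjSub c K) := by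
    apply upSL_mem_conjSub_upSL
    rw [← hc]
    exact conj_mem_conjSub c K _ (z : K).2
  have hA4 : 4 ≤ Nat.card {t : F // upSL t ∈ conjSub (upSL s) (conjSub c K)} := by
    have hinj : Function.Injective (fun x : Q =>
        (⟨(c * ((x : K) : Matrix.SpecialLinearGroup (Fin 2) F) * c⁻¹) 0 1, hQmem x⟩ :
          {t : F // upSL t ∈ conjSub (upSL s) (conjSub c K)})) := by
      intro x y hxy
      have h1 : (c * ((x : K) : Matrix.SpecialLinearGroup (Fin 2) F) * c⁻¹) 0 1 =
          (c * ((y : K) : Matrix.SpecialLinearGroup (Fin 2) F) * c⁻¹) 0 1 :=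
        congrArg Subtype.val hxy
      have h2' : c * ((x : K) : Matrix.SpecialLinearGroup (Fin 2) F) * c⁻¹ =
          c * ((y : K) : Matrix.SpecialLinearGroup (Fin 2) F) * c⁻¹ := by
        rw [hQup x, hQup y, h1]
      have h3 := congrArg (fun g => c⁻¹ * g * c) h2'
      apply Subtype.ext
      apply Subtype.ext
      simpa [mul_assoc] using h3
    have := Nat.card_le_card_of_injective _ hinj
    rw [hQ] at this
    exact this
  by_cases hall : ∀ g ∈ conjSub (upSL s) (conjSub c K), g 1 0 = 0
  · left
    refine ⟨upSL s * c, fun g hg => ?_⟩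
    have h1 : upSL s * c * g * (upSL s * c)⁻¹ = upSL s * (c * g * c⁻¹) * (upSL s)⁻¹ := by
      group
    rw [h1]
    exact hall _ (conj_mem_conjSub _ _ _ (conj_mem_conjSub _ _ _ hg))
  · right
    push Not at hall
    have hN : ∃ g ∈ conjSub (upSL s) (conjSub c K), g 1 0 ≠ 0 := hall
    have hAq := card_UH_dvd (conjSub (upSL s) (conjSub c K))
    have hdq := card_TH_dvd (conjSub (upSL s) (conjSub c K))
    obtain ⟨N, s', hN2, hs2, hcard, hE⟩ :=
      sl2_core_even 2 h2 (conjSub (upSL s) (conjSub c K)) hB t₀ ht₀ hu hN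
    have hd' := diag_free_even h2 (conjSub (upSL s) (conjSub c K))
    obtain ⟨hN3, hNle⟩ := borel_index_bounds (conjSub (upSL s) (conjSub c K)) t₀ ht₀ hu hN N (by
      rw [hcard, card_borel _ hB, mul_assoc])
    rw [card_conjSub, card_conjSub] at hcard
    obtain ⟨A, hA⟩ : ∃ A, A = Nat.card {t : F // upSL t ∈ conjSub (upSL s) (conjSub c K)} :=
      ⟨_, rfl⟩
    obtain ⟨d, hd⟩ : ∃ d, d = Nat.card {g : Matrix.SpecialLinearGroup (Fin 2) F //
        g ∈ conjSub (upSL s) (conjSub c K) ∧ g 0 1 = 0 ∧ g 1 0 = 0} := ⟨_, rfl⟩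
    rw [← hA] at hAq hA4 hcard hE hd'
    rw [← hd] at hdq hcard hE hd'
    rcases wild_arith N A d s' hN3 (by omega) hs2 hd' hE with ⟨hA2', hd1⟩ | ⟨hAd, hNA⟩ |
      ⟨hdA, hNA⟩ | ⟨hA3, -, -⟩
    · omega
    · exfalso
      obtain ⟨n, -, hqn⟩ := FiniteField.card F 2
      obtain ⟨j, -, hj⟩ := (Nat.dvd_prime_pow Nat.prime_two).mp (hqn ▸ hAq)
      rcases Nat.eq_zero_or_pos j with h0 | h0
      · rw [h0, pow_zero] at hj; omega
      · have h2A : 2 ∣ A := by
          rw [hj]
          exact dvd_pow_self 2 (by omega)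
        omega
    · refine ⟨A, hA4, hAq, by rw [← hdA]; exact hdq, ?_⟩
      rw [hcard, hNA, hdA]
    · omega

/-- In characteristic `2`: if the only admissible subfield order `A ≥ 4` is `q`, then every proper
subgroup of `SL₂(q)` is solvable. -/
theorem solvable_of_proper_even (h2 : (2 : F) = 0)
    (hA : ∀ A, 4 ≤ A → A ∣ Fintype.card F → (A - 1) ∣ (Fintype.card F - 1) → A = Fintype.card F)
    (K : Subgroup (Matrix.SpecialLinearGroup (Fin 2) F)) (hne : K ≠ ⊤) : Group.IsSolvable K := by
  by_cases h4 : 4 ∣ Nat.card K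
  · rcases wild_even_fine h2 K h4 with ⟨c, hc⟩ | ⟨A, hA4, hAq, hAq', hcard⟩
    · exact solvable_of_conj_borel K c hc
    · exfalso
      apply hne
      have hAeq := hA A hA4 hAq hAq'
      apply Subgroup.eq_top_of_card_eq
      rw [hcard, hAeq, nat_cube _ (by omega), Cfsg.Agent.Lib.helper7.card_SL2 (F := F) rfl]
  · exact solvable_of_not_four_dvd h2 K h4

/-- In odd characteristic: every proper subgroup of `SL₂(q)` containing `-1` is solvable, provided
the only admissible subfield orders are `3` and `q`, and `SL₂(q)` has no proper subgroup of order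
`120`. -/
theorem solvable_of_proper_odd (h2 : (2 : F) ≠ 0)
    (hA : ∀ A, 2 ≤ A → A ∣ Fintype.card F → (A - 1) ∣ (Fintype.card F - 1) →
      A = 3 ∨ A = Fintype.card F)
    (h120 : 120 ∣ Fintype.card F * (Fintype.card F ^ 2 - 1) →
      Fintype.card F * (Fintype.card F ^ 2 - 1) = 120)
    (K : Subgroup (Matrix.SpecialLinearGroup (Fin 2) F)) (hneg : negOne ∈ K) (hne : K ≠ ⊤) :
    Group.IsSolvable K := by
  classical
  have hSL := Cfsg.Agent.Lib.helper7.card_SL2 (F := F) rfl
  have hq : 2 ≤ Fintype.card F := Fintype.one_lt_card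
  have hKne : Nat.card K ≠ Fintype.card F * (Fintype.card F ^ 2 - 1) := by
    intro h
    apply hne
    apply Subgroup.eq_top_of_card_eq
    rw [h, hSL]
  have hKdvd : Nat.card K ∣ Fintype.card F * (Fintype.card F ^ 2 - 1) := by
    rw [← hSL]; exact Subgroup.card_subgroup_dvd_card K
  have h120' : Nat.card K ≠ 120 := by
    intro h
    have := h120 (h ▸ hKdvd)
    exact hKne (h.trans this.symm)
  have hp : Fact (ringChar F).Prime := ⟨CharP.char_is_prime F (ringChar F)⟩
  have hchar : ringChar F ≠ 2 := by
    intro h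
    apply h2
    have := CharP.cast_eq_zero F (ringChar F)
    rw [h] at this
    exact_mod_cast this
  by_cases hw : ∃ g ∈ K, g ≠ 1 ∧ g 0 0 + g 1 1 = 2
  · rcases wild_orders (ringChar F) K hneg hw with ⟨c, hc⟩ | ⟨hp2, -⟩ | ⟨A, hA2, hAq, hAq', hn⟩ |
      ⟨-, -, hn⟩
    · exact solvable_of_conj_borel K c hc
    · exact absurd hp2 hchar
    · rcases hA A hA2 hAq hAq' with h3 | hAq''
      · subst h3
        apply solvable_of_card_dvd_48
        rcases hn with hn | ⟨-, -, hn⟩
        · rw [hn]; norm_num
        · rw [hn]; norm_num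
      · rw [hAq''] at hn
        rcases hn with hn | ⟨-, hdvd, hn⟩
        · exact absurd hn hKne
        · exfalso
          have := Nat.le_of_dvd (by omega) hdvd
          omega
    · exact absurd hn h120'
  · push Not at hw
    have htame : ∀ g ∈ K, g 0 0 + g 1 1 = 2 → g = 1 := by
      intro g hg htr
      by_contra hg1
      exact hw g hg hg1 htr
    obtain ⟨δ, hδ⟩ := FiniteField.exists_nonsquare hchar
    have hδ0 : δ ≠ 0 := by
      rintro rfl; exact hδ ⟨0, by rw [mul_zero]⟩
    rcases tame_odd h2 hδ K hneg htame with h | ⟨J, hJ⟩ | ⟨J, hJ⟩ | h | h | h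
    · exact solvable_of_card_dvd_48 (by rw [h]; norm_num)
    · exact Group.isSolvable_of_comm
        (fun a b => Subtype.ext (tz_stab_comm h2 hδ0 J a b (hJ a.2) (hJ b.2)))
    · have hidx : ((K ⊓ MulAction.stabilizer (Matrix.SpecialLinearGroup (Fin 2) F) J).subgroupOf
          K).index = 2 := by
        have h1 := Subgroup.card_mul_index
          ((K ⊓ MulAction.stabilizer (Matrix.SpecialLinearGroup (Fin 2) F) J).subgroupOf K)
        have hsub : Nat.card ↥((K ⊓ MulAction.stabilizer (Matrix.SpecialLinearGroup (Fin 2) F)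
            J).subgroupOf K) = Nat.card ↥(K ⊓ MulAction.stabilizer
              (Matrix.SpecialLinearGroup (Fin 2) F) J) :=
          Nat.card_congr (Subgroup.subgroupOfEquivOfLe inf_le_left).toEquiv
        rw [hsub, ← hJ] at h1
        have hpos : 0 < Nat.card ↥(K ⊓ MulAction.stabilizer
          (Matrix.SpecialLinearGroup (Fin 2) F) J) := Nat.card_pos
        exact Nat.eq_of_mul_eq_mul_left hpos (by rw [h1]; ring)
      refine solvable_of_index_two_comm _ hidx ?_
      intro a ha b hb
      rw [Subgroup.mem_subgroupOf] at ha hb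
      exact Subtype.ext (tz_stab_comm h2 hδ0 J a b (Subgroup.mem_inf.mp ha).2
        (Subgroup.mem_inf.mp hb).2)
    · exact solvable_of_card_dvd_48 (by rw [h.1]; norm_num)
    · exact solvable_of_card_dvd_48 (by rw [h.1])
    · exact absurd h.1 h120'

end CharTwoSolvable

end Cfsg.Agent.Lib.helper46
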