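import Mathlib
import Cfsg.Prelude.Def_CaseTheorems
import Cfsg.Agent.Lib.helper46.SL2Solvable
import Cfsg.Agent.Lib.helper98.SubfieldSL2
import Cfsg.Agent.Lib.helper6.SLCard
import Cfsg.Agent.S0805
import Cfsg.Agent.S5939

/-!
# Minimal simple groups `PSL₂(q)` (helper46)

The transfer of solvability of proper subgroups from `SL₂(q)` to `PSL₂(q)`, non-solvable proper
subgroups coming from subfields and from `A₅`, and the arithmetic of the four families.
-/

set_option autoImplicit false

namespace Cfsg.Agent.Lib.helper46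

open Cfsg.Agent.Lib.helper98

section Transfer

variable {F : Type*} [Field F]

/-- `PSL₂(F)` is not commutative. -/
theorem psl2_not_comm :
    ¬ ∀ a b : Matrix.ProjectiveSpecialLinearGroup (Fin 2) F, a * b = b * a := by
  intro h
  have h1 := h (QuotientGroup.mk' (Subgroup.center (Matrix.SpecialLinearGroup (Fin 2) F)) (upSL 1))
    (QuotientGroup.mk' (Subgroup.center (Matrix.SpecialLinearGroup (Fin 2) F)) (lowSL 1))
  rw [← map_mul, ← map_mul, QuotientGroup.mk'_apply, QuotientGroup.mk'_apply, QuotientGroup.eq,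
    mem_center_sl2_iff] at h1
  have h2 := h1.2.1
  simp only [sl2_mul_apply, sl2_inv_10, sl2_inv_11, upSL_00, upSL_01, upSL_10, upSL_11,
    lowSL_00, lowSL_01, lowSL_10, lowSL_11] at h2
  have : (1 : F) = 0 := by linear_combination h2
  exact one_ne_zero this

/-- `PSL₂(F)` is not solvable when `|F| ≥ 4`. -/
theorem psl2_not_solvable (h4 : 4 ≤ Nat.card F) :
    ¬ Group.IsSolvable (Matrix.ProjectiveSpecialLinearGroup (Fin 2) F) := by
  intro hs
  have := Matrix.ProjectiveSpecialLinearGroup.rank_two_simple h4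
  exact psl2_not_comm (IsSimpleGroup.comm_iff_isSolvable.mpr hs)

/-- Transfer of the solvability of proper subgroups from `SL₂` to `PSL₂`. -/
theorem psl_proper_solvable
    (hsol : ∀ K : Subgroup (Matrix.SpecialLinearGroup (Fin 2) F), negOne ∈ K → K ≠ ⊤ →
      Group.IsSolvable K)
    (M : Subgroup (Matrix.ProjectiveSpecialLinearGroup (Fin 2) F)) (hM : M ≠ ⊤) :
    Group.IsSolvable M := by
  have hK : M.comap (QuotientGroup.mk' (Subgroup.center (Matrix.SpecialLinearGroup (Fin 2) F)))
      ≠ ⊤ := by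
    intro h
    apply hM
    apply Subgroup.comap_injective (QuotientGroup.mk'_surjective _)
    rw [h, Subgroup.comap_top]
  have := hsol _ (negOne_mem_comap M) hK
  exact Group.isSolvable_of_surjective
    (MonoidHom.subgroupComap_surjective_of_surjective
      (QuotientGroup.mk' (Subgroup.center (Matrix.SpecialLinearGroup (Fin 2) F))) M
      (QuotientGroup.mk'_surjective _))

/-- The minimal simple criterion. -/
theorem minimal_simple_of_solvable (h4 : 4 ≤ Nat.card F)
    (hsol : ∀ K : Subgroup (Matrix.SpecialLinearGroup (Fin 2) F), negOne ∈ K → K ≠ ⊤ →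
      Group.IsSolvable K) :
    Cfsg.IsMinimalSimple (Matrix.ProjectiveSpecialLinearGroup (Fin 2) F) := by
  refine ⟨Matrix.ProjectiveSpecialLinearGroup.rank_two_simple h4, ?_, psl_proper_solvable hsol⟩
  intro hc
  exact psl2_not_comm (isMulCommutative_iff.mp hc)

/-- The alternating group `A₅` is not solvable. -/
theorem alt5_not_solvable : ¬ Group.IsSolvable (alternatingGroup (Fin 5)) := by
  intro h
  apply Equiv.Perm.not_isSolvable_fin_5
  exact Group.isSolvable_of_ker_le_range (alternatingGroup (Fin 5)).subtype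
    (Equiv.Perm.sign (α := Fin 5)) (by rw [Subgroup.range_subtype]; exact le_rfl)

/-- A minimal simple group has no proper non-solvable subgroup. -/
theorem not_minimal_of_subgroup {G : Type*} [Group G] (M : Subgroup G) (hM : M ≠ ⊤)
    (hns : ¬ Group.IsSolvable M) : ¬ Cfsg.IsMinimalSimple G :=
  fun h => hns (h.2.2 M hM)

end Transfer

section Fin

variable {F : Type*} [Field F] [Fintype F]

/-- The subfield subgroups are proper and not solvable. -/
theorem not_minimal_of_subfield (K : Type*) [Field K] [Fintype K]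
    (hK4 : 4 ≤ Fintype.card K) (m : ℕ) (hm : 2 ≤ m)
    (hKF : Fintype.card K ^ m = Fintype.card F) :
    ¬ Cfsg.IsMinimalSimple (Matrix.ProjectiveSpecialLinearGroup (Fin 2) F) := by
  obtain ⟨φ⟩ := Cfsg.Agent.S0805.exists_ringHom m hKF
  obtain ⟨H, ⟨e⟩⟩ := Cfsg.Agent.S0805.psl_embed φ
  refine not_minimal_of_subgroup H ?_ ?_
  · intro htop
    have h1 : Nat.card H = Nat.card (Matrix.ProjectiveSpecialLinearGroup (Fin 2) K) :=
      Nat.card_congr e.toEquiv
    rw [htop, Subgroup.card_top] at h1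
    have h2 : Nat.card (Matrix.ProjectiveSpecialLinearGroup (Fin 2) K) ≤
        Nat.card (Matrix.SpecialLinearGroup (Fin 2) K) :=
      Nat.card_le_card_of_surjective _ (QuotientGroup.mk'_surjective _)
    have h3 := Cfsg.Agent.Lib.helper7.card_SL2 (F := K) rfl
    have h4 := Cfsg.Agent.Lib.helper7.card_SL2 (F := F) rfl
    have h5 := Subgroup.card_eq_card_quotient_mul_card_subgroup
      (Subgroup.center (Matrix.SpecialLinearGroup (Fin 2) F))
    have h6 : Nat.card (Subgroup.center (Matrix.SpecialLinearGroup (Fin 2) F)) ≤ 2 := by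
      rw [Cfsg.Agent.Lib.helper6.card_center_SL 2 (by norm_num)]
      exact Nat.gcd_le_left _ (by norm_num)
    obtain ⟨k, hk⟩ : ∃ k, k = Fintype.card K := ⟨_, rfl⟩
    obtain ⟨q, hq⟩ : ∃ q, q = Fintype.card F := ⟨_, rfl⟩
    rw [← hk] at h3 hK4 hKF
    rw [← hq] at h4 hKF
    have hq2 : k ^ 2 ≤ q := by
      rw [← hKF]
      exact Nat.pow_le_pow_right (by omega) hm
    have hkq : k ≤ q := le_trans (by nlinarith) hq2
    have hge : k ^ 2 * (k ^ 2 - 1) ≤ q * (q ^ 2 - 1) :=
      Nat.mul_le_mul hq2 (Nat.sub_le_sub_right (Nat.pow_le_pow_left hkq 2) 1)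
    have hX : 0 < k * (k ^ 2 - 1) := by
      have : 16 ≤ k ^ 2 := by nlinarith
      exact Nat.mul_pos (by omega) (by omega)
    have hle : q * (q ^ 2 - 1) ≤ 2 * (k * (k ^ 2 - 1)) := by
      rw [← h4, h5, ← h3]
      calc Nat.card (Matrix.ProjectiveSpecialLinearGroup (Fin 2) F) *
            Nat.card (Subgroup.center (Matrix.SpecialLinearGroup (Fin 2) F))
          ≤ Nat.card (Matrix.SpecialLinearGroup (Fin 2) K) * 2 := by
            rw [h1]
            exact Nat.mul_le_mul h2 h6
        _ = _ := by ring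
    have h7 : k ^ 2 * (k ^ 2 - 1) = k * (k * (k ^ 2 - 1)) := by ring
    rw [h7] at hge
    nlinarith
  · intro hs
    have : Group.IsSolvable (Matrix.ProjectiveSpecialLinearGroup (Fin 2) K) :=
      Group.isSolvable_of_surjective (f := e.toMonoidHom) e.surjective
    exact psl2_not_solvable (by rw [Nat.card_eq_fintype_card]; exact hK4) this

/-- A subgroup isomorphic to `A₅` and maximal is proper and not solvable. -/
theorem not_minimal_of_alt5 (p : ℕ) [Fact p.Prime] [CharP F p]
    (h : (Fintype.card F = p ∧ (p % 10 = 1 ∨ p % 10 = 9)) ∨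
      (Fintype.card F = p ^ 2 ∧ (p % 10 = 3 ∨ p % 10 = 7))) :
    ¬ Cfsg.IsMinimalSimple (Matrix.ProjectiveSpecialLinearGroup (Fin 2) F) := by
  obtain ⟨H, hH, ⟨e⟩⟩ := Cfsg.Agent.S5939.result p h
  refine not_minimal_of_subgroup H hH.1 ?_
  intro hs
  exact alt5_not_solvable (Group.isSolvable_of_surjective (f := e.toMonoidHom) e.surjective)

/-- `PSL₂(2)` and `PSL₂(3)` are not minimal simple. -/
theorem not_minimal_of_card_le_three (h : Fintype.card F ≤ 3) :
    ¬ Cfsg.IsMinimalSimple (Matrix.ProjectiveSpecialLinearGroup (Fin 2) F) := by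
  intro hmin
  have hq : 2 ≤ Fintype.card F := Fintype.one_lt_card
  have h1 : Nat.card (Matrix.ProjectiveSpecialLinearGroup (Fin 2) F) ∣
      Nat.card (Matrix.SpecialLinearGroup (Fin 2) F) :=
    Subgroup.card_quotient_dvd_card _
  rw [Cfsg.Agent.Lib.helper7.card_SL2 (F := F) rfl] at h1
  have h48 : Fintype.card F * (Fintype.card F ^ 2 - 1) ∣ 48 := by
    have : Fintype.card F = 2 ∨ Fintype.card F = 3 := by omega
    rcases this with h | h <;> rw [h] <;> norm_num
  have hs := solvable_of_card_dvd_48 (h1.trans h48)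
  have := hmin.1
  exact hmin.2.1 (isMulCommutative_iff.mpr (IsSimpleGroup.comm_iff_isSolvable.mpr hs))

end Fin

section MinSimpleArith

/-- Subfield orders of `p^r`, `r` prime. -/
theorem subfield_order_prime_exp (p r : ℕ) (hp : p.Prime) (hr : r.Prime) (A : ℕ)
    (hAq : A ∣ p ^ r) (hAq' : (A - 1) ∣ (p ^ r - 1)) : A = 1 ∨ A = p ∨ A = p ^ r := by
  obtain ⟨a, har, rfl⟩ := (Nat.dvd_prime_pow hp).mp hAq
  have hg := Nat.pow_sub_one_gcd_pow_sub_one p a r
  rw [Nat.gcd_eq_left hAq'] at hg
  have h1 : p ^ a = p ^ Nat.gcd a r := by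
    have := Nat.one_le_pow a p hp.pos
    have := Nat.one_le_pow (Nat.gcd a r) p hp.pos
    omega
  have h2 : a = Nat.gcd a r := Nat.pow_right_injective hp.two_le h1
  have h3 : a ∣ r := h2 ▸ Nat.gcd_dvd_right a r
  rcases (Nat.dvd_prime hr).mp h3 with h | h
  · right; left; rw [h, pow_one]
  · right; right; rw [h]

theorem five_not_dvd_of_mod (q : ℕ) (h : q % 5 = 2 ∨ q % 5 = 3) : ¬ 5 ∣ q * (q ^ 2 - 1) := by
  intro hd
  have h1 : q ^ 2 % 5 = 4 := by
    rw [Nat.pow_mod]; rcases h with h | h <;> rw [h]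
  have h2 : (q ^ 2 - 1) % 5 = 3 := by omega
  have h3 := Nat.mul_mod q (q ^ 2 - 1) 5
  rw [h2] at h3
  have h4 := Nat.mod_eq_zero_of_dvd hd
  rcases h with h | h <;> rw [h] at h3 <;> norm_num at h3 <;> omega

theorem three_pow_odd_mod_five (r : ℕ) (hr : Odd r) : 3 ^ r % 5 = 2 ∨ 3 ^ r % 5 = 3 := by
  obtain ⟨j, rfl⟩ := hr
  have h9 : ∀ j : ℕ, (3 ^ 2) ^ j % 5 = 1 ∨ (3 ^ 2) ^ j % 5 = 4 := by
    intro j
    induction j with
    | zero => left; norm_num
    | succ n ih => rw [pow_succ, Nat.mul_mod]; rcases ih with h | h <;> rw [h] <;> norm_num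
  rw [pow_succ, pow_mul, Nat.mul_mod]
  rcases h9 j with h | h <;> rw [h] <;> norm_num

/-- The prime powers outside the list of minimal simple `PSL₂(q)`. -/
theorem not_list_cases (p e : ℕ) (hp : p.Prime) (he : 1 ≤ e)
    (h1 : ∀ r : ℕ, r.Prime → p ^ e ≠ 2 ^ r) (h2 : ∀ r : ℕ, r.Prime → r ≠ 2 → p ^ e ≠ 3 ^ r)
    (h3 : (p ^ e).Prime → 5 < p ^ e → ¬ (p ^ e % 5 = 2 ∨ p ^ e % 5 = 3)) (h4 : p ^ e ≠ 5) :
    p ^ e ≤ 3 ∨ (∃ a m, a ≠ 0 ∧ 4 ≤ p ^ a ∧ 2 ≤ m ∧ a * m = e) ∨
      (e = 1 ∧ (p % 10 = 1 ∨ p % 10 = 9)) ∨ (e = 2 ∧ p = 3) := by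
  by_cases he1 : e = 1
  · subst he1
    rw [pow_one] at *
    by_cases hp3 : p ≤ 3
    · left; exact hp3
    · right; right; left
      refine ⟨rfl, ?_⟩
      have hp5 : 5 < p := by
        have : p ≠ 4 := by rintro rfl; norm_num at hp
        omega
      have h3' := h3 hp hp5
      have hodd : p % 2 = 1 := by rcases hp.eq_two_or_odd with h | h <;> omega
      have h50 : p % 5 ≠ 0 := by
        intro h
        have := (Nat.prime_dvd_prime_iff_eq (by norm_num) hp).mp (Nat.dvd_of_mod_eq_zero h)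
        omega
      omega
  · have he2 : 2 ≤ e := by omega
    by_cases hp5 : 5 ≤ p
    · right; left
      exact ⟨1, e, one_ne_zero, by rw [pow_one]; omega, he2, one_mul e⟩
    · have hp23 : p = 2 ∨ p = 3 := by
        have : p ≠ 4 := by rintro rfl; norm_num at hp
        have := hp.two_le
        omega
      by_cases hep : e.Prime
      · rcases hp23 with rfl | rfl
        · exact absurd rfl (h1 e hep)
        · by_cases he2' : e = 2
          · right; right; right; exact ⟨he2', rfl⟩
          · exact absurd rfl (h2 e hep he2')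
      · right; left
        obtain ⟨a, ⟨m, hm⟩, ha2, hae⟩ := Nat.exists_dvd_of_not_prime2 he2 hep
        refine ⟨a, m, by omega, ?_, ?_, hm.symm⟩
        · calc 4 = 2 ^ 2 := by norm_num
            _ ≤ p ^ 2 := Nat.pow_le_pow_left hp.two_le 2
            _ ≤ p ^ a := Nat.pow_le_pow_right hp.pos ha2
        · by_contra hm2
          have : m = 0 ∨ m = 1 := by omega
          rcases this with rfl | rfl <;> omega

end MinSimpleArith

end Cfsg.Agent.Lib.helper46
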