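import Mathlib
import Cfsg.Agent.Lib.helper46.MinSimple
import Cfsg.Agent.Lib.helper98.DicksonEven

/-!
# Pairs generating solvable subgroups of `SL₂(2ⁿ)` (helper46)

Generic lemmas on two-generator groups, the structure of the proper subgroups of `SL₂(q)`, `q`
even, in the minimal simple case, and the characterization of the elements `h` with `⟨g, h⟩`
solvable for the three kinds of elements `g`.
-/

set_option autoImplicit false

namespace Cfsg.Agent.Lib.helper46

open Cfsg.Agent.Lib.helper98

local notation "dSL" => Cfsg.Agent.Lib.helper98.diagSL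
local notation "mSL" => Cfsg.Agent.Lib.helper98.mkSL

section GenericClosure

variable {G : Type*} [Group G]

/-- `⟨a, b⟩` is solvable when `b` inverts `a`. -/
theorem solvable_closure_of_inv (a b : G) (h : b * a * b⁻¹ = a⁻¹) :
    Group.IsSolvable (Subgroup.closure ({a, b} : Set G)) := by
  have hb' : b⁻¹ * a * b = a⁻¹ := by
    have h1 : a = b⁻¹ * a⁻¹ * b := by rw [← h]; group
    calc b⁻¹ * a * b = (b⁻¹ * a⁻¹ * b)⁻¹ := by group
      _ = a⁻¹ := by rw [← h1]
  have hconj : ∀ k : ℤ, b * a ^ k * b⁻¹ = a ^ (-k) := by
    intro k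
    have h1 : b * a ^ k * b⁻¹ = (b * a * b⁻¹) ^ k := by rw [conj_zpow]
    rw [h1, h, inv_zpow, zpow_neg]
  have hconj' : ∀ k : ℤ, b⁻¹ * a ^ k * b = a ^ (-k) := by
    intro k
    have h1 : b⁻¹ * a ^ k * b = (b⁻¹ * a * b⁻¹⁻¹) ^ k := by rw [conj_zpow, inv_inv]
    rw [h1, inv_inv, hb', inv_zpow, zpow_neg]
  have hnorm : Subgroup.closure ({a, b} : Set G) ≤
      Subgroup.normalizer ((Subgroup.zpowers a : Subgroup G) : Set G) := by
    rw [Subgroup.closure_le]
    intro x hx
    rcases hx with rfl | hx
    · exact (Subgroup.le_normalizer (H := Subgroup.zpowers x)) (Subgroup.mem_zpowers x)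
    · rw [Set.mem_singleton_iff] at hx
      subst hx
      rw [SetLike.mem_coe, Subgroup.mem_normalizer_iff]
      intro n
      constructor
      · rintro ⟨k, rfl⟩
        exact ⟨-k, (hconj k).symm⟩
      · rintro ⟨k, hk⟩
        have h1 : n = x⁻¹ * a ^ k * x := by
          have : a ^ k = x * n * x⁻¹ := hk
          rw [this]; group
        rw [h1, hconj' k]
        exact ⟨-k, rfl⟩
  have hN : ((Subgroup.zpowers a).subgroupOf (Subgroup.closure ({a, b} : Set G))).Normal :=
    Subgroup.normal_subgroupOf_of_le_normalizer hnorm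
  refine solvable_of_normal_comm
    ((Subgroup.zpowers a).subgroupOf (Subgroup.closure ({a, b} : Set G))) ?_ ?_
  · intro x hx y hy
    rw [Subgroup.mem_subgroupOf] at hx hy
    obtain ⟨k, hk⟩ := hx
    obtain ⟨l, hl⟩ := hy
    apply Subtype.ext
    rw [Subgroup.coe_mul, Subgroup.coe_mul, ← hk, ← hl]
    simp only [← zpow_add]
    rw [add_comm]
  · have hbm : b ∈ Subgroup.closure ({a, b} : Set G) := Subgroup.subset_closure (by simp)
    have key : ∀ x (hx : x ∈ Subgroup.closure ({a, b} : Set G)),
        (QuotientGroup.mk' ((Subgroup.zpowers a).subgroupOf (Subgroup.closure ({a, b} : Set G)))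
          ⟨x, hx⟩) ∈ Subgroup.zpowers (QuotientGroup.mk'
            ((Subgroup.zpowers a).subgroupOf (Subgroup.closure ({a, b} : Set G))) ⟨b, hbm⟩) := by
      intro x hx
      induction hx using Subgroup.closure_induction with
      | mem x hx =>
        rcases hx with rfl | hx
        · have : (QuotientGroup.mk' ((Subgroup.zpowers x).subgroupOf
              (Subgroup.closure ({x, b} : Set G))) ⟨x, Subgroup.subset_closure (by simp)⟩) = 1 := by
            rw [QuotientGroup.mk'_apply, QuotientGroup.eq_one_iff, Subgroup.mem_subgroupOf]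
            exact Subgroup.mem_zpowers x
          rw [this]
          exact Subgroup.one_mem _
        · rw [Set.mem_singleton_iff] at hx
          subst hx
          exact Subgroup.mem_zpowers _
      | one => exact Subgroup.one_mem _
      | mul x y hx hy ihx ihy => exact Subgroup.mul_mem _ ihx ihy
      | inv x hx ih => exact Subgroup.inv_mem _ ih
    intro p q
    obtain ⟨x, rfl⟩ := QuotientGroup.mk'_surjective _ p
    obtain ⟨y, rfl⟩ := QuotientGroup.mk'_surjective _ q
    obtain ⟨k, hk⟩ := key x.1 x.2
    obtain ⟨l, hl⟩ := key y.1 y.2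
    have hk' : QuotientGroup.mk' ((Subgroup.zpowers a).subgroupOf
        (Subgroup.closure ({a, b} : Set G))) x = _ := hk.symm
    have hl' : QuotientGroup.mk' ((Subgroup.zpowers a).subgroupOf
        (Subgroup.closure ({a, b} : Set G))) y = _ := hl.symm
    rw [hk', hl']
    simp only [← zpow_add]
    rw [add_comm]

/-- Two involutions generate a solvable group. -/
theorem solvable_closure_two_inv (u h : G) (hu : u * u = 1) (hh : h * h = 1) :
    Group.IsSolvable (Subgroup.closure ({u, h} : Set G)) := by
  have huinv : u⁻¹ = u := inv_eq_of_mul_eq_one_right hu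
  have hhinv : h⁻¹ = h := inv_eq_of_mul_eq_one_right hh
  have h1 : u * (u * h) * u⁻¹ = (u * h)⁻¹ := by
    rw [mul_inv_rev, huinv, hhinv, ← mul_assoc, hu, one_mul]
  have h2 := solvable_closure_of_inv (u * h) u h1
  have heq : Subgroup.closure ({u, h} : Set G) = Subgroup.closure ({u * h, u} : Set G) := by
    apply le_antisymm
    · rw [Subgroup.closure_le]
      intro x hx
      rcases hx with rfl | hx
      · exact Subgroup.subset_closure (by simp)
      · rw [Set.mem_singleton_iff] at hx
        subst hx
        have e : x = u⁻¹ * (u * x) := by group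
        rw [SetLike.mem_coe, e]
        exact Subgroup.mul_mem _ (Subgroup.inv_mem _ (Subgroup.subset_closure (by simp)))
          (Subgroup.subset_closure (by simp))
    · rw [Subgroup.closure_le]
      intro x hx
      rcases hx with rfl | hx
      · exact Subgroup.mul_mem _ (Subgroup.subset_closure (by simp))
          (Subgroup.subset_closure (by simp))
      · rw [Set.mem_singleton_iff] at hx
        subst hx
        exact Subgroup.subset_closure (by simp)
  rw [heq]
  exact h2

/-- Two commuting elements generate a solvable group. -/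
theorem solvable_closure_of_comm (a b : G) (h : a * b = b * a) :
    Group.IsSolvable (Subgroup.closure ({a, b} : Set G)) := by
  have hcomm : ∀ x ∈ ({a, b} : Set G), ∀ y ∈ ({a, b} : Set G), x * y = y * x := by
    intro x hx y hy
    rcases hx with rfl | hx <;> rcases hy with rfl | hy
    · rfl
    · rw [Set.mem_singleton_iff] at hy; subst hy; exact h
    · rw [Set.mem_singleton_iff] at hx; subst hx; exact h.symm
    · rw [Set.mem_singleton_iff] at hx hy; subst hx; subst hy; rfl
  exact Group.isSolvable_of_comm (isMulCommutative_iff.mp (Subgroup.isMulCommutative_closure hcomm))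

/-- A subgroup of a subgroup with a solvable ambient. -/
theorem solvable_of_le {H K : Subgroup G} (hle : H ≤ K) (hK : Group.IsSolvable K) :
    Group.IsSolvable H :=
  Group.isSolvable_of_isSolvable_injective (Subgroup.inclusion_injective hle)

theorem closure_pair_mul (a b : G) :
    Subgroup.closure ({a, b} : Set G) = Subgroup.closure ({a, a * b} : Set G) := by
  apply le_antisymm
  · rw [Subgroup.closure_le]
    intro x hx
    rcases hx with rfl | hx
    · exact Subgroup.subset_closure (by simp)
    · rw [Set.mem_singleton_iff] at hx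
      subst hx
      have e : x = a⁻¹ * (a * x) := by group
      rw [SetLike.mem_coe, e]
      exact Subgroup.mul_mem _ (Subgroup.inv_mem _ (Subgroup.subset_closure (by simp)))
        (Subgroup.subset_closure (by simp))
  · rw [Subgroup.closure_le]
    intro x hx
    rcases hx with rfl | hx
    · exact Subgroup.subset_closure (by simp)
    · rw [Set.mem_singleton_iff] at hx
      subst hx
      exact Subgroup.mul_mem _ (Subgroup.subset_closure (by simp))
        (Subgroup.subset_closure (by simp))

end GenericClosure

section EvenStructure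

variable {F : Type*} [Field F]

/-- In characteristic `2`, `a * a = 1` forces `a = 1`. -/
theorem eq_one_of_sq_char_two (h2 : (2 : F) = 0) (a : F) (ha : a * a = 1) : a = 1 := by
  have : (a - 1) * (a - 1) = 0 := by linear_combination ha + (1 - a) * h2
  rcases mul_eq_zero.mp this with h | h <;> linear_combination h

/-- In characteristic `2`, the elements commuting with a nontrivial `upSL t₀` are of the form
`upSL s`. -/
theorem eq_upSL_of_comm_char_two (h2 : (2 : F) = 0) (s : Matrix.SpecialLinearGroup (Fin 2) F)
    (t₀ : F) (ht₀ : t₀ ≠ 0) (hs : s * upSL t₀ = upSL t₀ * s) : s = upSL (s 0 1) := by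
  obtain ⟨h10, ht⟩ := borel_of_conj s t₀ t₀ ht₀ hs
  have h11 : s 1 1 = 1 := by
    apply eq_one_of_sq_char_two h2
    have : t₀ * (s 1 1 * s 1 1 - 1) = 0 := by linear_combination -ht
    rcases mul_eq_zero.mp this with h | h
    · exact absurd h ht₀
    · linear_combination h
  have hd := sl2_det' s
  rw [h10, h11, mul_zero, sub_zero, mul_one] at hd
  exact eq_upSL hd h10

/-- In characteristic `2`, the elements commuting with an involution are involutions. -/
theorem sq_eq_one_of_comm_involution (h2 : (2 : F) = 0)
    (u s : Matrix.SpecialLinearGroup (Fin 2) F) (hu1 : u ≠ 1) (hu2 : u * u = 1)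
    (hs : s * u = u * s) : s * s = 1 := by
  have htr : u 0 0 + u 1 1 = 2 := by
    rcases trace_of_sq_eq_one h2 u hu2 with h | h
    · exact h
    · exact absurd h hu1
  obtain ⟨c, t₀, ht₀, hc⟩ := exists_conj_eq_upSL u hu1 htr
  have hcomm : (c * s * c⁻¹) * upSL t₀ = upSL t₀ * (c * s * c⁻¹) := by
    rw [← hc]
    calc c * s * c⁻¹ * (c * u * c⁻¹) = c * (s * u) * c⁻¹ := by group
      _ = c * (u * s) * c⁻¹ := by rw [hs]
      _ = _ := by group
  have h1 := eq_upSL_of_comm_char_two h2 _ t₀ ht₀ hcomm
  have h3 : (c * s * c⁻¹) * (c * s * c⁻¹) = 1 := by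
    rw [h1, upSL_add]
    have : (c * s * c⁻¹) 0 1 + (c * s * c⁻¹) 0 1 = 0 := by
      linear_combination ((c * s * c⁻¹) 0 1) * h2
    rw [this, upSL_zero]
  have h4 : c * (s * s) * c⁻¹ = 1 := by
    rw [← h3]; group
  have h5 := congrArg (fun g => c⁻¹ * g * c) h4
  simpa [mul_assoc] using h5

variable [Fintype F]

/-- **Structure of the proper subgroups of `SL₂(q)`, `q` even, in the minimal simple case.** -/
theorem proper_even_structure (h2 : (2 : F) = 0)
    (hA : ∀ A, 4 ≤ A → A ∣ Fintype.card F → (A - 1) ∣ (Fintype.card F - 1) → A = Fintype.card F)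
    (K : Subgroup (Matrix.SpecialLinearGroup (Fin 2) F)) (hne : K ≠ ⊤) :
    (∃ c : Matrix.SpecialLinearGroup (Fin 2) F, ∀ g ∈ K, (c * g * c⁻¹) 1 0 = 0) ∨
    ∃ A : Subgroup (Matrix.SpecialLinearGroup (Fin 2) F), (∀ a ∈ A, ∀ b ∈ A, a * b = b * a) ∧
      ∀ x ∈ K, x ∈ A ∨ (x * x = 1 ∧ ∀ a ∈ A, x * a * x⁻¹ = a⁻¹) := by
  classical
  by_cases h4 : 4 ∣ Nat.card K
  · rcases wild_even_fine h2 K h4 with h | ⟨A, hA4, hAq, hAq', hcard⟩
    · exact Or.inl h
    · exfalso
      apply hne
      have hAeq := hA A hA4 hAq hAq'
      apply Subgroup.eq_top_of_card_eq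
      rw [hcard, hAeq, nat_cube _ (by omega), Cfsg.Agent.Lib.helper7.card_SL2 (F := F) rfl]
  · right
    by_cases hodd : 2 ∣ Nat.card K
    · have : Fact (Nat.Prime 2) := ⟨Nat.prime_two⟩
      obtain ⟨u, hu⟩ := exists_prime_orderOf_dvd_card' (G := K) 2 hodd
      have hu2 : u * u = 1 := by
        have h3 := pow_orderOf_eq_one u
        rw [hu] at h3
        rw [← pow_two]; exact h3
      have hu1 : u ≠ 1 := by
        intro h
        rw [h, orderOf_one] at hu
        norm_num at hu
      have hu2' : (u : Matrix.SpecialLinearGroup (Fin 2) F) * (u : Matrix.SpecialLinearGroup (Fin 2) F)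
          = 1 := by
        have := congrArg (fun x : K => (x : Matrix.SpecialLinearGroup (Fin 2) F)) hu2
        simpa using this
      have hu1' : (u : Matrix.SpecialLinearGroup (Fin 2) F) ≠ 1 := fun h => hu1 (Subtype.ext h)
      have hC : ∀ g : K, g * u = u * g → g = 1 ∨ g = u := by
        intro g hg
        by_contra hcon
        push Not at hcon
        obtain ⟨hg1, hgu⟩ := hcon
        -- the centralizer of `u` in `K` is a `2`-group
        have hP : IsPGroup 2 (Subgroup.centralizer ({u} : Set K)) := by
          intro s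
          refine ⟨1, ?_⟩
          have hs : (s : K) * u = u * (s : K) := by
            have := s.2
            rw [Subgroup.mem_centralizer_iff] at this
            exact (this u rfl).symm
          have hs' : ((s : K) : Matrix.SpecialLinearGroup (Fin 2) F) *
              (u : Matrix.SpecialLinearGroup (Fin 2) F) =
              (u : Matrix.SpecialLinearGroup (Fin 2) F) *
              ((s : K) : Matrix.SpecialLinearGroup (Fin 2) F) := by
            have := congrArg (fun x : K => (x : Matrix.SpecialLinearGroup (Fin 2) F)) hs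
            simpa using this
          have h5 := sq_eq_one_of_comm_involution h2 _ _ hu1' hu2' hs'
          apply Subtype.ext
          apply Subtype.ext
          simp only [pow_one, Subgroup.coe_pow, Subgroup.coe_one]
          rw [pow_two]
          exact h5
        obtain ⟨n, hn⟩ := IsPGroup.iff_card.mp hP
        have hdvd : Nat.card (Subgroup.centralizer ({u} : Set K)) ∣ Nat.card K :=
          Subgroup.card_subgroup_dvd_card _
        have hn1 : n ≤ 1 := by
          by_contra hn2
          apply h4
          have : (2 : ℕ) ^ 2 ∣ 2 ^ n := Nat.pow_dvd_pow 2 (by omega)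
          rw [← hn] at this
          exact Dvd.dvd.trans (by simpa using this) hdvd
        have hle : Nat.card (Subgroup.centralizer ({u} : Set K)) ≤ 2 := by
          rw [hn]
          calc 2 ^ n ≤ 2 ^ 1 := Nat.pow_le_pow_right (by norm_num) hn1
            _ = 2 := by norm_num
        have hgm : g ∈ Subgroup.centralizer ({u} : Set K) := by
          rw [Subgroup.mem_centralizer_iff]
          intro x hx
          rw [Set.mem_singleton_iff] at hx
          rw [hx]; exact hg.symm
        have hum : u ∈ Subgroup.centralizer ({u} : Set K) := by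
          rw [Subgroup.mem_centralizer_iff]
          intro x hx
          rw [Set.mem_singleton_iff] at hx
          rw [hx]
        have hcard12 : Nat.card (Subgroup.centralizer ({u} : Set K)) = 1 ∨
            Nat.card (Subgroup.centralizer ({u} : Set K)) = 2 := by
          have hpos : 0 < Nat.card (Subgroup.centralizer ({u} : Set K)) := Nat.card_pos
          omega
        rcases hcard12 with h1 | h1
        · have := (Nat.card_eq_one_iff_unique.mp h1).1
          have e1 : (⟨u, hum⟩ : Subgroup.centralizer ({u} : Set K)) = 1 := Subsingleton.elim _ _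
          exact hu1 (congrArg Subtype.val e1)
        · obtain ⟨y, -, hy⟩ := (Nat.card_eq_two_iff' (1 : Subgroup.centralizer ({u} : Set K))).mp h1
          have e1 := hy ⟨u, hum⟩ (fun h => hu1 (congrArg Subtype.val h))
          have e2 := hy ⟨g, hgm⟩ (fun h => hg1 (congrArg Subtype.val h))
          exact hgu (congrArg Subtype.val (e2.trans e1.symm))
      obtain ⟨A', hAn, hAc, hAu, hAinv⟩ :=
        exists_abelian_of_self_centralizing_involution u hu1 hu2 hC
      have huinv : (u : Matrix.SpecialLinearGroup (Fin 2) F)⁻¹ = u :=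
        inv_eq_of_mul_eq_one_right hu2'
      refine ⟨A'.map K.subtype, ?_, ?_⟩
      · rintro a ⟨a', ha', rfl⟩ b ⟨b', hb', rfl⟩
        have := hAc a' ha' b' hb'
        have h5 := congrArg (fun x : K => (x : Matrix.SpecialLinearGroup (Fin 2) F)) this
        simpa using h5
      · intro x hx
        rcases hAu ⟨x, hx⟩ with h | h
        · left
          exact ⟨⟨x, hx⟩, h, rfl⟩
        · right
          have key : ∀ a' ∈ A', (u : Matrix.SpecialLinearGroup (Fin 2) F) * (a' : K) *
              (u : Matrix.SpecialLinearGroup (Fin 2) F) = ((a' : K) :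
                Matrix.SpecialLinearGroup (Fin 2) F)⁻¹ := by
            intro a' ha'
            have := hAinv a' ha'
            have h5 := congrArg (fun x : K => (x : Matrix.SpecialLinearGroup (Fin 2) F)) this
            simpa using h5
          obtain ⟨y, hy⟩ : ∃ y : K, y = u * ⟨x, hx⟩ := ⟨_, rfl⟩
          rw [← hy] at h
          have hx' : x = (u : Matrix.SpecialLinearGroup (Fin 2) F) *
              (y : Matrix.SpecialLinearGroup (Fin 2) F) := by
            rw [hy, Subgroup.coe_mul, ← mul_assoc, hu2', one_mul]
          have hk := key y h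
          constructor
          · rw [hx']
            calc (u : Matrix.SpecialLinearGroup (Fin 2) F) * (y : Matrix.SpecialLinearGroup (Fin 2) F) *
                  ((u : Matrix.SpecialLinearGroup (Fin 2) F) * (y : Matrix.SpecialLinearGroup (Fin 2) F))
                = ((u : Matrix.SpecialLinearGroup (Fin 2) F) * (y : Matrix.SpecialLinearGroup (Fin 2) F) *
                  (u : Matrix.SpecialLinearGroup (Fin 2) F)) * (y : Matrix.SpecialLinearGroup (Fin 2) F) := by
                    group
              _ = 1 := by rw [hk, inv_mul_cancel]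
          · rintro a ⟨a', ha', rfl⟩
            have hcomm := hAc y h a' ha'
            have hcomm' : (y : Matrix.SpecialLinearGroup (Fin 2) F) *
                (a' : Matrix.SpecialLinearGroup (Fin 2) F) =
                (a' : Matrix.SpecialLinearGroup (Fin 2) F) *
                (y : Matrix.SpecialLinearGroup (Fin 2) F) := by
              have := congrArg (fun x : K => (x : Matrix.SpecialLinearGroup (Fin 2) F)) hcomm
              simpa using this
            have hka := key a' ha'
            rw [Subgroup.coe_subtype, hx', mul_inv_rev, huinv]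
            calc (u : Matrix.SpecialLinearGroup (Fin 2) F) * (y : Matrix.SpecialLinearGroup (Fin 2) F) *
                  (a' : Matrix.SpecialLinearGroup (Fin 2) F) *
                  ((y : Matrix.SpecialLinearGroup (Fin 2) F)⁻¹ * (u : Matrix.SpecialLinearGroup (Fin 2) F))
                = (u : Matrix.SpecialLinearGroup (Fin 2) F) * ((y : Matrix.SpecialLinearGroup (Fin 2) F) *
                  (a' : Matrix.SpecialLinearGroup (Fin 2) F)) *
                  (y : Matrix.SpecialLinearGroup (Fin 2) F)⁻¹ * (u : Matrix.SpecialLinearGroup (Fin 2) F) := by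
                    group
              _ = (u : Matrix.SpecialLinearGroup (Fin 2) F) * ((a' : Matrix.SpecialLinearGroup (Fin 2) F) *
                  (y : Matrix.SpecialLinearGroup (Fin 2) F)) *
                  (y : Matrix.SpecialLinearGroup (Fin 2) F)⁻¹ * (u : Matrix.SpecialLinearGroup (Fin 2) F) := by
                    rw [hcomm']
              _ = (u : Matrix.SpecialLinearGroup (Fin 2) F) * (a' : Matrix.SpecialLinearGroup (Fin 2) F) *
                  (u : Matrix.SpecialLinearGroup (Fin 2) F) := by group
              _ = _ := hka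
    · exact ⟨K, comm_of_odd_card h2 K hodd, fun x hx => Or.inl hx⟩

end EvenStructure

section Elements

variable {F : Type*} [Field F]

/-- An element whose characteristic polynomial has a root is conjugate to an upper triangular
matrix. -/
theorem conj_upper_of_root (g : Matrix.SpecialLinearGroup (Fin 2) F) (l : F)
    (hl : l * l - (g 0 0 + g 1 1) * l + 1 = 0) :
    ∃ c : Matrix.SpecialLinearGroup (Fin 2) F, (c * g * c⁻¹) 1 0 = 0 := by
  have hd := sl2_det' g
  by_cases hb : g 0 1 = 0
  · refine ⟨wSL, ?_⟩
    simp only [sl2_mul_apply, sl2_inv_00, sl2_inv_10, wSL_10, wSL_11]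
    rw [hb]; ring
  · refine ⟨mSL (g 0 1)⁻¹ 0 (g 0 0 - l) (g 0 1) (by rw [inv_mul_cancel₀ hb]; ring), ?_⟩
    simp only [sl2_mul_apply, sl2_inv_00, sl2_inv_10, mkSL_00, mkSL_01, mkSL_10, mkSL_11]
    linear_combination (-(g 0 1)) * hl - (g 0 1) * hd

/-- In characteristic `2`, an upper triangularizable element which is not an involution is
diagonalizable. -/
theorem exists_conj_diag (h2 : (2 : F) = 0) (g : Matrix.SpecialLinearGroup (Fin 2) F)
    (hg : g * g ≠ 1) (c₁ : Matrix.SpecialLinearGroup (Fin 2) F)
    (hc₁ : (c₁ * g * c₁⁻¹) 1 0 = 0) :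
    ∃ (c : Matrix.SpecialLinearGroup (Fin 2) F) (μ : F) (hμ : μ ≠ 0), μ * μ ≠ 1 ∧
      c * g * c⁻¹ = dSL μ hμ := by
  obtain ⟨g', hg'⟩ : ∃ g', g' = c₁ * g * c₁⁻¹ := ⟨_, rfl⟩
  rw [← hg'] at hc₁
  have hd := sl2_det' g'
  rw [hc₁, mul_zero, sub_zero] at hd
  have hμ : g' 0 0 ≠ 0 := by
    intro h
    rw [h, zero_mul] at hd
    exact zero_ne_one hd
  have h11 : g' 1 1 = (g' 0 0)⁻¹ := eq_inv_of_mul_eq_one_right hd
  have hμ2 : g' 0 0 * g' 0 0 ≠ 1 := by
    intro h
    have h00 := eq_one_of_sq_char_two h2 _ h
    have hup := eq_upSL h00 hc₁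
    apply hg
    have h3 : g' * g' = 1 := by
      rw [hup, upSL_add]
      have : g' 0 1 + g' 0 1 = 0 := by linear_combination (g' 0 1) * h2
      rw [this, upSL_zero]
    rw [hg'] at h3
    have h4 : c₁ * (g * g) * c₁⁻¹ = 1 := by rw [← h3]; group
    have h5 := congrArg (fun x => c₁⁻¹ * x * c₁) h4
    simpa [mul_assoc] using h5
  have hdiff : g' 0 0 - (g' 0 0)⁻¹ ≠ 0 := by
    intro h
    apply hμ2
    have : g' 0 0 = (g' 0 0)⁻¹ := by linear_combination h
    nth_rewrite 2 [this]
    exact mul_inv_cancel₀ hμ
  obtain ⟨s, hs⟩ : ∃ s, s * (g' 0 0 - (g' 0 0)⁻¹) = g' 0 1 := ⟨_, div_mul_cancel₀ _ hdiff⟩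
  refine ⟨upSL s * c₁, g' 0 0, hμ, hμ2, ?_⟩
  have e : upSL s * c₁ * g * (upSL s * c₁)⁻¹ = upSL s * g' * (upSL s)⁻¹ := by
    rw [hg']; group
  rw [e]
  apply sl2_ext <;> simp only [sl2_mul_apply, sl2_inv_00, sl2_inv_01, sl2_inv_10, sl2_inv_11,
    upSL_00, upSL_01, upSL_10, upSL_11, diagSL_00, diagSL_01, diagSL_10, diagSL_11, hc₁, h11]
  · ring
  · linear_combination -hs
  · ring
  · ring

end Elements

section SolvIff

variable {F : Type*} [Field F] [Fintype F]

/-- The minimal simple case in characteristic `2`. -/
def EvenMin (F : Type*) [Field F] [Fintype F] : Prop :=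
  (2 : F) = 0 ∧ 4 ≤ Fintype.card F ∧
    ∀ A, 4 ≤ A → A ∣ Fintype.card F → (A - 1) ∣ (Fintype.card F - 1) → A = Fintype.card F

theorem evenMin_of_card (p : ℕ) (hp : p.Prime) (hF : Fintype.card F = 2 ^ p) : EvenMin F := by
  refine ⟨two_eq_zero_of_even_card (by
    rw [hF]; exact (Nat.even_pow.mpr ⟨even_two, hp.ne_zero⟩)), ?_, ?_⟩
  · rw [hF]
    calc 4 = 2 ^ 2 := by norm_num
      _ ≤ 2 ^ p := Nat.pow_le_pow_right (by norm_num) hp.two_le
  · intro A hA4 hAq hAq'
    rw [hF] at hAq hAq' ⊢
    rcases subfield_order_prime_exp 2 p Nat.prime_two hp A hAq hAq' with h | h | h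
    · omega
    · omega
    · exact h

/-- `SL₂(F)` is not solvable for `|F| ≥ 4`. -/
theorem sl2_not_solvable (h4 : 4 ≤ Fintype.card F) :
    ¬ Group.IsSolvable (Matrix.SpecialLinearGroup (Fin 2) F) := by
  intro hs
  apply psl2_not_solvable (F := F) (by rw [Nat.card_eq_fintype_card]; exact h4)
  exact Group.isSolvable_of_surjective
    (QuotientGroup.mk'_surjective (Subgroup.center (Matrix.SpecialLinearGroup (Fin 2) F)))

theorem evenMin_solvable_iff (hE : EvenMin F)
    (K : Subgroup (Matrix.SpecialLinearGroup (Fin 2) F)) : Group.IsSolvable K ↔ K ≠ ⊤ := by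
  constructor
  · intro hs htop
    apply sl2_not_solvable hE.2.1
    rw [htop] at hs
    exact Group.isSolvable_of_surjective (f := (Subgroup.topEquiv (G :=
      Matrix.SpecialLinearGroup (Fin 2) F)).toMonoidHom) Subgroup.topEquiv.surjective
  · exact solvable_of_proper_even hE.1 hE.2.2 K

/-- **Involutions.** -/
theorem solvable_upSL_iff (hE : EvenMin F) (t₀ : F) (ht₀ : t₀ ≠ 0)
    (h : Matrix.SpecialLinearGroup (Fin 2) F) :
    Group.IsSolvable (Subgroup.closure ({upSL t₀, h} : Set (Matrix.SpecialLinearGroup (Fin 2) F)))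
      ↔ h 1 0 = 0 ∨ h 0 0 + h 1 1 = 0 ∨ h 0 0 + h 1 1 = t₀ * h 1 0 := by
  obtain ⟨h2, h4, hA⟩ := hE
  have hu2 : upSL t₀ * upSL t₀ = 1 := by
    rw [upSL_add]
    have : t₀ + t₀ = 0 := by linear_combination t₀ * h2
    rw [this, upSL_zero]
  have huinv : (upSL t₀)⁻¹ = upSL t₀ := inv_eq_of_mul_eq_one_right hu2
  have hum : upSL t₀ ∈ Subgroup.closure ({upSL t₀, h} : Set (Matrix.SpecialLinearGroup (Fin 2) F)) :=
    Subgroup.subset_closure (by simp)
  have hhm : h ∈ Subgroup.closure ({upSL t₀, h} : Set (Matrix.SpecialLinearGroup (Fin 2) F)) :=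
    Subgroup.subset_closure (by simp)
  constructor
  · intro hs
    have hne := (evenMin_solvable_iff ⟨h2, h4, hA⟩ _).mp hs
    rcases proper_even_structure h2 hA _ hne with ⟨c, hc⟩ | ⟨A, hAc, hAx⟩
    · have hu := hc _ hum
      have hh := hc _ hhm
      have hd := sl2_det' c
      simp only [sl2_mul_apply, sl2_inv_00, sl2_inv_10, upSL_00, upSL_01, upSL_10, upSL_11] at hu
      have hc10 : c 1 0 = 0 := by
        have : c 1 0 * c 1 0 * t₀ = 0 := by linear_combination -hu
        rcases mul_eq_zero.mp this with h' | h'
        · rcases mul_eq_zero.mp h' with h'' | h'' <;> exact h''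
        · exact absurd h' ht₀
      simp only [sl2_mul_apply, sl2_inv_00, sl2_inv_10, hc10] at hh
      rw [hc10, mul_zero, sub_zero] at hd
      have hc11 : c 1 1 ≠ 0 := by
        intro h'
        rw [h', mul_zero] at hd
        exact zero_ne_one hd
      left
      have : c 1 1 * c 1 1 * h 1 0 = 0 := by linear_combination hh
      rcases mul_eq_zero.mp this with h' | h'
      · rcases mul_eq_zero.mp h' with h'' | h'' <;> exact absurd h'' hc11
      · exact h'
    · rcases hAx _ hhm with hhA | ⟨hh2, hhinv⟩
      · rcases hAx _ hum with huA | ⟨-, huinv'⟩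
        · left
          exact (borel_of_conj h t₀ t₀ ht₀ (hAc h hhA _ huA)).1
        · have h5 := huinv' h hhA
          rw [huinv] at h5
          have hprod : (upSL t₀ * h) * (upSL t₀ * h) = 1 := by
            calc upSL t₀ * h * (upSL t₀ * h) = (upSL t₀ * h * upSL t₀) * h := by group
              _ = 1 := by rw [h5, inv_mul_cancel]
          rcases trace_of_sq_eq_one h2 _ hprod with htr | h1
          · right; right
            simp only [sl2_mul_apply, upSL_00, upSL_01, upSL_10, upSL_11] at htr
            linear_combination htr + (1 - t₀ * h 1 0) * h2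
          · left
            have : h = (upSL t₀)⁻¹ := eq_inv_of_mul_eq_one_right h1
            rw [this, sl2_inv_10, upSL_10, neg_zero]
      · rcases trace_of_sq_eq_one h2 h hh2 with htr | h1
        · right; left
          rw [htr, h2]
        · left
          rw [h1, sl2_one_10]
  · rintro (h10 | htr | htr)
    · apply solvable_of_conj_borel _ 1
      have hle : Subgroup.closure ({upSL t₀, h} : Set (Matrix.SpecialLinearGroup (Fin 2) F)) ≤
          borelSL F := by
        rw [Subgroup.closure_le]
        intro x hx
        rcases hx with rfl | hx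
        · exact upSL_10 t₀
        · rw [Set.mem_singleton_iff] at hx
          subst hx
          exact h10
      intro x hx
      rw [one_mul, inv_one, mul_one]
      exact (mem_borelSL x).mp (hle hx)
    · have hh2 : h * h = 1 := by rw [sq_of_trace_zero h htr, negOne_eq_one_of_two h2]
      exact solvable_closure_two_inv _ _ hu2 hh2
    · have htr' : (upSL t₀ * h) 0 0 + (upSL t₀ * h) 1 1 = 0 := by
        simp only [sl2_mul_apply, upSL_00, upSL_01, upSL_10, upSL_11]
        linear_combination htr + (t₀ * h 1 0) * h2
      have hp2 : (upSL t₀ * h) * (upSL t₀ * h) = 1 := by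
        rw [sq_of_trace_zero _ htr', negOne_eq_one_of_two h2]
      rw [closure_pair_mul]
      exact solvable_closure_two_inv _ _ hu2 hp2

/-- **Split semisimple elements.** -/
theorem solvable_diagSL_iff (hE : EvenMin F) (μ : F) (hμ : μ ≠ 0) (hμ2 : μ * μ ≠ 1)
    (h : Matrix.SpecialLinearGroup (Fin 2) F) :
    Group.IsSolvable (Subgroup.closure ({dSL μ hμ, h} :
      Set (Matrix.SpecialLinearGroup (Fin 2) F)))
      ↔ h 1 0 = 0 ∨ h 0 1 = 0 ∨ (h 0 0 = 0 ∧ h 1 1 = 0) := by
  obtain ⟨h2, h4, hA⟩ := hE
  have hdiff : μ - μ⁻¹ ≠ 0 := by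
    intro h'
    apply hμ2
    have : μ = μ⁻¹ := by linear_combination h'
    nth_rewrite 2 [this]
    exact mul_inv_cancel₀ hμ
  have hgm : dSL μ hμ ∈ Subgroup.closure ({dSL μ hμ, h} :
      Set (Matrix.SpecialLinearGroup (Fin 2) F)) := Subgroup.subset_closure (by simp)
  have hhm : h ∈ Subgroup.closure ({dSL μ hμ, h} :
      Set (Matrix.SpecialLinearGroup (Fin 2) F)) := Subgroup.subset_closure (by simp)
  constructor
  · intro hs
    have hne := (evenMin_solvable_iff ⟨h2, h4, hA⟩ _).mp hs
    rcases proper_even_structure h2 hA _ hne with ⟨c, hc⟩ | ⟨A, hAc, hAx⟩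
    · have hg := hc _ hgm
      have hh := hc _ hhm
      have hd := sl2_det' c
      simp only [sl2_mul_apply, sl2_inv_00, sl2_inv_10, diagSL_00, diagSL_01, diagSL_10,
        diagSL_11] at hg
      simp only [sl2_mul_apply, sl2_inv_00, sl2_inv_10] at hh
      have hcc : c 1 0 * c 1 1 = 0 := by
        have : c 1 0 * c 1 1 * (μ - μ⁻¹) = 0 := by linear_combination hg
        rcases mul_eq_zero.mp this with h' | h'
        · exact h'
        · exact absurd h' hdiff
      rcases mul_eq_zero.mp hcc with hc10 | hc11
      · left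
        rw [hc10] at hh
        rw [hc10, mul_zero, sub_zero] at hd
        have hc11 : c 1 1 ≠ 0 := by
          intro h'
          rw [h', mul_zero] at hd
          exact zero_ne_one hd
        have : c 1 1 * c 1 1 * h 1 0 = 0 := by linear_combination hh
        rcases mul_eq_zero.mp this with h' | h'
        · rcases mul_eq_zero.mp h' with h'' | h'' <;> exact absurd h'' hc11
        · exact h'
      · right; left
        rw [hc11] at hh
        rw [hc11, mul_zero, zero_sub] at hd
        have hc10 : c 1 0 ≠ 0 := by
          intro h'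
          rw [h', mul_zero, neg_zero] at hd
          exact zero_ne_one hd
        have : c 1 0 * c 1 0 * h 0 1 = 0 := by linear_combination -hh
        rcases mul_eq_zero.mp this with h' | h'
        · rcases mul_eq_zero.mp h' with h'' | h'' <;> exact absurd h'' hc10
        · exact h'
    · have hgA : dSL μ hμ ∈ A := by
        rcases hAx _ hgm with h' | ⟨h', -⟩
        · exact h'
        · exfalso
          apply hμ2
          have := congrArg (fun x : Matrix.SpecialLinearGroup (Fin 2) F => x 0 0) h'
          simpa only [sl2_mul_apply, diagSL_00, diagSL_01, diagSL_10, mul_zero, add_zero,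
            sl2_one_00] using this
      rcases hAx _ hhm with hhA | ⟨-, hhinv⟩
      · right; left
        have hcomm := hAc h hhA _ hgA
        have e := congrArg (fun x : Matrix.SpecialLinearGroup (Fin 2) F => x 0 1) hcomm
        simp only [sl2_mul_apply, diagSL_00, diagSL_01, diagSL_11] at e
        have : h 0 1 * (μ - μ⁻¹) = 0 := by linear_combination -e
        rcases mul_eq_zero.mp this with h' | h'
        · exact h'
        · exact absurd h' hdiff
      · right; right
        have hinv := hhinv _ hgA
        have hcomm : h * dSL μ hμ = (dSL μ hμ)⁻¹ * h := by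
          rw [← hinv]; group
        have e0 := congrArg (fun x : Matrix.SpecialLinearGroup (Fin 2) F => x 0 0) hcomm
        have e1 := congrArg (fun x : Matrix.SpecialLinearGroup (Fin 2) F => x 1 1) hcomm
        simp only [sl2_mul_apply, sl2_inv_00, sl2_inv_01, sl2_inv_10, sl2_inv_11, diagSL_00,
          diagSL_01, diagSL_10, diagSL_11] at e0 e1
        constructor
        · have : h 0 0 * (μ - μ⁻¹) = 0 := by linear_combination e0
          rcases mul_eq_zero.mp this with h' | h'
          · exact h'
          · exact absurd h' hdiff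
        · have : h 1 1 * (μ - μ⁻¹) = 0 := by linear_combination -e1
          rcases mul_eq_zero.mp this with h' | h'
          · exact h'
          · exact absurd h' hdiff
  · rintro (h10 | h01 | ⟨h00, h11⟩)
    · apply solvable_of_conj_borel _ 1
      have hle : Subgroup.closure ({dSL μ hμ, h} :
          Set (Matrix.SpecialLinearGroup (Fin 2) F)) ≤ borelSL F := by
        rw [Subgroup.closure_le]
        intro x hx
        rcases hx with rfl | hx
        · exact diagSL_10 μ hμ
        · rw [Set.mem_singleton_iff] at hx
          subst hx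
          exact h10
      intro x hx
      rw [one_mul, inv_one, mul_one]
      exact (mem_borelSL x).mp (hle hx)
    · apply solvable_of_conj_borel _ wSL
      have hle : Subgroup.closure ({dSL μ hμ, h} :
          Set (Matrix.SpecialLinearGroup (Fin 2) F)) ≤
          (borelSL F).comap (MulAut.conj (wSL : Matrix.SpecialLinearGroup (Fin 2) F)).toMonoidHom := by
        rw [Subgroup.closure_le]
        intro x hx
        have key : ∀ y : Matrix.SpecialLinearGroup (Fin 2) F, y 0 1 = 0 →
            y ∈ (borelSL F).comap
              (MulAut.conj (wSL : Matrix.SpecialLinearGroup (Fin 2) F)).toMonoidHom := by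
          intro y hy
          rw [Subgroup.mem_comap, mem_borelSL]
          show (wSL * y * wSL⁻¹ : Matrix.SpecialLinearGroup (Fin 2) F) 1 0 = 0
          simp only [sl2_mul_apply, sl2_inv_00, sl2_inv_10, wSL_00, wSL_01, wSL_10, wSL_11]
          rw [hy]; ring
        rcases hx with rfl | hx
        · exact key _ (diagSL_01 μ hμ)
        · rw [Set.mem_singleton_iff] at hx
          subst hx
          exact key _ h01
      intro x hx
      exact (mem_borelSL _).mp (hle hx)
    · apply solvable_closure_of_inv
      rw [mul_inv_eq_iff_eq_mul]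
      apply sl2_ext <;> simp only [sl2_mul_apply, sl2_inv_00, sl2_inv_01, sl2_inv_10, sl2_inv_11,
        diagSL_00, diagSL_01, diagSL_10, diagSL_11, h00, h11] <;> ring

/-- **Non-split semisimple elements.** -/
theorem solvable_nonsplit_iff (hE : EvenMin F) (g : Matrix.SpecialLinearGroup (Fin 2) F)
    (hnr : ∀ c : Matrix.SpecialLinearGroup (Fin 2) F, (c * g * c⁻¹) 1 0 ≠ 0) (hg2 : g * g ≠ 1)
    (h : Matrix.SpecialLinearGroup (Fin 2) F) :
    Group.IsSolvable (Subgroup.closure ({g, h} : Set (Matrix.SpecialLinearGroup (Fin 2) F)))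
      ↔ h * g = g * h ∨ h * g * h⁻¹ = g⁻¹ := by
  obtain ⟨h2, h4, hA⟩ := hE
  have hgm : g ∈ Subgroup.closure ({g, h} : Set (Matrix.SpecialLinearGroup (Fin 2) F)) :=
    Subgroup.subset_closure (by simp)
  have hhm : h ∈ Subgroup.closure ({g, h} : Set (Matrix.SpecialLinearGroup (Fin 2) F)) :=
    Subgroup.subset_closure (by simp)
  constructor
  · intro hs
    have hne := (evenMin_solvable_iff ⟨h2, h4, hA⟩ _).mp hs
    rcases proper_even_structure h2 hA _ hne with ⟨c, hc⟩ | ⟨A, hAc, hAx⟩
    · exact absurd (hc _ hgm) (hnr c)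
    · have hgA : g ∈ A := by
        rcases hAx _ hgm with h' | ⟨h', -⟩
        · exact h'
        · exact absurd h' hg2
      rcases hAx _ hhm with hhA | ⟨-, hhinv⟩
      · left
        exact hAc h hhA g hgA
      · right
        exact hhinv g hgA
  · rintro (hc | hi)
    · exact solvable_closure_of_comm g h hc.symm
    · exact solvable_closure_of_inv g h hi

end SolvIff

end Cfsg.Agent.Lib.helper46
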