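import Mathlib
import Cfsg.Agent.Lib.helper46.Solubilizer

/-!
# Solubilizer sizes in `SL₂(2ⁿ)` (helper46)

Counting the elements `h` of `SL₂(q)` described by the three characterizations of
`Solubilizer.lean`, and the transfer to `PSL₂(q)`.
-/

set_option autoImplicit false

namespace Cfsg.Agent.Lib.helper46

open Cfsg.Agent.Lib.helper98

local notation "dSL" => Cfsg.Agent.Lib.helper98.diagSL
local notation "mSL" => Cfsg.Agent.Lib.helper98.mkSL

section GenericCount

/-- The number of elements satisfying one of two exclusive conditions. -/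
theorem natCard_or {α : Type*} [Finite α] (p q : α → Prop) (hd : ∀ x, p x → q x → False) :
    Nat.card {x // p x ∨ q x} = Nat.card {x // p x} + Nat.card {x // q x} := by
  classical
  have h1 : Nat.card {x // p x ∨ q x} = Set.ncard ({x | p x} ∪ {x | q x}) :=
    Nat.card_coe_set_eq ({x | p x} ∪ {x | q x})
  have h2 : Nat.card {x // p x} = Set.ncard {x | p x} := Nat.card_coe_set_eq {x | p x}
  have h3 : Nat.card {x // q x} = Set.ncard {x | q x} := Nat.card_coe_set_eq {x | q x}
  rw [h1, h2, h3, Set.ncard_union_eq _ (Set.toFinite _) (Set.toFinite _)]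
  rw [Set.disjoint_left]
  intro x hp hq
  exact hd x hp hq

/-- Solvability is invariant under isomorphism. -/
theorem isSolvable_congr {A B : Type*} [Group A] [Group B] (e : A ≃* B) :
    Group.IsSolvable A ↔ Group.IsSolvable B :=
  ⟨fun _ => Group.isSolvable_of_surjective (f := e.toMonoidHom) e.surjective,
    fun _ => Group.isSolvable_of_surjective (f := e.symm.toMonoidHom) e.symm.surjective⟩

/-- The solubilizer sizes are invariant under isomorphism. -/
theorem card_solubilizer_transfer {G H : Type*} [Group G] [Group H] (e : G ≃* H) (g : G) :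
    Nat.card {y : H // Group.IsSolvable (Subgroup.closure ({e g, y} : Set H))} =
    Nat.card {h : G // Group.IsSolvable (Subgroup.closure ({g, h} : Set G))} := by
  symm
  apply Nat.card_congr
  refine e.toEquiv.subtypeEquiv ?_
  intro h
  have hmap : Subgroup.closure ({e g, e h} : Set H) =
      (Subgroup.closure ({g, h} : Set G)).map e.toMonoidHom := by
    rw [MonoidHom.map_closure, Set.image_pair]
    rfl
  show Group.IsSolvable (Subgroup.closure ({g, h} : Set G)) ↔
    Group.IsSolvable (Subgroup.closure ({e g, e h} : Set H))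
  rw [hmap]
  exact isSolvable_congr (Subgroup.equivMapOfInjective _ e.toMonoidHom e.injective)

end GenericCount

section Counts

variable {F : Type*} [Field F] [Fintype F]

/-- The elements with nonzero lower left entry and prescribed trace. -/
theorem card_trace_fiber (τ : F → F) :
    Nat.card {h : Matrix.SpecialLinearGroup (Fin 2) F // h 1 0 ≠ 0 ∧ h 0 0 + h 1 1 = τ (h 1 0)} =
      Fintype.card F * (Fintype.card F - 1) := by
  have e : (F × Fˣ) ≃ {h : Matrix.SpecialLinearGroup (Fin 2) F //
      h 1 0 ≠ 0 ∧ h 0 0 + h 1 1 = τ (h 1 0)} :=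
    { toFun := fun x => ⟨mSL x.1 ((x.1 * (τ x.2 - x.1) - 1) / x.2) x.2 (τ x.2 - x.1) (by
          rw [div_mul_cancel₀ _ x.2.ne_zero]; ring), by
          rw [mkSL_10, mkSL_00, mkSL_11]
          exact ⟨x.2.ne_zero, by ring⟩⟩
      invFun := fun h => (h.1 0 0, Units.mk0 (h.1 1 0) h.2.1)
      left_inv := fun x => by
        apply Prod.ext
        · rfl
        · apply Units.ext
          rfl
      right_inv := fun h => by
        apply Subtype.ext
        have hd := sl2_det' h.1
        have h10 := h.2.1
        have htr := h.2.2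
        apply sl2_ext
        · rw [mkSL_00]
        · rw [mkSL_01]
          simp only [Units.val_mk0]
          field_simp
          linear_combination hd - (h.1 0 0) * htr
        · rw [mkSL_10]
          rfl
        · rw [mkSL_11]
          simp only [Units.val_mk0]
          linear_combination -htr }
  rw [← Nat.card_congr e, Nat.card_prod, Nat.card_units, Nat.card_eq_fintype_card]

/-- The lower triangular, non upper triangular elements. -/
theorem card_lower_fiber :
    Nat.card {h : Matrix.SpecialLinearGroup (Fin 2) F // h 1 0 ≠ 0 ∧ h 0 1 = 0} =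
      (Fintype.card F - 1) * (Fintype.card F - 1) := by
  have e : (Fˣ × Fˣ) ≃ {h : Matrix.SpecialLinearGroup (Fin 2) F // h 1 0 ≠ 0 ∧ h 0 1 = 0} :=
    { toFun := fun x => ⟨mSL (x.1 : F) 0 x.2 (x.1 : F)⁻¹ (by
          rw [mul_inv_cancel₀ x.1.ne_zero]; ring), by
          rw [mkSL_10, mkSL_01]
          exact ⟨x.2.ne_zero, rfl⟩⟩
      invFun := fun h => (Units.mk0 (h.1 0 0) (by
          intro h0
          have hd := sl2_det' h.1
          rw [h0, h.2.2] at hd
          simp at hd), Units.mk0 (h.1 1 0) h.2.1)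
      left_inv := fun x => by
        apply Prod.ext
        · apply Units.ext
          rfl
        · apply Units.ext
          rfl
      right_inv := fun h => by
        apply Subtype.ext
        have hd := sl2_det' h.1
        have h01 := h.2.2
        rw [h01, zero_mul, sub_zero] at hd
        apply sl2_ext
        · rw [mkSL_00]
          rfl
        · rw [mkSL_01, h01]
        · rw [mkSL_10]
          rfl
        · rw [mkSL_11]
          simp only [Units.val_mk0]
          exact (eq_inv_of_mul_eq_one_right hd).symm }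
  rw [← Nat.card_congr e, Nat.card_prod, Nat.card_units, Nat.card_eq_fintype_card]

/-- The antidiagonal elements. -/
theorem card_antidiag :
    Nat.card {h : Matrix.SpecialLinearGroup (Fin 2) F // h 0 0 = 0 ∧ h 1 1 = 0} =
      Fintype.card F - 1 := by
  have e : Fˣ ≃ {h : Matrix.SpecialLinearGroup (Fin 2) F // h 0 0 = 0 ∧ h 1 1 = 0} :=
    { toFun := fun x => ⟨mSL 0 (x : F) (-(x : F)⁻¹) 0 (by
          rw [mul_neg, mul_inv_cancel₀ x.ne_zero]; ring), by
          rw [mkSL_00, mkSL_11]
          exact ⟨rfl, rfl⟩⟩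
      invFun := fun h => Units.mk0 (h.1 0 1) (by
          intro h0
          have hd := sl2_det' h.1
          rw [h0, h.2.1] at hd
          simp at hd)
      left_inv := fun x => by
        apply Units.ext
        rfl
      right_inv := fun h => by
        apply Subtype.ext
        have hd := sl2_det' h.1
        have h00 := h.2.1
        have h11 := h.2.2
        rw [h00, zero_mul, zero_sub] at hd
        have h01 : h.1 0 1 ≠ 0 := by
          intro h0
          rw [h0, zero_mul, neg_zero] at hd
          exact zero_ne_one hd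
        apply sl2_ext
        · rw [mkSL_00, h00]
        · rw [mkSL_01]
          rfl
        · rw [mkSL_10]
          simp only [Units.val_mk0]
          field_simp
          linear_combination hd
        · rw [mkSL_11, h11] }
  rw [← Nat.card_congr e, Nat.card_units, Nat.card_eq_fintype_card]

/-- The upper triangular elements. -/
theorem card_upper_fiber :
    Nat.card {h : Matrix.SpecialLinearGroup (Fin 2) F // h 1 0 = 0} =
      Fintype.card F * (Fintype.card F - 1) := by
  rw [← card_borelSL (F := F)]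
  exact Nat.card_congr (Equiv.subtypeEquivRight (fun g => (mem_borelSL g).symm))

/-- **Count for involutions.** -/
theorem count_involution (t₀ : F) (ht₀ : t₀ ≠ 0) :
    Nat.card {h : Matrix.SpecialLinearGroup (Fin 2) F //
      h 1 0 = 0 ∨ h 0 0 + h 1 1 = 0 ∨ h 0 0 + h 1 1 = t₀ * h 1 0} =
      3 * Fintype.card F * (Fintype.card F - 1) := by
  have h1 : Nat.card {h : Matrix.SpecialLinearGroup (Fin 2) F //
      h 1 0 = 0 ∨ h 0 0 + h 1 1 = 0 ∨ h 0 0 + h 1 1 = t₀ * h 1 0} =
      Nat.card {h : Matrix.SpecialLinearGroup (Fin 2) F //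
      h 1 0 = 0 ∨ ((h 1 0 ≠ 0 ∧ h 0 0 + h 1 1 = 0) ∨ (h 1 0 ≠ 0 ∧ h 0 0 + h 1 1 = t₀ * h 1 0))} := by
    apply Nat.card_congr
    apply Equiv.subtypeEquivRight
    intro h
    by_cases h10 : h 1 0 = 0
    · simp [h10]
    · simp [h10]
  rw [h1, natCard_or, natCard_or, card_upper_fiber, card_trace_fiber (fun _ => 0),
    card_trace_fiber (fun c => t₀ * c)]
  · ring
  · rintro h ⟨h10, htr⟩ ⟨-, htr'⟩
    rw [htr] at htr'
    rcases mul_eq_zero.mp htr'.symm with h' | h'
    · exact ht₀ h'
    · exact h10 h'
  · rintro h h10 (⟨h10', -⟩ | ⟨h10', -⟩) <;> exact h10' h10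

/-- **Count for split semisimple elements.** -/
theorem count_split :
    Nat.card {h : Matrix.SpecialLinearGroup (Fin 2) F //
      h 1 0 = 0 ∨ h 0 1 = 0 ∨ (h 0 0 = 0 ∧ h 1 1 = 0)} =
      2 * Fintype.card F * (Fintype.card F - 1) := by
  have h1 : Nat.card {h : Matrix.SpecialLinearGroup (Fin 2) F //
      h 1 0 = 0 ∨ h 0 1 = 0 ∨ (h 0 0 = 0 ∧ h 1 1 = 0)} =
      Nat.card {h : Matrix.SpecialLinearGroup (Fin 2) F //
      h 1 0 = 0 ∨ ((h 1 0 ≠ 0 ∧ h 0 1 = 0) ∨ (h 0 0 = 0 ∧ h 1 1 = 0))} := by
    apply Nat.card_congr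
    apply Equiv.subtypeEquivRight
    intro h
    by_cases h10 : h 1 0 = 0
    · simp [h10]
    · simp [h10]
  have hq : 1 ≤ Fintype.card F := Fintype.card_pos
  rw [h1, natCard_or, natCard_or, card_upper_fiber, card_lower_fiber, card_antidiag]
  · obtain ⟨m, hm⟩ : ∃ m, Fintype.card F = m + 1 := ⟨Fintype.card F - 1, by omega⟩
    rw [hm, Nat.add_sub_cancel]
    ring
  · rintro h ⟨h10, h01⟩ ⟨h00, h11⟩
    have hd := sl2_det' h
    rw [h00, h01, zero_mul, zero_mul, sub_zero] at hd
    exact zero_ne_one hd
  · rintro h h10 (⟨h10', -⟩ | ⟨h00, h11⟩)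
    · exact h10' h10
    · have hd := sl2_det' h
      rw [h00, h10, zero_mul, mul_zero, sub_zero] at hd
      exact zero_ne_one hd

end Counts

section NonSplit

variable {F : Type*} [Field F] [Fintype F]

omit [Fintype F] in
theorem sq_injective_char_two (h2 : (2 : F) = 0) : Function.Injective (fun x : F => x * x) := by
  intro x y hxy
  have hxy' : x * x = y * y := hxy
  have h1 : (x - y) * (x - y) = 0 := by linear_combination hxy' + (y * y - x * y) * h2
  rcases mul_eq_zero.mp h1 with h | h <;> linear_combination h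

/-- In characteristic `2` every element of a finite field is a square. -/
theorem exists_sq_char_two (h2 : (2 : F) = 0) (c : F) : ∃ s : F, s * s = c :=
  Finite.surjective_of_injective (sq_injective_char_two h2) c

/-- The number of solutions of the anisotropic norm equation. -/
theorem card_norm_one (h2 : (2 : F) = 0) (t : F) (hroot : ∀ l : F, l * l - t * l + 1 ≠ 0) :
    Nat.card {v : F × F // v.1 * v.1 + t * v.1 * v.2 + v.2 * v.2 = 1} = Fintype.card F + 1 := by
  classical
  have haniso : ∀ a b : F, a * a + t * a * b + b * b = 0 → a = 0 ∧ b = 0 := by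
    intro a b hab
    by_cases hb : b = 0
    · subst hb
      have : a * a = 0 := by linear_combination hab
      exact ⟨by rcases mul_eq_zero.mp this with h | h <;> exact h, rfl⟩
    · exfalso
      apply hroot (a / b)
      field_simp
      linear_combination hab - (t * a * b) * h2
  have hne : ∀ (s : Fˣ) (v : {v : F × F // v.1 * v.1 + t * v.1 * v.2 + v.2 * v.2 = 1}),
      ((s : F) * v.1.1, (s : F) * v.1.2) ≠ (0 : F × F) := by
    intro s v h0
    have h1 : (s : F) * v.1.1 = 0 := congrArg Prod.fst h0
    have h2' : (s : F) * v.1.2 = 0 := congrArg Prod.snd h0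
    have hx : v.1.1 = 0 := by
      rcases mul_eq_zero.mp h1 with h | h
      · exact absurd h s.ne_zero
      · exact h
    have hy : v.1.2 = 0 := by
      rcases mul_eq_zero.mp h2' with h | h
      · exact absurd h s.ne_zero
      · exact h
    have := v.2
    rw [hx, hy] at this
    simp at this
  have hbij : Function.Bijective
      (fun x : Fˣ × {v : F × F // v.1 * v.1 + t * v.1 * v.2 + v.2 * v.2 = 1} =>
        (⟨((x.1 : F) * x.2.1.1, (x.1 : F) * x.2.1.2), hne x.1 x.2⟩ : {w : F × F // w ≠ 0})) := by
    constructor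
    · rintro ⟨s, v⟩ ⟨s', v'⟩ hxy
      have h0 := congrArg Subtype.val hxy
      have h1 : (s : F) * v.1.1 = (s' : F) * v'.1.1 := congrArg Prod.fst h0
      have h2' : (s : F) * v.1.2 = (s' : F) * v'.1.2 := congrArg Prod.snd h0
      have hv := v.2
      have hv' := v'.2
      have hss : (s : F) * (s : F) = (s' : F) * (s' : F) := by
        have e1 : ((s : F) * v.1.1) * ((s : F) * v.1.1) + t * ((s : F) * v.1.1) * ((s : F) * v.1.2)
            + ((s : F) * v.1.2) * ((s : F) * v.1.2) = (s : F) * (s : F) := by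
          linear_combination ((s : F) * (s : F)) * hv
        have e2 : ((s' : F) * v'.1.1) * ((s' : F) * v'.1.1) +
            t * ((s' : F) * v'.1.1) * ((s' : F) * v'.1.2)
            + ((s' : F) * v'.1.2) * ((s' : F) * v'.1.2) = (s' : F) * (s' : F) := by
          linear_combination ((s' : F) * (s' : F)) * hv'
        rw [← e1, ← e2, h1, h2']
      have hs : (s : F) = (s' : F) := sq_injective_char_two h2 hss
      have hs' : s = s' := Units.ext hs
      subst hs'
      have hx : v.1.1 = v'.1.1 := mul_left_cancel₀ s.ne_zero h1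
      have hy : v.1.2 = v'.1.2 := mul_left_cancel₀ s.ne_zero h2'
      have : v = v' := Subtype.ext (Prod.ext hx hy)
      rw [this]
    · rintro ⟨⟨a, b⟩, hw⟩
      have hc : a * a + t * a * b + b * b ≠ 0 := by
        intro h
        obtain ⟨ha, hb⟩ := haniso a b h
        apply hw
        rw [ha, hb]
        rfl
      obtain ⟨s, hs⟩ := exists_sq_char_two h2 (a * a + t * a * b + b * b)
      have hs0 : s ≠ 0 := by
        rintro rfl
        rw [mul_zero] at hs
        exact hc hs.symm
      refine ⟨(Units.mk0 s hs0, ⟨(a / s, b / s), ?_⟩), ?_⟩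
      · show a / s * (a / s) + t * (a / s) * (b / s) + b / s * (b / s) = 1
        field_simp
        linear_combination -hs
      · apply Subtype.ext
        show ((Units.mk0 s hs0 : F) * (a / s), (Units.mk0 s hs0 : F) * (b / s)) = (a, b)
        rw [Units.val_mk0, mul_div_cancel₀ _ hs0, mul_div_cancel₀ _ hs0]
  have hcard := Nat.card_eq_of_bijective _ hbij
  rw [Nat.card_prod, Nat.card_units] at hcard
  have h0 : Nat.card {w : F × F // w ≠ 0} = Fintype.card F * Fintype.card F - 1 := by
    rw [Nat.card_eq_fintype_card, Fintype.card_subtype_compl, Fintype.card_subtype_eq,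
      Fintype.card_prod]
  rw [h0, Nat.card_eq_fintype_card] at hcard
  have hq : 2 ≤ Fintype.card F := Fintype.one_lt_card
  obtain ⟨m, hm⟩ : ∃ m, Fintype.card F = m + 2 := ⟨Fintype.card F - 2, by omega⟩
  rw [hm] at hcard ⊢
  have e1 : m + 2 - 1 = m + 1 := by omega
  have e2 : (m + 2) * (m + 2) - 1 = (m + 1) * (m + 2 + 1) := by
    have : (m + 2) * (m + 2) = (m + 1) * (m + 2 + 1) + 1 := by ring
    omega
  rw [e1, e2] at hcard
  exact Nat.eq_of_mul_eq_mul_left (by omega) hcard

/-- The centralizer of a non-split element has `q + 1` elements. -/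
theorem card_centralizer_nonsplit (h2 : (2 : F) = 0) (g : Matrix.SpecialLinearGroup (Fin 2) F)
    (hroot : ∀ l : F, l * l - (g 0 0 + g 1 1) * l + 1 ≠ 0) :
    Nat.card {h : Matrix.SpecialLinearGroup (Fin 2) F // h * g = g * h} = Fintype.card F + 1 := by
  have hd := sl2_det' g
  have hb : g 0 1 ≠ 0 := by
    intro hb
    apply hroot (g 0 0)
    linear_combination -hd - (g 1 0) * hb
  rw [← card_norm_one h2 (g 0 0 + g 1 1) hroot]
  symm
  apply Nat.card_eq_of_bijective
    (fun v : {v : F × F // v.1 * v.1 + (g 0 0 + g 1 1) * v.1 * v.2 + v.2 * v.2 = 1} =>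
      (⟨mSL (v.1.1 + v.1.2 * g 0 0) (v.1.2 * g 0 1) (v.1.2 * g 1 0) (v.1.1 + v.1.2 * g 1 1) (by
        linear_combination v.2 + (v.1.2 * v.1.2) * hd), by
        apply sl2_ext <;> simp only [sl2_mul_apply, mkSL_00, mkSL_01, mkSL_10, mkSL_11] <;> ring⟩ :
        {h : Matrix.SpecialLinearGroup (Fin 2) F // h * g = g * h}))
  constructor
  · intro v v' hvv'
    have e := congrArg Subtype.val hvv'
    have e01 := congrArg (fun m : Matrix.SpecialLinearGroup (Fin 2) F => m 0 1) e
    have e00 := congrArg (fun m : Matrix.SpecialLinearGroup (Fin 2) F => m 0 0) e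
    simp only [mkSL_01, mkSL_00] at e01 e00
    have hy : v.1.2 = v'.1.2 := mul_right_cancel₀ hb e01
    have hx : v.1.1 = v'.1.1 := by
      rw [hy] at e00
      exact add_right_cancel e00
    exact Subtype.ext (Prod.ext hx hy)
  · rintro ⟨h, hh⟩
    have hcomm : (h : Matrix (Fin 2) (Fin 2) F) * (g : Matrix (Fin 2) (Fin 2) F) =
        (g : Matrix (Fin 2) (Fin 2) F) * (h : Matrix (Fin 2) (Fin 2) F) := by
      have := congrArg Subtype.val hh
      simpa using this
    obtain ⟨x, y, e00, e01, e10, e11⟩ := commutant_two (M := (g : Matrix (Fin 2) (Fin 2) F))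
      (J := (h : Matrix (Fin 2) (Fin 2) F)) (Or.inl hb) hcomm
    have hdh := sl2_det' h
    refine ⟨⟨(x, y), ?_⟩, ?_⟩
    · show x * x + (g 0 0 + g 1 1) * x * y + y * y = 1
      have e00' : h 0 0 = x + y * g 0 0 := e00
      have e01' : h 0 1 = y * g 0 1 := e01
      have e10' : h 1 0 = y * g 1 0 := e10
      have e11' : h 1 1 = x + y * g 1 1 := e11
      rw [e00', e01', e10', e11'] at hdh
      linear_combination hdh - (y * y) * hd
    · apply Subtype.ext
      apply sl2_ext
      · rw [mkSL_00]; exact e00.symm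
      · rw [mkSL_01]; exact e01.symm
      · rw [mkSL_10]; exact e10.symm
      · rw [mkSL_11]; exact e11.symm

omit [Fintype F] in
/-- The elements inverting `g` form a coset of the centralizer. -/
theorem card_inverting (h2 : (2 : F) = 0) (g : Matrix.SpecialLinearGroup (Fin 2) F)
    (hb : g 0 1 ≠ 0) :
    Nat.card {h : Matrix.SpecialLinearGroup (Fin 2) F // h * g * h⁻¹ = g⁻¹} =
      Nat.card {h : Matrix.SpecialLinearGroup (Fin 2) F // h * g = g * h} := by
  obtain ⟨s, hs⟩ : ∃ s, s * g 0 1 = g 0 0 + g 1 1 := ⟨_, div_mul_cancel₀ _ hb⟩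
  have h0 : lowSL s * g = g⁻¹ * lowSL s := by
    apply sl2_ext <;> simp only [sl2_mul_apply, sl2_inv_00, sl2_inv_01, sl2_inv_10, sl2_inv_11,
      lowSL_00, lowSL_01, lowSL_10, lowSL_11]
    · linear_combination hs + (g 0 0) * h2
    · linear_combination (g 0 1) * h2
    · linear_combination (g 1 0) * h2
    · linear_combination hs + (g 1 1) * h2
  have hinv0 : lowSL s * g * (lowSL s)⁻¹ = g⁻¹ := by rw [h0]; group
  have hinv1 : (lowSL s)⁻¹ * g⁻¹ * lowSL s = g := by rw [← hinv0]; group
  apply Nat.card_congr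
  exact
    { toFun := fun h => ⟨(lowSL s)⁻¹ * h.1, by
        calc (lowSL s)⁻¹ * h.1 * g = (lowSL s)⁻¹ * (h.1 * g * h.1⁻¹) * h.1 := by group
          _ = (lowSL s)⁻¹ * g⁻¹ * h.1 := by rw [h.2]
          _ = ((lowSL s)⁻¹ * g⁻¹ * lowSL s) * ((lowSL s)⁻¹ * h.1) := by group
          _ = g * ((lowSL s)⁻¹ * h.1) := by rw [hinv1]⟩
      invFun := fun k => ⟨lowSL s * k.1, by
        calc lowSL s * k.1 * g * (lowSL s * k.1)⁻¹ = lowSL s * (k.1 * g) * k.1⁻¹ * (lowSL s)⁻¹ := by
              group
          _ = lowSL s * (g * k.1) * k.1⁻¹ * (lowSL s)⁻¹ := by rw [k.2]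
          _ = lowSL s * g * (lowSL s)⁻¹ := by group
          _ = g⁻¹ := hinv0⟩
      left_inv := fun h => by
        apply Subtype.ext
        show lowSL s * ((lowSL s)⁻¹ * h.1) = h.1
        group
      right_inv := fun k => by
        apply Subtype.ext
        show (lowSL s)⁻¹ * (lowSL s * k.1) = k.1
        group }

/-- **Count for non-split semisimple elements.** -/
theorem count_nonsplit (h2 : (2 : F) = 0) (g : Matrix.SpecialLinearGroup (Fin 2) F)
    (hroot : ∀ l : F, l * l - (g 0 0 + g 1 1) * l + 1 ≠ 0) (hg2 : g * g ≠ 1) :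
    Nat.card {h : Matrix.SpecialLinearGroup (Fin 2) F // h * g = g * h ∨ h * g * h⁻¹ = g⁻¹} =
      2 * (Fintype.card F + 1) := by
  have hd := sl2_det' g
  have hb : g 0 1 ≠ 0 := by
    intro hb
    apply hroot (g 0 0)
    linear_combination -hd - (g 1 0) * hb
  rw [natCard_or, card_inverting h2 g hb, card_centralizer_nonsplit h2 g hroot]
  · ring
  · intro h hc hi
    apply hg2
    have h3 : g = g⁻¹ := by
      rw [← hi, hc]; group
    have h4 : g * g = g⁻¹ * g := by
      nth_rewrite 1 [h3]
      rfl
    rw [inv_mul_cancel] at h4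
    exact h4

theorem even_card_of_two (h2 : (2 : F) = 0) : ∃ m, Fintype.card F = 2 * m := by
  have hchar : CharP F 2 := CharTwo.of_one_ne_zero_of_two_eq_zero one_ne_zero h2
  have h1 : ringChar F = 2 := ringChar.eq F 2
  have := FiniteField.even_card_of_char_two h1
  exact ⟨Fintype.card F / 2, by omega⟩

/-- Nontrivial elements of order dividing `q + 1` are non-split. -/
theorem nonsplit_of_pow (h2 : (2 : F) = 0) (g : Matrix.SpecialLinearGroup (Fin 2) F)
    (hg1 : g ≠ 1) (hg : g ^ (Fintype.card F + 1) = 1) :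
    (∀ c : Matrix.SpecialLinearGroup (Fin 2) F, (c * g * c⁻¹) 1 0 ≠ 0) ∧ g * g ≠ 1 := by
  obtain ⟨m, hm⟩ := even_card_of_two h2
  have hg2 : g * g ≠ 1 := by
    intro h
    apply hg1
    rw [hm, pow_succ, pow_mul, pow_two, h, one_pow, one_mul] at hg
    exact hg
  refine ⟨fun c hc => ?_, hg2⟩
  obtain ⟨c', μ, hμ, hμ2, hc'⟩ := exists_conj_diag h2 g hg2 c hc
  have h1 : (dSL μ hμ) ^ (Fintype.card F + 1) = 1 := by
    rw [← hc', conj_pow, hg]; group
  have h2' := (diag_pow_entries (dSL μ hμ) (diagSL_01 μ hμ) (diagSL_10 μ hμ)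
    (Fintype.card F + 1)).1
  rw [h1, sl2_one_00, diagSL_00] at h2'
  have h3 := FiniteField.pow_card_sub_one_eq_one μ hμ
  apply hμ2
  have hq : 1 ≤ Fintype.card F := Fintype.card_pos
  have h4 : μ ^ (Fintype.card F + 1) = μ ^ (Fintype.card F - 1) * (μ * μ) := by
    rw [← pow_two, ← pow_add]; congr 1; omega
  rw [h4, h3, one_mul] at h2'
  exact h2'.symm

/-- Nontrivial elements of order dividing `q - 1` are diagonalizable. -/
theorem split_of_pow (h2 : (2 : F) = 0) (g : Matrix.SpecialLinearGroup (Fin 2) F)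
    (hg1 : g ≠ 1) (hg : g ^ (Fintype.card F - 1) = 1) :
    ∃ (c : Matrix.SpecialLinearGroup (Fin 2) F) (μ : F) (hμ : μ ≠ 0), μ * μ ≠ 1 ∧
      c * g * c⁻¹ = dSL μ hμ := by
  obtain ⟨m, hm⟩ := even_card_of_two h2
  have hq : 2 ≤ Fintype.card F := Fintype.one_lt_card
  have hg2 : g * g ≠ 1 := by
    intro h
    apply hg1
    have e : Fintype.card F - 1 = 2 * (m - 1) + 1 := by omega
    rw [e, pow_succ, pow_mul, pow_two, h, one_pow, one_mul] at hg
    exact hg
  by_cases hroot : ∃ l : F, l * l - (g 0 0 + g 1 1) * l + 1 = 0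
  · obtain ⟨l, hl⟩ := hroot
    obtain ⟨c, hc⟩ := conj_upper_of_root g l hl
    exact exists_conj_diag h2 g hg2 c hc
  · exfalso
    push Not at hroot
    have hcard := card_centralizer_nonsplit h2 g hroot
    have hcard' : Nat.card (Subgroup.centralizer ({g} : Set (Matrix.SpecialLinearGroup (Fin 2) F)))
        = Fintype.card F + 1 := by
      rw [← hcard]
      apply Nat.card_congr
      apply Equiv.subtypeEquivRight
      intro h
      rw [Subgroup.mem_centralizer_iff]
      constructor
      · intro hh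
        exact (hh g rfl).symm
      · intro hh x hx
        rw [Set.mem_singleton_iff] at hx
        rw [hx]
        exact hh.symm
    have hgm : g ∈ Subgroup.centralizer ({g} : Set (Matrix.SpecialLinearGroup (Fin 2) F)) := by
      rw [Subgroup.mem_centralizer_iff]
      intro x hx
      rw [Set.mem_singleton_iff] at hx
      rw [hx]
    have h1 : (⟨g, hgm⟩ : Subgroup.centralizer ({g} : Set (Matrix.SpecialLinearGroup (Fin 2) F)))
        ^ (Fintype.card F + 1) = 1 := by
      rw [← hcard']
      exact pow_card_eq_one'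
    have h1' : g ^ (Fintype.card F + 1) = 1 := by
      have := congrArg Subtype.val h1
      simpa using this
    apply hg2
    have e : Fintype.card F + 1 = (Fintype.card F - 1) + 2 := by omega
    rw [e, pow_add, hg, one_mul, pow_two] at h1'
    exact h1'

end NonSplit

section Final

variable {F : Type*} [Field F] [Fintype F]

theorem center_sl2_eq_bot (h2 : (2 : F) = 0) :
    Subgroup.center (Matrix.SpecialLinearGroup (Fin 2) F) = ⊥ := by
  rw [Subgroup.eq_bot_iff_forall]
  intro g hg
  rcases center_sl2_eq g hg with h | h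
  · exact h
  · rw [h, negOne_eq_one_of_two h2]

/-- In characteristic `2`, `SL₂(F) ≃* PSL₂(F)`. -/
noncomputable def pslEquivEven (h2 : (2 : F) = 0) :
    Matrix.SpecialLinearGroup (Fin 2) F ≃* Matrix.ProjectiveSpecialLinearGroup (Fin 2) F :=
  MulEquiv.ofBijective (QuotientGroup.mk' (Subgroup.center (Matrix.SpecialLinearGroup (Fin 2) F)))
    ⟨by
      rw [← MonoidHom.ker_eq_bot_iff, QuotientGroup.ker_mk', center_sl2_eq_bot h2],
     QuotientGroup.mk'_surjective _⟩

/-- **Solubilizer sizes in `PSL₂(q)`, `q = 2^p`.** -/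
theorem solubilizer_even (hE : EvenMin F) (x : Matrix.ProjectiveSpecialLinearGroup (Fin 2) F) :
    (orderOf x = 2 → Nat.card {y : Matrix.ProjectiveSpecialLinearGroup (Fin 2) F //
      Group.IsSolvable ↥(Subgroup.closure ({x, y} :
        Set (Matrix.ProjectiveSpecialLinearGroup (Fin 2) F)))} =
        3 * Fintype.card F * (Fintype.card F - 1)) ∧
    (x ≠ 1 → orderOf x ∣ Fintype.card F - 1 →
      Nat.card {y : Matrix.ProjectiveSpecialLinearGroup (Fin 2) F //
      Group.IsSolvable ↥(Subgroup.closure ({x, y} :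
        Set (Matrix.ProjectiveSpecialLinearGroup (Fin 2) F)))} =
        2 * Fintype.card F * (Fintype.card F - 1)) ∧
    (x ≠ 1 → orderOf x ∣ Fintype.card F + 1 →
      Nat.card {y : Matrix.ProjectiveSpecialLinearGroup (Fin 2) F //
      Group.IsSolvable ↥(Subgroup.closure ({x, y} :
        Set (Matrix.ProjectiveSpecialLinearGroup (Fin 2) F)))} =
        2 * (Fintype.card F + 1)) := by
  have h2 := hE.1
  obtain ⟨g, rfl⟩ := (pslEquivEven h2).surjective x
  rw [card_solubilizer_transfer (pslEquivEven h2) g, MulEquiv.orderOf_eq]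
  have hne : (pslEquivEven h2) g ≠ 1 → g ≠ 1 := by
    intro h h'
    apply h
    rw [h', map_one]
  refine ⟨?_, ?_, ?_⟩
  · intro hord
    have hg2 : g * g = 1 := by
      have h3 := pow_orderOf_eq_one g
      rw [hord, pow_two] at h3
      exact h3
    have hg1 : g ≠ 1 := by
      intro h
      rw [h, orderOf_one] at hord
      norm_num at hord
    have htr : g 0 0 + g 1 1 = 2 := (trace_of_sq_eq_one h2 g hg2).resolve_right hg1
    obtain ⟨c, t₀, ht₀, hc⟩ := exists_conj_eq_upSL g hg1 htr
    have h1 := card_solubilizer_transfer (MulAut.conj c) g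
    rw [MulAut.conj_apply, hc] at h1
    rw [← h1, Nat.card_congr (Equiv.subtypeEquivRight (solvable_upSL_iff hE t₀ ht₀)),
      count_involution t₀ ht₀]
  · intro hx1 hord
    have hg1 := hne hx1
    have hpow : g ^ (Fintype.card F - 1) = 1 := orderOf_dvd_iff_pow_eq_one.mp hord
    obtain ⟨c, μ, hμ, hμ2, hc⟩ := split_of_pow h2 g hg1 hpow
    have h1 := card_solubilizer_transfer (MulAut.conj c) g
    rw [MulAut.conj_apply, hc] at h1
    rw [← h1, Nat.card_congr (Equiv.subtypeEquivRight (solvable_diagSL_iff hE μ hμ hμ2)),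
      count_split]
  · intro hx1 hord
    have hg1 := hne hx1
    have hpow : g ^ (Fintype.card F + 1) = 1 := orderOf_dvd_iff_pow_eq_one.mp hord
    obtain ⟨hnr, hg2⟩ := nonsplit_of_pow h2 g hg1 hpow
    have hroot : ∀ l : F, l * l - (g 0 0 + g 1 1) * l + 1 ≠ 0 := by
      intro l hl
      obtain ⟨c, hc⟩ := conj_upper_of_root g l hl
      exact hnr c hc
    rw [Nat.card_congr (Equiv.subtypeEquivRight (solvable_nonsplit_iff hE g hnr hg2)),
      count_nonsplit h2 g hroot hg2]

end Final

end Cfsg.Agent.Lib.helper46
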