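import Mathlib
import Cfsg.Agent.Lib.helper46.InvGraphOdd
import Cfsg.Agent.Lib.helper46.SolubilizerCount

/-!
# The odd-order-product graph on involutions of `PSL₂(q)`: `q` even

In characteristic `2` an element of nonzero trace has odd order; two involutions of `SL₂(2ⁿ)`
either have a product of nonzero trace, or both lie in one Sylow `2`-subgroup, and then an
involution outside it has products of nonzero trace with both.
-/

set_option autoImplicit false

namespace Cfsg.Agent.Lib.helper46

open Cfsg.Agent.Lib.helper98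

local notation "dSL" => Cfsg.Agent.Lib.helper98.diagSL

section Even

variable {F : Type*} [Field F] [Fintype F]

local notation "SL2'" => Matrix.SpecialLinearGroup (Fin 2) F
local notation "PSL2'" => Matrix.ProjectiveSpecialLinearGroup (Fin 2) F

/-- In characteristic `2`, an element of nonzero trace has odd order in `PSL₂(q)`. -/
theorem odd_of_trace_ne_zero (h2 : (2 : F) = 0) (M : SL2') (ht : M 0 0 + M 1 1 ≠ 0) :
    Odd (orderOf (QuotientGroup.mk M : PSL2')) := by
  haveI : CharP F 2 := CharTwo.of_one_ne_zero_of_two_eq_zero one_ne_zero h2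
  haveI : Fact (Nat.Prime 2) := ⟨Nat.prime_two⟩
  obtain ⟨m, hm⟩ := even_card_of_two h2
  have hq : 2 ≤ Fintype.card F := Fintype.one_lt_card
  have hgcd : Nat.gcd 2 (Fintype.card F - 1) = 1 := by
    have : Fintype.card F - 1 = 2 * (m - 1) + 1 := by omega
    rw [this]
    simp
  rcases pow_central_cases 2 (M : Matrix (Fin 2) (Fin 2) F) M.det_coe with
    ⟨c, hc, h⟩ | ⟨c, hc, h⟩ | ⟨c, hc, h⟩
  · exfalso
    have hc1 : c = 1 := eq_one_of_sq_char_two h2 c (by rw [← pow_two]; exact hc)
    rw [hc1, one_smul] at h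
    have hMM : M * M = 1 := by
      apply Subtype.ext
      rw [Matrix.SpecialLinearGroup.coe_mul, Matrix.SpecialLinearGroup.coe_one, ← pow_two]
      exact h
    rcases trace_of_sq_eq_one h2 M hMM with h' | h'
    · apply ht
      rw [h', h2]
    · apply ht
      rw [h', sl2_one_00, sl2_one_11]
      linear_combination h2
  · rw [hgcd, Nat.div_one] at h
    exact odd_orderOf_mk_of_pow M _ ⟨m - 1, by omega⟩ c hc h
  · rw [hgcd, Nat.div_one] at h
    exact odd_orderOf_mk_of_pow M _ ⟨m, by omega⟩ c hc h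

/-- In characteristic `2` the quotient map `SL₂ → PSL₂` is injective. -/
theorem mk_injective_even (h2 : (2 : F) = 0) (a b : SL2')
    (hab : (QuotientGroup.mk a : PSL2') = QuotientGroup.mk b) : a = b :=
  (pslEquivEven h2).injective hab

omit [Fintype F] in
theorem lowSL_one_sq (h2 : (2 : F) = 0) : (lowSL 1 : SL2') * lowSL 1 = 1 := by
  apply sl2_ext <;> simp only [sl2_mul_apply, lowSL_00, lowSL_01, lowSL_10, lowSL_11,
    sl2_one_00, sl2_one_01, sl2_one_10, sl2_one_11] <;>
    first | ring1 | linear_combination h2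

omit [Fintype F] in
theorem trace_upSL_mul (t : F) (a : SL2') :
    (upSL t * a : SL2') 0 0 + (upSL t * a : SL2') 1 1 = a 0 0 + a 1 1 + t * a 1 0 := by
  simp only [sl2_mul_apply, upSL_00, upSL_01, upSL_10, upSL_11]
  ring

omit [Fintype F] in
theorem trace_upSL_mul_lowSL (t : F) :
    (upSL t * lowSL 1 : SL2') 0 0 + (upSL t * lowSL 1 : SL2') 1 1 = 2 + t := by
  rw [trace_upSL_mul, lowSL_00, lowSL_10, lowSL_11]
  ring

/-- **Common neighbours, even `q`.** -/
theorem common_neighbor_even (h2 : (2 : F) = 0) (g h : SL2') (hg : g * g = 1) (hg1 : g ≠ 1)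
    (hh : h * h = 1) (hh1 : h ≠ 1) :
    Odd (orderOf ((QuotientGroup.mk g : PSL2') * QuotientGroup.mk h)) ∨
    ∃ k : SL2', k * k = 1 ∧ k ≠ 1 ∧ (QuotientGroup.mk k : PSL2') ≠ QuotientGroup.mk g ∧
      (QuotientGroup.mk k : PSL2') ≠ QuotientGroup.mk h ∧
      Odd (orderOf ((QuotientGroup.mk g : PSL2') * QuotientGroup.mk k)) ∧
      Odd (orderOf ((QuotientGroup.mk h : PSL2') * QuotientGroup.mk k)) := by
  have hmul : ∀ a b : SL2', (QuotientGroup.mk a : PSL2') * QuotientGroup.mk b
      = QuotientGroup.mk (a * b) := fun a b => rfl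
  have htrg : g 0 0 + g 1 1 = 2 := by
    rcases trace_of_sq_eq_one h2 g hg with h' | h'
    · exact h'
    · exact absurd h' hg1
  have htrh : h 0 0 + h 1 1 = 2 := by
    rcases trace_of_sq_eq_one h2 h hh with h' | h'
    · exact h'
    · exact absurd h' hh1
  obtain ⟨c, t₀, ht₀, hc⟩ := exists_conj_eq_upSL g hg1 htrg
  have hh'tr : (c * h * c⁻¹) 0 0 + (c * h * c⁻¹) 1 1 = 2 := by
    rw [trace_conj]
    exact htrh
  have key : ∀ a k : SL2', (a * k) 0 0 + (a * k) 1 1
      = ((c * a * c⁻¹) * (c * k * c⁻¹)) 0 0 + ((c * a * c⁻¹) * (c * k * c⁻¹)) 1 1 := by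
    intro a k
    rw [← trace_conj c (a * k)]
    have : c * (a * k) * c⁻¹ = (c * a * c⁻¹) * (c * k * c⁻¹) := by group
    rw [this]
  have h1tr : ((1 : SL2') 0 0 + (1 : SL2') 1 1 : F) = 0 := by
    rw [sl2_one_00, sl2_one_11]
    linear_combination h2
  by_cases h10 : (c * h * c⁻¹) 1 0 = 0
  · right
    have h00 : (c * h * c⁻¹) 0 0 = 1 := by
      have hd := sl2_det' (c * h * c⁻¹)
      apply eq_one_of_sq_char_two h2
      linear_combination (-1 : F) * hd + (c * h * c⁻¹) 0 0 * hh'tr - (c * h * c⁻¹) 0 1 * h10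
        + ((c * h * c⁻¹) 0 0 - 1) * h2
    have hu := eq_upSL h00 h10
    have hr0 : (c * h * c⁻¹) 0 1 ≠ 0 := by
      intro h0
      apply hh1
      rw [h0, upSL_zero] at hu
      have : h = c⁻¹ * (c * h * c⁻¹) * c := by group
      rw [this, hu]
      group
    have hLc : c * (c⁻¹ * lowSL 1 * c) * c⁻¹ = lowSL 1 := by group
    have hgk : (g * (c⁻¹ * lowSL 1 * c) : SL2') 0 0 + (g * (c⁻¹ * lowSL 1 * c) : SL2') 1 1
        ≠ 0 := by
      rw [key, hc, hLc, trace_upSL_mul_lowSL]
      intro h0
      apply ht₀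
      linear_combination h0 - h2
    have hhk : (h * (c⁻¹ * lowSL 1 * c) : SL2') 0 0 + (h * (c⁻¹ * lowSL 1 * c) : SL2') 1 1
        ≠ 0 := by
      rw [key, hu, hLc, trace_upSL_mul_lowSL]
      intro h0
      apply hr0
      linear_combination h0 - h2
    refine ⟨c⁻¹ * lowSL 1 * c, ?_, ?_, ?_, ?_, ?_, ?_⟩
    · have : c⁻¹ * lowSL 1 * c * (c⁻¹ * lowSL 1 * c) = c⁻¹ * (lowSL 1 * lowSL 1) * c := by group
      rw [this, lowSL_one_sq h2]
      group
    · intro h1
      have : (lowSL 1 : SL2') = 1 := by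
        rw [← hLc, h1]
        group
      have h3 := congrArg (fun x : SL2' => x 1 0) this
      simp only [lowSL_10, sl2_one_10] at h3
      exact one_ne_zero h3
    · intro hkg
      have := mk_injective_even h2 _ _ hkg
      apply hgk
      rw [this, hg]
      exact h1tr
    · intro hkh
      have := mk_injective_even h2 _ _ hkh
      apply hhk
      rw [this, hh]
      exact h1tr
    · rw [hmul]
      exact odd_of_trace_ne_zero h2 _ hgk
    · rw [hmul]
      exact odd_of_trace_ne_zero h2 _ hhk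
  · left
    rw [hmul]
    apply odd_of_trace_ne_zero h2
    rw [key, hc, trace_upSL_mul]
    intro h0
    apply h10
    have : t₀ * (c * h * c⁻¹) 1 0 = 0 := by linear_combination h0 - hh'tr - h2
    rcases mul_eq_zero.mp this with h' | h'
    · exact absurd h' ht₀
    · exact h'

end Even

end Cfsg.Agent.Lib.helper46
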