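import Mathlib
import Cfsg.Agent.Lib.helper46.InvGraphEven

/-!
# The odd-order-product graph on the involutions of `PSL₂(q)` is connected of diameter `2`

`inv_graph_main`: for a finite field `F` with at least `4` elements and an involution `t` of
`PSL₂(F)`, the graph on the conjugacy class of `t` joining two distinct involutions whose product
has odd order is connected and has diameter exactly `2`.
-/

set_option autoImplicit false

namespace Cfsg.Agent.Lib.helper46

open Cfsg.Agent.Lib.helper98

local notation "dSL" => Cfsg.Agent.Lib.helper98.diagSL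
local notation "mSL" => Cfsg.Agent.Lib.helper98.mkSL

section Generic

variable {G : Type*} [Group G]

/-- Group-level assembly: if all involutions are conjugate, any two distinct involutions have a
product of odd order or a common "odd" neighbour, and two distinct involutions have a product of
even order, then the odd-order-product graph on the class of `t` is connected of diameter `2`. -/
theorem inv_graph_of_props (t : G) (ht : orderOf t = 2)
    (hconj : ∀ x y : G, orderOf x = 2 → orderOf y = 2 → IsConj x y)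
    (hcn : ∀ x y : G, orderOf x = 2 → orderOf y = 2 → x ≠ y →
      Odd (orderOf (x * y)) ∨ ∃ z, orderOf z = 2 ∧ z ≠ x ∧ z ≠ y ∧
        Odd (orderOf (x * z)) ∧ Odd (orderOf (y * z)))
    (hw : ∃ x y : G, orderOf x = 2 ∧ orderOf y = 2 ∧ x ≠ y ∧ ¬ Odd (orderOf (x * y)) ∧
      ¬ Odd (orderOf (y * x))) :
    (SimpleGraph.fromRel fun x y : {x : G // IsConj t x} => Odd (orderOf (x.1 * y.1))).Connected ∧
    (SimpleGraph.fromRel fun x y : {x : G // IsConj t x} => Odd (orderOf (x.1 * y.1))).diam
      = 2 := by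
  haveI : Nonempty {x : G // IsConj t x} := ⟨⟨t, IsConj.refl t⟩⟩
  have hord : ∀ u : {x : G // IsConj t x}, orderOf u.1 = 2 := by
    intro u
    obtain ⟨c, hc⟩ := isConj_iff.mp u.2
    rw [← hc, ← ht]
    exact (MulAut.conj c).orderOf_eq t
  apply conn_diam_two
  · intro u v huv
    have huv' : u.1 ≠ v.1 := fun h => huv (Subtype.ext h)
    rcases hcn u.1 v.1 (hord u) (hord v) huv' with h | ⟨z, hz, hzu, hzv, h1, h2⟩
    · left
      rw [SimpleGraph.fromRel_adj]
      exact ⟨huv, Or.inl h⟩
    · right
      refine ⟨⟨z, hconj t z ht hz⟩, ?_, ?_⟩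
      · rw [SimpleGraph.fromRel_adj]
        exact ⟨fun h => hzu (congrArg Subtype.val h).symm, Or.inl h1⟩
      · rw [SimpleGraph.fromRel_adj]
        exact ⟨fun h => hzv (congrArg Subtype.val h), Or.inr h2⟩
  · obtain ⟨x, y, hx, hy, hxy, h1, h2⟩ := hw
    refine ⟨⟨x, hconj t x ht hx⟩, ⟨y, hconj t y ht hy⟩, fun h => hxy (congrArg Subtype.val h), ?_⟩
    rw [SimpleGraph.fromRel_adj]
    rintro ⟨-, h | h⟩
    · exact h1 h
    · exact h2 h

end Generic

section Main

variable {F : Type*} [Field F] [Fintype F]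

local notation "SL2'" => Matrix.SpecialLinearGroup (Fin 2) F
local notation "PSL2'" => Matrix.ProjectiveSpecialLinearGroup (Fin 2) F
local notation "Mat" => Matrix (Fin 2) (Fin 2) F

omit [Fintype F] in
theorem diag_conj_upSL (b : F) (hb : b ≠ 0) (t : F) :
    dSL b hb * upSL t * (dSL b hb)⁻¹ = upSL (b * b * t) := by
  apply sl2_ext <;> simp only [sl2_mul_apply, sl2_inv_00, sl2_inv_01, sl2_inv_10, sl2_inv_11,
    diagSL_00, diagSL_01, diagSL_10, diagSL_11, upSL_00, upSL_01, upSL_10, upSL_11] <;>
    field_simp <;> ring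

/-- All involutions of `SL₂(2ⁿ)` are conjugate. -/
theorem isConj_involution_even (h2 : (2 : F) = 0) (g g' : SL2') (hg : g * g = 1) (hg1 : g ≠ 1)
    (hg' : g' * g' = 1) (hg'1 : g' ≠ 1) : ∃ d : SL2', d * g * d⁻¹ = g' := by
  have htrg : g 0 0 + g 1 1 = 2 := by
    rcases trace_of_sq_eq_one h2 g hg with h' | h'
    · exact h'
    · exact absurd h' hg1
  have htrg' : g' 0 0 + g' 1 1 = 2 := by
    rcases trace_of_sq_eq_one h2 g' hg' with h' | h'
    · exact h'
    · exact absurd h' hg'1
  obtain ⟨c, t₀, ht₀, hc⟩ := exists_conj_eq_upSL g hg1 htrg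
  obtain ⟨c', t₁, ht₁, hc'⟩ := exists_conj_eq_upSL g' hg'1 htrg'
  obtain ⟨b, hb⟩ := exists_sq_char_two h2 (t₁ / t₀)
  have hb0 : b ≠ 0 := by
    rintro rfl
    rw [mul_zero] at hb
    exact div_ne_zero ht₁ ht₀ hb.symm
  refine ⟨c'⁻¹ * dSL b hb0 * c, ?_⟩
  have h1 : c'⁻¹ * dSL b hb0 * c * g * (c'⁻¹ * dSL b hb0 * c)⁻¹
      = c'⁻¹ * (dSL b hb0 * (c * g * c⁻¹) * (dSL b hb0)⁻¹) * c' := by group
  have h3 : b * b * t₀ = t₁ := by
    rw [hb]
    field_simp
  rw [h1, hc, diag_conj_upSL, h3, ← hc']
  group

/-- **The involution graph of `PSL₂(q)`.** -/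
theorem inv_graph_main (hF : 4 ≤ Fintype.card F) (t : PSL2') (ht : orderOf t = 2) :
    (SimpleGraph.fromRel fun x y : {x : PSL2' // IsConj t x} =>
        Odd (orderOf (x.1 * y.1))).Connected ∧
      (SimpleGraph.fromRel fun x y : {x : PSL2' // IsConj t x} =>
        Odd (orderOf (x.1 * y.1))).diam = 2 := by
  have hmul : ∀ a b : SL2', (QuotientGroup.mk a : PSL2') * QuotientGroup.mk b
      = QuotientGroup.mk (a * b) := fun a b => rfl
  have hnodd2 : ¬ Odd 2 := by decide
  by_cases hodd : Odd (Fintype.card F)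
  · -- odd `q`
    have h2 : (2 : F) ≠ 0 := two_ne_zero_of_odd_card hodd
    have hlift : ∀ x : PSL2', orderOf x = 2 → ∃ g : SL2', (g : Mat) 0 0 + (g : Mat) 1 1 = 0 ∧
        (QuotientGroup.mk g : PSL2') = x := by
      intro x hx
      obtain ⟨g, rfl⟩ := QuotientGroup.mk_surjective x
      exact ⟨g, trace_zero_of_orderOf_mk h2 g hx, rfl⟩
    apply inv_graph_of_props t ht (isConj_of_orderOf_two hodd)
    · intro x y hx hy hxy
      obtain ⟨g, tg, rfl⟩ := hlift x hx
      obtain ⟨h, th, rfl⟩ := hlift y hy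
      rcases common_neighbor_odd hodd hF g h tg th with h' | ⟨k, hk, hkg, hkh, h1, h3⟩
      · exact Or.inl h'
      · exact Or.inr ⟨QuotientGroup.mk k, orderOf_mk_of_trace_zero h2 k hk, hkg, hkh, h1, h3⟩
    · -- witnesses
      obtain ⟨a, e, hae⟩ := FiniteField.exists_root_sum_quadratic
        (f := (Polynomial.X : Polynomial F) ^ 2) (g := Polynomial.X ^ 2 + Polynomial.C 1)
        (Polynomial.degree_X_pow 2) (Polynomial.degree_X_pow_add_C (by norm_num) 1)
        (Nat.odd_iff.mp hodd)
      simp only [Polynomial.eval_pow, Polynomial.eval_X, Polynomial.eval_add,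
        Polynomial.eval_C] at hae
      have hdet : a * (-a) - e * e = 1 := by linear_combination -hae
      have tw : ((wSL : SL2') : Mat) 0 0 + ((wSL : SL2') : Mat) 1 1 = 0 := by
        change (wSL : SL2') 0 0 + (wSL : SL2') 1 1 = 0
        rw [wSL_00, wSL_11, add_zero]
      have tm : ((mSL a e e (-a) hdet : SL2') : Mat) 0 0 + ((mSL a e e (-a) hdet : SL2') : Mat) 1 1
          = 0 := by
        change (mSL a e e (-a) hdet : SL2') 0 0 + (mSL a e e (-a) hdet : SL2') 1 1 = 0
        rw [mkSL_00, mkSL_11, add_neg_cancel]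
      have t1 : ((wSL * mSL a e e (-a) hdet : SL2') : Mat) 0 0
          + ((wSL * mSL a e e (-a) hdet : SL2') : Mat) 1 1 = 0 := by
        change (wSL * mSL a e e (-a) hdet : SL2') 0 0 + (wSL * mSL a e e (-a) hdet : SL2') 1 1 = 0
        simp only [sl2_mul_apply, wSL_00, wSL_01, wSL_10, wSL_11, mkSL_00, mkSL_01, mkSL_10,
          mkSL_11]
        ring
      have t2 : ((mSL a e e (-a) hdet * wSL : SL2') : Mat) 0 0
          + ((mSL a e e (-a) hdet * wSL : SL2') : Mat) 1 1 = 0 := by
        change (mSL a e e (-a) hdet * wSL : SL2') 0 0 + (mSL a e e (-a) hdet * wSL : SL2') 1 1 = 0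
        simp only [sl2_mul_apply, wSL_00, wSL_01, wSL_10, wSL_11, mkSL_00, mkSL_01, mkSL_10,
          mkSL_11]
        ring
      refine ⟨QuotientGroup.mk wSL, QuotientGroup.mk (mSL a e e (-a) hdet),
        orderOf_mk_of_trace_zero h2 _ tw, orderOf_mk_of_trace_zero h2 _ tm, ?_, ?_, ?_⟩
      · intro heq
        obtain ⟨h6, -⟩ := trace_sq_of_mk_eq wSL wSL (mSL a e e (-a) hdet) tw heq.symm
        rw [t1] at h6
        have h4 : (4 : F) = 2 * 2 := by norm_num
        have : (2 : F) * 2 = 0 := by rw [← h4]; linear_combination -h6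
        rcases mul_eq_zero.mp this with h' | h' <;> exact h2 h'
      · rw [hmul, orderOf_mk_of_trace_zero h2 _ t1]
        exact hnodd2
      · rw [hmul, orderOf_mk_of_trace_zero h2 _ t2]
        exact hnodd2
  · -- even `q`
    have h2 : (2 : F) = 0 := by
      have hev : Fintype.card F % 2 = 0 := by
        rcases Nat.even_or_odd (Fintype.card F) with h | h
        · exact Nat.even_iff.mp h
        · exact absurd h hodd
      have hchar : ringChar F = 2 := FiniteField.even_card_iff_char_two.mpr hev
      have := ringChar.Nat.cast_ringChar (R := F)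
      rw [hchar] at this
      exact_mod_cast this
    have hinv : ∀ g : SL2', g * g = 1 → g ≠ 1 → orderOf (QuotientGroup.mk g : PSL2') = 2 := by
      intro g hg hg1
      apply orderOf_eq_prime
      · rw [pow_two, hmul, hg]
        rfl
      · intro h
        exact hg1 (mk_injective_even h2 g 1 h)
    have hlift : ∀ x : PSL2', orderOf x = 2 → ∃ g : SL2', g * g = 1 ∧ g ≠ 1 ∧
        (QuotientGroup.mk g : PSL2') = x := by
      intro x hx
      obtain ⟨g, rfl⟩ := QuotientGroup.mk_surjective x
      refine ⟨g, ?_, ?_, rfl⟩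
      · apply mk_injective_even h2
        have := pow_orderOf_eq_one (QuotientGroup.mk g : PSL2')
        rw [hx, pow_two, hmul] at this
        exact this
      · rintro rfl
        have : orderOf (QuotientGroup.mk (1 : SL2') : PSL2') = 1 := orderOf_one
        rw [this] at hx
        omega
    apply inv_graph_of_props t ht
    · intro x y hx hy
      obtain ⟨g, hg, hg1, rfl⟩ := hlift x hx
      obtain ⟨g', hg', hg'1, rfl⟩ := hlift y hy
      obtain ⟨d, hd⟩ := isConj_involution_even h2 g g' hg hg1 hg' hg'1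
      rw [isConj_iff]
      refine ⟨QuotientGroup.mk d, ?_⟩
      rw [← hd]
      rfl
    · intro x y hx hy hxy
      obtain ⟨g, hg, hg1, rfl⟩ := hlift x hx
      obtain ⟨h, hh, hh1, rfl⟩ := hlift y hy
      rcases common_neighbor_even h2 g h hg hg1 hh hh1 with h' | ⟨k, hk, hk1, hkg, hkh, h1, h3⟩
      · exact Or.inl h'
      · exact Or.inr ⟨QuotientGroup.mk k, hinv k hk hk1, hkg, hkh, h1, h3⟩
    · -- witnesses
      classical
      obtain ⟨a, -, ha⟩ := Finset.exists_mem_notMem_of_card_lt_card
        (s := ({0, 1} : Finset F)) (t := Finset.univ) (by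
          rw [Finset.card_univ]
          exact lt_of_le_of_lt Finset.card_le_two (by omega))
      simp only [Finset.mem_insert, Finset.mem_singleton, not_or] at ha
      obtain ⟨ha0, ha1⟩ := ha
      have hsq : ∀ s : F, (upSL s : SL2') * upSL s = 1 := by
        intro s
        rw [upSL_add, ← upSL_zero]
        congr 1
        linear_combination s * h2
      have hne1 : ∀ s : F, s ≠ 0 → (upSL s : SL2') ≠ 1 := by
        intro s hs h
        rw [← upSL_zero] at h
        exact hs (upSL_injective h)
      have h1a : (1 : F) + a ≠ 0 := by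
        intro h
        apply ha1
        linear_combination h - h2
      refine ⟨QuotientGroup.mk (upSL 1), QuotientGroup.mk (upSL a),
        hinv _ (hsq 1) (hne1 1 one_ne_zero), hinv _ (hsq a) (hne1 a ha0), ?_, ?_, ?_⟩
      · intro heq
        exact ha1 (upSL_injective (mk_injective_even h2 _ _ heq)).symm
      · rw [hmul, upSL_add, hinv _ (hsq _) (hne1 _ h1a)]
        exact hnodd2
      · rw [hmul, upSL_add, add_comm, hinv _ (hsq _) (hne1 _ h1a)]
        exact hnodd2

end Main

end Cfsg.Agent.Lib.helper46
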