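/-
S2522 piece LG (helper51's split): `quad_of_dep`.
If no Krylov triple `z, g z, g² z` is independent, `g` satisfies a monic quadratic.
-/
import Mathlib
import Cfsg.Agent.Lib.helper51.LevDefs
import Cfsg.Agent.Lib.helper80.LevUTIL

set_option autoImplicit false

namespace Cfsg.Agent.Lib.helper51.Lev

open Matrix

variable {K : Type*} [Field K]

/-- an endomorphism all of whose vectors are eigenvectors is a scalar -/
theorem helper46_scalar_of_eig {V : Type*} [AddCommGroup V] [Module K V] (f : V →ₗ[K] V)
    (h : ∀ z : V, ∃ γ : K, f z = γ • z) : ∃ γ : K, ∀ z : V, f z = γ • z := by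
  by_cases hV : ∀ z : V, z = 0
  · refine ⟨0, fun z => ?_⟩
    rw [hV z, map_zero, smul_zero]
  · push Not at hV
    obtain ⟨z₁, hz₁⟩ := hV
    obtain ⟨γ₁, hγ₁⟩ := h z₁
    refine ⟨γ₁, fun z => ?_⟩
    obtain ⟨γ, hγ⟩ := h z
    obtain ⟨γ', hγ'⟩ := h (z + z₁)
    rw [map_add, hγ, hγ₁, smul_add] at hγ'
    have h1 : (γ - γ') • z = (γ' - γ₁) • z₁ := by
      linear_combination (norm := module) hγ'
    by_cases hg : γ' = γ₁
    · rw [hg, sub_self, zero_smul] at h1
      rw [hγ]
      have h2 : γ • z - γ₁ • z = 0 := by rw [← sub_smul]; exact h1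
      exact sub_eq_zero.mp h2
    · have hne : γ' - γ₁ ≠ 0 := sub_ne_zero.mpr hg
      have h2 : z₁ = ((γ' - γ₁)⁻¹ * (γ - γ')) • z := by
        rw [← smul_smul, h1, smul_smul, inv_mul_cancel₀ hne, one_smul]
      have e : f z₁ = γ • z₁ := by
        calc f z₁ = f (((γ' - γ₁)⁻¹ * (γ - γ')) • z) := by rw [← h2]
          _ = γ • (((γ' - γ₁)⁻¹ * (γ - γ')) • z) := by rw [map_smul, hγ, smul_comm]
          _ = γ • z₁ := by rw [← h2]
      have h4 : (γ - γ₁) • z₁ = 0 := by rw [sub_smul, ← e, hγ₁, sub_self]
      have h5 : γ = γ₁ := sub_eq_zero.mp ((smul_eq_zero.mp h4).resolve_right hz₁)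
      rw [hγ, h5]

/-- abstract form of `quad_of_dep`: an endomorphism that is locally quadratic is quadratic -/
theorem helper46_quad_abs {V : Type*} [AddCommGroup V] [Module K V] (hK : 3 ≤ Cardinal.mk K)
    (f : V →ₗ[K] V) (H : ∀ z : V, ∃ s p : K, f (f z) = s • f z - p • z) :
    ∃ s p : K, ∀ z : V, f (f z) = s • f z - p • z := by
  classical
  by_cases hcase : ∀ z : V, ∃ γ : K, f z = γ • z
  · obtain ⟨γ, hγ⟩ := helper46_scalar_of_eig f hcase
    refine ⟨γ, 0, fun z => ?_⟩
    rw [hγ (f z), zero_smul, sub_zero]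
  · push Not at hcase
    obtain ⟨z₀, hz₀⟩ := hcase
    obtain ⟨s, p, hsp⟩ := H z₀
    refine ⟨s, p, ?_⟩
    have hz₀ne : z₀ ≠ 0 := by
      intro h0
      apply hz₀ 0
      rw [h0, map_zero, smul_zero]
    have hind : ∀ a b : K, a • z₀ + b • f z₀ = 0 → a = 0 ∧ b = 0 := by
      intro a b hab
      have hb : b = 0 := by
        by_contra hb
        apply hz₀ (b⁻¹ * (-a))
        have h1 : b • f z₀ = (-a) • z₀ := by
          linear_combination (norm := module) hab
        rw [← smul_smul, ← h1, smul_smul, inv_mul_cancel₀ hb, one_smul]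
      refine ⟨?_, hb⟩
      rw [hb, zero_smul, add_zero] at hab
      exact (smul_eq_zero.mp hab).resolve_right hz₀ne
    -- the quadratic operator
    obtain ⟨Q, hQa⟩ : ∃ Q : V →ₗ[K] V, ∀ w, Q w = f (f w) - s • f w + p • w :=
      ⟨f ∘ₗ f - s • f + p • LinearMap.id, fun w => by simp⟩
    have hQz : Q z₀ = 0 := by
      rw [hQa, hsp]; module
    have hQy : Q (f z₀) = 0 := by
      rw [hQa, hsp, map_sub, map_smul, map_smul, hsp]; module
    have star : ∀ w t : V, Q t = 0 → ∃ σ π : K, Q w = σ • f (w + t) - π • (w + t) := by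
      intro w t ht
      obtain ⟨s', p', h'⟩ := H (w + t)
      refine ⟨s' - s, p' - p, ?_⟩
      have h1 : Q w = Q (w + t) := by rw [map_add, ht, add_zero]
      rw [h1, hQa, h']
      module
    have main : ∀ w, Q w = 0 := by
      intro w
      by_cases hT : ∃ c d : K, w = c • z₀ + d • f z₀
      · obtain ⟨c, d, rfl⟩ := hT
        rw [map_add, map_smul, map_smul, hQz, hQy, smul_zero, smul_zero, add_zero]
      · push Not at hT
        have hind3 : ∀ a c d : K, a • w + c • z₀ + d • f z₀ = 0 → a = 0 ∧ c = 0 ∧ d = 0 := by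
          intro a c d h
          have ha : a = 0 := by
            by_contra ha
            apply hT (a⁻¹ * (-c)) (a⁻¹ * (-d))
            have h1 : a • w = (-c) • z₀ + (-d) • f z₀ := by
              linear_combination (norm := module) h
            rw [← smul_smul, ← smul_smul, ← smul_add, ← h1, smul_smul, inv_mul_cancel₀ ha,
              one_smul]
          rw [ha, zero_smul, zero_add] at h
          exact ⟨ha, hind c d h⟩
        by_cases hF : ∃ μ α β : K, f w = μ • w + α • z₀ + β • f z₀
        · obtain ⟨μ, α, β, hfw⟩ := hF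
          have hQw : Q w = (μ * μ - s * μ + p) • w + ((μ - s) * α - β * p) • z₀ +
              (μ * β + α) • f z₀ := by
            rw [hQa, hfw, map_add, map_add, map_smul, map_smul, map_smul, hfw, hsp]
            module
          have key : ∀ a : K, ((μ - s) * α - β * p - (μ * μ - s * μ + p) * a) * (β + a) =
              (μ * β + α) * (α - μ * a) := by
            intro a
            obtain ⟨σ, π, hσ⟩ := star w (a • z₀) (by rw [map_smul, hQz, smul_zero])
            rw [hQw, map_add, map_smul, hfw] at hσ
            have h0 : ((μ * μ - s * μ + p) - σ * μ + π) • w +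
                (((μ - s) * α - β * p) - σ * α + π * a) • z₀ +
                ((μ * β + α) - σ * (β + a)) • f z₀ = 0 := by
              linear_combination (norm := module) hσ
            obtain ⟨e1, e2, e3⟩ := hind3 _ _ _ h0
            linear_combination (β + a) * e2 - a * (β + a) * e1 - (α - μ * a) * e3
          obtain ⟨c, hc⟩ := exists_notMem_of_card ({0, 1} : Finset K) (by
            rw [Finset.card_pair zero_ne_one]
            exact_mod_cast hK)
          have hc0 : c ≠ 0 := by
            intro h; apply hc; rw [h]; simp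
          have hc1 : c ≠ 1 := by
            intro h; apply hc; rw [h]; simp
          have k0 := key 0
          have k1 := key 1
          have kc := key c
          obtain ⟨A, hA⟩ : ∃ A : K, A = μ * μ - s * μ + p := ⟨_, rfl⟩
          obtain ⟨B, hB⟩ : ∃ B : K, B = (μ - s) * α - β * p := ⟨_, rfl⟩
          obtain ⟨C, hC⟩ : ∃ C : K, C = μ * β + α := ⟨_, rfl⟩
          rw [← hA, ← hB, ← hC] at k0 k1 kc hQw
          have e1 : B - A * β - A + C * μ = 0 := by linear_combination k1 - k0
          have e2 : c * (B - A * β - A * c + C * μ) = 0 := by linear_combination kc - k0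
          have e3 : B - A * β - A * c + C * μ = 0 := (mul_eq_zero.mp e2).resolve_left hc0
          have e4 : A * (c - 1) = 0 := by linear_combination e1 - e3
          have hA0 : A = 0 := (mul_eq_zero.mp e4).resolve_right (sub_ne_zero.mpr hc1)
          have e5 : C * C = 0 := by
            linear_combination C * hC + β * e1 + (β * β + β) * hA0 - k0
          have hC0 : C = 0 := mul_self_eq_zero.mp e5
          have hB0 : B = 0 := by linear_combination e1 + (β + 1) * hA0 - μ * hC0
          rw [hQw, hA0, hB0, hC0, zero_smul, zero_smul, zero_smul, add_zero, add_zero]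
        · push Not at hF
          have hind4 : ∀ a b c d : K, a • w + b • f w + c • z₀ + d • f z₀ = 0 →
              a = 0 ∧ b = 0 ∧ c = 0 ∧ d = 0 := by
            intro a b c d h
            have hb : b = 0 := by
              by_contra hb
              apply hF (b⁻¹ * (-a)) (b⁻¹ * (-c)) (b⁻¹ * (-d))
              have h1 : b • f w = (-a) • w + (-c) • z₀ + (-d) • f z₀ := by
                linear_combination (norm := module) h
              rw [← smul_smul, ← smul_smul, ← smul_smul, ← smul_add, ← smul_add, ← h1,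
                smul_smul, inv_mul_cancel₀ hb, one_smul]
            rw [hb, zero_smul, add_zero] at h
            obtain ⟨ha, hc, hd⟩ := hind3 a c d h
            exact ⟨ha, hb, hc, hd⟩
          obtain ⟨σ₀, π₀, h0⟩ := star w 0 (map_zero Q)
          obtain ⟨σ₁, π₁, h1⟩ := star w z₀ hQz
          rw [add_zero] at h0
          rw [map_add] at h1
          have h2 : (π₁ - π₀) • w + (σ₀ - σ₁) • f w + π₁ • z₀ + (-σ₁) • f z₀ = 0 := by
            linear_combination (norm := module) h1 - h0
          obtain ⟨-, -, hπ, hσ⟩ := hind4 _ _ _ _ h2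
          rw [h1, hπ, neg_eq_zero.mp hσ, zero_smul, zero_smul, sub_zero]
    intro z
    have hz := main z
    rw [hQa] at hz
    linear_combination (norm := module) hz

/-- PIECE LG: if no Krylov triple is independent, the matrix satisfies a quadratic. -/
theorem quad_of_dep (hK : 3 ≤ Cardinal.mk K) {ι : Type} [Fintype ι] [DecidableEq ι]
    (g : Matrix ι ι K)
    (h : ∀ z : ι → K, ¬ LinearIndependent K ![z, g *ᵥ z, g *ᵥ (g *ᵥ z)]) :
    ∃ s p : K, g * g = s • g - p • (1 : Matrix ι ι K) := by
  have H : ∀ z : ι → K, ∃ s p : K,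
      g.mulVecLin (g.mulVecLin z) = s • g.mulVecLin z - p • z := by
    intro z
    simp only [Matrix.mulVecLin_apply]
    have hz := h z
    rw [Fintype.not_linearIndependent_iff] at hz
    obtain ⟨c, hc, i, hi⟩ := hz
    rw [Fin.sum_univ_three] at hc
    simp only [Matrix.cons_val_zero, Matrix.cons_val_one, Matrix.cons_val_two, Matrix.tail_cons,
      Matrix.head_cons] at hc
    by_cases h2 : c 2 = 0
    · by_cases h1 : c 1 = 0
      · have h0 : c 0 ≠ 0 := by
          intro h0
          fin_cases i
          · exact hi h0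
          · exact hi h1
          · exact hi h2
        have hz0 : z = 0 := by
          rw [h2, h1, zero_smul, zero_smul, add_zero, add_zero] at hc
          exact (smul_eq_zero.mp hc).resolve_left h0
        refine ⟨0, 0, ?_⟩
        rw [hz0]
        simp
      · refine ⟨(c 1)⁻¹ * (-(c 0)), 0, ?_⟩
        have e : g *ᵥ z = ((c 1)⁻¹ * (-(c 0))) • z := by
          rw [h2, zero_smul, add_zero] at hc
          have h3 : c 1 • g *ᵥ z = (-(c 0)) • z := by
            linear_combination (norm := module) hc
          rw [← smul_smul, ← h3, smul_smul, inv_mul_cancel₀ h1, one_smul]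
        rw [zero_smul, sub_zero]
        nth_rewrite 1 [e]
        rw [Matrix.mulVec_smul]
    · refine ⟨(c 2)⁻¹ * (-(c 1)), (c 2)⁻¹ * c 0, ?_⟩
      have h3 : c 2 • g *ᵥ (g *ᵥ z) = (-(c 1)) • g *ᵥ z - c 0 • z := by
        linear_combination (norm := module) hc
      rw [← smul_smul, ← smul_smul, ← smul_sub, ← h3, smul_smul, inv_mul_cancel₀ h2, one_smul]
  obtain ⟨s, p, hsp⟩ := helper46_quad_abs hK g.mulVecLin H
  refine ⟨s, p, ?_⟩
  apply Matrix.mulVec_injective
  funext z
  have h1 := hsp z
  simp only [Matrix.mulVecLin_apply] at h1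
  rw [← Matrix.mulVec_mulVec, h1, Matrix.sub_mulVec, Matrix.smul_mulVec, Matrix.smul_mulVec,
    Matrix.one_mulVec]

end Cfsg.Agent.Lib.helper51.Lev
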