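/-
S2522 piece UTIL (helper51's split): duplicates of `avoid`, `exists_notMem_of_card`, `exists_dual`
(the canonical ones are in `Cfsg.Agent.Lib.helper80.LevUTIL`; claims crossed), renamed with the
prefix `helper46_` so that both files can be imported together.
-/
import Mathlib
import Cfsg.Agent.Lib.helper51.LevDefs

set_option autoImplicit false

namespace Cfsg.Agent.Lib.helper51.Lev

open Matrix

variable {K : Type*} [Field K]

omit [Field K] in
/-- an embedding of `Fin n` into a type with at least `n` elements -/
theorem helper46_fin_emb (n : ℕ) (hK : (n : Cardinal) ≤ Cardinal.mk K) :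
    Nonempty (Fin n ↪ K) := by
  apply Cardinal.lift_mk_le'.mp
  simpa using hK

/-- PIECE UTIL (a): a vector space over `K` is not the union of `n ≤ #K` proper subspaces. -/
theorem helper46_avoid {V : Type*} [AddCommGroup V] [Module K V] (n : ℕ)
    (hK : (n : Cardinal) ≤ Cardinal.mk K) (W : Fin n → Submodule K V) (hW : ∀ i, W i ≠ ⊤) :
    ∃ x : V, ∀ i, x ∉ W i := by
  induction n with
  | zero => exact ⟨0, fun i => i.elim0⟩
  | succ k ih =>
    have hk : (k : Cardinal) ≤ Cardinal.mk K :=
      le_trans (by exact_mod_cast Nat.le_succ k) hK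
    obtain ⟨x, hx⟩ := ih hk (fun i => W i.castSucc) (fun i => hW _)
    by_cases hxl : x ∈ W (Fin.last k)
    · obtain ⟨y, hy⟩ : ∃ y, y ∉ W (Fin.last k) := by
        by_contra h
        push Not at h
        exact hW (Fin.last k) (eq_top_iff.mpr fun v _ => h v)
      obtain ⟨e⟩ := helper46_fin_emb (K := K) (k + 1) hK
      by_contra hcon
      push Not at hcon
      have key : ∀ j : Fin (k + 1), ∃ i : Fin k, y + e j • x ∈ W i.castSucc := by
        intro j
        obtain ⟨i, hi⟩ := hcon (y + e j • x)
        induction i using Fin.lastCases with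
        | last =>
          exfalso
          apply hy
          have h2 : e j • x ∈ W (Fin.last k) := (W (Fin.last k)).smul_mem _ hxl
          have h3 := (W (Fin.last k)).sub_mem hi h2
          rwa [add_sub_cancel_right] at h3
        | cast i => exact ⟨i, hi⟩
      choose f hf using key
      obtain ⟨j1, j2, hne, heq⟩ := Fintype.exists_ne_map_eq_of_card_lt f (by simp)
      have h1 := hf j1
      have h2 := hf j2
      rw [heq] at h1
      have h3 := (W (f j2).castSucc).sub_mem h1 h2
      have h4 : y + e j1 • x - (y + e j2 • x) = (e j1 - e j2) • x := by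
        rw [sub_smul]; abel
      rw [h4] at h3
      have h5 : e j1 - e j2 ≠ 0 := by
        intro h0
        exact hne (e.injective (sub_eq_zero.mp h0))
      have h6 := (W (f j2).castSucc).smul_mem (e j1 - e j2)⁻¹ h3
      rw [smul_smul, inv_mul_cancel₀ h5, one_smul] at h6
      exact hx _ h6
    · refine ⟨x, fun i => ?_⟩
      induction i using Fin.lastCases with
      | last => exact hxl
      | cast i => exact hx i

/-- PIECE UTIL (b): a scalar outside a small finite set. -/
theorem helper46_exists_notMem_of_card (S : Finset K) (hS : ((S.card + 1 : ℕ) : Cardinal) ≤ Cardinal.mk K) :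
    ∃ t : K, t ∉ S := by
  by_contra h
  push Not at h
  have h1 : (S : Set K) = Set.univ := Set.eq_univ_of_forall h
  have h2 : Cardinal.mk K = (S.card : Cardinal) := by
    rw [← Cardinal.mk_univ, ← h1]
    exact Cardinal.mk_coe_finset
  rw [h2] at hS
  have h3 : S.card + 1 ≤ S.card := by exact_mod_cast hS
  omega

/-- PIECE UTIL (c): a functional with prescribed values on an independent family. -/
theorem helper46_exists_dual {ι : Type} [Fintype ι] [DecidableEq ι] {k : ℕ} (b : Fin k → ι → K)
    (hb : LinearIndependent K b) (a : Fin k → K) : ∃ lam : ι → K, ∀ i, lam ⬝ᵥ b i = a i := by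
  set B := Module.Basis.span hb with hB
  obtain ⟨f, hf⟩ := LinearMap.exists_extend (B.constr K a : _ →ₗ[K] K)
  refine ⟨fun i => f (fun j => if i = j then 1 else 0), fun i => ?_⟩
  have h1 : f (b i) = a i := by
    have h2 : (b i) = ((B i : Submodule.span K (Set.range b)) : ι → K) := by
      rw [hB, Module.Basis.span_apply]
    have h3 := congrArg (fun φ => φ (B i)) hf
    simp only [LinearMap.comp_apply, Submodule.subtype_apply, Module.Basis.constr_basis] at h3
    rw [h2]
    exact h3
  rw [← h1, LinearMap.pi_apply_eq_sum_univ f (b i)]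
  simp only [dotProduct, smul_eq_mul]
  exact Finset.sum_congr rfl fun j _ => mul_comm _ _

end Cfsg.Agent.Lib.helper51.Lev
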