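import Mathlib
import Cfsg.Agent.Lib.helper21.FixedCosets

/-!
# S0420 split (uniqueness of `M₁₁`), piece D: elements of order three (helper46)
-/

set_option autoImplicit false

namespace Cfsg.Agent.Lib.helper46.M11U

open Subgroup

/-- Counting lemma: if the class of an element `z` of prime order `p` is at least as large as
the number of nonidentity elements in all Sylow `p`-subgroups, then every nonidentity element
of a Sylow `p`-subgroup is conjugate to `z`. -/
theorem class_eq_sylow_union {G : Type*} [Group G] [Finite G] (p : ℕ) [Fact p.Prime] (z : G)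
    (hzo : orderOf z = p) (r : ℕ) (hR : ∀ R : Sylow p G, Nat.card R = r)
    (hcount : Nat.card (centralizer ({z} : Set G)) * (Nat.card (Sylow p G) * (r - 1)) ≤
      Nat.card G)
    (g : G) (hg1 : g ≠ 1) (R : Sylow p G) (hgR : g ∈ (R : Subgroup G)) : IsConj z g := by
  classical
  have := Fintype.ofFinite G
  have := Fintype.ofFinite (Sylow p G)
  let F : Sylow p G → Finset G :=
    fun R => (Finset.univ.filter (fun g : G => g ∈ (R : Subgroup G))).erase 1
  have hF : ∀ R, (F R).card = r - 1 := by
    intro R
    have h1 : (Finset.univ.filter (fun g : G => g ∈ (R : Subgroup G))).card = r := by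
      rw [← hR R, Nat.card_eq_fintype_card]
      exact (Fintype.card_subtype _).symm
    show ((Finset.univ.filter (fun g : G => g ∈ (R : Subgroup G))).erase 1).card = r - 1
    rw [Finset.card_erase_of_mem (by simp), h1]
  let U : Finset G := Finset.univ.biUnion F
  have hUcard : U.card ≤ Nat.card (Sylow p G) * (r - 1) := by
    refine le_trans Finset.card_biUnion_le ?_
    rw [Finset.sum_congr rfl (fun R _ => hF R), Finset.sum_const, Finset.card_univ,
      ← Nat.card_eq_fintype_card, smul_eq_mul]
  let C : Finset G := Finset.univ.filter (fun g => IsConj z g)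
  have hCcard : C.card * Nat.card (centralizer ({z} : Set G)) = Nat.card G := by
    have h1 := Cfsg.Agent.Lib.helper21.card_isConj_mul_card_centralizer z
    rw [Nat.card_eq_fintype_card (α := {g : G // IsConj z g}), Fintype.card_subtype] at h1
    exact h1
  have hCU : C ⊆ U := by
    intro g hg
    rw [Finset.mem_filter] at hg
    have hgo : orderOf g = p := by
      obtain ⟨c, hc⟩ := isConj_iff.mp hg.2
      rw [← hc]
      have h1 := MulEquiv.orderOf_eq (MulAut.conj c) z
      rw [MulAut.conj_apply] at h1
      rw [h1, hzo]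
    have hgp : IsPGroup p (zpowers g) :=
      IsPGroup.of_card (n := 1) (by rw [Nat.card_zpowers, hgo, pow_one])
    obtain ⟨R, hR'⟩ := hgp.exists_le_sylow
    rw [Finset.mem_biUnion]
    refine ⟨R, Finset.mem_univ _, ?_⟩
    rw [Finset.mem_erase, Finset.mem_filter]
    refine ⟨?_, Finset.mem_univ _, hR' (mem_zpowers g)⟩
    intro h1
    rw [h1, orderOf_one] at hgo
    exact (Fact.out : p.Prime).one_lt.ne hgo
  have hle : U.card ≤ C.card := by
    have hpos : 0 < Nat.card (centralizer ({z} : Set G)) := Nat.card_pos
    have h1 : U.card * Nat.card (centralizer ({z} : Set G)) ≤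
        C.card * Nat.card (centralizer ({z} : Set G)) := by
      rw [hCcard]
      calc U.card * Nat.card (centralizer ({z} : Set G))
          ≤ (Nat.card (Sylow p G) * (r - 1)) * Nat.card (centralizer ({z} : Set G)) :=
            Nat.mul_le_mul_right _ hUcard
        _ = Nat.card (centralizer ({z} : Set G)) * (Nat.card (Sylow p G) * (r - 1)) := by ring
        _ ≤ Nat.card G := hcount
    exact Nat.le_of_mul_le_mul_right h1 hpos
  have heq : C = U := Finset.eq_of_subset_of_card_le hCU hle
  have hgU : g ∈ U := by
    rw [Finset.mem_biUnion]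
    refine ⟨R, Finset.mem_univ _, ?_⟩
    rw [Finset.mem_erase, Finset.mem_filter]
    exact ⟨hg1, Finset.mem_univ _, hgR⟩
  rw [← heq, Finset.mem_filter] at hgU
  exact hgU.2

/-- Conjugate elements have the same order. -/
theorem orderOf_eq_of_isConj {G : Type*} [Group G] {z g : G} (h : IsConj z g) :
    orderOf g = orderOf z := by
  obtain ⟨c, hc⟩ := isConj_iff.mp h
  rw [← hc]
  have h1 := MulEquiv.orderOf_eq (MulAut.conj c) z
  rw [MulAut.conj_apply] at h1
  exact h1

/-- PIECE D: elements of order 3. -/
theorem m11_order_three_facts {G : Type*} [Group G] [Finite G] [IsSimpleGroup G]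
    (hG : Nat.card G = 7920)
    (h18 : ∀ z : G, orderOf z = 3 → Nat.card (Subgroup.centralizer ({z} : Set G)) = 18)
    (h144 : ∀ R : Sylow 3 G, Nat.card (Subgroup.normalizer ((R : Subgroup G) : Set G)) = 144) :
    (∀ z z' : G, orderOf z = 3 → orderOf z' = 3 → IsConj z z') ∧
    (∀ (R : Sylow 3 G) (g : G), g ∈ (R : Subgroup G) → g ≠ 1 → orderOf g = 3) := by
  have hp3 : Fact (Nat.Prime 3) := ⟨Nat.prime_three⟩
  have h9 : ∀ R : Sylow 3 G, Nat.card R = 9 := by
    intro R
    obtain ⟨k, hk⟩ := R.isPGroup'.exists_card_eq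
    have h1 := (R : Subgroup G).card_mul_index
    rw [hG, hk] at h1
    have h2 := R.not_dvd_index
    have hk3 : k < 3 := by
      by_contra hk3
      have h3 : 3 ^ 3 ∣ 3 ^ k := pow_dvd_pow 3 (by omega)
      have h4 : 3 ^ 3 ∣ 7920 := dvd_trans h3 (Dvd.intro _ h1)
      norm_num at h4
    interval_cases k
    · exfalso
      apply h2
      norm_num at h1
      omega
    · exfalso
      apply h2
      norm_num at h1
      omega
    · rw [hk]
      norm_num
  have h55 : Nat.card (Sylow 3 G) = 55 := by
    have R : Sylow 3 G := default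
    have h1 : Nat.card (Sylow 3 G) = (Subgroup.normalizer ((R : Subgroup G) : Set G)).index :=
      Sylow.card_eq_index_normalizer R
    have h2 := (Subgroup.normalizer ((R : Subgroup G) : Set G)).card_mul_index
    rw [h144 R, hG] at h2
    rw [h1]
    omega
  have key : ∀ z : G, orderOf z = 3 → ∀ g : G, g ≠ 1 → ∀ R : Sylow 3 G,
      g ∈ (R : Subgroup G) → IsConj z g := by
    intro z hz g hg1 R hgR
    exact class_eq_sylow_union 3 z hz 9 h9 (by rw [h18 z hz, h55, hG]) g hg1 R hgR
  have hex : ∃ z : G, orderOf z = 3 :=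
    exists_prime_orderOf_dvd_card' 3 (by rw [hG]; norm_num)
  refine ⟨?_, ?_⟩
  · intro z z' hz hz'
    have hp : IsPGroup 3 (Subgroup.zpowers z') :=
      IsPGroup.of_card (n := 1) (by rw [Nat.card_zpowers, hz', pow_one])
    obtain ⟨R, hR⟩ := hp.exists_le_sylow
    have hz'1 : z' ≠ 1 := by
      intro h
      rw [h, orderOf_one] at hz'
      omega
    exact key z hz z' hz'1 R (hR (Subgroup.mem_zpowers z'))
  · intro R g hgR hg1
    obtain ⟨z, hz⟩ := hex
    rw [orderOf_eq_of_isConj (key z hz g hg1 R hgR), hz]

end Cfsg.Agent.Lib.helper46.M11U
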