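import Mathlib
import Cfsg.Agent.Lib.helper46.M11U_D

/-!
# S0420 split (uniqueness of `M₁₁`), piece D5: elements of order five (helper46)
-/

set_option autoImplicit false

namespace Cfsg.Agent.Lib.helper46.M11U

/-- PIECE D5: elements of order 5. -/
theorem m11_order_five_facts {G : Type*} [Group G] [Finite G] (hG : Nat.card G = 7920)
    (h5 : ∀ Q : Subgroup G, Nat.card Q = 5 →
      Nat.card (Subgroup.normalizer (Q : Set G)) = 20 ∧ Subgroup.centralizer (Q : Set G) ≤ Q) :
    (∀ k k' : G, orderOf k = 5 → orderOf k' = 5 → IsConj k k') ∧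
    (∀ k : G, orderOf k = 5 → Nat.card (Subgroup.centralizer ({k} : Set G)) = 5) := by
  have hp5 : Fact (Nat.Prime 5) := ⟨by norm_num⟩
  have hcent : ∀ k : G, orderOf k = 5 →
      Nat.card (Subgroup.centralizer ({k} : Set G)) = 5 := by
    intro k hk
    have hQ : Nat.card (Subgroup.zpowers k) = 5 := by rw [Nat.card_zpowers, hk]
    have h1 := (h5 (Subgroup.zpowers k) hQ).2
    have h2 : Subgroup.centralizer ({k} : Set G) = Subgroup.zpowers k := by
      apply le_antisymm
      · refine le_trans ?_ h1
        intro g hg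
        rw [Subgroup.mem_centralizer_iff] at hg ⊢
        intro h hh
        obtain ⟨i, rfl⟩ := Subgroup.mem_zpowers_iff.mp hh
        have hc : Commute k g := hg k (Set.mem_singleton k)
        exact (hc.zpow_left i).eq
      · rw [Subgroup.zpowers_le, Subgroup.mem_centralizer_iff]
        intro h hh
        rw [Set.mem_singleton_iff.mp hh]
    rw [h2, hQ]
  have h5card : ∀ R : Sylow 5 G, Nat.card R = 5 := by
    intro R
    obtain ⟨k, hk⟩ := R.isPGroup'.exists_card_eq
    have h1 := (R : Subgroup G).card_mul_index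
    rw [hG, hk] at h1
    have h2 := R.not_dvd_index
    have hk2 : k < 2 := by
      by_contra hk2
      have h3 : 5 ^ 2 ∣ 5 ^ k := pow_dvd_pow 5 (by omega)
      have h4 : 5 ^ 2 ∣ 7920 := dvd_trans h3 (Dvd.intro _ h1)
      norm_num at h4
    interval_cases k
    · exfalso
      apply h2
      norm_num at h1
      omega
    · rw [hk]
      norm_num
  have h396 : Nat.card (Sylow 5 G) = 396 := by
    have R : Sylow 5 G := default
    have h1 : Nat.card (Sylow 5 G) = (Subgroup.normalizer ((R : Subgroup G) : Set G)).index :=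
      Sylow.card_eq_index_normalizer R
    have h2 := (Subgroup.normalizer ((R : Subgroup G) : Set G)).card_mul_index
    rw [(h5 R (h5card R)).1, hG] at h2
    rw [h1]
    omega
  refine ⟨?_, hcent⟩
  intro k k' hk hk'
  have hp : IsPGroup 5 (Subgroup.zpowers k') :=
    IsPGroup.of_card (n := 1) (by rw [Nat.card_zpowers, hk', pow_one])
  obtain ⟨R, hR⟩ := hp.exists_le_sylow
  have hk'1 : k' ≠ 1 := by
    intro h
    rw [h, orderOf_one] at hk'
    omega
  exact class_eq_sylow_union 5 k hk 5 h5card (by rw [hcent k hk, h396, hG]) k' hk'1 R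
    (hR (Subgroup.mem_zpowers k'))

end Cfsg.Agent.Lib.helper46.M11U
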