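import Mathlib
import Cfsg.Agent.Lib.helper46.Dicyclic

/-!
# Groups whose non-normal subgroups have maximal normalizers (helper46)

Generic group theory: the property `NMax`, its invariance under isomorphism, its stability under
direct products with abelian groups of coprime order, and the normalizer of a non-central
subgroup of a "torus".
-/

set_option autoImplicit false

namespace Cfsg.Agent.Lib.helper46

section NMaxGen

/-- Every non-normal subgroup has a maximal normalizer. -/
def NMax (G : Type*) [Group G] : Prop :=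
  ∀ H : Subgroup G, ¬ H.Normal → IsCoatom (Subgroup.normalizer (H : Set G))

theorem nmax_of_equiv {G G' : Type*} [Group G] [Group G'] (e : G ≃* G') (h : NMax G) :
    NMax G' := by
  intro H' hH'
  have h1 : ¬ (H'.comap e.toMonoidHom).Normal := by
    intro hn
    apply hH'
    have := hn.map e.toMonoidHom e.surjective
    rwa [Subgroup.map_comap_eq_self_of_surjective e.surjective] at this
  have h2 := h _ h1
  have h3 := Subgroup.map_equiv_normalizer_eq (H'.comap e.toMonoidHom) e
  rw [Subgroup.map_comap_eq_self_of_surjective e.surjective] at h3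
  rw [← h3]
  exact (OrderIso.isCoatom_iff e.mapSubgroup _).mpr h2

/-- In a finite group, an element conjugating `H` into itself normalizes `H`. -/
theorem nmax_mem_normalizer_of_conj_mem {G : Type*} [Group G] [Finite G] (H : Subgroup G) (s : G)
    (hs : ∀ x ∈ H, s * x * s⁻¹ ∈ H) : s ∈ Subgroup.normalizer (H : Set G) := by
  have hpow : ∀ k : ℕ, ∀ x ∈ H, s ^ k * x * (s ^ k)⁻¹ ∈ H := by
    intro k
    induction k with
    | zero => intro x hx; simpa using hx
    | succ k ih =>
      intro x hx
      have h1 := hs _ (ih x hx)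
      have e : s ^ (k + 1) * x * (s ^ (k + 1))⁻¹ = s * (s ^ k * x * (s ^ k)⁻¹) * s⁻¹ := by
        rw [pow_succ']; group
      rw [e]; exact h1
  rw [Subgroup.mem_normalizer_iff]
  intro x
  constructor
  · exact hs x
  · intro hx
    have hpos : 0 < orderOf s := orderOf_pos s
    have hinv : s ^ (orderOf s - 1) = s⁻¹ := by
      apply eq_inv_of_mul_eq_one_left
      rw [← pow_succ, Nat.sub_add_cancel hpos, pow_orderOf_eq_one]
    have h1 := hpow (orderOf s - 1) _ hx
    rw [hinv] at h1
    have e : s⁻¹ * (s * x * s⁻¹) * s⁻¹⁻¹ = x := by group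
    rwa [e] at h1

/-- The components of an element of a subgroup of a product of groups of coprime orders. -/
theorem mem_components_of_coprime {K S : Type*} [Group K] [Group S] [Finite K] [Finite S]
    (hKS : (Nat.card K).Coprime (Nat.card S)) (H : Subgroup (K × S)) (x : K × S) (hx : x ∈ H) :
    ((x.1, 1) : K × S) ∈ H ∧ ((1, x.2) : K × S) ∈ H := by
  obtain ⟨u, v, huv⟩ : ∃ u v : ℤ, u * (Nat.card K : ℤ) + v * (Nat.card S : ℤ) = 1 :=
    Nat.isCoprime_iff_coprime.mpr hKS
  have h1 : x ^ (v * (Nat.card S : ℤ)) = (x.1, 1) := by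
    apply Prod.ext
    · have e : v * (Nat.card S : ℤ) = 1 - u * (Nat.card K : ℤ) := by linarith
      rw [Prod.pow_fst, e, zpow_sub, zpow_one, mul_comm u, zpow_mul, zpow_natCast,
        pow_card_eq_one', one_zpow, inv_one, mul_one]
    · rw [Prod.pow_snd, mul_comm, zpow_mul, zpow_natCast, pow_card_eq_one', one_zpow]
  have h2 : ((x.1, 1) : K × S) ∈ H := by
    rw [← h1]; exact H.zpow_mem hx _
  refine ⟨h2, ?_⟩
  have h3 : ((1, x.2) : K × S) = (x.1, 1)⁻¹ * x := by
    apply Prod.ext <;> simp
  rw [h3]
  exact H.mul_mem (H.inv_mem h2) hx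

/-- `NMax` passes to direct products with abelian groups of coprime order. -/
theorem nmax_prod {K S : Type*} [Group K] [CommGroup S] [Finite K] [Finite S]
    (hKS : (Nat.card K).Coprime (Nat.card S)) (hK : NMax K) : NMax (K × S) := by
  intro H hH
  have key : ∀ a : K, ∀ b : S, ((a, b) : K × S) ∈ H ↔
      (((a, 1) : K × S) ∈ H ∧ ((1, b) : K × S) ∈ H) := by
    intro a b
    constructor
    · intro h
      exact mem_components_of_coprime hKS H (a, b) h
    · rintro ⟨h1, h2⟩
      have := H.mul_mem h1 h2
      simpa using this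
  have hnorm : Subgroup.normalizer (H : Set (K × S)) =
      (Subgroup.normalizer ((H.comap (MonoidHom.inl K S) : Subgroup K) : Set K)).comap
        (MonoidHom.fst K S) := by
    ext ⟨k, s⟩
    rw [Subgroup.mem_comap, Subgroup.mem_normalizer_iff, Subgroup.mem_normalizer_iff]
    constructor
    · intro h a
      have := h (a, 1)
      simpa using this
    · intro h ⟨a, b⟩
      have e : ((k, s) : K × S) * (a, b) * (k, s)⁻¹ = (k * a * k⁻¹, b) := by
        apply Prod.ext
        · simp
        · simp
      rw [e, key a b, key (k * a * k⁻¹) b]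
      have := h a
      simp only [Subgroup.mem_comap, MonoidHom.inl_apply, MonoidHom.coe_fst] at this
      rw [this]
  have hnn : ¬ (H.comap (MonoidHom.inl K S)).Normal := by
    intro hn
    apply hH
    rw [← Subgroup.normalizer_eq_top_iff, hnorm, Subgroup.normalizer_eq_top_iff.mpr hn,
      Subgroup.comap_top]
  rw [hnorm]
  exact Subgroup.isCoatom_comap_of_surjective (Prod.fst_surjective) (hK _ hnn)

/-- The normalizer of a non-central subgroup of a self-centralizing torus `⟨t⟩` is the
normalizer of the torus. -/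
theorem normalizer_eq_of_le_torus {G : Type*} [Group G] (t w : G)
    (hC : ∀ g : G, g * t = t * g → g ∈ Subgroup.zpowers t)
    (hcent : ∀ x ∈ Subgroup.zpowers t, x ∉ Subgroup.center G →
      ∀ h : G, h * x = x * h → h ∈ Subgroup.zpowers t)
    (hconj : ∀ g : G, g * t * g⁻¹ ∈ Subgroup.zpowers t → g * t * g⁻¹ = t ∨ g * t * g⁻¹ = t⁻¹)
    (hw : w * t * w⁻¹ = t⁻¹)
    (A : Subgroup G) (hA : A ≤ Subgroup.zpowers t) (x : G) (hxA : x ∈ A)
    (hx : x ∉ Subgroup.center G) :
    Subgroup.normalizer (A : Set G) = Subgroup.normalizer (Subgroup.zpowers t : Set G) := by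
  have hN := torus_normalizer_mem t w hC hconj hw
  have hcomm : ∀ a ∈ Subgroup.zpowers t, ∀ b ∈ Subgroup.zpowers t, a * b = b * a := by
    intro a ha b hb
    obtain ⟨i, rfl⟩ := ha
    obtain ⟨j, rfl⟩ := hb
    exact (Commute.zpow_zpow_self t i j).eq
  apply le_antisymm
  · intro g hg
    have h1 : g * x * g⁻¹ ∈ A := (Subgroup.mem_normalizer_iff.mp hg x).mp hxA
    have h2 : g * x * g⁻¹ ∉ Subgroup.center G := by
      intro hc
      apply hx
      have h3 := (Subgroup.center G).mul_mem ((Subgroup.center G).mul_mem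
        (Subgroup.Normal.conj_mem inferInstance _ hc g⁻¹) (Subgroup.one_mem _)) (Subgroup.one_mem _)
      have e : g⁻¹ * (g * x * g⁻¹) * g⁻¹⁻¹ * 1 * 1 = x := by group
      rwa [e] at h3
    have h3 : g * t * g⁻¹ ∈ Subgroup.zpowers t := by
      apply hcent _ (hA h1) h2
      have h4 : t * x = x * t := hcomm t (Subgroup.mem_zpowers t) x (hA hxA)
      calc g * t * g⁻¹ * (g * x * g⁻¹) = g * (t * x) * g⁻¹ := by group
        _ = g * (x * t) * g⁻¹ := by rw [h4]
        _ = g * x * g⁻¹ * (g * t * g⁻¹) := by group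
    rw [hN]
    rcases hconj g h3 with h4 | h4
    · left
      apply hC
      calc g * t = (g * t * g⁻¹) * g := by group
        _ = t * g := by rw [h4]
    · right
      apply hC
      have h5 : w⁻¹ * t⁻¹ * w = t := by rw [← hw]; group
      calc w⁻¹ * g * t = w⁻¹ * (g * t * g⁻¹) * g := by group
        _ = w⁻¹ * t⁻¹ * g := by rw [h4]
        _ = (w⁻¹ * t⁻¹ * w) * (w⁻¹ * g) := by group
        _ = t * (w⁻¹ * g) := by rw [h5]
  · have hstep : ∀ g ∈ Subgroup.normalizer (Subgroup.zpowers t : Set G), ∀ a ∈ A,
        g * a * g⁻¹ ∈ A := by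
      intro g hg a ha
      rcases (hN g).mp hg with h | h
      · have h1 : g * a = a * g := hcomm g h a (hA ha)
        have e : g * a * g⁻¹ = a := by rw [h1]; group
        rw [e]; exact ha
      · have h1 : (w⁻¹ * g) * a = a * (w⁻¹ * g) := hcomm _ h a (hA ha)
        have h2 : w * a * w⁻¹ = a⁻¹ := conj_eq_inv_of_mem_zpowers t w hw a (hA ha)
        have e : g * a * g⁻¹ = w * ((w⁻¹ * g) * a * (w⁻¹ * g)⁻¹) * w⁻¹ := by group
        rw [e, h1]
        have e2 : w * (a * (w⁻¹ * g) * (w⁻¹ * g)⁻¹) * w⁻¹ = w * a * w⁻¹ := by group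
        rw [e2, h2]
        exact A.inv_mem ha
    intro g hg
    rw [Subgroup.mem_normalizer_iff]
    intro a
    constructor
    · exact hstep g hg a
    · intro ha
      have h1 := hstep g⁻¹ (Subgroup.inv_mem _ hg) _ ha
      have e : g⁻¹ * (g * a * g⁻¹) * g⁻¹⁻¹ = a := by group
      rwa [e] at h1

/-- A subgroup of index two (by cardinality) is normalized. -/
theorem le_normalizer_of_card_two {G : Type*} [Group G] [Finite G] (A H : Subgroup G)
    (hAH : A ≤ H) (hcard : 2 * Nat.card A = Nat.card H) :
    H ≤ Subgroup.normalizer (A : Set G) := by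
  have hidx : (A.subgroupOf H).index = 2 := by
    have h1 := Subgroup.card_mul_index (A.subgroupOf H)
    have h2 : Nat.card (A.subgroupOf H) = Nat.card A :=
      Nat.card_congr (Subgroup.subgroupOfEquivOfLe hAH).toEquiv
    rw [h2, ← hcard, mul_comm 2] at h1
    exact Nat.eq_of_mul_eq_mul_left Nat.card_pos h1
  have hn : (A.subgroupOf H).Normal := Subgroup.normal_of_index_eq_two hidx
  exact (Subgroup.normal_subgroupOf_iff_le_normalizer hAH).mp hn

end NMaxGen

end Cfsg.Agent.Lib.helper46
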