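import Mathlib
import Cfsg.Agent.Lib.helper46.SL2Order4
import Cfsg.Agent.Lib.helper46.Sylow2Torus
import Cfsg.Agent.Lib.helper46.DicksonSum
import Cfsg.Agent.Lib.helper46.KleinCount

/-!
# Klein four-subgroups of `PSL₂(q)`, `q` odd (helper46)

Twelve times the number of Klein four-subgroups of `PSL₂(q)` is `|PSL₂(q)|`.
The count goes through the pairs `(A, B)` of elements of `SL₂(q)` with `tr A = 0` and
`B A B⁻¹ = A⁻¹`, which are in bijection with `SL₂(q)`.
-/

set_option autoImplicit false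
set_option linter.unusedSectionVars false

namespace Cfsg.Agent.Lib.helper46

open Matrix

section PairsLift

/-- Lifting pairs through a quotient map multiplies their number by `|Z|²`. -/
theorem card_pairs_lift {G : Type*} [Group G] (Z : Subgroup G)
    (C : (G ⧸ Z) × (G ⧸ Z) → Prop) :
    Nat.card {x : G × G // C ((x.1 : G ⧸ Z), (x.2 : G ⧸ Z))} =
      Nat.card {w : (G ⧸ Z) × (G ⧸ Z) // C w} * (Nat.card Z * Nat.card Z) := by
  let e : G ≃ (G ⧸ Z) × Z := Subgroup.groupEquivQuotientProdSubgroup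
  have he : ∀ g, (e g).1 = (g : G ⧸ Z) := fun g => rfl
  have e1 : {x : G × G // C ((x.1 : G ⧸ Z), (x.2 : G ⧸ Z))} ≃
      {y : ((G ⧸ Z) × Z) × ((G ⧸ Z) × Z) // C (y.1.1, y.2.1)} :=
    Equiv.subtypeEquiv (e.prodCongr e) (fun x => by simp [he])
  have e2 : {y : ((G ⧸ Z) × Z) × ((G ⧸ Z) × Z) // C (y.1.1, y.2.1)} ≃
      {w : (G ⧸ Z) × (G ⧸ Z) // C w} × (Z × Z) :=
    { toFun := fun y => (⟨(y.1.1.1, y.1.2.1), y.2⟩, (y.1.1.2, y.1.2.2))
      invFun := fun w => ⟨((w.1.1.1, w.2.1), (w.1.1.2, w.2.2)), w.1.2⟩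
      left_inv := fun _ => rfl
      right_inv := fun _ => rfl }
  rw [Nat.card_congr (e1.trans e2), Nat.card_prod, Nat.card_prod]

end PairsLift

section SL2Klein

variable {F : Type*} [Field F]

theorem mk_eq_one_iff_pm (X : Matrix.SpecialLinearGroup (Fin 2) F) :
    (QuotientGroup.mk X : Matrix.ProjectiveSpecialLinearGroup (Fin 2) F) = 1 ↔
      X = 1 ∨ X = -1 := by
  rw [QuotientGroup.eq_one_iff, mem_center_iff_smul]
  constructor
  · rintro ⟨c, hc, hX⟩
    have hc' : (c - 1) * (c + 1) = 0 := by linear_combination hc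
    rcases mul_eq_zero.mp hc' with h | h
    · left
      apply Subtype.ext
      rw [hX, sub_eq_zero.mp h, one_smul]
      rfl
    · right
      apply Subtype.ext
      rw [hX, eq_neg_of_add_eq_zero_left h, Matrix.SpecialLinearGroup.coe_neg,
        Matrix.SpecialLinearGroup.coe_one, neg_smul, one_smul]
  · rintro (rfl | rfl)
    · exact ⟨1, by ring, by simp⟩
    · exact ⟨-1, by ring, by simp⟩

theorem mk_eq_mk_iff_pm (X Y : Matrix.SpecialLinearGroup (Fin 2) F) :
    (QuotientGroup.mk X : Matrix.ProjectiveSpecialLinearGroup (Fin 2) F) = QuotientGroup.mk Y ↔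
      Y = X ∨ Y = -X := by
  rw [QuotientGroup.eq, ← QuotientGroup.eq_one_iff, mk_eq_one_iff_pm]
  constructor
  · rintro (h | h)
    · left
      have : Y = X * (X⁻¹ * Y) := by group
      rw [this, h, mul_one]
    · right
      have : Y = X * (X⁻¹ * Y) := by group
      rw [this, h, mul_neg, mul_one]
  · rintro (rfl | rfl)
    · left
      group
    · right
      rw [mul_neg, inv_mul_cancel]

theorem sl_sq_of_trace_zero (A : Matrix.SpecialLinearGroup (Fin 2) F)
    (htr : A.1 0 0 + A.1 1 1 = 0) : A * A = -1 := by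
  apply Subtype.ext
  rw [Matrix.SpecialLinearGroup.coe_mul, cayley_two A.1 A.det_coe, htr, zero_smul, zero_sub,
    Matrix.SpecialLinearGroup.coe_neg, Matrix.SpecialLinearGroup.coe_one]

theorem sl_trace_zero_of_sq (A : Matrix.SpecialLinearGroup (Fin 2) F) (h : A * A = -1) :
    A.1 0 0 + A.1 1 1 = 0 := by
  apply trace_zero_of_sq A.1 A.det_coe
  have := congrArg (fun m : Matrix.SpecialLinearGroup (Fin 2) F => m.1) h
  simpa using this

theorem sl_neg_one_ne_one (h2 : (2 : F) ≠ 0) : (-1 : Matrix.SpecialLinearGroup (Fin 2) F) ≠ 1 := by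
  intro h
  have := congrArg (fun m : Matrix.SpecialLinearGroup (Fin 2) F => m.1 0 0) h
  simp only [Matrix.SpecialLinearGroup.coe_neg, Matrix.SpecialLinearGroup.coe_one,
    Matrix.neg_apply, Matrix.one_apply_eq] at this
  apply h2
  linear_combination (-1 : F) * this

theorem sl_inv_eq_neg_of_sq (A : Matrix.SpecialLinearGroup (Fin 2) F) (h : A * A = -1) :
    A⁻¹ = -A := by
  apply inv_eq_of_mul_eq_one_right
  rw [mul_neg, h, neg_neg]

theorem sl_sq_eq_one_cases (h2 : (2 : F) ≠ 0) (A : Matrix.SpecialLinearGroup (Fin 2) F)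
    (h : A * A = 1) : A = 1 ∨ A = -1 := by
  have h' : A.1 * A.1 = 1 := by
    have := congrArg (fun m : Matrix.SpecialLinearGroup (Fin 2) F => m.1) h
    simpa using this
  rcases sq_eq_one_cases h2 A.1 A.det_coe h' with h1 | h1
  · left
    exact Subtype.ext h1
  · right
    apply Subtype.ext
    rw [h1, Matrix.SpecialLinearGroup.coe_neg, Matrix.SpecialLinearGroup.coe_one]

theorem sl_trace_one (h2 : (2 : F) ≠ 0) :
    (1 : Matrix.SpecialLinearGroup (Fin 2) F).1 0 0 +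
      (1 : Matrix.SpecialLinearGroup (Fin 2) F).1 1 1 ≠ 0 := by
  simp only [Matrix.SpecialLinearGroup.coe_one, Matrix.one_apply_eq]
  intro h
  apply h2
  linear_combination h

theorem sl_trace_neg_one (h2 : (2 : F) ≠ 0) :
    (-1 : Matrix.SpecialLinearGroup (Fin 2) F).1 0 0 +
      (-1 : Matrix.SpecialLinearGroup (Fin 2) F).1 1 1 ≠ 0 := by
  simp only [Matrix.SpecialLinearGroup.coe_neg, Matrix.SpecialLinearGroup.coe_one,
    Matrix.neg_apply, Matrix.one_apply_eq]
  intro h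
  apply h2
  linear_combination (-1 : F) * h

variable [DecidableEq F]

/-- Pairs of distinct commuting involutions of `PSL₂` lift exactly to the pairs `(A, B)` of
`SL₂` with `tr A = 0` and `B A B⁻¹ = A⁻¹`. -/
theorem kleinPairCond_mk_iff (h2 : (2 : F) ≠ 0) (A B : Matrix.SpecialLinearGroup (Fin 2) F) :
    kleinPairCond (QuotientGroup.mk A : Matrix.ProjectiveSpecialLinearGroup (Fin 2) F)
      (QuotientGroup.mk B) ↔ (A.1 0 0 + A.1 1 1 = 0 ∧ B * A * B⁻¹ = A⁻¹) := by
  constructor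
  · rintro ⟨ha, hb, ha1, hb1, hne, hab⟩
    rw [← QuotientGroup.mk_mul, mk_eq_one_iff_pm] at ha hb
    rw [← QuotientGroup.mk_mul, ← QuotientGroup.mk_mul, mk_eq_mk_iff_pm] at hab
    have hA : A * A = -1 := by
      rcases ha with h | h
      · exfalso
        exact ha1 ((mk_eq_one_iff_pm A).mpr (sl_sq_eq_one_cases h2 A h))
      · exact h
    have hB : B * B = -1 := by
      rcases hb with h | h
      · exfalso
        exact hb1 ((mk_eq_one_iff_pm B).mpr (sl_sq_eq_one_cases h2 B h))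
      · exact h
    refine ⟨sl_trace_zero_of_sq A hA, ?_⟩
    rw [sl_inv_eq_neg_of_sq A hA]
    rcases hab with h | h
    · exfalso
      have h1 : (A * B) * (A * B) = 1 := by
        have e : (A * B) * (A * B) = A * (B * A) * B := by group
        rw [e, h]
        have e' : A * (A * B) * B = (A * A) * (B * B) := by group
        rw [e', hA, hB, neg_mul_neg, one_mul]
      rcases sl_sq_eq_one_cases h2 _ h1 with h3 | h3
      · apply hne
        rw [mk_eq_mk_iff_pm]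
        right
        rw [← sl_inv_eq_neg_of_sq A hA]
        exact (inv_eq_of_mul_eq_one_right h3).symm
      · apply hne
        rw [mk_eq_mk_iff_pm]
        left
        have e : B = A⁻¹ * (A * B) := by group
        rw [e, h3, sl_inv_eq_neg_of_sq A hA, neg_mul_neg, mul_one]
    · rw [h, neg_mul, mul_inv_cancel_right]
  · rintro ⟨htr, h⟩
    have hA := sl_sq_of_trace_zero A htr
    have hAinv := sl_inv_eq_neg_of_sq A hA
    have hBA : B * A = -(A * B) := by
      rw [mul_inv_eq_iff_eq_mul] at h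
      rw [h, hAinv, neg_mul]
    have htrB : B.1 0 0 + B.1 1 1 = 0 := by
      have h1 := dk_trace_conj A⁻¹ B
      have h3 : A⁻¹ * B * A⁻¹⁻¹ = -B := by
        rw [inv_inv, mul_assoc, hBA, mul_neg, inv_mul_cancel_left]
      rw [h3] at h1
      simp only [Matrix.SpecialLinearGroup.coe_neg, Matrix.neg_apply] at h1
      have h4 : (2 : F) * (B.1 0 0 + B.1 1 1) = 0 := by linear_combination (-1 : F) * h1
      rcases mul_eq_zero.mp h4 with h5 | h5
      · exact absurd h5 h2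
      · exact h5
    have hB := sl_sq_of_trace_zero B htrB
    refine ⟨?_, ?_, ?_, ?_, ?_, ?_⟩
    · rw [← QuotientGroup.mk_mul, mk_eq_one_iff_pm]
      exact Or.inr hA
    · rw [← QuotientGroup.mk_mul, mk_eq_one_iff_pm]
      exact Or.inr hB
    · rw [Ne, mk_eq_one_iff_pm]
      rintro (h1 | h1)
      · rw [h1] at htr
        exact sl_trace_one h2 htr
      · rw [h1] at htr
        exact sl_trace_neg_one h2 htr
    · rw [Ne, mk_eq_one_iff_pm]
      rintro (h1 | h1)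
      · rw [h1] at htrB
        exact sl_trace_one h2 htrB
      · rw [h1] at htrB
        exact sl_trace_neg_one h2 htrB
    · rw [Ne, mk_eq_mk_iff_pm]
      rintro (h1 | h1)
      · rw [h1, hA, neg_neg] at hBA
        exact sl_neg_one_ne_one h2 hBA
      · rw [h1, neg_mul, mul_neg, neg_neg, hA, neg_neg] at hBA
        exact sl_neg_one_ne_one h2 hBA.symm
    · rw [← QuotientGroup.mk_mul, ← QuotientGroup.mk_mul, mk_eq_mk_iff_pm]
      exact Or.inr hBA

variable [Fintype F]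

/-- The pairs `(A, B)` with `tr A = 0`, `B A B⁻¹ = A⁻¹` are in bijection with `SL₂(F)`. -/
theorem card_inverting_pairs (hodd : Odd (Fintype.card F)) :
    Nat.card {x : Matrix.SpecialLinearGroup (Fin 2) F × Matrix.SpecialLinearGroup (Fin 2) F //
      x.1.1 0 0 + x.1.1 1 1 = 0 ∧ x.2 * x.1 * x.2⁻¹ = x.1⁻¹} =
    Nat.card (Matrix.SpecialLinearGroup (Fin 2) F) := by
  obtain ⟨A₀, hA₀⟩ : ∃ A₀ : Matrix.SpecialLinearGroup (Fin 2) F, A₀.1 0 0 + A₀.1 1 1 = 0 :=
    ⟨mkSL 0 1 (-1) 0 (by ring), by simp [mkSL_coe]⟩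
  have hg : ∀ A : Matrix.SpecialLinearGroup (Fin 2) F, ∃ g : Matrix.SpecialLinearGroup (Fin 2) F,
      A.1 0 0 + A.1 1 1 = 0 → g * A₀ * g⁻¹ = A := by
    intro A
    by_cases h : A.1 0 0 + A.1 1 1 = 0
    · obtain ⟨g, hg⟩ := conj_of_trace_zero hodd A₀ A hA₀ h
      exact ⟨g, fun _ => hg⟩
    · exact ⟨1, fun h' => absurd h' h⟩
  have hB : ∀ A : Matrix.SpecialLinearGroup (Fin 2) F, ∃ B : Matrix.SpecialLinearGroup (Fin 2) F,
      A.1 0 0 + A.1 1 1 = 0 → B * A * B⁻¹ = A⁻¹ := by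
    intro A
    by_cases h : A.1 0 0 + A.1 1 1 = 0
    · have h' : (A⁻¹).1 0 0 + (A⁻¹).1 1 1 = 0 := by
        rw [Matrix.SpecialLinearGroup.coe_inv, Matrix.adjugate_fin_two]
        simp only [Matrix.of_apply, Matrix.cons_val', Matrix.cons_val_zero, Matrix.cons_val_one,
          Matrix.cons_val_fin_one]
        linear_combination h
      obtain ⟨g, hg⟩ := conj_of_trace_zero hodd A A⁻¹ h h'
      exact ⟨g, fun _ => hg⟩
    · exact ⟨1, fun h' => absurd h' h⟩
  choose g_ hg_ using hg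
  choose B_ hB_ using hB
  apply Nat.card_congr
  refine
    { toFun := fun x => (B_ x.1.1)⁻¹ * x.1.2 * g_ x.1.1
      invFun := fun g => ⟨(g * A₀ * g⁻¹, B_ (g * A₀ * g⁻¹) * g * (g_ (g * A₀ * g⁻¹))⁻¹), ?_, ?_⟩
      left_inv := ?_
      right_inv := ?_ }
  · show (g * A₀ * g⁻¹).1 0 0 + (g * A₀ * g⁻¹).1 1 1 = 0
    rw [dk_trace_conj, hA₀]
  · have htr : (g * A₀ * g⁻¹).1 0 0 + (g * A₀ * g⁻¹).1 1 1 = 0 := by rw [dk_trace_conj, hA₀]
    show B_ (g * A₀ * g⁻¹) * g * (g_ (g * A₀ * g⁻¹))⁻¹ * (g * A₀ * g⁻¹) *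
      (B_ (g * A₀ * g⁻¹) * g * (g_ (g * A₀ * g⁻¹))⁻¹)⁻¹ = (g * A₀ * g⁻¹)⁻¹
    have h1 := hg_ _ htr
    have h2 := hB_ _ htr
    have h3 : (g_ (g * A₀ * g⁻¹))⁻¹ * (g * A₀ * g⁻¹) * g_ (g * A₀ * g⁻¹) = A₀ := by
      nth_rewrite 2 [← h1]
      group
    have e : B_ (g * A₀ * g⁻¹) * g * (g_ (g * A₀ * g⁻¹))⁻¹ * (g * A₀ * g⁻¹) *
        (B_ (g * A₀ * g⁻¹) * g * (g_ (g * A₀ * g⁻¹))⁻¹)⁻¹ =
        B_ (g * A₀ * g⁻¹) * (g * ((g_ (g * A₀ * g⁻¹))⁻¹ * (g * A₀ * g⁻¹) * g_ (g * A₀ * g⁻¹)) * g⁻¹)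
          * (B_ (g * A₀ * g⁻¹))⁻¹ := by group
    rw [e, h3, h2]
  · rintro ⟨⟨A, B⟩, htr, h⟩
    have h1 := hg_ A htr
    have h2 := hB_ A htr
    have e1 : (B_ A)⁻¹ * B * g_ A * A₀ * ((B_ A)⁻¹ * B * g_ A)⁻¹ = A := by
      have e : (B_ A)⁻¹ * B * g_ A * A₀ * ((B_ A)⁻¹ * B * g_ A)⁻¹ =
          (B_ A)⁻¹ * (B * (g_ A * A₀ * (g_ A)⁻¹) * B⁻¹) * B_ A := by group
      rw [e, h1, h, ← h2]
      group
    apply Subtype.ext
    apply Prod.ext
    · exact e1
    · show B_ ((B_ A)⁻¹ * B * g_ A * A₀ * ((B_ A)⁻¹ * B * g_ A)⁻¹) * ((B_ A)⁻¹ * B * g_ A) *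
        (g_ ((B_ A)⁻¹ * B * g_ A * A₀ * ((B_ A)⁻¹ * B * g_ A)⁻¹))⁻¹ = B
      rw [e1]
      group
  · intro g
    show (B_ (g * A₀ * g⁻¹))⁻¹ * (B_ (g * A₀ * g⁻¹) * g * (g_ (g * A₀ * g⁻¹))⁻¹) *
      g_ (g * A₀ * g⁻¹) = g
    group

theorem card_center_SL2 (h2 : (2 : F) ≠ 0) :
    Nat.card (Subgroup.center (Matrix.SpecialLinearGroup (Fin 2) F)) = 2 := by
  have hset : ((Subgroup.center (Matrix.SpecialLinearGroup (Fin 2) F) : Subgroup _) :
      Set (Matrix.SpecialLinearGroup (Fin 2) F)) = {1, -1} := by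
    ext X
    rw [SetLike.mem_coe, ← QuotientGroup.eq_one_iff, mk_eq_one_iff_pm]
    simp
  rw [← SetLike.coe_sort_coe, Nat.card_coe_set_eq, hset]
  exact Set.ncard_pair (sl_neg_one_ne_one h2).symm

/-- **Twelve times the number of Klein four-subgroups of `PSL₂(q)`, `q` odd, is `|PSL₂(q)|`.** -/
theorem card_klein_four_PSL2 (hodd : Odd (Fintype.card F)) :
    12 * Nat.card {V : Subgroup (Matrix.ProjectiveSpecialLinearGroup (Fin 2) F) // IsKleinFour V} =
      Nat.card (Matrix.ProjectiveSpecialLinearGroup (Fin 2) F) := by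
  have h2 : (2 : F) ≠ 0 := two_ne_zero_of_odd_card hodd
  have e1 := card_inverting_pairs (F := F) hodd
  have e2 : Nat.card {x : Matrix.SpecialLinearGroup (Fin 2) F × Matrix.SpecialLinearGroup (Fin 2) F //
      x.1.1 0 0 + x.1.1 1 1 = 0 ∧ x.2 * x.1 * x.2⁻¹ = x.1⁻¹} =
      Nat.card {x : Matrix.SpecialLinearGroup (Fin 2) F × Matrix.SpecialLinearGroup (Fin 2) F //
        kleinPairCond (QuotientGroup.mk x.1 : Matrix.ProjectiveSpecialLinearGroup (Fin 2) F)
          (QuotientGroup.mk x.2)} :=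
    Nat.card_congr (Equiv.subtypeEquivRight (fun x => (kleinPairCond_mk_iff h2 x.1 x.2).symm))
  have e3 := card_pairs_lift (Subgroup.center (Matrix.SpecialLinearGroup (Fin 2) F))
    (fun w => kleinPairCond w.1 w.2)
  have e4 := card_kleinPairs (G := Matrix.ProjectiveSpecialLinearGroup (Fin 2) F)
  have e5 := Subgroup.card_eq_card_quotient_mul_card_subgroup
    (Subgroup.center (Matrix.SpecialLinearGroup (Fin 2) F))
  rw [card_center_SL2 h2] at e3 e5
  have e6 : Nat.card {x : Matrix.SpecialLinearGroup (Fin 2) F × Matrix.SpecialLinearGroup (Fin 2) F //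
        kleinPairCond (QuotientGroup.mk x.1 : Matrix.ProjectiveSpecialLinearGroup (Fin 2) F)
          (QuotientGroup.mk x.2)} =
      Nat.card {w : Matrix.ProjectiveSpecialLinearGroup (Fin 2) F ×
        Matrix.ProjectiveSpecialLinearGroup (Fin 2) F // kleinPairCond w.1 w.2} * (2 * 2) := e3
  have e7 : Nat.card (Matrix.SpecialLinearGroup (Fin 2) F) =
      Nat.card (Matrix.ProjectiveSpecialLinearGroup (Fin 2) F) * 2 := e5
  omega

end SL2Klein

end Cfsg.Agent.Lib.helper46
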