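import Mathlib
import Cfsg.Agent.Lib.helper46.SolubilizerCount
import Cfsg.Agent.Lib.helper46.InvGraphOdd

/-!
# Pairs generating solvable subgroups of `PSL₂(3ⁿ)`: structure (helper46)

Generic lemmas (the `(2,3,3)` relations give a solvable group, transfer of solubilizer counts
along `SL₂ → PSL₂`), and the structure of the proper subgroups of `SL₂(q)` containing `-1` in the
minimal simple case `q = 3^p`.
-/

set_option autoImplicit false

namespace Cfsg.Agent.Lib.helper46

open Cfsg.Agent.Lib.helper98

local notation "dSL" => Cfsg.Agent.Lib.helper98.diagSL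
local notation "mSL" => Cfsg.Agent.Lib.helper98.mkSL

section Generic233

variable {G : Type*} [Group G]

/-- `⟨a, b⟩` is solvable when it normalizes an abelian subgroup containing `a`. -/
theorem solvable_closure_of_abelian_normal (a b : G) (N : Subgroup G)
    (hcomm : ∀ u ∈ N, ∀ v ∈ N, u * v = v * u) (haN : a ∈ N)
    (hnorm : Subgroup.closure ({a, b} : Set G) ≤ Subgroup.normalizer (N : Set G)) :
    Group.IsSolvable (Subgroup.closure ({a, b} : Set G)) := by
  have hN : (N.subgroupOf (Subgroup.closure ({a, b} : Set G))).Normal :=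
    Subgroup.normal_subgroupOf_of_le_normalizer hnorm
  refine solvable_of_normal_comm (N.subgroupOf (Subgroup.closure ({a, b} : Set G))) ?_ ?_
  · intro x hx y hy
    rw [Subgroup.mem_subgroupOf] at hx hy
    exact Subtype.ext (hcomm _ hx _ hy)
  · have hbm : b ∈ Subgroup.closure ({a, b} : Set G) := Subgroup.subset_closure (by simp)
    have key : ∀ x (hx : x ∈ Subgroup.closure ({a, b} : Set G)),
        (QuotientGroup.mk' (N.subgroupOf (Subgroup.closure ({a, b} : Set G))) ⟨x, hx⟩) ∈
          Subgroup.zpowers (QuotientGroup.mk'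
            (N.subgroupOf (Subgroup.closure ({a, b} : Set G))) ⟨b, hbm⟩) := by
      intro x hx
      induction hx using Subgroup.closure_induction with
      | mem x hx =>
        rcases hx with rfl | hx
        · have : (QuotientGroup.mk' (N.subgroupOf
              (Subgroup.closure ({x, b} : Set G))) ⟨x, Subgroup.subset_closure (by simp)⟩) = 1 := by
            rw [QuotientGroup.mk'_apply, QuotientGroup.eq_one_iff, Subgroup.mem_subgroupOf]
            exact haN
          rw [this]
          exact Subgroup.one_mem _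
        · rw [Set.mem_singleton_iff] at hx
          subst hx
          exact Subgroup.mem_zpowers _
      | one => exact Subgroup.one_mem _
      | mul x y hx hy ihx ihy => exact Subgroup.mul_mem _ ihx ihy
      | inv x hx ih => exact Subgroup.inv_mem _ ih
    intro p q
    obtain ⟨x, rfl⟩ := QuotientGroup.mk'_surjective _ p
    obtain ⟨y, rfl⟩ := QuotientGroup.mk'_surjective _ q
    obtain ⟨k, hk⟩ := key x.1 x.2
    obtain ⟨l, hl⟩ := key y.1 y.2
    have hk' : QuotientGroup.mk' (N.subgroupOf
        (Subgroup.closure ({a, b} : Set G))) x = _ := hk.symm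
    have hl' : QuotientGroup.mk' (N.subgroupOf
        (Subgroup.closure ({a, b} : Set G))) y = _ := hl.symm
    rw [hk', hl']
    simp only [← zpow_add]
    rw [add_comm]

/-- The relations `x² = y³ = (xy)³ = 1` force `⟨x, y⟩` to be solvable (a quotient of `A₄`). -/
theorem solvable_closure_233 (x y : G) (hx : x * x = 1) (hy : y * y * y = 1)
    (hxy : x * y * (x * y) * (x * y) = 1) :
    Group.IsSolvable (Subgroup.closure ({x, y} : Set G)) := by
  have hxinv : x⁻¹ = x := inv_eq_of_mul_eq_one_right hx
  have hyy : y * y = y⁻¹ := eq_inv_of_mul_eq_one_left hy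
  have hyiyi : y⁻¹ * y⁻¹ = y := by
    rw [← hyy]
    calc y * y * (y * y) = y * y * y * y := by group
      _ = y := by rw [hy, one_mul]
  have h1 : x * y * x = y⁻¹ * x * y⁻¹ := by
    have e : x * y * x * (y * x * y) = 1 := by rw [← hxy]; group
    have e2 := mul_eq_one_iff_eq_inv.mp e
    rw [e2, mul_inv_rev, mul_inv_rev, hxinv, mul_assoc]
  have h1' : x * y⁻¹ * x = y * x * y := by
    have e := congrArg (fun g => g⁻¹) h1
    simp only [mul_inv_rev, inv_inv, hxinv] at e
    rw [← mul_assoc, ← mul_assoc] at e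
    exact e
  have h2 : x * (y * x * y⁻¹) = y⁻¹ * x * y := by
    calc x * (y * x * y⁻¹) = (x * y * x) * y⁻¹ := by group
      _ = y⁻¹ * x * (y⁻¹ * y⁻¹) := by rw [h1]; group
      _ = y⁻¹ * x * y := by rw [hyiyi]
  have h3 : (y * x * y⁻¹) * x = y⁻¹ * x * y := by
    calc (y * x * y⁻¹) * x = y * (x * y⁻¹ * x) := by group
      _ = (y * y) * x * y := by rw [h1']; group
      _ = y⁻¹ * x * y := by rw [hyy]
  obtain ⟨N, hNdef⟩ : ∃ N : Subgroup G, N = Subgroup.closure ({x, y * x * y⁻¹} : Set G) :=
    ⟨_, rfl⟩
  have hxN : x ∈ N := by rw [hNdef]; exact Subgroup.subset_closure (by simp)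
  have hbN : y * x * y⁻¹ ∈ N := by rw [hNdef]; exact Subgroup.subset_closure (by simp)
  have hcommN : ∀ u ∈ N, ∀ v ∈ N, u * v = v * u := by
    have hc : ∀ u ∈ ({x, y * x * y⁻¹} : Set G), ∀ v ∈ ({x, y * x * y⁻¹} : Set G),
        u * v = v * u := by
      intro u hu v hv
      rcases hu with rfl | hu <;> rcases hv with rfl | hv
      · rfl
      · rw [Set.mem_singleton_iff] at hv; subst hv; rw [h2, h3]
      · rw [Set.mem_singleton_iff] at hu; subst hu; rw [h2, h3]
      · rw [Set.mem_singleton_iff] at hu hv; subst hu; subst hv; rfl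
    have hc' := isMulCommutative_iff.mp (Subgroup.isMulCommutative_closure hc)
    intro u hu v hv
    rw [hNdef] at hu hv
    exact congrArg Subtype.val (hc' ⟨u, hu⟩ ⟨v, hv⟩)
  have hcy : ∀ n ∈ N, y * n * y⁻¹ ∈ N := by
    intro n hn
    rw [hNdef] at hn
    induction hn using Subgroup.closure_induction with
    | mem n hn =>
      rcases hn with rfl | hn
      · exact hbN
      · rw [Set.mem_singleton_iff] at hn
        subst hn
        have e : y * (y * x * y⁻¹) * y⁻¹ = x * (y * x * y⁻¹) := by
          rw [h2]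
          calc y * (y * x * y⁻¹) * y⁻¹ = (y * y) * x * (y⁻¹ * y⁻¹) := by group
            _ = y⁻¹ * x * y := by rw [hyy, hyiyi]
        rw [e]
        exact N.mul_mem hxN hbN
    | one =>
      have e : y * 1 * y⁻¹ = 1 := by group
      rw [e]; exact N.one_mem
    | mul a b _ _ iha ihb =>
      have e : y * (a * b) * y⁻¹ = (y * a * y⁻¹) * (y * b * y⁻¹) := by group
      rw [e]; exact N.mul_mem iha ihb
    | inv a _ iha =>
      have e : y * a⁻¹ * y⁻¹ = (y * a * y⁻¹)⁻¹ := by group
      rw [e]; exact N.inv_mem iha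
  have hnorm : Subgroup.closure ({x, y} : Set G) ≤ Subgroup.normalizer (N : Set G) := by
    rw [Subgroup.closure_le]
    intro g hg
    rcases hg with rfl | hg
    · exact Subgroup.le_normalizer hxN
    · rw [Set.mem_singleton_iff] at hg
      subst hg
      rw [SetLike.mem_coe, Subgroup.mem_normalizer_iff]
      intro n
      constructor
      · exact hcy n
      · intro hn
        have e : n = g * (g * (g * n * g⁻¹) * g⁻¹) * g⁻¹ := by
          calc n = (g * g * g) * n * (g * g * g)⁻¹ := by rw [hy]; group
            _ = _ := by group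
        rw [e]
        exact hcy _ (hcy _ hn)
  exact solvable_closure_of_abelian_normal x y N hcommN hxN hnorm

end Generic233

section Transfer

variable {F : Type*} [Field F]

local notation "SL" => Matrix.SpecialLinearGroup (Fin 2) F
local notation "PSL" => Matrix.ProjectiveSpecialLinearGroup (Fin 2) F
local notation "π" => QuotientGroup.mk' (Subgroup.center (Matrix.SpecialLinearGroup (Fin 2) F))

/-- Solvability passes from `⟨g, h⟩ ≤ SL₂` to the image in `PSL₂`. -/
theorem sol_mk_of_sol (g h : SL)
    (hs : Group.IsSolvable (Subgroup.closure ({g, h} : Set SL))) :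
    Group.IsSolvable (Subgroup.closure ({π g, π h} : Set PSL)) := by
  have hmap : Subgroup.closure ({π g, π h} : Set PSL) =
      (Subgroup.closure ({g, h} : Set SL)).map π := by
    rw [MonoidHom.map_closure, Set.image_pair]
  rw [hmap]
  exact Group.isSolvable_of_surjective (f := (π).subgroupMap _)
    (MonoidHom.subgroupMap_surjective _ _)

/-- Counting along the two-to-one map `SL₂ → PSL₂`. -/
theorem card_fiber_mk (h2 : (2 : F) ≠ 0) (Q : PSL → Prop) :
    Nat.card {h : SL // Q (π h)} = 2 * Nat.card {y : PSL // Q y} := by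
  have hout : ∀ y : PSL, π (Quotient.out y) = y := fun y => QuotientGroup.out_eq' y
  have hker : ∀ z : Subgroup.center SL, π z.1 = 1 := fun z =>
    (QuotientGroup.eq_one_iff _).mpr z.2
  have hmul : ∀ (y : PSL) (z : Subgroup.center SL), π (Quotient.out y * z.1) = y := by
    intro y z
    rw [map_mul, hout, hker, mul_one]
  have e : {h : SL // Q (π h)} ≃ {y : PSL // Q y} × (Subgroup.center SL) :=
    { toFun := fun h => (⟨π h.1, h.2⟩, ⟨(Quotient.out (π h.1))⁻¹ * h.1, by
          apply (QuotientGroup.eq_one_iff _).mp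
          have : π ((Quotient.out (π h.1))⁻¹ * h.1) = 1 := by
            rw [map_mul, map_inv, hout, inv_mul_cancel]
          exact this⟩)
      invFun := fun p => ⟨Quotient.out p.1.1 * p.2.1, by
          rw [hmul]; exact p.1.2⟩
      left_inv := fun h => by
        apply Subtype.ext
        show Quotient.out (π h.1) * ((Quotient.out (π h.1))⁻¹ * h.1) = h.1
        rw [mul_inv_cancel_left]
      right_inv := fun p => by
        apply Prod.ext
        · apply Subtype.ext
          exact hmul p.1.1 p.2
        · apply Subtype.ext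
          show (Quotient.out (π (Quotient.out p.1.1 * p.2.1)))⁻¹ * (Quotient.out p.1.1 * p.2.1)
            = p.2.1
          rw [hmul, inv_mul_cancel_left] }
  rw [Nat.card_congr e, Nat.card_prod, Cfsg.Agent.Lib.helper7.card_center_SL2 h2, mul_comm]

/-- The image of an element of trace zero is an involution or trivial. -/
theorem mk_sq_of_trace_zero (g : SL) (ht : g 0 0 + g 1 1 = 0) : π g * π g = 1 := by
  rw [← map_mul, sq_of_trace_zero g ht]
  exact mk_negOne

/-- Cube of a determinant-one matrix. -/
theorem cube_formula (M : Matrix (Fin 2) (Fin 2) F) (hdet : M.det = 1) :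
    M * M * M = ((M 0 0 + M 1 1) * (M 0 0 + M 1 1) - 1) • M
      - (M 0 0 + M 1 1) • (1 : Matrix (Fin 2) (Fin 2) F) := by
  have hCH := cayley_two M hdet
  rw [hCH, sub_mul, smul_mul_assoc, hCH, one_mul, smul_sub, smul_smul, sub_smul, one_smul]
  abel

theorem cube_of_trace_neg_one (g : SL) (ht : g 0 0 + g 1 1 = -1) : g * g * g = 1 := by
  apply Subtype.ext
  have h1 := cube_formula (g : Matrix (Fin 2) (Fin 2) F) g.det_coe
  rw [ht] at h1
  rw [Matrix.SpecialLinearGroup.coe_mul, Matrix.SpecialLinearGroup.coe_mul, h1]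
  simp

/-- The image of an element whose trace squares to `1` has order dividing `3`. -/
theorem mk_cube_of_trace_sq (g : SL) (hs : (g 0 0 + g 1 1) * (g 0 0 + g 1 1) = 1) :
    π g * π g * π g = 1 := by
  have hfac : (g 0 0 + g 1 1 - 1) * (g 0 0 + g 1 1 + 1) = 0 := by linear_combination hs
  rw [← map_mul, ← map_mul]
  rcases mul_eq_zero.mp hfac with h | h
  · rw [cube_of_trace_one g (by linear_combination h)]
    exact mk_negOne
  · rw [cube_of_trace_neg_one g (by linear_combination h), map_one]

theorem trace_sq_formula (M : Matrix (Fin 2) (Fin 2) F) (hdet : M.det = 1) :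
    (M * M) 0 0 + (M * M) 1 1 = (M 0 0 + M 1 1) * (M 0 0 + M 1 1) - 2 := by
  rw [cayley_two M hdet]
  simp
  ring

/-- In characteristic `3`, a determinant-one matrix with `M³ = 1` has trace `-1`. -/
theorem trace_of_cube_eq_one (h3 : (3 : F) = 0) (M : Matrix (Fin 2) (Fin 2) F)
    (hdet : M.det = 1) (hM : M * M * M = 1) : M 0 0 + M 1 1 = -1 := by
  have hf := cube_formula M hdet
  rw [hM] at hf
  have e00 := congrFun (congrFun hf 0) 0
  have e01 := congrFun (congrFun hf 0) 1
  have e10 := congrFun (congrFun hf 1) 0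
  have e11 := congrFun (congrFun hf 1) 1
  simp at e00 e01 e10 e11
  rw [Matrix.det_fin_two] at hdet
  by_cases hs : (M 0 0 + M 1 1) * (M 0 0 + M 1 1) - 1 = 0
  · rw [hs] at e00
    linear_combination e00
  · exfalso
    have hb : M 0 1 = 0 := by
      rcases e01 with h | h
      · exact absurd h hs
      · exact h
    have hc : M 1 0 = 0 := by
      rcases e10 with h | h
      · exact absurd h hs
      · exact h
    have had : M 0 0 = M 1 1 := by
      have : ((M 0 0 + M 1 1) * (M 0 0 + M 1 1) - 1) * (M 0 0 - M 1 1) = 0 := by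
        linear_combination e11 - e00
      rcases mul_eq_zero.mp this with h | h
      · exact absurd h hs
      · linear_combination h
    apply hs
    rw [hb, had] at hdet
    rw [had]
    linear_combination 4 * hdet + h3

/-- In characteristic `3` with `-1` a non-square, an element of `SL₂` with `M²⁴ = 1` has trace
`0`, `1` or `-1`. -/
theorem trace_of_pow_24 (h3 : (3 : F) = 0) (hm1 : ¬ IsSquare (-1 : F))
    (M : Matrix (Fin 2) (Fin 2) F) (hdet : M.det = 1) (hM : M ^ 24 = 1) :
    M 0 0 + M 1 1 = 0 ∨ M 0 0 + M 1 1 = 1 ∨ M 0 0 + M 1 1 = -1 := by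
  have hd2 : (M * M).det = 1 := by rw [Matrix.det_mul, hdet, one_mul]
  have hd4 : (M * M * (M * M)).det = 1 := by rw [Matrix.det_mul, hd2, one_mul]
  have hd8 : (M * M * (M * M) * (M * M * (M * M))).det = 1 := by rw [Matrix.det_mul, hd4, one_mul]
  have e : (M * M * (M * M) * (M * M * (M * M))) * (M * M * (M * M) * (M * M * (M * M))) *
      (M * M * (M * M) * (M * M * (M * M))) = M ^ 24 := by
    simp only [← pow_two, ← pow_mul, ← pow_succ]
    rw [← pow_add]
    norm_num
  rw [hM] at e
  have t8 := trace_of_cube_eq_one h3 _ hd8 e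
  rw [trace_sq_formula _ hd4, trace_sq_formula _ hd2, trace_sq_formula _ hdet] at t8
  obtain ⟨s, hs⟩ : ∃ s, s = M 0 0 + M 1 1 := ⟨_, rfl⟩
  rw [← hs] at t8 ⊢
  have h4 : ((s * s - 2) * (s * s - 2) - 2 - 1) * ((s * s - 2) * (s * s - 2) - 2 + 1) = 0 := by
    linear_combination t8
  rcases mul_eq_zero.mp h4 with h | h
  · exfalso
    have h2' : (s * s - 2) * (s * s - 2) = 0 := by linear_combination h + h3
    have h2'' : s * s - 2 = 0 := by
      rcases mul_eq_zero.mp h2' with h' | h' <;> exact h'
    exact hm1 ⟨s, by linear_combination -h2'' - h3⟩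
  · have h2' : (s * s - 2 - 1) * (s * s - 2 + 1) = 0 := by linear_combination h
    rcases mul_eq_zero.mp h2' with h' | h'
    · left
      have : s * s = 0 := by linear_combination h' + h3
      rcases mul_eq_zero.mp this with h'' | h'' <;> exact h''
    · right
      have : (s - 1) * (s + 1) = 0 := by linear_combination h'
      rcases mul_eq_zero.mp this with h'' | h''
      · left; linear_combination h''
      · right; linear_combination h''

end Transfer

section Structure

variable {F : Type*} [Field F]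

local notation "SL" => Matrix.SpecialLinearGroup (Fin 2) F
local notation "PSL" => Matrix.ProjectiveSpecialLinearGroup (Fin 2) F
local notation "π" => QuotientGroup.mk' (Subgroup.center (Matrix.SpecialLinearGroup (Fin 2) F))

/-- If `a` stabilizes `J`, is not scalar and commutes with `x`, then `x` stabilizes `J`. -/
theorem tz_stab_of_comm {δ : F} (J : TZ δ) (a x : SL) (ha : a • J = J)
    (hns : a 0 1 ≠ 0 ∨ a 1 0 ≠ 0 ∨ a 0 0 ≠ a 1 1) (hx : x * a = a * x) : x • J = J := by
  rw [TZ.smul_eq_iff] at ha ⊢
  obtain ⟨α, β, e00, e01, e10, e11⟩ := commutant_two (M := (a : Matrix (Fin 2) (Fin 2) F))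
    (J := J.1) hns ha.symm
  have hJ : J.1 = α • (1 : Matrix (Fin 2) (Fin 2) F) + β • (a : Matrix (Fin 2) (Fin 2) F) := by
    ext i j
    fin_cases i <;> fin_cases j <;> simp [e00, e01, e10, e11]
  have hxa : (x : Matrix (Fin 2) (Fin 2) F) * (a : Matrix (Fin 2) (Fin 2) F) =
      (a : Matrix (Fin 2) (Fin 2) F) * (x : Matrix (Fin 2) (Fin 2) F) := by
    rw [← Matrix.SpecialLinearGroup.coe_mul, hx, Matrix.SpecialLinearGroup.coe_mul]
  rw [hJ, mul_add, add_mul, Matrix.mul_smul, Matrix.smul_mul, Matrix.mul_smul, Matrix.smul_mul,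
    mul_one, one_mul, hxa]

variable [Fintype F]

/-- **Structure of the proper subgroups of `SL₂(q)` containing `-1`, in the minimal simple case
of characteristic `3`.** -/
theorem proper_odd_structure (h2 : (2 : F) ≠ 0)
    (hA : ∀ A, 2 ≤ A → A ∣ Fintype.card F → (A - 1) ∣ (Fintype.card F - 1) →
      A = 3 ∨ A = Fintype.card F)
    (h5 : ¬ 5 ∣ Fintype.card F * (Fintype.card F ^ 2 - 1))
    (h16 : ¬ 16 ∣ Fintype.card F * (Fintype.card F ^ 2 - 1))
    (K : Subgroup SL) (hneg : negOne ∈ K) (hne : K ≠ ⊤) :
    (∃ c : SL, ∀ g ∈ K, (c * g * c⁻¹) 1 0 = 0) ∨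
    (∃ A : Subgroup SL, (∀ a ∈ A, ∀ b ∈ A, a * b = b * a) ∧
      ∀ x ∈ K, x ∈ A ∨ (x * x = negOne ∧ ∀ a ∈ A, x * a * x⁻¹ = a⁻¹)) ∨
    Nat.card K = 24 := by
  classical
  have hSL := Cfsg.Agent.Lib.helper7.card_SL2 (F := F) rfl
  have hq : 2 ≤ Fintype.card F := Fintype.one_lt_card
  have hKne : Nat.card K ≠ Fintype.card F * (Fintype.card F ^ 2 - 1) := by
    intro h
    apply hne
    apply Subgroup.eq_top_of_card_eq
    rw [h, hSL]
  have hKdvd : Nat.card K ∣ Fintype.card F * (Fintype.card F ^ 2 - 1) := by
    rw [← hSL]; exact Subgroup.card_subgroup_dvd_card K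
  have hp : Fact (ringChar F).Prime := ⟨CharP.char_is_prime F (ringChar F)⟩
  have hchar : ringChar F ≠ 2 := by
    intro h
    apply h2
    have := CharP.cast_eq_zero F (ringChar F)
    rw [h] at this
    exact_mod_cast this
  by_cases hw : ∃ g ∈ K, g ≠ 1 ∧ g 0 0 + g 1 1 = 2
  · rcases wild_orders (ringChar F) K hneg hw with ⟨c, hc⟩ | ⟨hp2, -⟩ | ⟨A, hA2, hAq, hAq', hn⟩ |
      ⟨-, -, hn⟩
    · exact Or.inl ⟨c, hc⟩
    · exact absurd hp2 hchar
    · rcases hA A hA2 hAq hAq' with h3 | hAq''
      · subst h3
        rcases hn with hn | ⟨-, -, hn⟩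
        · right; right; rw [hn]; norm_num
        · exfalso
          apply h16
          rw [hn] at hKdvd
          exact Dvd.dvd.trans (by norm_num) hKdvd
      · rw [hAq''] at hn
        rcases hn with hn | ⟨-, hdvd, hn⟩
        · exact absurd hn hKne
        · exfalso
          have := Nat.le_of_dvd (by omega) hdvd
          omega
    · exfalso
      apply h5
      rw [hn] at hKdvd
      exact Dvd.dvd.trans (by norm_num) hKdvd
  · push Not at hw
    have htame : ∀ g ∈ K, g 0 0 + g 1 1 = 2 → g = 1 := by
      intro g hg htr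
      by_contra hg1
      exact hw g hg hg1 htr
    obtain ⟨δ, hδ⟩ := FiniteField.exists_nonsquare hchar
    have hδ0 : δ ≠ 0 := by
      rintro rfl; exact hδ ⟨0, by rw [mul_zero]⟩
    rcases tame_odd h2 hδ K hneg htame with h | ⟨J, hJ⟩ | ⟨J, hJ⟩ | h | h | h
    · right; left
      refine ⟨K, fun a ha b hb => ?_, fun x hx => Or.inl hx⟩
      have := comm_of_card_le_three (G := K) (by omega) ⟨a, ha⟩ ⟨b, hb⟩
      exact congrArg Subtype.val this
    · right; left
      exact ⟨K, fun a ha b hb => tz_stab_comm h2 hδ0 J a b (hJ ha) (hJ hb),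
        fun x hx => Or.inl hx⟩
    · right; left
      have hidx : ((K ⊓ MulAction.stabilizer SL J).subgroupOf K).index = 2 := by
        have h1 := Subgroup.card_mul_index ((K ⊓ MulAction.stabilizer SL J).subgroupOf K)
        have hsub : Nat.card ↥((K ⊓ MulAction.stabilizer SL J).subgroupOf K) =
            Nat.card ↥(K ⊓ MulAction.stabilizer SL J) :=
          Nat.card_congr (Subgroup.subgroupOfEquivOfLe inf_le_left).toEquiv
        rw [hsub, ← hJ] at h1
        have hpos : 0 < Nat.card ↥(K ⊓ MulAction.stabilizer SL J) := Nat.card_pos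
        exact Nat.eq_of_mul_eq_mul_left hpos (by rw [h1]; ring)
      have hnormal : ((K ⊓ MulAction.stabilizer SL J).subgroupOf K).Normal :=
        Subgroup.normal_of_index_eq_two hidx
      refine ⟨K ⊓ MulAction.stabilizer SL J, fun a ha b hb =>
        tz_stab_comm h2 hδ0 J a b ha.2 hb.2, fun x hx => ?_⟩
      by_cases hxS : x ∈ MulAction.stabilizer SL J
      · exact Or.inl ⟨hx, hxS⟩
      · right
        have key : ∀ a ∈ K ⊓ MulAction.stabilizer SL J, x * a = a * x → a = 1 ∨ a = negOne := by
          intro a ha hxa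
          by_contra hcon
          apply hxS
          have hns : a 0 1 ≠ 0 ∨ a 1 0 ≠ 0 ∨ a 0 0 ≠ a 1 1 := by
            by_contra h'
            push Not at h'
            exact hcon (center_sl2_eq a ((mem_center_sl2_iff a).mpr h'))
          exact tz_stab_of_comm J a x ha.2 hns hxa
        constructor
        · have hxx : x * x ∈ K ⊓ MulAction.stabilizer SL J := by
            have := Subgroup.mul_self_mem_of_index_two hidx ⟨x, hx⟩
            rw [Subgroup.mem_subgroupOf] at this
            exact this
          rcases key (x * x) hxx (by rw [mul_assoc]) with h1 | h1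
          · exfalso
            apply hxS
            have hM : (x : Matrix (Fin 2) (Fin 2) F) * (x : Matrix (Fin 2) (Fin 2) F) = 1 := by
              rw [← Matrix.SpecialLinearGroup.coe_mul, h1, Matrix.SpecialLinearGroup.coe_one]
            rw [MulAction.mem_stabilizer_iff, TZ.smul_eq_iff]
            rcases sq_eq_one_cases h2 _ x.det_coe hM with h3 | h3
            · rw [h3, one_mul, mul_one]
            · rw [h3, neg_mul, mul_neg, one_mul, mul_one]
          · exact h1
        · intro a ha
          have hconjA : x * a * x⁻¹ ∈ K ⊓ MulAction.stabilizer SL J := by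
            have := hnormal.conj_mem ⟨a, ha.1⟩ (by rw [Subgroup.mem_subgroupOf]; exact ha)
              ⟨x, hx⟩
            rw [Subgroup.mem_subgroupOf] at this
            exact this
          rcases tz_fiber h2 hδ0 J a (x * a * x⁻¹) ha.2 hconjA.2 (trace_conj x a).symm
            with h1 | h1
          · have hxa : x * a = a * x := by
              calc x * a = (x * a * x⁻¹) * x := by group
                _ = a * x := by rw [h1]
            rcases key a ha hxa with h3 | h3
            · rw [h1, h3, inv_one]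
            · rw [h1, h3]
              exact (inv_eq_of_mul_eq_one_right negOne_mul_self).symm
          · exact h1
    · right; right; exact h.1
    · exfalso
      apply h16
      rw [h.1] at hKdvd
      exact Dvd.dvd.trans (by norm_num) hKdvd
    · exfalso
      apply h5
      rw [h.1] at hKdvd
      exact Dvd.dvd.trans (by norm_num) hKdvd

end Structure

section OddMinDefs

variable {F : Type*} [Field F] [Fintype F]

local notation "SL" => Matrix.SpecialLinearGroup (Fin 2) F
local notation "PSL" => Matrix.ProjectiveSpecialLinearGroup (Fin 2) F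
local notation "π" => QuotientGroup.mk' (Subgroup.center (Matrix.SpecialLinearGroup (Fin 2) F))

/-- The minimal simple case in characteristic `3`. -/
def OddMin (F : Type*) [Field F] [Fintype F] : Prop :=
  (3 : F) = 0 ∧ Fintype.card F % 8 = 3 ∧ Fintype.card F % 3 = 0 ∧ 4 ≤ Fintype.card F ∧
    (∀ A, 2 ≤ A → A ∣ Fintype.card F → (A - 1) ∣ (Fintype.card F - 1) →
      A = 3 ∨ A = Fintype.card F) ∧
    ¬ 5 ∣ Fintype.card F * (Fintype.card F ^ 2 - 1)

theorem oddMin_of_card (p : ℕ) (hp : p.Prime) (hodd : Odd p) (hF : Fintype.card F = 3 ^ p) :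
    OddMin F := by
  refine ⟨?_, ?_, ?_, ?_, ?_, ?_⟩
  · have h := FiniteField.cast_card_eq_zero F
    rw [hF, Nat.cast_pow] at h
    exact_mod_cast (pow_eq_zero_iff hp.ne_zero).mp h
  · rw [hF]
    obtain ⟨j, rfl⟩ := hodd
    rw [pow_succ, pow_mul, Nat.mul_mod, Nat.pow_mod]
    norm_num
  · rw [hF]
    exact Nat.mod_eq_zero_of_dvd (dvd_pow_self 3 hp.ne_zero)
  · rw [hF]
    calc 4 ≤ 3 ^ 2 := by norm_num
      _ ≤ 3 ^ p := Nat.pow_le_pow_right (by norm_num) hp.two_le
  · intro A hA2 hAq hAq'
    rw [hF] at hAq hAq' ⊢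
    rcases subfield_order_prime_exp 3 p Nat.prime_three hp A hAq hAq' with h | h | h
    · omega
    · left; exact h
    · right; exact h
  · rw [hF]
    exact five_not_dvd_of_mod _ (three_pow_odd_mod_five p hodd)

theorem OddMin.two_ne (hO : OddMin F) : (2 : F) ≠ 0 := by
  intro h
  have h3 := hO.1
  exact one_ne_zero (by linear_combination h3 - h : (1 : F) = 0)

theorem OddMin.odd (hO : OddMin F) : Odd (Fintype.card F) :=
  Nat.odd_iff.mpr (by have := hO.2.1; omega)

theorem OddMin.not_sq (hO : OddMin F) : ¬ IsSquare (-1 : F) := by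
  rw [FiniteField.isSquare_neg_one_iff]
  have := hO.2.1
  omega

theorem OddMin.not16 (hO : OddMin F) : ¬ 16 ∣ Fintype.card F * (Fintype.card F ^ 2 - 1) := by
  have h8 := hO.2.1
  obtain ⟨k, hk⟩ : ∃ k, Fintype.card F = 8 * k + 3 := ⟨Fintype.card F / 8, by omega⟩
  rw [hk]
  have e : (8 * k + 3) ^ 2 - 1 = (8 * k + 2) * (8 * k + 4) := by
    have : (8 * k + 3) ^ 2 = (8 * k + 2) * (8 * k + 4) + 1 := by ring
    omega
  rw [e]
  have e2 : (8 * k + 3) * ((8 * k + 2) * (8 * k + 4)) =
      16 * (32 * k ^ 3 + 36 * k ^ 2 + 13 * k + 1) + 8 := by ring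
  rw [e2]
  omega

/-- **The three possibilities for a pair generating a solvable subgroup of `PSL₂(3^p)`**, read
in `SL₂`. -/
theorem sol_cases (hO : OddMin F) (g h : SL)
    (hs : Group.IsSolvable (Subgroup.closure ({π g, π h} : Set PSL))) :
    ∃ K : Subgroup SL, g ∈ K ∧ h ∈ K ∧
      ((∃ c : SL, ∀ x ∈ K, (c * x * c⁻¹) 1 0 = 0) ∨
      (∃ A : Subgroup SL, (∀ a ∈ A, ∀ b ∈ A, a * b = b * a) ∧
        ∀ x ∈ K, x ∈ A ∨ (x * x = negOne ∧ ∀ a ∈ A, x * a * x⁻¹ = a⁻¹)) ∨
      (∀ x ∈ K, x 0 0 + x 1 1 = 0 ∨ x 0 0 + x 1 1 = 1 ∨ x 0 0 + x 1 1 = -1)) := by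
  have h2 := hO.two_ne
  have hm1 := hO.not_sq
  have h16 := hO.not16
  obtain ⟨h3, h8, hq3, h4, hA, h5⟩ := hO
  refine ⟨(Subgroup.closure ({π g, π h} : Set PSL)).comap π, ?_, ?_, ?_⟩
  · exact Subgroup.subset_closure (by simp)
  · exact Subgroup.subset_closure (by simp)
  · have hne : (Subgroup.closure ({π g, π h} : Set PSL)).comap π ≠ ⊤ := by
      intro htop
      apply psl2_not_solvable (F := F) (by rw [Nat.card_eq_fintype_card]; exact h4)
      have hS : Subgroup.closure ({π g, π h} : Set PSL) = ⊤ := by
        rw [eq_top_iff]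
        intro y _
        obtain ⟨s, rfl⟩ := QuotientGroup.mk'_surjective (Subgroup.center SL) y
        have : s ∈ (Subgroup.closure ({π g, π h} : Set PSL)).comap π := by
          rw [htop]; trivial
        exact this
      rw [hS] at hs
      exact Group.isSolvable_of_surjective (f := (Subgroup.topEquiv (G := PSL)).toMonoidHom)
        Subgroup.topEquiv.surjective
    rcases proper_odd_structure h2 hA h5 h16 _ (negOne_mem_comap _) hne with h' | h' | h'
    · exact Or.inl h'
    · exact Or.inr (Or.inl h')
    · right; right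
      intro x hx
      have hx24 : (⟨x, hx⟩ : (Subgroup.closure ({π g, π h} : Set PSL)).comap π) ^ 24 = 1 := by
        rw [← h']
        exact pow_card_eq_one'
      have hx24' : x ^ 24 = 1 := by
        have := congrArg (fun y : (Subgroup.closure ({π g, π h} : Set PSL)).comap π =>
          (y : SL)) hx24
        simpa only [Subgroup.coe_pow, Subgroup.coe_one] using this
      have hM : (x : Matrix (Fin 2) (Fin 2) F) ^ 24 = 1 := by
        rw [← Matrix.SpecialLinearGroup.coe_pow, hx24', Matrix.SpecialLinearGroup.coe_one]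
      exact trace_of_pow_24 h3 hm1 _ x.det_coe hM

end OddMinDefs

end Cfsg.Agent.Lib.helper46
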