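import Mathlib
import Cfsg.Agent.Lib.helper46.Sol3Struct

/-!
# Pairs generating solvable subgroups of `PSL₂(3ⁿ)`: the four characterizations (helper46)

For `g ∈ SL₂(q)`, `q = 3^p`, of each of the four types (trace zero, unipotent, split, non-split),
the elements `h` with `⟨ḡ, h̄⟩ ≤ PSL₂(q)` solvable are described by explicit conditions on the
entries of `h`.
-/

set_option autoImplicit false

namespace Cfsg.Agent.Lib.helper46

open Cfsg.Agent.Lib.helper98

local notation "dSL" => Cfsg.Agent.Lib.helper98.diagSL
local notation "mSL" => Cfsg.Agent.Lib.helper98.mkSL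

section Aux

variable {F : Type*} [Field F]

local notation "SL" => Matrix.SpecialLinearGroup (Fin 2) F

/-- If `-1` is not a square, a sum of two squares vanishes only trivially. -/
theorem sum_sq_eq_zero (hm1 : ¬ IsSquare (-1 : F)) (a b : F) (h : a * a + b * b = 0) :
    a = 0 ∧ b = 0 := by
  by_cases hb : b = 0
  · subst hb
    have : a * a = 0 := by linear_combination h
    exact ⟨by rcases mul_eq_zero.mp this with h' | h' <;> exact h', rfl⟩
  · exfalso
    apply hm1
    refine ⟨a / b, ?_⟩
    field_simp
    linear_combination -h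

theorem trace_zero_of_sq_negOne (g : SL) (h : g * g = negOne) : g 0 0 + g 1 1 = 0 := by
  have hd := sl2_det' g
  have e00 := congrArg (fun x : SL => x 0 0) h
  have e11 := congrArg (fun x : SL => x 1 1) h
  simp only [sl2_mul_apply, negOne_00, negOne_11] at e00 e11
  have : (g 0 0 + g 1 1) * (g 0 0 + g 1 1) = 0 := by linear_combination e00 + e11 + 2 * hd
  rcases mul_eq_zero.mp this with h' | h' <;> exact h'

/-- A pair inside a group generated by elements satisfying the `(2,3,3)` relations generates
a solvable group. -/
theorem solvable_of_233 {G : Type*} [Group G] (a b x y : G) (hx : x * x = 1)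
    (hy : y * y * y = 1) (hxy : x * y * (x * y) * (x * y) = 1)
    (ha : a ∈ Subgroup.closure ({x, y} : Set G)) (hb : b ∈ Subgroup.closure ({x, y} : Set G)) :
    Group.IsSolvable (Subgroup.closure ({a, b} : Set G)) := by
  refine solvable_of_le ?_ (solvable_closure_233 x y hx hy hxy)
  rw [Subgroup.closure_le]
  intro z hz
  rcases hz with rfl | hz
  · exact ha
  · rw [Set.mem_singleton_iff] at hz
    subst hz
    exact hb

end Aux

section Char

variable {F : Type*} [Field F] [Fintype F]

local notation "SL" => Matrix.SpecialLinearGroup (Fin 2) F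
local notation "PSL" => Matrix.ProjectiveSpecialLinearGroup (Fin 2) F
local notation "π" => QuotientGroup.mk' (Subgroup.center (Matrix.SpecialLinearGroup (Fin 2) F))

/-- **Involutions.** -/
theorem sol_w_iff (hO : OddMin F) (h : SL) :
    Group.IsSolvable (Subgroup.closure ({π wSL, π h} : Set PSL)) ↔
      (h 0 0 + h 1 1 = 0 ∨ h 0 1 = h 1 0 ∨ (h 0 0 = h 1 1 ∧ h 0 1 = -h 1 0) ∨
        ((h 0 0 + h 1 1) * (h 0 0 + h 1 1) = 1 ∧ (h 1 0 - h 0 1) * (h 1 0 - h 0 1) = 1)) := by
  have h2 := hO.two_ne
  have hm1 := hO.not_sq
  have h3 := hO.1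
  have hw2 : π (wSL : SL) * π (wSL : SL) = 1 :=
    mk_sq_of_trace_zero wSL (by rw [wSL_00, wSL_11]; ring)
  have htrw : (wSL * h : SL) 0 0 + (wSL * h : SL) 1 1 = h 1 0 - h 0 1 := by
    simp only [sl2_mul_apply, wSL_00, wSL_01, wSL_10, wSL_11]
    ring
  constructor
  · intro hs
    obtain ⟨K, hwK, hhK, hcases⟩ := sol_cases hO wSL h hs
    rcases hcases with ⟨c, hc⟩ | ⟨A, hAc, hAx⟩ | hT
    · exfalso
      have hu := hc _ hwK
      have hd := sl2_det' c
      simp only [sl2_mul_apply, sl2_inv_00, sl2_inv_10, wSL_00, wSL_01, wSL_10, wSL_11] at hu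
      obtain ⟨h10, h11⟩ := sum_sq_eq_zero hm1 (c 1 0) (c 1 1) (by linear_combination -hu)
      rw [h10, h11] at hd
      simp at hd
    · rcases hAx h hhK with hhA | ⟨hh2, -⟩
      · rcases hAx wSL hwK with hwA | ⟨-, hwinv⟩
        · right; right; left
          have hcomm := hAc h hhA wSL hwA
          have e00 := congrArg (fun x : SL => x 0 0) hcomm
          have e01 := congrArg (fun x : SL => x 0 1) hcomm
          simp only [sl2_mul_apply, wSL_00, wSL_01, wSL_10, wSL_11] at e00 e01
          exact ⟨by linear_combination e01, by linear_combination -e00⟩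
        · right; left
          have hinv := hwinv h hhA
          have e01 := congrArg (fun x : SL => x 0 1) hinv
          simp only [sl2_mul_apply, sl2_inv_01, sl2_inv_11, wSL_00, wSL_01] at e01
          linear_combination e01
      · left
        exact trace_zero_of_sq_negOne h hh2
    · have hτ := hT h hhK
      have hσ := hT (wSL * h) (K.mul_mem hwK hhK)
      rw [htrw] at hσ
      rcases hτ with hτ | hτ | hτ
      · exact Or.inl hτ
      · rcases hσ with hσ | hσ | hσ
        · right; left; linear_combination -hσ
        · right; right; right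
          exact ⟨by rw [hτ]; ring, by rw [hσ]; ring⟩
        · right; right; right
          exact ⟨by rw [hτ]; ring, by rw [hσ]; ring⟩
      · rcases hσ with hσ | hσ | hσ
        · right; left; linear_combination -hσ
        · right; right; right
          exact ⟨by rw [hτ]; ring, by rw [hσ]; ring⟩
        · right; right; right
          exact ⟨by rw [hτ]; ring, by rw [hσ]; ring⟩
  · rintro (hτ | hσ | ⟨h00, h01⟩ | ⟨hτ, hσ⟩)
    · exact solvable_closure_two_inv _ _ hw2 (mk_sq_of_trace_zero h hτ)
    · rw [closure_pair_mul]
      refine solvable_closure_two_inv _ _ hw2 ?_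
      rw [← map_mul]
      exact mk_sq_of_trace_zero (wSL * h) (by rw [htrw, hσ]; ring)
    · apply sol_mk_of_sol
      apply solvable_closure_of_comm
      apply sl2_ext <;> simp only [sl2_mul_apply, wSL_00, wSL_01, wSL_10, wSL_11, h00, h01] <;> ring
    · refine solvable_closure_233 _ _ hw2 (mk_cube_of_trace_sq h hτ) ?_
      rw [← map_mul]
      exact mk_cube_of_trace_sq (wSL * h) (by rw [htrw]; exact hσ)

/-- **Elements of order `3`.** -/
theorem sol_up_iff (hO : OddMin F) (t₀ : F) (ht₀ : t₀ ≠ 0) (h : SL) :
    Group.IsSolvable (Subgroup.closure ({π (upSL t₀), π h} : Set PSL)) ↔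
      (h 1 0 = 0 ∨ ((t₀ * h 1 0) * (t₀ * h 1 0) = 1 ∧
        (h 0 0 + h 1 1 = 0 ∨ h 0 0 + h 1 1 = 1 ∨ h 0 0 + h 1 1 = -1))) := by
  have h2 := hO.two_ne
  have hm1 := hO.not_sq
  have h3 := hO.1
  have hu3 : π (upSL t₀ : SL) * π (upSL t₀ : SL) * π (upSL t₀ : SL) = 1 := by
    rw [← map_mul, ← map_mul, upSL_add, upSL_add]
    have : t₀ + t₀ + t₀ = 0 := by linear_combination t₀ * h3
    rw [this, upSL_zero, map_one]
  have htru : (upSL t₀ * h : SL) 0 0 + (upSL t₀ * h : SL) 1 1 = h 0 0 + h 1 1 + t₀ * h 1 0 := by
    simp only [sl2_mul_apply, upSL_00, upSL_01, upSL_10, upSL_11]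
    ring
  constructor
  · intro hs
    obtain ⟨K, huK, hhK, hcases⟩ := sol_cases hO (upSL t₀) h hs
    rcases hcases with ⟨c, hc⟩ | ⟨A, hAc, hAx⟩ | hT
    · have hu := hc _ huK
      have hh := hc _ hhK
      have hd := sl2_det' c
      simp only [sl2_mul_apply, sl2_inv_00, sl2_inv_10, upSL_00, upSL_01, upSL_10, upSL_11] at hu
      have hc10 : c 1 0 = 0 := by
        have : c 1 0 * c 1 0 * t₀ = 0 := by linear_combination -hu
        rcases mul_eq_zero.mp this with h' | h'
        · rcases mul_eq_zero.mp h' with h'' | h'' <;> exact h''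
        · exact absurd h' ht₀
      simp only [sl2_mul_apply, sl2_inv_00, sl2_inv_10, hc10] at hh
      rw [hc10, mul_zero, sub_zero] at hd
      have hc11 : c 1 1 ≠ 0 := by
        intro h'
        rw [h', mul_zero] at hd
        exact zero_ne_one hd
      left
      have : c 1 1 * c 1 1 * h 1 0 = 0 := by linear_combination hh
      rcases mul_eq_zero.mp this with h' | h'
      · rcases mul_eq_zero.mp h' with h'' | h'' <;> exact absurd h'' hc11
      · exact h'
    · left
      rcases hAx _ huK with huA | ⟨hu2, -⟩
      · rcases hAx h hhK with hhA | ⟨-, hhinv⟩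
        · exact (borel_of_conj h t₀ t₀ ht₀ (hAc h hhA _ huA)).1
        · have hinv := hhinv _ huA
          have hcomm : h * upSL t₀ = (upSL t₀)⁻¹ * h := by rw [← hinv]; group
          have e00 := congrArg (fun x : SL => x 0 0) hcomm
          simp only [sl2_mul_apply, sl2_inv_00, sl2_inv_01, upSL_00, upSL_01, upSL_10,
            upSL_11] at e00
          have : t₀ * h 1 0 = 0 := by linear_combination e00
          rcases mul_eq_zero.mp this with h' | h'
          · exact absurd h' ht₀
          · exact h'
      · exfalso
        have e00 := congrArg (fun x : SL => x 0 0) hu2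
        simp only [sl2_mul_apply, upSL_00, upSL_01, upSL_10, negOne_00] at e00
        apply h2
        linear_combination e00
    · have hτ := hT h hhK
      have hσ := hT (upSL t₀ * h) (K.mul_mem huK hhK)
      rw [htru] at hσ
      have e1 : (h 0 0 + h 1 1) * (h 0 0 + h 1 1) * (h 0 0 + h 1 1) = h 0 0 + h 1 1 := by
        rcases hτ with h' | h' | h' <;> rw [h'] <;> ring
      have e2 : (h 0 0 + h 1 1 + t₀ * h 1 0) * (h 0 0 + h 1 1 + t₀ * h 1 0) *
          (h 0 0 + h 1 1 + t₀ * h 1 0) = h 0 0 + h 1 1 + t₀ * h 1 0 := by
        rcases hσ with h' | h' | h' <;> rw [h'] <;> ring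
      have e3 : (t₀ * h 1 0) * ((t₀ * h 1 0) * (t₀ * h 1 0) - 1) = 0 := by
        linear_combination e2 - e1 - ((h 0 0 + h 1 1) * (h 0 0 + h 1 1) * (t₀ * h 1 0) +
          (h 0 0 + h 1 1) * (t₀ * h 1 0) * (t₀ * h 1 0)) * h3
      rcases mul_eq_zero.mp e3 with h' | h'
      · left
        rcases mul_eq_zero.mp h' with h'' | h''
        · exact absurd h'' ht₀
        · exact h''
      · right
        exact ⟨by linear_combination h', hτ⟩
  · rintro (h10 | ⟨hc, hτ⟩)
    · apply sol_mk_of_sol
      apply solvable_of_conj_borel _ 1
      have hle : Subgroup.closure ({upSL t₀, h} : Set SL) ≤ borelSL F := by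
        rw [Subgroup.closure_le]
        intro x hx
        rcases hx with rfl | hx
        · exact upSL_10 t₀
        · rw [Set.mem_singleton_iff] at hx
          subst hx
          exact h10
      intro x hx
      rw [one_mul, inv_one, mul_one]
      exact (mem_borelSL x).mp (hle hx)
    · by_cases hτ0 : h 0 0 + h 1 1 = 0
      · -- x = h̄, y = ū
        refine solvable_of_233 _ _ (π h) (π (upSL t₀)) (mk_sq_of_trace_zero h hτ0) hu3 ?_
          (Subgroup.subset_closure (by simp)) (Subgroup.subset_closure (by simp))
        rw [← map_mul]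
        apply mk_cube_of_trace_sq
        simp only [sl2_mul_apply, upSL_00, upSL_01, upSL_10, upSL_11]
        linear_combination hc + (h 0 0 + h 1 1 + 2 * t₀ * h 1 0) * hτ0
      · have hτ2 : (h 0 0 + h 1 1) * (h 0 0 + h 1 1) = 1 := by
          rcases hτ with h' | h' | h'
          · exact absurd h' hτ0
          · rw [h']; ring
          · rw [h']; ring
        have hfac : (h 0 0 + h 1 1 + t₀ * h 1 0) * (h 0 0 + h 1 1 - t₀ * h 1 0) = 0 := by
          linear_combination hτ2 - hc
        rcases mul_eq_zero.mp hfac with hp | hp
        · -- x = (u h)‾, y = ū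
          refine solvable_of_233 _ _ (π (upSL t₀ * h)) (π (upSL t₀))
            (mk_sq_of_trace_zero _ (by rw [htru]; exact hp)) hu3 ?_
            (Subgroup.subset_closure (by simp)) ?_
          · rw [← map_mul]
            apply mk_cube_of_trace_sq
            simp only [sl2_mul_apply, upSL_00, upSL_01, upSL_10, upSL_11]
            linear_combination hc + (h 0 0 + h 1 1 + 3 * t₀ * h 1 0) * hp
          · have e : π h = (π (upSL t₀))⁻¹ * π (upSL t₀ * h) := by
              rw [map_mul, inv_mul_cancel_left]
            rw [e]
            exact Subgroup.mul_mem _ (Subgroup.inv_mem _ (Subgroup.subset_closure (by simp)))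
              (Subgroup.subset_closure (by simp))
        · -- x = (u⁻¹ h)‾, y = ū
          refine solvable_of_233 _ _ (π (upSL (-t₀) * h)) (π (upSL t₀))
            (mk_sq_of_trace_zero _ ?_) hu3 ?_ (Subgroup.subset_closure (by simp)) ?_
          · simp only [sl2_mul_apply, upSL_00, upSL_01, upSL_10, upSL_11]
            linear_combination hp
          · rw [← map_mul]
            apply mk_cube_of_trace_sq
            simp only [sl2_mul_apply, upSL_00, upSL_01, upSL_10, upSL_11]
            linear_combination hτ2
          · have e : π h = π (upSL t₀) * π (upSL (-t₀) * h) := by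
              rw [← map_mul, ← mul_assoc, upSL_add, add_neg_cancel, upSL_zero, one_mul]
            rw [e]
            exact Subgroup.mul_mem _ (Subgroup.subset_closure (by simp))
              (Subgroup.subset_closure (by simp))

/-- **Split semisimple elements.** -/
theorem sol_diag_iff (hO : OddMin F) (μ : F) (hμ : μ ≠ 0) (hμ2 : μ * μ ≠ 1) (h : SL) :
    Group.IsSolvable (Subgroup.closure ({π (dSL μ hμ), π h} : Set PSL)) ↔
      (h 1 0 = 0 ∨ h 0 1 = 0 ∨ (h 0 0 = 0 ∧ h 1 1 = 0)) := by
  have h2 := hO.two_ne
  have hm1 := hO.not_sq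
  have h3 := hO.1
  have hdiff : μ - μ⁻¹ ≠ 0 := by
    intro h'
    apply hμ2
    have : μ = μ⁻¹ := by linear_combination h'
    nth_rewrite 2 [this]
    exact mul_inv_cancel₀ hμ
  have hinv : μ * μ⁻¹ = 1 := mul_inv_cancel₀ hμ
  constructor
  · intro hs
    obtain ⟨K, hgK, hhK, hcases⟩ := sol_cases hO (dSL μ hμ) h hs
    rcases hcases with ⟨c, hc⟩ | ⟨A, hAc, hAx⟩ | hT
    · have hg := hc _ hgK
      have hh := hc _ hhK
      have hd := sl2_det' c
      simp only [sl2_mul_apply, sl2_inv_00, sl2_inv_10, diagSL_00, diagSL_01, diagSL_10,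
        diagSL_11] at hg
      simp only [sl2_mul_apply, sl2_inv_00, sl2_inv_10] at hh
      have hcc : c 1 0 * c 1 1 = 0 := by
        have : c 1 0 * c 1 1 * (μ - μ⁻¹) = 0 := by linear_combination hg
        rcases mul_eq_zero.mp this with h' | h'
        · exact h'
        · exact absurd h' hdiff
      rcases mul_eq_zero.mp hcc with hc10 | hc11
      · left
        rw [hc10] at hh
        rw [hc10, mul_zero, sub_zero] at hd
        have hc11 : c 1 1 ≠ 0 := by
          intro h'
          rw [h', mul_zero] at hd
          exact zero_ne_one hd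
        have : c 1 1 * c 1 1 * h 1 0 = 0 := by linear_combination hh
        rcases mul_eq_zero.mp this with h' | h'
        · rcases mul_eq_zero.mp h' with h'' | h'' <;> exact absurd h'' hc11
        · exact h'
      · right; left
        rw [hc11] at hh
        rw [hc11, mul_zero, zero_sub] at hd
        have hc10 : c 1 0 ≠ 0 := by
          intro h'
          rw [h', mul_zero, neg_zero] at hd
          exact zero_ne_one hd
        have : c 1 0 * c 1 0 * h 0 1 = 0 := by linear_combination -hh
        rcases mul_eq_zero.mp this with h' | h'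
        · rcases mul_eq_zero.mp h' with h'' | h'' <;> exact absurd h'' hc10
        · exact h'
    · have hgA : dSL μ hμ ∈ A := by
        rcases hAx _ hgK with h' | ⟨h', -⟩
        · exact h'
        · exfalso
          apply hm1
          have := congrArg (fun x : SL => x 0 0) h'
          simp only [sl2_mul_apply, diagSL_00, diagSL_01, diagSL_10, mul_zero, add_zero,
            negOne_00] at this
          exact ⟨μ, this.symm⟩
      rcases hAx _ hhK with hhA | ⟨-, hhinv⟩
      · right; left
        have hcomm := hAc h hhA _ hgA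
        have e := congrArg (fun x : SL => x 0 1) hcomm
        simp only [sl2_mul_apply, diagSL_00, diagSL_01, diagSL_11] at e
        have : h 0 1 * (μ - μ⁻¹) = 0 := by linear_combination -e
        rcases mul_eq_zero.mp this with h' | h'
        · exact h'
        · exact absurd h' hdiff
      · right; right
        have hinv' := hhinv _ hgA
        have hcomm : h * dSL μ hμ = (dSL μ hμ)⁻¹ * h := by
          rw [← hinv']; group
        have e0 := congrArg (fun x : SL => x 0 0) hcomm
        have e1 := congrArg (fun x : SL => x 1 1) hcomm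
        simp only [sl2_mul_apply, sl2_inv_00, sl2_inv_01, sl2_inv_10, sl2_inv_11, diagSL_00,
          diagSL_01, diagSL_10, diagSL_11] at e0 e1
        constructor
        · have : h 0 0 * (μ - μ⁻¹) = 0 := by linear_combination e0
          rcases mul_eq_zero.mp this with h' | h'
          · exact h'
          · exact absurd h' hdiff
        · have : h 1 1 * (μ - μ⁻¹) = 0 := by linear_combination -e1
          rcases mul_eq_zero.mp this with h' | h'
          · exact h'
          · exact absurd h' hdiff
    · exfalso
      have hτ := hT _ hgK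
      rw [diagSL_00, diagSL_11] at hτ
      rcases hτ with hτ | hτ | hτ
      · exact hm1 ⟨μ, by linear_combination hinv - μ * hτ⟩
      · apply hμ2
        have : (μ + 1) * (μ + 1) = 0 := by linear_combination μ * hτ - hinv + μ * h3
        have hμ1 : μ = -1 := by
          rcases mul_eq_zero.mp this with h' | h' <;> linear_combination h'
        rw [hμ1]; ring
      · apply hμ2
        have : (μ - 1) * (μ - 1) = 0 := by linear_combination μ * hτ - hinv - μ * h3
        have hμ1 : μ = 1 := by
          rcases mul_eq_zero.mp this with h' | h' <;> linear_combination h'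
        rw [hμ1]; ring
  · rintro (h10 | h01 | ⟨h00, h11⟩)
    · apply sol_mk_of_sol
      apply solvable_of_conj_borel _ 1
      have hle : Subgroup.closure ({dSL μ hμ, h} : Set SL) ≤ borelSL F := by
        rw [Subgroup.closure_le]
        intro x hx
        rcases hx with rfl | hx
        · exact diagSL_10 μ hμ
        · rw [Set.mem_singleton_iff] at hx
          subst hx
          exact h10
      intro x hx
      rw [one_mul, inv_one, mul_one]
      exact (mem_borelSL x).mp (hle hx)
    · apply sol_mk_of_sol
      apply solvable_of_conj_borel _ wSL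
      have hle : Subgroup.closure ({dSL μ hμ, h} : Set SL) ≤
          (borelSL F).comap (MulAut.conj (wSL : SL)).toMonoidHom := by
        rw [Subgroup.closure_le]
        intro x hx
        have key : ∀ y : SL, y 0 1 = 0 →
            y ∈ (borelSL F).comap (MulAut.conj (wSL : SL)).toMonoidHom := by
          intro y hy
          rw [Subgroup.mem_comap, mem_borelSL]
          show (wSL * y * wSL⁻¹ : SL) 1 0 = 0
          simp only [sl2_mul_apply, sl2_inv_00, sl2_inv_10, wSL_00, wSL_01, wSL_10, wSL_11]
          rw [hy]; ring
        rcases hx with rfl | hx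
        · exact key _ (diagSL_01 μ hμ)
        · rw [Set.mem_singleton_iff] at hx
          subst hx
          exact key _ h01
      intro x hx
      exact (mem_borelSL _).mp (hle hx)
    · apply sol_mk_of_sol
      apply solvable_closure_of_inv
      rw [mul_inv_eq_iff_eq_mul]
      apply sl2_ext <;> simp only [sl2_mul_apply, sl2_inv_00, sl2_inv_01, sl2_inv_10, sl2_inv_11,
        diagSL_00, diagSL_01, diagSL_10, diagSL_11, h00, h11] <;> ring

/-- **Non-split semisimple elements.** -/
theorem sol_nonsplit_iff (hO : OddMin F) (g : SL)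
    (hno : ∀ l : F, l * l - (g 0 0 + g 1 1) * l + 1 ≠ 0) (hg2 : g * g ≠ negOne) (h : SL) :
    Group.IsSolvable (Subgroup.closure ({π g, π h} : Set PSL)) ↔
      (h * g = g * h ∨ h * g * h⁻¹ = g⁻¹) := by
  have h3 := hO.1
  constructor
  · intro hs
    obtain ⟨K, hgK, hhK, hcases⟩ := sol_cases hO g h hs
    rcases hcases with ⟨c, hc⟩ | ⟨A, hAc, hAx⟩ | hT
    · exfalso
      have h10 := hc _ hgK
      have hd := sl2_det' (c * g * c⁻¹)
      have htr := trace_conj c g
      apply hno ((c * g * c⁻¹ : SL) 0 0)
      rw [← htr]
      rw [h10] at hd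
      linear_combination -hd
    · have hgA : g ∈ A := by
        rcases hAx _ hgK with h' | ⟨h', -⟩
        · exact h'
        · exact absurd h' hg2
      rcases hAx _ hhK with hhA | ⟨-, hhinv⟩
      · left
        exact hAc h hhA g hgA
      · right
        exact hhinv g hgA
    · exfalso
      rcases hT g hgK with hτ | hτ | hτ
      · exact hg2 (sq_of_trace_zero g hτ)
      · apply hno (-1)
        rw [hτ]
        linear_combination h3
      · apply hno 1
        rw [hτ]
        linear_combination h3
  · rintro (hc | hi)
    · exact sol_mk_of_sol _ _ (solvable_closure_of_comm g h hc.symm)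
    · exact sol_mk_of_sol _ _ (solvable_closure_of_inv g h hi)

end Char

end Cfsg.Agent.Lib.helper46
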