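import Mathlib
import Cfsg.Agent.Lib.helper46.Sol3Char

/-!
# Solubilizer sizes in `PSL₂(3ⁿ)` (helper46)

Counting the elements `h` of `SL₂(q)` described by the four characterizations of
`Sol3Char.lean`, and the final statement in `PSL₂(q)`, `q = 3^p`.
-/

set_option autoImplicit false

namespace Cfsg.Agent.Lib.helper46

open Cfsg.Agent.Lib.helper98

local notation "dSL" => Cfsg.Agent.Lib.helper98.diagSL
local notation "mSL" => Cfsg.Agent.Lib.helper98.mkSL

section GenericCount3

/-- Inclusion–exclusion for two predicates. -/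
theorem natCard_or_add_and {α : Type*} [Finite α] (p q : α → Prop) :
    Nat.card {x // p x ∨ q x} + Nat.card {x // p x ∧ q x} =
      Nat.card {x // p x} + Nat.card {x // q x} := by
  classical
  have h1 : Nat.card {x // p x ∨ q x} = Set.ncard ({x | p x} ∪ {x | q x}) :=
    Nat.card_coe_set_eq ({x | p x} ∪ {x | q x})
  have h2 : Nat.card {x // p x} = Set.ncard {x | p x} := Nat.card_coe_set_eq {x | p x}
  have h3 : Nat.card {x // q x} = Set.ncard {x | q x} := Nat.card_coe_set_eq {x | q x}
  have h4 : Nat.card {x // p x ∧ q x} = Set.ncard ({x | p x} ∩ {x | q x}) :=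
    Nat.card_coe_set_eq ({x | p x} ∩ {x | q x})
  rw [h1, h2, h3, h4]
  exact Set.ncard_union_add_ncard_inter _ _ (Set.toFinite _) (Set.toFinite _)

/-- The elements inverting `g` form a coset of the centralizer. -/
theorem card_inverting_of {G : Type*} [Group G] (g s : G) (hs : s * g * s⁻¹ = g⁻¹) :
    Nat.card {h : G // h * g * h⁻¹ = g⁻¹} = Nat.card {h : G // h * g = g * h} := by
  have hinv1 : s⁻¹ * g⁻¹ * s = g := by rw [← hs]; group
  apply Nat.card_congr
  exact
    { toFun := fun h => ⟨s⁻¹ * h.1, by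
        calc s⁻¹ * h.1 * g = s⁻¹ * (h.1 * g * h.1⁻¹) * h.1 := by group
          _ = s⁻¹ * g⁻¹ * h.1 := by rw [h.2]
          _ = (s⁻¹ * g⁻¹ * s) * (s⁻¹ * h.1) := by group
          _ = g * (s⁻¹ * h.1) := by rw [hinv1]⟩
      invFun := fun k => ⟨s * k.1, by
        calc s * k.1 * g * (s * k.1)⁻¹ = s * (k.1 * g) * k.1⁻¹ * s⁻¹ := by group
          _ = s * (g * k.1) * k.1⁻¹ * s⁻¹ := by rw [k.2]
          _ = s * g * s⁻¹ := by group
          _ = g⁻¹ := hs⟩
      left_inv := fun h => by
        apply Subtype.ext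
        show s * (s⁻¹ * h.1) = h.1
        group
      right_inv := fun k => by
        apply Subtype.ext
        show s⁻¹ * (s * k.1) = k.1
        group }

theorem card_sq_eq_one {F : Type*} [Field F] [Finite F] (h2 : (2 : F) ≠ 0) :
    Nat.card {x : F // x * x = 1} = 2 := by
  have hset : {x : F | x * x = 1} = {1, -1} := by
    ext x
    simp [mul_self_eq_one_iff]
  have h1 : Nat.card {x : F // x * x = 1} = Set.ncard {x : F | x * x = 1} :=
    Nat.card_coe_set_eq {x : F | x * x = 1}
  rw [h1, hset]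
  apply Set.ncard_pair
  intro h
  apply h2
  linear_combination h

theorem card_three_values {F : Type*} [Field F] [Finite F] (h2 : (2 : F) ≠ 0) :
    Nat.card {x : F // x = 0 ∨ x = 1 ∨ x = -1} = 3 := by
  have hset : {x : F | x = 0 ∨ x = 1 ∨ x = -1} = {0, 1, -1} := by
    ext x
    simp
  have h1 : Nat.card {x : F // x = 0 ∨ x = 1 ∨ x = -1} = Set.ncard {x : F | x = 0 ∨ x = 1 ∨ x = -1} :=
    Nat.card_coe_set_eq {x : F | x = 0 ∨ x = 1 ∨ x = -1}
  have hne : (1 : F) ≠ -1 := by
    intro h
    apply h2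
    linear_combination h
  rw [h1, hset, Set.ncard_insert_of_notMem, Set.ncard_pair hne]
  intro h
  rcases h with h | h
  · exact zero_ne_one h
  · rw [Set.mem_singleton_iff] at h
    have : (1 : F) = 0 := by linear_combination h
    exact one_ne_zero this

end GenericCount3

section Torus

variable {F : Type*} [Field F] [Fintype F]

local notation "SL" => Matrix.SpecialLinearGroup (Fin 2) F

omit [Fintype F] in
theorem no_eigenvector_of_noroot (g : SL)
    (hno : ∀ l : F, l * l - (g 0 0 + g 1 1) * l + 1 ≠ 0) :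
    ∀ (c : F) (v : Fin 2 → F), v ≠ 0 →
      (g : Matrix (Fin 2) (Fin 2) F).mulVec v ≠ c • v := by
  intro c v hv hgv
  have hd := sl2_det' g
  have e0 := congrFun hgv 0
  have e1 := congrFun hgv 1
  simp only [Matrix.mulVec, dotProduct, Fin.sum_univ_two, Pi.smul_apply, smul_eq_mul] at e0 e1
  have k0 : (c * c - (g 0 0 + g 1 1) * c + 1) * v 0 = 0 := by
    linear_combination (g 1 1 - c) * e0 - (g 0 1) * e1 - (v 0) * hd
  have k1 : (c * c - (g 0 0 + g 1 1) * c + 1) * v 1 = 0 := by
    linear_combination (g 0 0 - c) * e1 - (g 1 0) * e0 - (v 1) * hd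
  apply hv
  funext i
  fin_cases i
  · rcases mul_eq_zero.mp k0 with h | h
    · exact absurd h (hno c)
    · exact h
  · rcases mul_eq_zero.mp k1 with h | h
    · exact absurd h (hno c)
    · exact h

/-- A non-split element is conjugate into a cyclic torus of order `q + 1` which contains its
centralizer. -/
theorem noroot_torus (hodd : Odd (Fintype.card F)) (g : SL)
    (hno : ∀ l : F, l * l - (g 0 0 + g 1 1) * l + 1 ≠ 0) :
    ∃ t c : SL, orderOf t = Fintype.card F + 1 ∧ c * g * c⁻¹ ∈ Subgroup.zpowers t ∧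
      ∀ h : SL, h * (c * g * c⁻¹) = (c * g * c⁻¹) * h → h ∈ Subgroup.zpowers t := by
  obtain ⟨t, w, hord, hC, hconj, hinv, hw, htn, hcent, hinto⟩ := nonsplit_torus_data (F := F) hodd
  obtain ⟨c, hc⟩ := hinto g (no_eigenvector_of_noroot g hno)
  refine ⟨t, c, ?_, hc, ?_⟩
  · rw [hord]
    obtain ⟨k, hk⟩ := hodd
    omega
  · have htr := trace_conj c g
    apply hcent _ hc
    · intro h1
      rw [h1] at htr
      apply hno 1
      rw [← htr, Matrix.one_apply_eq, Matrix.one_apply_eq]
      ring
    · intro h1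
      rw [h1] at htr
      apply hno (-1)
      rw [← htr, Matrix.neg_apply, Matrix.neg_apply, Matrix.one_apply_eq, Matrix.one_apply_eq]
      ring

/-- The centralizer of a non-split element has `q + 1` elements. -/
theorem card_centralizer_noroot (hodd : Odd (Fintype.card F)) (g : SL)
    (hno : ∀ l : F, l * l - (g 0 0 + g 1 1) * l + 1 ≠ 0) :
    Nat.card {h : SL // h * g = g * h} = Fintype.card F + 1 := by
  obtain ⟨t, c, hord, hc, hcent⟩ := noroot_torus hodd g hno
  rw [← hord, ← Nat.card_zpowers]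
  apply Nat.card_congr
  exact
    { toFun := fun h => ⟨c * h.1 * c⁻¹, hcent _ (by
        calc c * h.1 * c⁻¹ * (c * g * c⁻¹) = c * (h.1 * g) * c⁻¹ := by group
          _ = c * (g * h.1) * c⁻¹ := by rw [h.2]
          _ = _ := by group)⟩
      invFun := fun k => ⟨c⁻¹ * k.1 * c, by
        have hk : k.1 * (c * g * c⁻¹) = (c * g * c⁻¹) * k.1 := by
          obtain ⟨i, hi⟩ := k.2
          obtain ⟨j, hj⟩ := hc
          rw [← hi, ← hj, ← zpow_add, ← zpow_add, add_comm]
        calc c⁻¹ * k.1 * c * g = c⁻¹ * (k.1 * (c * g * c⁻¹)) * c := by group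
          _ = c⁻¹ * ((c * g * c⁻¹) * k.1) * c := by rw [hk]
          _ = _ := by group⟩
      left_inv := fun h => by
        apply Subtype.ext
        show c⁻¹ * (c * h.1 * c⁻¹) * c = h.1
        group
      right_inv := fun k => by
        apply Subtype.ext
        show c * (c⁻¹ * k.1 * c) * c⁻¹ = k.1
        group }

/-- A non-split element has order dividing `q + 1`. -/
theorem pow_of_noroot (hodd : Odd (Fintype.card F)) (g : SL)
    (hno : ∀ l : F, l * l - (g 0 0 + g 1 1) * l + 1 ≠ 0) :
    g ^ (Fintype.card F + 1) = 1 := by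
  obtain ⟨t, c, hord, hc, -⟩ := noroot_torus hodd g hno
  obtain ⟨j, hj⟩ := hc
  have h1 : (c * g * c⁻¹) ^ (Fintype.card F + 1) = 1 := by
    rw [← hj, ← hord, ← zpow_natCast, ← zpow_mul, mul_comm, zpow_mul, zpow_natCast,
      pow_orderOf_eq_one, one_zpow]
  rw [conj_pow] at h1
  have h2 := congrArg (fun x => c⁻¹ * x * c) h1
  simpa [mul_assoc] using h2

end Torus

section Circles

variable {F : Type*} [Field F] [Fintype F]

local notation "SL" => Matrix.SpecialLinearGroup (Fin 2) F

/-- The circle `x² + y² = 1` has `q + 1` points. -/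
theorem card_circle_one (hO : OddMin F) :
    Nat.card {v : F × F // v.1 * v.1 + v.2 * v.2 = 1} = Fintype.card F + 1 := by
  have hm1 := hO.not_sq
  have hno : ∀ l : F, l * l - ((wSL : SL) 0 0 + (wSL : SL) 1 1) * l + 1 ≠ 0 := by
    intro l hl
    rw [wSL_00, wSL_11] at hl
    exact hm1 ⟨l, by linear_combination -hl⟩
  rw [← card_centralizer_noroot hO.odd wSL hno]
  apply Nat.card_congr
  exact
    { toFun := fun v => ⟨mSL v.1.1 (-v.1.2) v.1.2 v.1.1 (by linear_combination v.2), by
        apply sl2_ext <;> simp only [sl2_mul_apply, mkSL_00, mkSL_01, mkSL_10, mkSL_11, wSL_00,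
          wSL_01, wSL_10, wSL_11] <;> ring⟩
      invFun := fun h => ⟨(h.1 0 0, h.1 1 0), by
        have hd := sl2_det' h.1
        have e00 := congrArg (fun x : SL => x 0 0) h.2
        have e01 := congrArg (fun x : SL => x 0 1) h.2
        simp only [sl2_mul_apply, wSL_00, wSL_01, wSL_10, wSL_11] at e00 e01
        show h.1 0 0 * h.1 0 0 + h.1 1 0 * h.1 1 0 = 1
        linear_combination hd + (h.1 0 0) * e01 - (h.1 1 0) * e00⟩
      left_inv := fun v => by
        apply Subtype.ext
        apply Prod.ext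
        · dsimp only
          rw [mkSL_00]
        · dsimp only
          rw [mkSL_10]
      right_inv := fun h => by
        apply Subtype.ext
        have e00 := congrArg (fun x : SL => x 0 0) h.2
        have e01 := congrArg (fun x : SL => x 0 1) h.2
        simp only [sl2_mul_apply, wSL_00, wSL_01, wSL_10, wSL_11] at e00 e01
        apply sl2_ext
        · rw [mkSL_00]
        · rw [mkSL_01]
          linear_combination e00
        · rw [mkSL_10]
        · rw [mkSL_11]
          linear_combination e01 }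

/-- The circle `x² + y² = -1` has `q + 1` points. -/
theorem card_circle_neg_one (hO : OddMin F) :
    Nat.card {v : F × F // v.1 * v.1 + v.2 * v.2 = -1} = Fintype.card F + 1 := by
  have h3 := hO.1
  rw [← card_circle_one hO]
  apply Nat.card_congr
  exact
    { toFun := fun v => ⟨(v.1.1 - v.1.2, v.1.1 + v.1.2), by
        show (v.1.1 - v.1.2) * (v.1.1 - v.1.2) + (v.1.1 + v.1.2) * (v.1.1 + v.1.2) = 1
        linear_combination 2 * v.2 - h3⟩
      invFun := fun v => ⟨(-v.1.1 - v.1.2, v.1.1 - v.1.2), by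
        show (-v.1.1 - v.1.2) * (-v.1.1 - v.1.2) + (v.1.1 - v.1.2) * (v.1.1 - v.1.2) = -1
        linear_combination 2 * v.2 + h3⟩
      left_inv := fun v => by
        apply Subtype.ext
        apply Prod.ext
        · show -(v.1.1 - v.1.2) - (v.1.1 + v.1.2) = v.1.1
          linear_combination (-v.1.1) * h3
        · show (v.1.1 - v.1.2) - (v.1.1 + v.1.2) = v.1.2
          linear_combination (-v.1.2) * h3
      right_inv := fun v => by
        apply Subtype.ext
        apply Prod.ext
        · show (-v.1.1 - v.1.2) - (v.1.1 - v.1.2) = v.1.1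
          linear_combination (-v.1.1) * h3
        · show (-v.1.1 - v.1.2) + (v.1.1 - v.1.2) = v.1.2
          linear_combination (-v.1.2) * h3 }

/-- The points of the circle with nonzero coordinates. -/
theorem card_circle_nonzero (hO : OddMin F) :
    Nat.card {v : F × F // v.1 * v.1 + v.2 * v.2 = 1 ∧ v.1 ≠ 0 ∧ v.2 ≠ 0} + 4 =
      Fintype.card F + 1 := by
  have h2 := hO.two_ne
  rw [← card_circle_one hO]
  have h1 : Nat.card {v : F × F // v.1 * v.1 + v.2 * v.2 = 1} =
      Nat.card {v : F × F // (v.1 * v.1 + v.2 * v.2 = 1 ∧ v.1 ≠ 0 ∧ v.2 ≠ 0) ∨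
        ((v.1 = 0 ∧ v.2 * v.2 = 1) ∨ (v.2 = 0 ∧ v.1 * v.1 = 1))} := by
    apply Nat.card_congr
    apply Equiv.subtypeEquivRight
    intro v
    constructor
    · intro hv
      by_cases h1 : v.1 = 0
      · right; left
        refine ⟨h1, ?_⟩
        rw [h1] at hv
        linear_combination hv
      · by_cases h2' : v.2 = 0
        · right; right
          refine ⟨h2', ?_⟩
          rw [h2'] at hv
          linear_combination hv
        · left; exact ⟨hv, h1, h2'⟩
    · rintro (⟨hv, -, -⟩ | ⟨h1, hv⟩ | ⟨h2', hv⟩)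
      · exact hv
      · rw [h1]; linear_combination hv
      · rw [h2']; linear_combination hv
  have hx : Nat.card {v : F × F // v.1 = 0 ∧ v.2 * v.2 = 1} = 2 := by
    rw [← card_sq_eq_one (F := F) h2]
    apply Nat.card_congr
    exact
      { toFun := fun v => ⟨v.1.2, v.2.2⟩
        invFun := fun x => ⟨(0, x.1), rfl, x.2⟩
        left_inv := fun v => by
          apply Subtype.ext
          apply Prod.ext
          · exact v.2.1.symm
          · rfl
        right_inv := fun x => rfl }
  have hy : Nat.card {v : F × F // v.2 = 0 ∧ v.1 * v.1 = 1} = 2 := by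
    rw [← card_sq_eq_one (F := F) h2]
    apply Nat.card_congr
    exact
      { toFun := fun v => ⟨v.1.1, v.2.2⟩
        invFun := fun x => ⟨(x.1, 0), rfl, x.2⟩
        left_inv := fun v => by
          apply Subtype.ext
          apply Prod.ext
          · rfl
          · exact v.2.1.symm
        right_inv := fun x => rfl }
  rw [h1, natCard_or, natCard_or, hx, hy]
  · rintro v ⟨h1', hv⟩ ⟨h2', hv'⟩
    rw [h1', mul_zero] at hv'
    exact zero_ne_one hv'
  · rintro v ⟨-, h1', h2'⟩ (⟨h, -⟩ | ⟨h, -⟩)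
    · exact h1' h
    · exact h2' h

end Circles

section Counts3

variable {F : Type*} [Field F] [Fintype F]

local notation "SL" => Matrix.SpecialLinearGroup (Fin 2) F

theorem card_trace_zero (hO : OddMin F) :
    Nat.card {h : SL // h 0 0 + h 1 1 = 0} = Fintype.card F * (Fintype.card F - 1) := by
  rw [← card_trace_fiber (F := F) (fun _ => 0)]
  apply Nat.card_congr
  apply Equiv.subtypeEquivRight
  intro h
  constructor
  · intro ht
    refine ⟨?_, ht⟩
    intro h10
    have hd := sl2_det' h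
    rw [h10, mul_zero, sub_zero] at hd
    exact hO.not_sq ⟨h 0 0, by linear_combination hd - (h 0 0) * ht⟩
  · exact fun h' => h'.2

theorem card_sym (hO : OddMin F) :
    Nat.card {h : SL // h 0 1 = h 1 0} = Fintype.card F * (Fintype.card F - 1) := by
  rw [← card_trace_zero hO]
  apply Nat.card_congr
  refine (Equiv.mulLeft (wSL : SL)).subtypeEquiv ?_
  intro h
  show h 0 1 = h 1 0 ↔ (wSL * h : SL) 0 0 + (wSL * h : SL) 1 1 = 0
  simp only [sl2_mul_apply, wSL_00, wSL_01, wSL_10, wSL_11]
  constructor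
  · intro h'; rw [h']; ring
  · intro h'; linear_combination -h'

theorem card_trace_zero_sym (hO : OddMin F) :
    Nat.card {h : SL // h 0 0 + h 1 1 = 0 ∧ h 0 1 = h 1 0} = Fintype.card F + 1 := by
  rw [← card_circle_neg_one hO]
  apply Nat.card_congr
  exact
    { toFun := fun h => ⟨(h.1 0 0, h.1 0 1), by
        have hd := sl2_det' h.1
        show h.1 0 0 * h.1 0 0 + h.1 0 1 * h.1 0 1 = -1
        linear_combination -hd + (h.1 0 0) * h.2.1 + (h.1 0 1) * h.2.2⟩
      invFun := fun v => ⟨mSL v.1.1 v.1.2 v.1.2 (-v.1.1) (by linear_combination -v.2), by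
        rw [mkSL_00, mkSL_11, mkSL_01, mkSL_10]
        exact ⟨by ring, rfl⟩⟩
      left_inv := fun h => by
        apply Subtype.ext
        apply sl2_ext
        · rw [mkSL_00]
        · rw [mkSL_01]
        · rw [mkSL_10]; exact h.2.2
        · rw [mkSL_11]; linear_combination -h.2.1
      right_inv := fun v => by
        apply Subtype.ext
        apply Prod.ext
        · dsimp only
          rw [mkSL_00]
        · dsimp only
          rw [mkSL_01] }

theorem card_cent_w_off (hO : OddMin F) :
    Nat.card {h : SL // (h 0 0 = h 1 1 ∧ h 0 1 = -h 1 0) ∧ h 0 0 + h 1 1 ≠ 0 ∧ h 0 1 ≠ h 1 0} + 4 =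
      Fintype.card F + 1 := by
  have h2 := hO.two_ne
  rw [← card_circle_nonzero hO]
  congr 1
  apply Nat.card_congr
  exact
    { toFun := fun h => ⟨(h.1 0 0, h.1 1 0), by
        obtain ⟨⟨h00, h01⟩, hτ, hσ⟩ := h.2
        have hd := sl2_det' h.1
        refine ⟨?_, ?_, ?_⟩
        · show h.1 0 0 * h.1 0 0 + h.1 1 0 * h.1 1 0 = 1
          rw [← h00, h01] at hd
          linear_combination hd
        · intro h0
          have h0' : h.1 0 0 = 0 := h0
          apply hτ
          rw [← h00, h0']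
          ring
        · intro h0
          have h0' : h.1 1 0 = 0 := h0
          apply hσ
          rw [h01, h0']
          ring⟩
      invFun := fun v => ⟨mSL v.1.1 (-v.1.2) v.1.2 v.1.1 (by linear_combination v.2.1), by
        rw [mkSL_00, mkSL_11, mkSL_01, mkSL_10]
        refine ⟨⟨rfl, rfl⟩, ?_, ?_⟩
        · intro h0
          apply v.2.2.1
          have : 2 * v.1.1 = 0 := by linear_combination h0
          rcases mul_eq_zero.mp this with h | h
          · exact absurd h h2
          · exact h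
        · intro h0
          apply v.2.2.2
          have : 2 * v.1.2 = 0 := by linear_combination -h0
          rcases mul_eq_zero.mp this with h | h
          · exact absurd h h2
          · exact h⟩
      left_inv := fun h => by
        apply Subtype.ext
        obtain ⟨⟨h00, h01⟩, -, -⟩ := h.2
        apply sl2_ext
        · rw [mkSL_00]
        · rw [mkSL_01]; exact h01.symm
        · rw [mkSL_10]
        · rw [mkSL_11]; exact h00
      right_inv := fun v => by
        apply Subtype.ext
        apply Prod.ext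
        · dsimp only
          rw [mkSL_00]
        · dsimp only
          rw [mkSL_10] }

theorem card_trace_pm (hO : OddMin F) :
    Nat.card {h : SL // (h 0 0 + h 1 1) * (h 0 0 + h 1 1) = 1 ∧
      (h 1 0 - h 0 1) * (h 1 0 - h 0 1) = 1} = 4 * (Fintype.card F + 1) := by
  have h3 := hO.1
  have h2 := hO.two_ne
  have e : {h : SL // (h 0 0 + h 1 1) * (h 0 0 + h 1 1) = 1 ∧
      (h 1 0 - h 0 1) * (h 1 0 - h 0 1) = 1} ≃
      {x : F // x * x = 1} × {y : F // y * y = 1} ×
        {v : F × F // v.1 * v.1 + v.2 * v.2 = 1} :=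
    { toFun := fun h => (⟨h.1 0 0 + h.1 1 1, h.2.1⟩, ⟨h.1 1 0 - h.1 0 1, h.2.2⟩,
        ⟨(h.1 0 0 - h.1 1 1, h.1 0 1 + h.1 1 0), by
          have hd := sl2_det' h.1
          show (h.1 0 0 - h.1 1 1) * (h.1 0 0 - h.1 1 1) +
            (h.1 0 1 + h.1 1 0) * (h.1 0 1 + h.1 1 0) = 1
          linear_combination h.2.1 + h.2.2 - 4 * hd - h3⟩)
      invFun := fun p => ⟨mSL (-p.1.1 - p.2.2.1.1) (p.2.1.1 - p.2.2.1.2) (-p.2.2.1.2 - p.2.1.1)
          (p.2.2.1.1 - p.1.1) (by linear_combination p.1.2 + p.2.1.2 - p.2.2.2), by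
          rw [mkSL_00, mkSL_11, mkSL_01, mkSL_10]
          constructor
          · linear_combination 4 * p.1.2 + h3
          · linear_combination 4 * p.2.1.2 + h3⟩
      left_inv := fun h => by
        apply Subtype.ext
        apply sl2_ext
        · rw [mkSL_00]
          linear_combination (-(h.1 0 0)) * h3
        · rw [mkSL_01]
          linear_combination (-(h.1 0 1)) * h3
        · rw [mkSL_10]
          linear_combination (-(h.1 1 0)) * h3
        · rw [mkSL_11]
          linear_combination (-(h.1 1 1)) * h3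
      right_inv := fun p => by
        apply Prod.ext
        · apply Subtype.ext
          dsimp only
          rw [mkSL_00, mkSL_11]
          linear_combination (-p.1.1) * h3
        · apply Prod.ext
          · apply Subtype.ext
            dsimp only
            rw [mkSL_10, mkSL_01]
            linear_combination (-p.2.1.1) * h3
          · apply Subtype.ext
            apply Prod.ext
            · dsimp only
              rw [mkSL_00, mkSL_11]
              linear_combination (-p.2.2.1.1) * h3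
            · dsimp only
              rw [mkSL_01, mkSL_10]
              linear_combination (-p.2.2.1.2) * h3 }
  rw [Nat.card_congr e, Nat.card_prod, Nat.card_prod, card_sq_eq_one h2, card_circle_one hO]
  ring

/-- **Count for involutions.** -/
theorem count_w (hO : OddMin F) :
    Nat.card {h : SL // h 0 0 + h 1 1 = 0 ∨ h 0 1 = h 1 0 ∨ (h 0 0 = h 1 1 ∧ h 0 1 = -h 1 0) ∨
        ((h 0 0 + h 1 1) * (h 0 0 + h 1 1) = 1 ∧ (h 1 0 - h 0 1) * (h 1 0 - h 0 1) = 1)} =
      2 * Fintype.card F * (Fintype.card F + 1) := by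
  have h3 := hO.1
  have h2 := hO.two_ne
  have h1 : Nat.card {h : SL // h 0 0 + h 1 1 = 0 ∨ h 0 1 = h 1 0 ∨
        (h 0 0 = h 1 1 ∧ h 0 1 = -h 1 0) ∨
        ((h 0 0 + h 1 1) * (h 0 0 + h 1 1) = 1 ∧ (h 1 0 - h 0 1) * (h 1 0 - h 0 1) = 1)} =
      Nat.card {h : SL // (h 0 0 + h 1 1 = 0 ∨ h 0 1 = h 1 0) ∨
        (((h 0 0 = h 1 1 ∧ h 0 1 = -h 1 0) ∧ h 0 0 + h 1 1 ≠ 0 ∧ h 0 1 ≠ h 1 0) ∨
        ((h 0 0 + h 1 1) * (h 0 0 + h 1 1) = 1 ∧ (h 1 0 - h 0 1) * (h 1 0 - h 0 1) = 1))} := by
    apply Nat.card_congr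
    apply Equiv.subtypeEquivRight
    intro h
    constructor
    · rintro (hτ | hσ | hc | hd)
      · exact Or.inl (Or.inl hτ)
      · exact Or.inl (Or.inr hσ)
      · by_cases hτ : h 0 0 + h 1 1 = 0
        · exact Or.inl (Or.inl hτ)
        · by_cases hσ : h 0 1 = h 1 0
          · exact Or.inl (Or.inr hσ)
          · exact Or.inr (Or.inl ⟨hc, hτ, hσ⟩)
      · exact Or.inr (Or.inr hd)
    · rintro ((hτ | hσ) | ⟨hc, -, -⟩ | hd)
      · exact Or.inl hτ
      · exact Or.inr (Or.inl hσ)
      · exact Or.inr (Or.inr (Or.inl hc))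
      · exact Or.inr (Or.inr (Or.inr hd))
  have hd1 : ∀ h : SL, (h 0 0 + h 1 1 = 0 ∨ h 0 1 = h 1 0) →
      (((h 0 0 = h 1 1 ∧ h 0 1 = -h 1 0) ∧ h 0 0 + h 1 1 ≠ 0 ∧ h 0 1 ≠ h 1 0) ∨
        ((h 0 0 + h 1 1) * (h 0 0 + h 1 1) = 1 ∧ (h 1 0 - h 0 1) * (h 1 0 - h 0 1) = 1)) →
      False := by
    rintro h hAB (⟨-, hτ, hσ⟩ | ⟨hτ, hσ⟩)
    · rcases hAB with h' | h'
      · exact hτ h'
      · exact hσ h'
    · rcases hAB with h' | h'
      · rw [h', mul_zero] at hτ
        exact zero_ne_one hτ
      · rw [h', sub_self, mul_zero] at hσ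
        exact zero_ne_one hσ
  have hd2 : ∀ h : SL, ((h 0 0 = h 1 1 ∧ h 0 1 = -h 1 0) ∧ h 0 0 + h 1 1 ≠ 0 ∧ h 0 1 ≠ h 1 0) →
      ((h 0 0 + h 1 1) * (h 0 0 + h 1 1) = 1 ∧ (h 1 0 - h 0 1) * (h 1 0 - h 0 1) = 1) →
      False := by
    rintro h ⟨⟨h00, h01⟩, -, -⟩ ⟨hτ, hσ⟩
    have hd := sl2_det' h
    rw [← h00, h01] at hd
    rw [← h00] at hτ
    rw [h01] at hσ
    have : (2 : F) = 0 := by linear_combination hτ + hσ - 4 * hd
    exact h2 this
  rw [h1, natCard_or _ _ hd1, natCard_or _ _ hd2]
  have hAB := natCard_or_add_and (fun h : SL => h 0 0 + h 1 1 = 0) (fun h : SL => h 0 1 = h 1 0)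
  rw [card_trace_zero_sym hO, card_trace_zero hO, card_sym hO] at hAB
  have hC := card_cent_w_off hO
  rw [card_trace_pm hO]
  have h4 := hO.2.2.2.1
  obtain ⟨m, hm⟩ : ∃ m, Fintype.card F = m + 4 := ⟨Fintype.card F - 4, by omega⟩
  rw [hm] at hAB hC ⊢
  have e : m + 4 - 1 = m + 3 := by omega
  rw [e] at hAB
  nlinarith [hAB, hC]

/-- Elements with prescribed lower left entry and trace. -/
theorem card_fiber_prod (C T : F → Prop) (hC : ∀ c, C c → c ≠ 0) :
    Nat.card {h : SL // C (h 1 0) ∧ T (h 0 0 + h 1 1)} =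
      Fintype.card F * (Nat.card {c : F // C c} * Nat.card {t : F // T t}) := by
  have e : (F × {c : F // C c} × {t : F // T t}) ≃ {h : SL // C (h 1 0) ∧ T (h 0 0 + h 1 1)} :=
    { toFun := fun x => ⟨mSL x.1 ((x.1 * (x.2.2.1 - x.1) - 1) / x.2.1.1) x.2.1.1 (x.2.2.1 - x.1) (by
          rw [div_mul_cancel₀ _ (hC _ x.2.1.2)]; ring), by
          rw [mkSL_10, mkSL_00, mkSL_11]
          refine ⟨x.2.1.2, ?_⟩
          have : x.1 + (x.2.2.1 - x.1) = x.2.2.1 := by ring
          rw [this]
          exact x.2.2.2⟩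
      invFun := fun h => (h.1 0 0, ⟨h.1 1 0, h.2.1⟩, ⟨h.1 0 0 + h.1 1 1, h.2.2⟩)
      left_inv := fun x => by
        apply Prod.ext
        · dsimp only
          rw [mkSL_00]
        · apply Prod.ext
          · apply Subtype.ext
            dsimp only
            rw [mkSL_10]
          · apply Subtype.ext
            dsimp only
            rw [mkSL_00, mkSL_11]
            ring
      right_inv := fun h => by
        apply Subtype.ext
        have hd := sl2_det' h.1
        have h10 := hC _ h.2.1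
        apply sl2_ext
        · rw [mkSL_00]
        · rw [mkSL_01]
          field_simp
          linear_combination hd
        · rw [mkSL_10]
        · rw [mkSL_11]
          ring }
  rw [← Nat.card_congr e, Nat.card_prod, Nat.card_prod, Nat.card_eq_fintype_card]

/-- **Count for elements of order `3`.** -/
theorem count_up (hO : OddMin F) (t₀ : F) (ht₀ : t₀ ≠ 0) :
    Nat.card {h : SL // h 1 0 = 0 ∨ ((t₀ * h 1 0) * (t₀ * h 1 0) = 1 ∧
        (h 0 0 + h 1 1 = 0 ∨ h 0 0 + h 1 1 = 1 ∨ h 0 0 + h 1 1 = -1))} =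
      Fintype.card F * (Fintype.card F + 5) := by
  have h2 := hO.two_ne
  have hCcard : Nat.card {c : F // (t₀ * c) * (t₀ * c) = 1} = 2 := by
    rw [← card_sq_eq_one (F := F) h2]
    apply Nat.card_congr
    exact (Equiv.mulLeft₀ t₀ ht₀).subtypeEquiv (fun c => Iff.rfl)
  have hfp : Nat.card {h : SL // (t₀ * h 1 0) * (t₀ * h 1 0) = 1 ∧
        (h 0 0 + h 1 1 = 0 ∨ h 0 0 + h 1 1 = 1 ∨ h 0 0 + h 1 1 = -1)} =
      Fintype.card F * (Nat.card {c : F // (t₀ * c) * (t₀ * c) = 1} *
        Nat.card {t : F // t = 0 ∨ t = 1 ∨ t = -1}) :=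
    card_fiber_prod (fun c : F => (t₀ * c) * (t₀ * c) = 1) (fun t : F => t = 0 ∨ t = 1 ∨ t = -1)
      (by
        intro c hc h0
        rw [h0, mul_zero, mul_zero] at hc
        exact zero_ne_one hc)
  rw [natCard_or, card_upper_fiber, hfp, hCcard, card_three_values h2]
  · have hq : 1 ≤ Fintype.card F := Fintype.card_pos
    obtain ⟨m, hm⟩ : ∃ m, Fintype.card F = m + 1 := ⟨Fintype.card F - 1, by omega⟩
    rw [hm, Nat.add_sub_cancel]
    ring
  · rintro h h10 ⟨hc, -⟩
    rw [h10, mul_zero, mul_zero] at hc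
    exact zero_ne_one hc

/-- **Count for non-split semisimple elements.** -/
theorem count_nonsplit_odd (hO : OddMin F) (g : SL)
    (hno : ∀ l : F, l * l - (g 0 0 + g 1 1) * l + 1 ≠ 0) (hg1 : g * g ≠ 1) :
    Nat.card {h : SL // h * g = g * h ∨ h * g * h⁻¹ = g⁻¹} = 2 * (Fintype.card F + 1) := by
  have hodd := hO.odd
  obtain ⟨s, hs⟩ := conj_of_trace_eq_noroot hodd g g⁻¹ (by rw [sl2_inv_00, sl2_inv_11]; ring)
    (fun x hx => hno x (by linear_combination hx))
  rw [natCard_or, card_inverting_of g s hs, card_centralizer_noroot hodd g hno]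
  · ring
  · intro h hc hi
    apply hg1
    have h3 : g = g⁻¹ := by
      rw [← hi, hc]; group
    have h4 : g * g = g⁻¹ * g := by
      nth_rewrite 1 [h3]
      rfl
    rw [inv_mul_cancel] at h4
    exact h4

end Counts3

section Final3

variable {F : Type*} [Field F] [Fintype F]

local notation "SL" => Matrix.SpecialLinearGroup (Fin 2) F
local notation "PSL" => Matrix.ProjectiveSpecialLinearGroup (Fin 2) F
local notation "π" => QuotientGroup.mk' (Subgroup.center (Matrix.SpecialLinearGroup (Fin 2) F))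

/-- Trichotomy for the elements of `SL₂(q)`, `q` a power of `3`. -/
theorem order_cases (hO : OddMin F) (g : SL) :
    (g 0 0 + g 1 1) * (g 0 0 + g 1 1) = 1 ∨
    (∃ (c : SL) (μ : F) (hμ : μ ≠ 0), μ * μ ≠ 1 ∧ c * g * c⁻¹ = dSL μ hμ) ∨
    (∀ l : F, l * l - (g 0 0 + g 1 1) * l + 1 ≠ 0) := by
  have h3 := hO.1
  by_cases hroot : ∃ l : F, l * l - (g 0 0 + g 1 1) * l + 1 = 0
  · obtain ⟨l, hl⟩ := hroot
    obtain ⟨c₁, hc₁⟩ := conj_upper_of_root g l hl
    obtain ⟨g', hg'⟩ : ∃ g', g' = c₁ * g * c₁⁻¹ := ⟨_, rfl⟩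
    rw [← hg'] at hc₁
    have hd := sl2_det' g'
    rw [hc₁, mul_zero, sub_zero] at hd
    have htr : g' 0 0 + g' 1 1 = g 0 0 + g 1 1 := by rw [hg']; exact trace_conj c₁ g
    by_cases hμ2 : g' 0 0 * g' 0 0 = 1
    · left
      rw [← htr]
      have h11 : g' 1 1 = g' 0 0 := by linear_combination (g' 0 0) * hd - (g' 1 1) * hμ2
      rw [h11]
      linear_combination 4 * hμ2 + h3
    · right; left
      have hμ : g' 0 0 ≠ 0 := by
        intro h
        rw [h, zero_mul] at hd
        exact zero_ne_one hd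
      have h11 : g' 1 1 = (g' 0 0)⁻¹ := eq_inv_of_mul_eq_one_right hd
      have hdiff : g' 0 0 - (g' 0 0)⁻¹ ≠ 0 := by
        intro h
        apply hμ2
        have : g' 0 0 = (g' 0 0)⁻¹ := by linear_combination h
        nth_rewrite 2 [this]
        exact mul_inv_cancel₀ hμ
      obtain ⟨s, hs⟩ : ∃ s, s * (g' 0 0 - (g' 0 0)⁻¹) = g' 0 1 := ⟨_, div_mul_cancel₀ _ hdiff⟩
      refine ⟨upSL s * c₁, g' 0 0, hμ, hμ2, ?_⟩
      have e : upSL s * c₁ * g * (upSL s * c₁)⁻¹ = upSL s * g' * (upSL s)⁻¹ := by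
        rw [hg']; group
      rw [e]
      apply sl2_ext <;> simp only [sl2_mul_apply, sl2_inv_00, sl2_inv_01, sl2_inv_10, sl2_inv_11,
        upSL_00, upSL_01, upSL_10, upSL_11, diagSL_00, diagSL_01, diagSL_10, diagSL_11, hc₁, h11]
      · ring
      · linear_combination -hs
      · ring
      · ring
  · right; right
    push Not at hroot
    exact hroot

/-- A diagonalizable element has order dividing `q - 1`. -/
theorem pow_of_conj_diag (g c : SL) (μ : F) (hμ : μ ≠ 0) (hc : c * g * c⁻¹ = dSL μ hμ) :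
    g ^ (Fintype.card F - 1) = 1 := by
  have h1 : (dSL μ hμ) ^ (Fintype.card F - 1) = 1 := by
    obtain ⟨e00, e01, e10⟩ := diag_pow_entries (dSL μ hμ) (diagSL_01 μ hμ) (diagSL_10 μ hμ)
      (Fintype.card F - 1)
    rw [diagSL_00, FiniteField.pow_card_sub_one_eq_one μ hμ] at e00
    have hd := sl2_det' ((dSL μ hμ) ^ (Fintype.card F - 1))
    rw [e00, e01, zero_mul, sub_zero, one_mul] at hd
    apply sl2_ext
    · rw [e00, sl2_one_00]
    · rw [e01, sl2_one_01]
    · rw [e10, sl2_one_10]
    · rw [hd, sl2_one_11]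
  rw [← hc, conj_pow] at h1
  have h2 := congrArg (fun x => c⁻¹ * x * c) h1
  simpa [mul_assoc] using h2

/-- **Solubilizer sizes in `PSL₂(q)`, `q = 3^p`.** -/
theorem solubilizer_three (hO : OddMin F) (x : PSL) :
    (orderOf x = 2 → Nat.card {y : PSL //
      Group.IsSolvable ↥(Subgroup.closure ({x, y} : Set PSL))} =
        Fintype.card F * (Fintype.card F + 1)) ∧
    (orderOf x = 3 → 2 * Nat.card {y : PSL //
      Group.IsSolvable ↥(Subgroup.closure ({x, y} : Set PSL))} =
        Fintype.card F * (Fintype.card F + 5)) ∧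
    (x ≠ 1 → orderOf x ≠ 2 → orderOf x ∣ Fintype.card F - 1 →
      Nat.card {y : PSL // Group.IsSolvable ↥(Subgroup.closure ({x, y} : Set PSL))} =
        Fintype.card F * (Fintype.card F - 1)) ∧
    (x ≠ 1 → orderOf x ≠ 2 → orderOf x ∣ Fintype.card F + 1 →
      Nat.card {y : PSL // Group.IsSolvable ↥(Subgroup.closure ({x, y} : Set PSL))} =
        Fintype.card F + 1) := by
  have h2 := hO.two_ne
  have h3 := hO.1
  have hodd := hO.odd
  have hq3 := hO.2.2.1
  have hq4 := hO.2.2.2.1
  obtain ⟨g, rfl⟩ := QuotientGroup.mk'_surjective (Subgroup.center SL) x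
  have T1 : ∀ g : SL, 2 * Nat.card {y : PSL //
      Group.IsSolvable ↥(Subgroup.closure ({π g, y} : Set PSL))} =
      Nat.card {h : SL // Group.IsSolvable ↥(Subgroup.closure ({π g, π h} : Set PSL))} :=
    fun g => (card_fiber_mk h2
      (fun y => Group.IsSolvable ↥(Subgroup.closure ({π g, y} : Set PSL)))).symm
  have T2 : ∀ c g : SL, Nat.card {y : PSL //
      Group.IsSolvable ↥(Subgroup.closure ({π (c * g * c⁻¹), y} : Set PSL))} =
      Nat.card {y : PSL // Group.IsSolvable ↥(Subgroup.closure ({π g, y} : Set PSL))} := by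
    intro c g
    have h1 := card_solubilizer_transfer (MulAut.conj (π c)) (π g)
    rw [MulAut.conj_apply, ← map_inv, ← map_mul, ← map_mul] at h1
    exact h1
  have hdvd2 : orderOf (π g) ∣ 2 → π g = 1 ∨ orderOf (π g) = 2 := by
    intro h
    rcases (Nat.dvd_prime Nat.prime_two).mp h with h' | h'
    · left; exact orderOf_eq_one_iff.mp h'
    · right; exact h'
  have hU : (g 0 0 + g 1 1) * (g 0 0 + g 1 1) = 1 → orderOf (π g) ∣ 3 := by
    intro hs
    apply orderOf_dvd_of_pow_eq_one
    rw [pow_succ, pow_two]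
    exact mk_cube_of_trace_sq g hs
  have hS : (∃ (c : SL) (μ : F) (hμ : μ ≠ 0), μ * μ ≠ 1 ∧ c * g * c⁻¹ = dSL μ hμ) →
      orderOf (π g) ∣ Fintype.card F - 1 := by
    rintro ⟨c, μ, hμ, -, hc⟩
    apply orderOf_dvd_of_pow_eq_one
    rw [← map_pow, pow_of_conj_diag g c μ hμ hc, map_one]
  have hN : (∀ l : F, l * l - (g 0 0 + g 1 1) * l + 1 ≠ 0) →
      orderOf (π g) ∣ Fintype.card F + 1 := by
    intro hno
    apply orderOf_dvd_of_pow_eq_one
    rw [← map_pow, pow_of_noroot hodd g hno, map_one]
  have h3m : orderOf (π g) ∣ 3 → orderOf (π g) ∣ Fintype.card F - 1 → π g = 1 := by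
    intro ha hb
    rcases (Nat.dvd_prime Nat.prime_three).mp ha with h' | h'
    · exact orderOf_eq_one_iff.mp h'
    · exfalso
      rw [h'] at hb
      have := Nat.mod_eq_zero_of_dvd hb
      omega
  have h3p : orderOf (π g) ∣ 3 → orderOf (π g) ∣ Fintype.card F + 1 → π g = 1 := by
    intro ha hb
    rcases (Nat.dvd_prime Nat.prime_three).mp ha with h' | h'
    · exact orderOf_eq_one_iff.mp h'
    · exfalso
      rw [h'] at hb
      have := Nat.mod_eq_zero_of_dvd hb
      omega
  have hpm : orderOf (π g) ∣ Fintype.card F - 1 → orderOf (π g) ∣ Fintype.card F + 1 →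
      π g = 1 ∨ orderOf (π g) = 2 := by
    intro ha hb
    apply hdvd2
    have := Nat.dvd_sub hb ha
    have e : Fintype.card F + 1 - (Fintype.card F - 1) = 2 := by omega
    rw [e] at this
    exact this
  refine ⟨?_, ?_, ?_, ?_⟩
  · intro hord
    have htr : g 0 0 + g 1 1 = 0 := trace_zero_of_orderOf_mk h2 g hord
    obtain ⟨c, hc⟩ := conj_of_trace_zero hodd g wSL htr (by rw [wSL_00, wSL_11]; ring)
    have e1 := T2 c g
    rw [hc] at e1
    have e2 := T1 (wSL : SL)
    rw [Nat.card_congr (Equiv.subtypeEquivRight (sol_w_iff hO)), count_w hO] at e2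
    rw [← e1]
    have e3 : 2 * Nat.card {y : PSL //
        Group.IsSolvable ↥(Subgroup.closure ({π (wSL : SL), y} : Set PSL))} =
        2 * (Fintype.card F * (Fintype.card F + 1)) := by rw [e2]; ring
    exact Nat.eq_of_mul_eq_mul_left (by norm_num) e3
  · intro hord
    rcases order_cases hO g with hs | hS' | hno
    · obtain ⟨g₁, hπ, htr1⟩ : ∃ g₁ : SL, π g₁ = π g ∧ g₁ 0 0 + g₁ 1 1 = 2 := by
        have hfac : (g 0 0 + g 1 1 - 1) * (g 0 0 + g 1 1 + 1) = 0 := by linear_combination hs
        rcases mul_eq_zero.mp hfac with h | h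
        · refine ⟨negOne * g, ?_, ?_⟩
          · rw [map_mul, mk_negOne, one_mul]
          · simp only [sl2_mul_apply, negOne_00, negOne_01, negOne_10, negOne_11]
            linear_combination -h - h3
        · exact ⟨g, rfl, by linear_combination h - h3⟩
      have hg1 : g₁ ≠ 1 := by
        intro h
        rw [h, map_one] at hπ
        rw [← hπ, orderOf_one] at hord
        omega
      obtain ⟨c, t₀, ht₀, hc⟩ := exists_conj_eq_upSL g₁ hg1 htr1
      have e1 := T2 c g₁
      rw [hc, hπ] at e1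
      have e2 := T1 (upSL t₀ : SL)
      rw [Nat.card_congr (Equiv.subtypeEquivRight (sol_up_iff hO t₀ ht₀)), count_up hO t₀ ht₀] at e2
      rw [← e1]
      exact e2
    · exfalso
      have := hS hS'
      rw [hord] at this
      have := Nat.mod_eq_zero_of_dvd this
      omega
    · exfalso
      have := hN hno
      rw [hord] at this
      have := Nat.mod_eq_zero_of_dvd this
      omega
  · intro hx1 hx2 hdvd
    rcases order_cases hO g with hs | hS' | hno
    · exact absurd (h3m (hU hs) hdvd) hx1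
    · obtain ⟨c, μ, hμ, hμ2, hc⟩ := hS'
      have e1 := T2 c g
      rw [hc] at e1
      have e2 := T1 (dSL μ hμ : SL)
      rw [Nat.card_congr (Equiv.subtypeEquivRight (sol_diag_iff hO μ hμ hμ2)), count_split] at e2
      rw [← e1]
      have e3 : 2 * Nat.card {y : PSL //
          Group.IsSolvable ↥(Subgroup.closure ({π (dSL μ hμ : SL), y} : Set PSL))} =
          2 * (Fintype.card F * (Fintype.card F - 1)) := by rw [e2]; ring
      exact Nat.eq_of_mul_eq_mul_left (by norm_num) e3
    · rcases hpm hdvd (hN hno) with h | h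
      · exact absurd h hx1
      · exact absurd h hx2
  · intro hx1 hx2 hdvd
    rcases order_cases hO g with hs | hS' | hno
    · exact absurd (h3p (hU hs) hdvd) hx1
    · rcases hpm (hS hS') hdvd with h | h
      · exact absurd h hx1
      · exact absurd h hx2
    · have hsq : π g * π g ≠ 1 := by
        intro h
        rcases hdvd2 (orderOf_dvd_of_pow_eq_one (by rw [pow_two]; exact h)) with h' | h'
        · exact hx1 h'
        · exact hx2 h'
      have hg2 : g * g ≠ negOne := by
        intro h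
        apply hsq
        rw [← map_mul, h]
        exact mk_negOne
      have hg1 : g * g ≠ 1 := by
        intro h
        apply hsq
        rw [← map_mul, h, map_one]
      have e2 := T1 g
      rw [Nat.card_congr (Equiv.subtypeEquivRight (sol_nonsplit_iff hO g hno hg2)),
        count_nonsplit_odd hO g hno hg1] at e2
      exact Nat.eq_of_mul_eq_mul_left (by norm_num) e2

end Final3

end Cfsg.Agent.Lib.helper46
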