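import Mathlib
import Cfsg.Agent.Lib.helper46.Sol3Count
import Cfsg.Agent.Lib.helper46.SL2Klein
import Cfsg.Agent.Lib.helper46.DihedralMax
import Cfsg.Agent.Lib.helper46.NMaxGen

/-!
# Non-normal subgroups of `SL₂(13)` and `PSL₂(13)` have maximal normalizers (helper46)
-/

set_option autoImplicit false

namespace Cfsg.Agent.Lib.helper46

open Cfsg.Agent.Lib.helper98

local notation "dSL" => Cfsg.Agent.Lib.helper98.diagSL
local notation "mSL" => Cfsg.Agent.Lib.helper98.mkSL

section NMax13

variable {F : Type*} [Field F] [Fintype F]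

local notation "SL" => Matrix.SpecialLinearGroup (Fin 2) F

omit [Fintype F] in
theorem negOne_eq_neg : (negOne : SL) = -1 := by
  apply Subtype.ext
  ext i j
  fin_cases i <;> fin_cases j <;> simp [negOne]

omit [Fintype F] in
/-- Trace of a square. -/
theorem sl_trace_sq (g : SL) :
    (g * g) 0 0 + (g * g) 1 1 = (g 0 0 + g 1 1) * (g 0 0 + g 1 1) - 2 := by
  have hd := sl2_det' g
  simp only [sl2_mul_apply]
  linear_combination (-2) * hd

omit [Fintype F] in
/-- Four cases for an element of `SL₂`. -/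
theorem trace_cases (g : SL) :
    g 0 0 + g 1 1 = 2 ∨ g 0 0 + g 1 1 = -2 ∨
    (∃ (c : SL) (μ : F) (hμ : μ ≠ 0), μ * μ ≠ 1 ∧ c * g * c⁻¹ = dSL μ hμ) ∨
    (∀ l : F, l * l - (g 0 0 + g 1 1) * l + 1 ≠ 0) := by
  by_cases hroot : ∃ l : F, l * l - (g 0 0 + g 1 1) * l + 1 = 0
  · obtain ⟨l, hl⟩ := hroot
    obtain ⟨c₁, hc₁⟩ := conj_upper_of_root g l hl
    obtain ⟨g', hg'⟩ : ∃ g', g' = c₁ * g * c₁⁻¹ := ⟨_, rfl⟩
    rw [← hg'] at hc₁
    have hd := sl2_det' g'
    rw [hc₁, mul_zero, sub_zero] at hd
    have htr : g' 0 0 + g' 1 1 = g 0 0 + g 1 1 := by rw [hg']; exact trace_conj c₁ g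
    by_cases hμ2 : g' 0 0 * g' 0 0 = 1
    · have h11 : g' 1 1 = g' 0 0 := by linear_combination (g' 0 0) * hd - (g' 1 1) * hμ2
      rw [← htr, h11]
      have h0 : (g' 0 0 - 1) * (g' 0 0 + 1) = 0 := by linear_combination hμ2
      rcases mul_eq_zero.mp h0 with h | h
      · left; linear_combination 2 * h
      · right; left; linear_combination 2 * h
    · right; right; left
      have hμ : g' 0 0 ≠ 0 := by
        intro h
        rw [h, zero_mul] at hd
        exact zero_ne_one hd
      have h11 : g' 1 1 = (g' 0 0)⁻¹ := eq_inv_of_mul_eq_one_right hd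
      have hdiff : g' 0 0 - (g' 0 0)⁻¹ ≠ 0 := by
        intro h
        apply hμ2
        have : g' 0 0 = (g' 0 0)⁻¹ := by linear_combination h
        nth_rewrite 2 [this]
        exact mul_inv_cancel₀ hμ
      obtain ⟨s, hs⟩ : ∃ s, s * (g' 0 0 - (g' 0 0)⁻¹) = g' 0 1 := ⟨_, div_mul_cancel₀ _ hdiff⟩
      refine ⟨upSL s * c₁, g' 0 0, hμ, hμ2, ?_⟩
      have e : upSL s * c₁ * g * (upSL s * c₁)⁻¹ = upSL s * g' * (upSL s)⁻¹ := by
        rw [hg']; group
      rw [e]
      apply sl2_ext <;> simp only [sl2_mul_apply, sl2_inv_00, sl2_inv_01, sl2_inv_10, sl2_inv_11,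
        upSL_00, upSL_01, upSL_10, upSL_11, diagSL_00, diagSL_01, diagSL_10, diagSL_11, hc₁, h11]
      · ring
      · linear_combination -hs
      · ring
      · ring
  · right; right; right
    push Not at hroot
    exact hroot

/-- The properties of a maximal torus `⟨t⟩` of order `2n` of `SL₂(q)` with an inverting
element `w`. -/
def TorusData (n : ℕ) (t w : SL) : Prop :=
  orderOf t = 2 * n ∧
  (∀ g : SL, g * t = t * g → g ∈ Subgroup.zpowers t) ∧
  (∀ x ∈ Subgroup.zpowers t, x ∉ Subgroup.center SL →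
    ∀ h : SL, h * x = x * h → h ∈ Subgroup.zpowers t) ∧
  (∀ g : SL, g * t * g⁻¹ ∈ Subgroup.zpowers t → g * t * g⁻¹ = t ∨ g * t * g⁻¹ = t⁻¹) ∧
  (∀ g : SL, g * g = 1 → g = 1 ∨ g = t ^ n) ∧
  w * t * w⁻¹ = t⁻¹

theorem split_torusData (hodd : Odd (Fintype.card F)) (h5 : 5 ≤ Fintype.card F) :
    ∃ t w : SL, TorusData ((Fintype.card F - 1) / 2) t w ∧
      ∀ g : SL, (g 0 1 = 0 ∧ g 1 0 = 0) → g ∈ Subgroup.zpowers t := by
  obtain ⟨t, w, hord, hdiag, hC, hconj, hinv, hw, -⟩ := split_torus_data (F := F) hodd h5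
  refine ⟨t, w, ⟨hord, hC, ?_, hconj, hinv, hw⟩, fun g hg => (hdiag g).mpr hg⟩
  intro x hx hxc h hcomm
  have hxd := (hdiag x).mp hx
  rw [hdiag]
  refine (mem_centralizer_diag x hxd.1 hxd.2 ?_ h).mp ?_
  · intro h1
    apply hxc
    have hd := sl2_det' x
    have h01 : x 0 1 = 0 := hxd.1
    have h10 : x 1 0 = 0 := hxd.2
    rw [h01, zero_mul, sub_zero] at hd
    have h00 : x 0 0 * x 0 0 = 1 := by rw [← pow_two]; exact h1
    have h11 : x 1 1 = x 0 0 := by linear_combination (x 0 0) * hd - (x 1 1) * h00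
    rw [mem_center_sl2_iff]
    exact ⟨h01, h10, h11.symm⟩
  · rw [Subgroup.mem_centralizer_iff]
    intro y hy
    rw [Set.mem_singleton_iff] at hy
    rw [hy]
    exact hcomm.symm

theorem nonsplit_torusData (hodd : Odd (Fintype.card F)) :
    ∃ t w : SL, TorusData ((Fintype.card F + 1) / 2) t w ∧
      ∀ g : SL, (∀ l : F, l * l - (g 0 0 + g 1 1) * l + 1 ≠ 0) →
        ∃ c : SL, c * g * c⁻¹ ∈ Subgroup.zpowers t := by
  obtain ⟨t, w, hord, hC, hconj, hinv, hw, -, hcent, hinto⟩ := nonsplit_torus_data (F := F) hodd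
  refine ⟨t, w, ⟨hord, hC, ?_, hconj, hinv, hw⟩,
    fun g hg => hinto g (no_eigenvector_of_noroot g hg)⟩
  intro x hx hxc h hcomm
  refine hcent x hx ?_ ?_ h hcomm
  · intro h1
    apply hxc
    have : x = 1 := Subtype.ext h1
    rw [this]
    exact Subgroup.one_mem _
  · intro h1
    apply hxc
    have : x = negOne := by
      rw [negOne_eq_neg]
      apply Subtype.ext
      rw [h1]
      simp
    rw [this]
    exact negOne_mem_center

omit [Fintype F] in
theorem card_normalizer_conjSub [Finite F] (c : SL) (H : Subgroup SL) :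
    Nat.card (Subgroup.normalizer (conjSub c H : Set SL)) =
      Nat.card (Subgroup.normalizer (H : Set SL)) := by
  have h := Subgroup.map_equiv_normalizer_eq H (MulAut.conj c)
  have h' : Subgroup.normalizer (conjSub c H : Set SL) =
      conjSub c (Subgroup.normalizer (H : Set SL)) := h.symm
  rw [h', card_conjSub]

omit [Fintype F] in
theorem center_le_of_negOne' (K : Subgroup SL) (hneg : negOne ∈ K) :
    Subgroup.center SL ≤ K := by
  intro z hz
  rcases center_sl2_eq z hz with h | h
  · rw [h]; exact K.one_mem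
  · rw [h]; exact hneg

/-- A tame abelian subgroup with a non-central element lies in a conjugate of a torus; its
normalizer is the normalizer of that torus. -/
theorem abelian_tame_normalizer (hodd : Odd (Fintype.card F)) (h5 : 5 ≤ Fintype.card F)
    (A : Subgroup SL) (hab : ∀ a ∈ A, ∀ b ∈ A, a * b = b * a)
    (htame : ∀ g ∈ A, g 0 0 + g 1 1 = 2 → g = 1)
    (x : SL) (hxA : x ∈ A) (hx : x ∉ Subgroup.center SL) :
    ∃ n : ℕ, (n = (Fintype.card F - 1) / 2 ∨ n = (Fintype.card F + 1) / 2) ∧
      Nat.card A ∣ 2 * n ∧ Nat.card (Subgroup.normalizer (A : Set SL)) = 4 * n := by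
  have h2 : (2 : F) ≠ 0 := two_ne_zero_of_odd_card hodd
  have key : ∀ (n : ℕ) (t w c : SL), 2 ≤ n → TorusData n t w → c * x * c⁻¹ ∈ Subgroup.zpowers t →
      Nat.card A ∣ 2 * n ∧ Nat.card (Subgroup.normalizer (A : Set SL)) = 4 * n := by
    intro n t w c hn ⟨hord, hC, hcent, hconj, hinv, hw⟩ hxt
    have hxc : c * x * c⁻¹ ∉ Subgroup.center SL := by
      intro hc
      apply hx
      have h3 := Subgroup.Normal.conj_mem (inferInstance : (Subgroup.center SL).Normal) _ hc c⁻¹
      have e : c⁻¹ * (c * x * c⁻¹) * c⁻¹⁻¹ = x := by group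
      rwa [e] at h3
    have hle : conjSub c A ≤ Subgroup.zpowers t := by
      intro a ha
      rw [mem_conjSub] at ha
      apply hcent _ hxt hxc
      have h3 := hab _ ha x hxA
      calc a * (c * x * c⁻¹) = c * ((c⁻¹ * a * c) * x) * c⁻¹ := by group
        _ = c * (x * (c⁻¹ * a * c)) * c⁻¹ := by rw [h3]
        _ = c * x * c⁻¹ * a := by group
    have hN := normalizer_eq_of_le_torus t w hC hcent hconj hw (conjSub c A) hle (c * x * c⁻¹)
      (conj_mem_conjSub c A x hxA) hxc
    have : NeZero n := ⟨by omega⟩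
    have hcard := (torus_normalizer_structure n hn t w hord hC hconj hinv hw).1
    refine ⟨?_, ?_⟩
    · have h3 := Subgroup.card_dvd_of_le hle
      rwa [card_conjSub, Nat.card_zpowers, hord] at h3
    · rw [← card_normalizer_conjSub c A, hN, hcard]
  rcases trace_cases x with h | h | ⟨c, μ, hμ, hμ1, hc⟩ | hno
  · exfalso
    apply hx
    rw [htame x hxA h]
    exact Subgroup.one_mem _
  · exfalso
    apply hx
    have h3 : (x * x) 0 0 + (x * x) 1 1 = 2 := by
      rw [sl_trace_sq, h]; ring
    have h4 := htame (x * x) (A.mul_mem hxA hxA) h3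
    rcases sl_sq_eq_one_cases h2 x h4 with h5 | h5
    · rw [h5]; exact Subgroup.one_mem _
    · rw [h5, ← negOne_eq_neg]; exact negOne_mem_center
  · obtain ⟨t, w, hT, hdiag⟩ := split_torusData hodd h5
    refine ⟨_, Or.inl rfl, key _ t w c (by omega) hT ?_⟩
    rw [hc]
    exact hdiag _ ⟨diagSL_01 μ hμ, diagSL_10 μ hμ⟩
  · obtain ⟨t, w, hT, hinto⟩ := nonsplit_torusData hodd
    obtain ⟨c, hc⟩ := hinto x hno
    exact ⟨_, Or.inr rfl, key _ t w c (by omega) hT hc⟩


/-- Basic facts on the field with `13` elements. -/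
theorem basic13 (hq : Fintype.card F = 13) :
    Odd (Fintype.card F) ∧ (2 : F) ≠ 0 ∧ ¬ IsSquare (2 : F) ∧ (3 : F) ≠ 0 ∧
      Nat.card SL = 2184 ∧ Nat.card (Subgroup.center SL) = 2 := by
  classical
  have hodd : Odd (Fintype.card F) := by rw [hq]; decide
  have h2 := two_ne_zero_of_odd_card hodd
  refine ⟨hodd, h2, ?_, ?_, ?_, card_center_SL2 h2⟩
  · rw [FiniteField.isSquare_two_iff, hq]; decide
  · intro h3
    have h13 : ((Fintype.card F : ℕ) : F) = 0 := FiniteField.cast_card_eq_zero F
    rw [hq] at h13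
    have : (1 : F) = 0 := by
      push_cast at h13
      linear_combination h13 - 4 * h3
    exact one_ne_zero this
  · rw [Cfsg.Agent.Lib.helper7.card_SL2 hq]; norm_num

/-- The orders of the proper subgroups of `SL₂(13)` containing `-1`. -/
def list13 : Finset ℕ := {2, 4, 6, 8, 12, 14, 24, 26, 28, 52, 78, 156}

set_option maxRecDepth 100000 in
theorem arith13_a : ∀ n ≤ 156, n ∣ 156 → 2 ∣ n → n ∈ list13 := by decide

theorem arith13_b : ∀ d ≤ 14, (d ∣ 12 ∨ d ∣ 14 ∨ d ∣ 2) → 2 * d ∈ list13 := by decide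

theorem arith13_c : ∀ d ≤ 14, (d ∣ 12 ∨ d ∣ 14) → 2 ∣ d → d ∈ list13 := by decide

theorem arith13_d : ∀ n ∈ list13, (24 ∣ n → n = 24) ∧ (28 ∣ n → n = 28) ∧ (156 ∣ n → n = 156) ∧
    (8 ∣ n → 8 < n → n = 24) := by decide

/-- A proper subgroup of `SL₂(13)` with unipotent elements is conjugate into the Borel
subgroup. -/
theorem wild_borel13 (hq : Fintype.card F = 13) (K : Subgroup SL) (hneg : negOne ∈ K)
    (hne : K ≠ ⊤) (hw : ∃ g ∈ K, g ≠ 1 ∧ g 0 0 + g 1 1 = 2) :
    ∃ c : SL, ∀ g ∈ K, (c * g * c⁻¹) 1 0 = 0 := by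
  obtain ⟨hodd, h2, hns, h3, hSL, hZ⟩ := basic13 hq
  have hp : Fact (ringChar F).Prime := ⟨CharP.char_is_prime F (ringChar F)⟩
  rcases wild_orders (ringChar F) K hneg hw with h | h
  · exact h
  · exfalso
    rw [hq] at h
    rcases h with ⟨hp2, -⟩ | ⟨A, hA2, hAq, hA1, hn⟩ | ⟨-, -, hn⟩
    · apply h2
      have h4 := CharP.cast_eq_zero F (ringChar F)
      rw [hp2] at h4
      exact_mod_cast h4
    · have hA : A = 13 := by
        rcases (Nat.dvd_prime (by norm_num : Nat.Prime 13)).mp hAq with h | h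
        · omega
        · exact h
      subst hA
      rcases hn with hn | ⟨-, hd, -⟩
      · apply hne
        apply Subgroup.eq_top_of_card_eq
        rw [hn, hSL]; norm_num
      · norm_num at hd
    · have h4 := Subgroup.card_subgroup_dvd_card K
      rw [hn, hSL] at h4
      norm_num at h4

/-- Tame abelian subgroups of `SL₂(13)`. -/
theorem abelian_tame_card13 (hq : Fintype.card F = 13) (A : Subgroup SL)
    (hab : ∀ a ∈ A, ∀ b ∈ A, a * b = b * a)
    (htame : ∀ g ∈ A, g 0 0 + g 1 1 = 2 → g = 1) :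
    A ≤ Subgroup.center SL ∨
    (Nat.card A ∣ 12 ∧ Nat.card (Subgroup.normalizer (A : Set SL)) = 24) ∨
    (Nat.card A ∣ 14 ∧ Nat.card (Subgroup.normalizer (A : Set SL)) = 28) := by
  obtain ⟨hodd, h2, hns, h3, hSL, hZ⟩ := basic13 hq
  by_cases hc : A ≤ Subgroup.center SL
  · exact Or.inl hc
  · right
    obtain ⟨x, hxA, hx⟩ := SetLike.not_le_iff_exists.mp hc
    obtain ⟨n, hn, hd, hN⟩ := abelian_tame_normalizer hodd (by rw [hq]; norm_num) A hab htame
      x hxA hx
    rw [hq] at hn
    rcases hn with rfl | rfl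
    · left; exact ⟨hd, hN⟩
    · right; exact ⟨hd, hN⟩

omit [Fintype F] in
theorem negOne_smul_tz {δ : F} (J : TZ δ) : (negOne : SL) • J = J := by
  rw [TZ.smul_eq_iff]
  have h := Subgroup.mem_center_iff.mp (negOne_mem_center (F := F))
  ext i j
  fin_cases i <;> fin_cases j <;> simp [negOne, Matrix.mul_apply, Fin.sum_univ_two]

/-- The order of a proper subgroup of `SL₂(13)` containing `-1`. -/
theorem card_mem_list13 (hq : Fintype.card F = 13) (K : Subgroup SL) (hneg : negOne ∈ K)
    (hne : K ≠ ⊤) : Nat.card K ∈ list13 := by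
  obtain ⟨hodd, h2, hns, h3, hSL, hZ⟩ := basic13 hq
  have hdvd : Nat.card K ∣ 2184 := by rw [← hSL]; exact Subgroup.card_subgroup_dvd_card K
  have hZK := center_le_of_negOne' K hneg
  have h2dvd : 2 ∣ Nat.card K := by
    have h4 := Subgroup.card_dvd_of_le hZK
    rwa [hZ] at h4
  by_cases hw : ∃ g ∈ K, g ≠ 1 ∧ g 0 0 + g 1 1 = 2
  · obtain ⟨c, hc⟩ := wild_borel13 hq K hneg hne hw
    have hle : conjSub c K ≤ borelSL F := by
      intro x hx
      rw [mem_conjSub] at hx
      have h1 := hc _ hx
      have e : c * (c⁻¹ * x * c) * c⁻¹ = x := by group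
      rw [e] at h1
      exact h1
    have h156 : Nat.card K ∣ 156 := by
      have h4 := Subgroup.card_dvd_of_le hle
      rw [card_conjSub, card_borelSL, hq] at h4
      exact h4
    exact arith13_a _ (Nat.le_of_dvd (by norm_num) h156) h156 h2dvd
  · push Not at hw
    have htame : ∀ g ∈ K, g 0 0 + g 1 1 = 2 → g = 1 :=
      fun g hg ht => by_contra fun h => hw g hg h ht
    rcases tame_odd h2 hns K hneg htame with h | ⟨J, hJ⟩ | ⟨J, hJ⟩ | ⟨h, -⟩ | ⟨h, -⟩ | ⟨h, -⟩
    · rw [h]; decide
    · have hab : ∀ a ∈ K, ∀ b ∈ K, a * b = b * a := fun a ha b hb =>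
        tz_stab_comm h2 h2 J a b (MulAction.mem_stabilizer_iff.mp (hJ ha))
          (MulAction.mem_stabilizer_iff.mp (hJ hb))
      rcases abelian_tame_card13 hq K hab htame with h | ⟨h, -⟩ | ⟨h, -⟩
      · have : K = Subgroup.center SL := le_antisymm h hZK
        rw [this, hZ]; decide
      · exact arith13_c _ ((Nat.le_of_dvd (by norm_num) h).trans (by norm_num)) (Or.inl h) h2dvd
      · exact arith13_c _ (Nat.le_of_dvd (by norm_num) h) (Or.inr h) h2dvd
    · have hab : ∀ a ∈ K ⊓ MulAction.stabilizer SL J, ∀ b ∈ K ⊓ MulAction.stabilizer SL J,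
          a * b = b * a := fun a ha b hb =>
        tz_stab_comm h2 h2 J a b (MulAction.mem_stabilizer_iff.mp ha.2)
          (MulAction.mem_stabilizer_iff.mp hb.2)
      have htameA : ∀ g ∈ K ⊓ MulAction.stabilizer SL J, g 0 0 + g 1 1 = 2 → g = 1 :=
        fun g hg => htame g hg.1
      rw [← hJ]
      rcases abelian_tame_card13 hq _ hab htameA with h | ⟨h, -⟩ | ⟨h, -⟩
      · have h4 : Nat.card ↥(K ⊓ MulAction.stabilizer SL J) ∣ 2 := by
          have h5 := Subgroup.card_dvd_of_le h
          rwa [hZ] at h5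
        exact arith13_b _ ((Nat.le_of_dvd (by norm_num) h4).trans (by norm_num))
          (Or.inr (Or.inr h4))
      · exact arith13_b _ ((Nat.le_of_dvd (by norm_num) h).trans (by norm_num)) (Or.inl h)
      · exact arith13_b _ (Nat.le_of_dvd (by norm_num) h) (Or.inr (Or.inl h))
    · rw [h]; decide
    · rw [h] at hdvd; norm_num at hdvd
    · rw [h] at hdvd; norm_num at hdvd

/-- A proper subgroup of `SL₂(13)` of order `24`, `28` or `156` containing `-1` is maximal. -/
theorem isCoatom_of_card13 (hq : Fintype.card F = 13) (M : Subgroup SL) (hneg : negOne ∈ M)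
    (hne : M ≠ ⊤) (hc : Nat.card M = 24 ∨ Nat.card M = 28 ∨ Nat.card M = 156) : IsCoatom M := by
  refine ⟨hne, fun K hlt => ?_⟩
  by_contra hK
  have hl := card_mem_list13 hq K (hlt.le hneg) hK
  obtain ⟨a24, a28, a156, -⟩ := arith13_d _ hl
  have hdvd := Subgroup.card_dvd_of_le hlt.le
  have heq : Nat.card K = Nat.card M := by
    rcases hc with h | h | h
    · rw [h] at hdvd ⊢; exact a24 hdvd
    · rw [h] at hdvd ⊢; exact a28 hdvd
    · rw [h] at hdvd ⊢; exact a156 hdvd
  exact hlt.ne (Subgroup.eq_of_le_of_card_ge hlt.le heq.le)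


omit [Fintype F] in
theorem normalizer_conjSub (c : SL) (H : Subgroup SL) :
    Subgroup.normalizer (conjSub c H : Set SL) = conjSub c (Subgroup.normalizer (H : Set SL)) :=
  (Subgroup.map_equiv_normalizer_eq H (MulAut.conj c)).symm

/-- The Borel subgroup of `SL₂(13)` normalizes every subgroup between the unipotent radical
and itself. -/
theorem borel_le_normalizer13 (hq : Fintype.card F = 13) (H' : Subgroup SL)
    (hle : H' ≤ borelSL F) (t₀ : F) (ht₀ : t₀ ≠ 0) (hu : upSL t₀ ∈ H') :
    borelSL F ≤ Subgroup.normalizer (H' : Set SL) := by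
  have hU : ∀ s : F, upSL s ∈ H' := by
    have hcard : Nat.card (UH H') ∣ 13 := by
      have h1 := AddSubgroup.card_addSubgroup_dvd_card (UH H')
      rwa [Nat.card_eq_fintype_card (α := F), hq] at h1
    rcases (Nat.dvd_prime (by norm_num : Nat.Prime 13)).mp hcard with h | h
    · exfalso
      have hbot : UH H' = ⊥ := AddSubgroup.eq_bot_of_card_eq _ h
      have h1 : t₀ ∈ UH H' := hu
      rw [hbot, AddSubgroup.mem_bot] at h1
      exact ht₀ h1
    · have htop : UH H' = ⊤ :=
        AddSubgroup.eq_top_of_card_eq _ (by rw [h, Nat.card_eq_fintype_card, hq])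
      intro s
      have h1 : s ∈ UH H' := by rw [htop]; exact AddSubgroup.mem_top s
      exact h1
  intro b hb
  apply nmax_mem_normalizer_of_conj_mem
  intro h hh
  have hh10 : h 1 0 = 0 := (mem_borelSL h).mp (hle hh)
  have hb10 : b 1 0 = 0 := (mem_borelSL b).mp hb
  have hdb := sl2_det' b
  have hdh := sl2_det' h
  rw [hb10, mul_zero, sub_zero] at hdb
  rw [hh10, mul_zero, sub_zero] at hdh
  have hu' : b * h * b⁻¹ * h⁻¹ = upSL ((b * h * b⁻¹ * h⁻¹) 0 1) := by
    apply eq_upSL
    · simp only [sl2_mul_apply, sl2_inv_00, sl2_inv_01, sl2_inv_10, sl2_inv_11, hh10, hb10]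
      linear_combination (h 0 0 * h 1 1) * hdb + hdh
    · simp only [sl2_mul_apply, sl2_inv_00, sl2_inv_01, sl2_inv_10, sl2_inv_11, hh10, hb10]
      ring
  have e : b * h * b⁻¹ = (b * h * b⁻¹ * h⁻¹) * h := by group
  rw [e, hu']
  exact H'.mul_mem (hU _) hh

/-- Elements of a subgroup of order `8` of `SL₂(13)`. -/
theorem sq_cases_of_card_eight (hq : Fintype.card F = 13) (H : Subgroup SL)
    (h8 : Nat.card H = 8) (h : SL) (hh : h ∈ H) :
    h = 1 ∨ h = negOne ∨ h * h = negOne := by
  obtain ⟨hodd, h2, hns, h3, hSL, hZ⟩ := basic13 hq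
  have hpow : h ^ 8 = 1 := by
    have h1 : (⟨h, hh⟩ : H) ^ Nat.card H = 1 := pow_card_eq_one'
    rw [h8] at h1
    have h2' := congrArg (Subtype.val) h1
    simpa using h2'
  have h4 : (h * h * (h * h)) * (h * h * (h * h)) = 1 := by
    rw [← hpow]
    simp only [pow_succ, pow_zero, one_mul, mul_assoc]
  rcases sl_sq_eq_one_cases h2 _ h4 with h5 | h5
  · rcases sl_sq_eq_one_cases h2 _ h5 with h6 | h6
    · rcases sl_sq_eq_one_cases h2 _ h6 with h7 | h7
      · left; exact h7
      · right; left; rw [h7, negOne_eq_neg]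
    · right; right; rw [h6, negOne_eq_neg]
  · exfalso
    have h6 := sl_trace_zero_of_sq _ h5
    have h7 := sl_trace_sq h
    apply hns
    refine ⟨h 0 0 + h 1 1, ?_⟩
    linear_combination h7 - h6

/-- A subgroup of order `8` of `SL₂(13)` is not self-normalizing. -/
theorem exists_normalizing_of_card_eight (hq : Fintype.card F = 13) (H : Subgroup SL)
    (hneg : negOne ∈ H) (h8 : Nat.card H = 8) :
    ∃ s : SL, s ∈ Subgroup.normalizer (H : Set SL) ∧ s ∉ H := by
  obtain ⟨hodd, h2, hns, h3, hSL, hZ⟩ := basic13 hq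
  have hZH := center_le_of_negOne' H hneg
  obtain ⟨i, hiH, hic⟩ : ∃ i ∈ H, i ∉ Subgroup.center SL := by
    by_contra hcon
    push Not at hcon
    have : H = Subgroup.center SL := le_antisymm hcon hZH
    rw [this, hZ] at h8
    omega
  have hi2 : i * i = negOne := by
    rcases sq_cases_of_card_eight hq H h8 i hiH with h | h | h
    · exact absurd (h ▸ Subgroup.one_mem _) hic
    · exact absurd (h ▸ negOne_mem_center) hic
    · exact h
  have hitr : i.1 0 0 + i.1 1 1 = 0 := sl_trace_zero_of_sq i (by rw [hi2, negOne_eq_neg])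
  obtain ⟨c, hc⟩ := conj_of_trace_zero hodd i wSL hitr (by rw [wSL_00, wSL_11, add_zero])
  obtain ⟨H', hH'⟩ : ∃ H', H' = conjSub c H := ⟨_, rfl⟩
  have h8' : Nat.card H' = 8 := by rw [hH', card_conjSub, h8]
  have hwH' : wSL ∈ H' := by rw [hH', ← hc]; exact conj_mem_conjSub c H i hiH
  have hnegH' : negOne ∈ H' := by rw [hH']; exact negOne_mem_conjSub c H hneg
  have hww : (wSL : SL) * wSL = negOne := by
    apply sl2_ext <;> simp [sl2_mul_apply, wSL_00, wSL_01, wSL_10, wSL_11, negOne_00, negOne_01,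
      negOne_10, negOne_11]
  have hw4 : (wSL : SL) ^ 4 = 1 := by
    have : (wSL : SL) ^ 4 = (wSL * wSL) * (wSL * wSL) := by
      simp only [pow_succ, pow_zero, one_mul, mul_assoc]
    rw [this, hww, negOne_mul_self]
  have hW : Subgroup.zpowers (wSL : SL) ≤ H' := by rw [Subgroup.zpowers_le]; exact hwH'
  obtain ⟨j, hjH', hjW⟩ : ∃ j ∈ H', j ∉ Subgroup.zpowers (wSL : SL) := by
    by_contra hcon
    push Not at hcon
    have : H' = Subgroup.zpowers (wSL : SL) := le_antisymm hcon hW
    rw [this, Nat.card_zpowers] at h8'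
    have := orderOf_le_of_pow_eq_one (by norm_num : 0 < 4) hw4
    omega
  have hnegW : negOne ∈ Subgroup.zpowers (wSL : SL) := by
    rw [← hww]; exact Subgroup.mul_mem _ (Subgroup.mem_zpowers _) (Subgroup.mem_zpowers _)
  have hj2 : j * j = negOne := by
    rcases sq_cases_of_card_eight hq H' h8' j hjH' with h | h | h
    · exact absurd (h ▸ Subgroup.one_mem _) hjW
    · exact absurd (h ▸ hnegW) hjW
    · exact h
  have hwj2 : (wSL * j) * (wSL * j) = negOne := by
    rcases sq_cases_of_card_eight hq H' h8' (wSL * j) (H'.mul_mem hwH' hjH') with h | h | h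
    · exfalso; apply hjW
      have : j = (wSL : SL)⁻¹ := eq_inv_of_mul_eq_one_right h
      rw [this]; exact Subgroup.inv_mem _ (Subgroup.mem_zpowers _)
    · exfalso; apply hjW
      have : j = (wSL : SL)⁻¹ * negOne := by rw [← h]; group
      rw [this]; exact Subgroup.mul_mem _ (Subgroup.inv_mem _ (Subgroup.mem_zpowers _)) hnegW
    · exact h
  have hjtr : j 0 0 + j 1 1 = 0 := sl_trace_zero_of_sq j (by rw [hj2, negOne_eq_neg])
  have hwjtr : (wSL * j : SL) 0 0 + (wSL * j : SL) 1 1 = 0 :=
    sl_trace_zero_of_sq (wSL * j) (by rw [hwj2, negOne_eq_neg])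
  have e10 : j 1 0 = j 0 1 := by
    simp only [sl2_mul_apply, wSL_00, wSL_01, wSL_10, wSL_11] at hwjtr
    linear_combination hwjtr
  have e11 : j 1 1 = - j 0 0 := by linear_combination hjtr
  have hdj := sl2_det' j
  rw [e10, e11] at hdj
  have hde : j 0 0 * j 0 0 + j 0 1 * j 0 1 = -1 := by linear_combination -hdj
  obtain ⟨s, hs⟩ : ∃ s : SL, s = mSL ((-1 + j 0 0 + j 0 1) / 2) ((1 + j 0 1 - j 0 0) / 2)
      ((-1 + j 0 1 - j 0 0) / 2) ((-1 - j 0 0 - j 0 1) / 2)
      (by field_simp; linear_combination (-2) * hde) := ⟨_, rfl⟩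
  have s00 : s 0 0 = (-1 + j 0 0 + j 0 1) / 2 := by rw [hs]; rfl
  have s01 : s 0 1 = (1 + j 0 1 - j 0 0) / 2 := by rw [hs]; rfl
  have s10 : s 1 0 = (-1 + j 0 1 - j 0 0) / 2 := by rw [hs]; rfl
  have s11 : s 1 1 = (-1 - j 0 0 - j 0 1) / 2 := by rw [hs]; rfl
  have hs1 : s * wSL = (wSL * j) * s := by
    apply sl2_ext <;> simp only [sl2_mul_apply, wSL_00, wSL_01, wSL_10, wSL_11, s00, s01, s10, s11,
      e10, e11] <;> field_simp <;>
      first | linear_combination (1 : F) * hde | linear_combination (-1 : F) * hde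
  have hs2 : s * j = wSL * s := by
    apply sl2_ext <;> simp only [sl2_mul_apply, wSL_00, wSL_01, wSL_10, wSL_11, s00, s01, s10, s11,
      e10, e11] <;> field_simp <;>
      first | linear_combination (1 : F) * hde | linear_combination (-1 : F) * hde
  have hsw : s * wSL * s⁻¹ = wSL * j := by rw [hs1]; group
  have hsj : s * j * s⁻¹ = wSL := by rw [hs2]; group
  -- `H'` is generated by `wSL` and `j`
  have hK : Subgroup.closure ({wSL, j} : Set SL) = H' := by
    have hKle : Subgroup.closure ({wSL, j} : Set SL) ≤ H' := by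
      rw [Subgroup.closure_le]
      rintro x (rfl | rfl)
      · exact hwH'
      · exact hjH'
    apply Subgroup.eq_of_le_of_card_ge hKle
    have hWK : Subgroup.zpowers (wSL : SL) ≤ Subgroup.closure ({wSL, j} : Set SL) := by
      rw [Subgroup.zpowers_le]
      exact Subgroup.subset_closure (Set.mem_insert _ _)
    have hjK : j ∈ Subgroup.closure ({wSL, j} : Set SL) :=
      Subgroup.subset_closure (Set.mem_insert_of_mem _ rfl)
    have h1 : Nat.card (Subgroup.zpowers (wSL : SL)) = 4 := by
      rw [Nat.card_zpowers]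
      have h5 := orderOf_eq_prime_pow (x := (wSL : SL)) (p := 2) (n := 1)
        (by rw [pow_one, pow_two, hww]; exact negOne_ne_one h2)
        (by norm_num; exact hw4)
      rw [h5]; norm_num
    have h4 : Nat.card (Subgroup.zpowers (wSL : SL)) ∣
        Nat.card (Subgroup.closure ({wSL, j} : Set SL)) := Subgroup.card_dvd_of_le hWK
    have h5 : Nat.card (Subgroup.closure ({wSL, j} : Set SL)) ∣ 8 := by
      rw [← h8']; exact Subgroup.card_dvd_of_le hKle
    have h6 : Nat.card (Subgroup.closure ({wSL, j} : Set SL)) ≠ 4 := by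
      intro h7
      apply hjW
      have : Subgroup.zpowers (wSL : SL) = Subgroup.closure ({wSL, j} : Set SL) :=
        Subgroup.eq_of_le_of_card_ge hWK (by rw [h1, h7])
      rw [this]; exact hjK
    rw [h1] at h4
    rw [h8']
    have h7 : Nat.card (Subgroup.closure ({wSL, j} : Set SL)) ≤ 8 := Nat.le_of_dvd (by norm_num) h5
    have harith : ∀ n ≤ 8, 4 ∣ n → n ∣ 8 → n ≠ 4 → 8 ≤ n := by decide
    exact harith _ h7 h4 h5 h6
  have hconj : ∀ h ∈ H', s * h * s⁻¹ ∈ H' := by
    intro h hh
    rw [← hK] at hh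
    induction hh using Subgroup.closure_induction with
    | mem x hx =>
      rcases hx with rfl | hx
      · rw [hsw]; exact H'.mul_mem hwH' hjH'
      · rw [Set.mem_singleton_iff] at hx
        rw [hx, hsj]; exact hwH'
    | one => simp
    | mul x y _ _ hx hy =>
      have e : s * (x * y) * s⁻¹ = (s * x * s⁻¹) * (s * y * s⁻¹) := by group
      rw [e]; exact H'.mul_mem hx hy
    | inv x _ hx =>
      have e : s * x⁻¹ * s⁻¹ = (s * x * s⁻¹)⁻¹ := by group
      rw [e]; exact H'.inv_mem hx
  have hsN : s ∈ Subgroup.normalizer (H' : Set SL) := nmax_mem_normalizer_of_conj_mem H' s hconj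
  have hstr : s 0 0 + s 1 1 = -1 := by
    rw [s00, s11, ← add_div, div_eq_iff h2]; ring
  have hsH' : s ∉ H' := by
    intro hsH
    rcases sq_cases_of_card_eight hq H' h8' s hsH with h | h | h
    · rw [h, sl2_one_00, sl2_one_11] at hstr
      apply h3; linear_combination hstr
    · rw [h, negOne_00, negOne_11] at hstr
      apply one_ne_zero (α := F); linear_combination -hstr
    · have h5 : s.1 0 0 + s.1 1 1 = 0 := sl_trace_zero_of_sq s (by rw [h, negOne_eq_neg])
      apply one_ne_zero (α := F); linear_combination hstr - h5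
  refine ⟨c⁻¹ * s * c, ?_, ?_⟩
  · rw [hH', normalizer_conjSub, mem_conjSub] at hsN
    exact hsN
  · rw [hH', mem_conjSub] at hsH'
    exact hsH'

/-- **Subgroups of `SL₂(13)` containing `-1`.** -/
theorem nmax13_of_neg (hq : Fintype.card F = 13) (H : Subgroup SL) (hneg : negOne ∈ H)
    (hH : ¬ H.Normal) : IsCoatom (Subgroup.normalizer (H : Set SL)) := by
  obtain ⟨hodd, h2, hns, h3, hSL, hZ⟩ := basic13 hq
  obtain ⟨N, hNdef⟩ : ∃ N, N = Subgroup.normalizer (H : Set SL) := ⟨_, rfl⟩
  rw [← hNdef]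
  have hHN : H ≤ N := by rw [hNdef]; exact Subgroup.le_normalizer
  have hNne : N ≠ ⊤ := fun h => hH (Subgroup.normalizer_eq_top_iff.mp (hNdef ▸ h))
  have hnegN : negOne ∈ N := hHN hneg
  have hNl := card_mem_list13 hq N hnegN hNne
  obtain ⟨a24, a28, a156, a8⟩ := arith13_d _ hNl
  have hHdvd : Nat.card H ∣ Nat.card N := Subgroup.card_dvd_of_le hHN
  have hZH := center_le_of_negOne' H hneg
  have hncent : ¬ H ≤ Subgroup.center SL := by
    intro hle
    apply hH
    have : H = Subgroup.center SL := le_antisymm hle hZH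
    rw [this]; infer_instance
  have hHne : H ≠ ⊤ := by rintro rfl; exact hH inferInstance
  have hHdvdSL : Nat.card H ∣ 2184 := by rw [← hSL]; exact Subgroup.card_subgroup_dvd_card H
  apply isCoatom_of_card13 hq N hnegN hNne
  have case4 : Nat.card H = 4 → Nat.card N = 24 := by
    intro h4
    have h5 := (card_normalizer_of_card_four hodd H h4).1 (by rw [hq])
    rw [hNdef, h5, hq]
  by_cases hw : ∃ g ∈ H, g ≠ 1 ∧ g 0 0 + g 1 1 = 2
  · right; right
    apply a156
    obtain ⟨c, hc⟩ := wild_borel13 hq H hneg hHne hw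
    have hle : conjSub c H ≤ borelSL F := by
      intro x hx
      rw [mem_conjSub] at hx
      have h1 := hc _ hx
      have e : c * (c⁻¹ * x * c) * c⁻¹ = x := by group
      rw [e] at h1
      exact h1
    obtain ⟨g, hgH, hg1, hgtr⟩ := hw
    have hg' : c * g * c⁻¹ ∈ conjSub c H := conj_mem_conjSub c H g hgH
    have h10 : (c * g * c⁻¹) 1 0 = 0 := hc g hgH
    have htr' : (c * g * c⁻¹) 0 0 + (c * g * c⁻¹) 1 1 = 2 := by rw [trace_conj]; exact hgtr
    have hd := sl2_det' (c * g * c⁻¹)
    rw [h10, mul_zero, sub_zero] at hd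
    have h00 : (c * g * c⁻¹) 0 0 = 1 := by
      have h4 : ((c * g * c⁻¹) 0 0 - 1) * ((c * g * c⁻¹) 0 0 - 1) = 0 := by
        linear_combination (c * g * c⁻¹) 0 0 * htr' - hd
      have h5 := mul_self_eq_zero.mp h4
      linear_combination h5
    have hup := eq_upSL h00 h10
    have ht₀ : (c * g * c⁻¹) 0 1 ≠ 0 := by
      intro h0
      rw [h0, upSL_zero] at hup
      apply hg1
      have e : g = c⁻¹ * (c * g * c⁻¹) * c := by group
      rw [e, hup]; group
    have hB := borel_le_normalizer13 hq (conjSub c H) hle _ ht₀ (hup ▸ hg')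
    have h4 := Subgroup.card_dvd_of_le hB
    rw [card_borelSL, hq, card_normalizer_conjSub, ← hNdef] at h4
    exact h4
  · push Not at hw
    have htame : ∀ g ∈ H, g 0 0 + g 1 1 = 2 → g = 1 :=
      fun g hg ht => by_contra fun h => hw g hg h ht
    rcases tame_odd h2 hns H hneg htame with h | ⟨J, hJ⟩ | ⟨J, hJ⟩ | ⟨h, -⟩ | ⟨h, -⟩ | ⟨h, -⟩
    · exfalso; apply hncent
      have : Subgroup.center SL = H := Subgroup.eq_of_le_of_card_ge hZH (by rw [h, hZ])
      rw [← this]
    · have hab : ∀ a ∈ H, ∀ b ∈ H, a * b = b * a := fun a ha b hb =>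
        tz_stab_comm h2 h2 J a b (MulAction.mem_stabilizer_iff.mp (hJ ha))
          (MulAction.mem_stabilizer_iff.mp (hJ hb))
      rcases abelian_tame_card13 hq H hab htame with h | ⟨-, h⟩ | ⟨-, h⟩
      · exact absurd h hncent
      · left; rw [hNdef]; exact h
      · right; left; rw [hNdef]; exact h
    · obtain ⟨A, hAdef⟩ : ∃ A, A = H ⊓ MulAction.stabilizer SL J := ⟨_, rfl⟩
      rw [← hAdef] at hJ
      have hAH : A ≤ H := by rw [hAdef]; exact inf_le_left
      have habA : ∀ a ∈ A, ∀ b ∈ A, a * b = b * a := by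
        intro a ha b hb
        rw [hAdef] at ha hb
        exact tz_stab_comm h2 h2 J a b (MulAction.mem_stabilizer_iff.mp ha.2)
          (MulAction.mem_stabilizer_iff.mp hb.2)
      have htameA : ∀ g ∈ A, g 0 0 + g 1 1 = 2 → g = 1 := fun g hg => htame g (hAH hg)
      have hnegA : negOne ∈ A := by
        rw [hAdef]
        exact ⟨hneg, MulAction.mem_stabilizer_iff.mpr (negOne_smul_tz J)⟩
      have hZA := center_le_of_negOne' A hnegA
      have h2A : 2 ∣ Nat.card A := by
        have h4 := Subgroup.card_dvd_of_le hZA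
        rwa [hZ] at h4
      have hHNA : H ≤ Subgroup.normalizer (A : Set SL) := le_normalizer_of_card_two A H hAH hJ
      rcases abelian_tame_card13 hq A habA htameA with h | ⟨hd, hn⟩ | ⟨hd, hn⟩
      · left; apply case4
        have hA2 : Nat.card A = 2 := by
          have : A = Subgroup.center SL := le_antisymm h hZA
          rw [this, hZ]
        omega
      · have hle : Nat.card A ≤ 12 := Nat.le_of_dvd (by norm_num) hd
        have harith : ∀ d ≤ 12, d ∣ 12 → 2 ∣ d →
            2 * d = 4 ∨ 2 * d = 8 ∨ 2 * d = 12 ∨ 2 * d = 24 := by decide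
        rcases harith _ hle hd h2A with hc | hc | hc | hc <;> rw [hJ] at hc
        · left; exact case4 hc
        · left
          obtain ⟨s, hsN, hsH⟩ := exists_normalizing_of_card_eight hq H hneg hc
          apply a8
          · rw [← hc]; exact hHdvd
          · rw [← hc]
            by_contra hcon
            push Not at hcon
            have : H = N := Subgroup.eq_of_le_of_card_ge hHN hcon
            apply hsH
            rw [this, hNdef]; exact hsN
        · left
          apply a24
          have h5 : Subgroup.normalizer (A : Set SL) ≤ N := by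
            rw [hNdef]
            exact le_normalizer_of_card_two H _ hHNA (by rw [hn, hc])
          have h6 := Subgroup.card_dvd_of_le h5
          rwa [hn] at h6
        · left; apply a24; rw [← hc]; exact hHdvd
      · have hle : Nat.card A ≤ 14 := Nat.le_of_dvd (by norm_num) hd
        have harith : ∀ d ≤ 14, d ∣ 14 → 2 ∣ d → 2 * d = 4 ∨ 2 * d = 28 := by decide
        rcases harith _ hle hd h2A with hc | hc <;> rw [hJ] at hc
        · left; exact case4 hc
        · right; left; apply a28; rw [← hc]; exact hHdvd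
    · left; apply a24; rw [← h]; exact hHdvd
    · rw [h] at hHdvdSL; norm_num at hHdvdSL
    · rw [h] at hHdvdSL; norm_num at hHdvdSL

/-- **Non-normal subgroups of `SL₂(13)` have maximal normalizers.** -/
theorem nmax_SL13 (hq : Fintype.card F = 13) : NMax SL := by
  intro H hH
  obtain ⟨hodd, h2, hns, h3, hSL, hZ⟩ := basic13 hq
  by_cases hneg : negOne ∈ H
  · exact nmax13_of_neg hq H hneg hH
  · -- `H` has odd order
    have hoddH : ¬ 2 ∣ Nat.card H := by
      intro h2dvd
      obtain ⟨y, hy⟩ := exists_prime_orderOf_dvd_card' (G := H) 2 h2dvd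
      have hy2 : (y : SL) * (y : SL) = 1 := by
        have h4 : y ^ 2 = 1 := by
          have h6 := pow_orderOf_eq_one y
          rwa [hy] at h6
        have h5 := congrArg Subtype.val h4
        rw [pow_two] at h5
        simpa using h5
      rcases sl_sq_eq_one_cases h2 _ hy2 with h4 | h4
      · have h5 : y = 1 := Subtype.ext h4
        rw [h5, orderOf_one] at hy
        omega
      · apply hneg
        rw [negOne_eq_neg, ← h4]
        exact y.2
    have hmem : ∀ x : SL, x ∈ H ⊔ Subgroup.center SL ↔ (x ∈ H ∨ negOne * x ∈ H) := by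
      intro x
      rw [Subgroup.mem_sup_of_normal_right]
      constructor
      · rintro ⟨y, hy, z, hz, rfl⟩
        rcases center_sl2_eq z hz with h | h
        · left; rw [h, mul_one]; exact hy
        · right
          rw [h, negOne_comm, mul_assoc, negOne_mul_self, mul_one]; exact hy
      · rintro (h | h)
        · exact ⟨x, h, 1, Subgroup.one_mem _, mul_one x⟩
        · refine ⟨negOne * x, h, negOne, negOne_mem_center, ?_⟩
          rw [← negOne_comm, negOne_mul_cancel]
    have heq : Subgroup.normalizer ((H ⊔ Subgroup.center SL : Subgroup SL) : Set SL) =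
        Subgroup.normalizer (H : Set SL) := by
      apply le_antisymm
      · intro g hg
        apply nmax_mem_normalizer_of_conj_mem
        intro x hx
        have h4 : g * x * g⁻¹ ∈ H ⊔ Subgroup.center SL :=
          (Subgroup.mem_normalizer_iff.mp hg x).mp ((hmem x).mpr (Or.inl hx))
        rcases (hmem _).mp h4 with h5 | h5
        · exact h5
        · exfalso
          -- orders
          have hx1 : x ^ Nat.card H = 1 := by
            have h6 : (⟨x, hx⟩ : H) ^ Nat.card H = 1 := pow_card_eq_one'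
            have h7 := congrArg Subtype.val h6
            rw [Subgroup.coe_pow, Subgroup.coe_one] at h7
            exact h7
          have h6 : (negOne * (g * x * g⁻¹)) ^ Nat.card H = 1 := by
            have h7 : (⟨_, h5⟩ : H) ^ Nat.card H = 1 := pow_card_eq_one'
            have h8 := congrArg Subtype.val h7
            rw [Subgroup.coe_pow, Subgroup.coe_one] at h8
            exact h8
          have hcomm : Commute (negOne : SL) (g * x * g⁻¹) := negOne_comm _
          rw [hcomm.mul_pow, conj_pow, hx1] at h6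
          have h7 : (negOne : SL) ^ Nat.card H = negOne := by
            obtain ⟨k, hk⟩ : ∃ k, Nat.card H = 2 * k + 1 := ⟨Nat.card H / 2, by omega⟩
            rw [hk, pow_succ, pow_mul, negOne_pow_two, one_pow, one_mul]
          rw [h7] at h6
          have h8 : (negOne : SL) = 1 := by
            have e : g * 1 * g⁻¹ = 1 := by group
            rw [e, mul_one] at h6
            exact h6
          exact negOne_ne_one h2 h8
      · intro g hg
        apply nmax_mem_normalizer_of_conj_mem
        intro x hx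
        rw [hmem] at hx ⊢
        rcases hx with hx | hx
        · left; exact (Subgroup.mem_normalizer_iff.mp hg x).mp hx
        · right
          have h4 := (Subgroup.mem_normalizer_iff.mp hg _).mp hx
          have e : g * (negOne * x) * g⁻¹ = negOne * (g * x * g⁻¹) := by
            rw [← mul_assoc, ← negOne_comm g]; group
          rwa [e] at h4
    have hneg' : negOne ∈ H ⊔ Subgroup.center SL :=
      (le_sup_right : Subgroup.center SL ≤ H ⊔ Subgroup.center SL) negOne_mem_center
    have hH' : ¬ (H ⊔ Subgroup.center SL).Normal := by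
      intro hn
      apply hH
      rw [← Subgroup.normalizer_eq_top_iff, ← heq, Subgroup.normalizer_eq_top_iff]
      exact hn
    rw [← heq]
    exact nmax13_of_neg hq _ hneg' hH'

/-- **Non-normal subgroups of `PSL₂(13)` have maximal normalizers.** -/
theorem nmax_PSL13 (hq : Fintype.card F = 13) :
    NMax (Matrix.ProjectiveSpecialLinearGroup (Fin 2) F) := by
  intro H hH
  have hsurj : Function.Surjective (QuotientGroup.mk' (Subgroup.center SL)) :=
    QuotientGroup.mk'_surjective _
  have hneg : negOne ∈ H.comap (QuotientGroup.mk' (Subgroup.center SL)) := negOne_mem_comap H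
  have hH' : ¬ (H.comap (QuotientGroup.mk' (Subgroup.center SL))).Normal := by
    intro hn
    apply hH
    have h4 := hn.map (QuotientGroup.mk' (Subgroup.center SL)) hsurj
    rwa [Subgroup.map_comap_eq_self_of_surjective hsurj] at h4
  have h1 := nmax13_of_neg hq _ hneg hH'
  rw [← Subgroup.comap_normalizer_eq_of_surjective H hsurj] at h1
  refine ⟨?_, fun K hlt => ?_⟩
  · intro h
    apply h1.1
    rw [h, Subgroup.comap_top]
  · have h4 : (Subgroup.normalizer (H : Set _)).comap (QuotientGroup.mk' (Subgroup.center SL)) <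
        K.comap (QuotientGroup.mk' (Subgroup.center SL)) := by
      refine lt_of_le_of_ne (Subgroup.comap_mono hlt.le) ?_
      intro h
      exact hlt.ne (Subgroup.comap_injective hsurj h)
    have h5 := h1.2 _ h4
    apply Subgroup.comap_injective hsurj
    rw [h5, Subgroup.comap_top]

end NMax13

end Cfsg.Agent.Lib.helper46
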