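import Mathlib
import Cfsg.Agent.Lib.helper73.OrdTools

/-!
# No simple group of order 5600 = 2^5 * 5^2 * 7

A proper subgroup has index at least 10, so the number of Sylow 5-subgroups is 16 or 56; neither
is 1 mod 25, so by the Sylow intersection rule there is a proper subgroup `H` whose order is
divisible by `25 * n` with `n > 1`, `n = 1` mod 5.  This forces `|H| = 400` with 16 Sylow
5-subgroups (one Sylow 5-subgroup would make `H` normalize a Sylow 5-subgroup of `G`).  A Sylow
5-subgroup of `H` is then abelian and self-normalizing, so by Burnside's transfer theorem `H` has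
a normal subgroup `T` of order 16.  `T` has index 2 in a Sylow 2-subgroup, so its normalizer has
order divisible by 800, hence index 1 or 7: both are impossible.
-/

set_option autoImplicit false

namespace Cfsg.Agent.Lib.helper46

open Cfsg.Agent.Lib.helper73

/-- The image in `G` of a normal subgroup `K` of a subgroup `H` is normalized by `H`. -/
theorem le_normalizer_map_subtype {G : Type*} [Group G] (H : Subgroup G) (K : Subgroup ↥H)
    (hK : K.Normal) :
    H ≤ Subgroup.normalizer ((K.map H.subtype : Subgroup G) : Set G) := by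
  have h1 := Subgroup.le_normalizer_map (H := K) H.subtype
  rw [Subgroup.normalizer_eq_top_iff.mpr hK, ← MonoidHom.range_eq_map, Subgroup.range_subtype]
    at h1
  exact h1

/-- In a simple group of order `5600`, a proper subgroup has index at least `10`. -/
theorem ord5600_index_ge {G : Type*} [Group G] [Finite G] [IsSimpleGroup G]
    (hcard : Nat.card G = 5600) (hG : ¬ IsMulCommutative G) (H : Subgroup G) (hH : H ≠ ⊤) :
    10 ≤ H.index := by
  obtain ⟨h1, -, -⟩ := OrdTools.index_facts hG H hH
  rw [hcard] at h1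
  by_contra hlt
  have hlt' : H.index < 10 := by omega
  generalize H.index = i at *
  interval_cases i <;> revert h1 <;> decide

/-- A subgroup of order `400` of a simple group of order `5600` has `16` Sylow `5`-subgroups. -/
theorem ord5600_sylow5_of_400 {G : Type*} [Group G] [Finite G] [IsSimpleGroup G]
    (hcard : Nat.card G = 5600) (H : Subgroup G) (hH : Nat.card ↥H = 400)
    [Fact (Nat.Prime 5)] (Q : Sylow 5 ↥H) :
    Nat.card (Q : Subgroup ↥H) = 25 ∧
      (Subgroup.normalizer ((Q : Subgroup ↥H) : Set ↥H)).index = 16 := by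
  have P0 : Sylow 5 G := default
  obtain ⟨hPc, hG, hNtop, hn, hmod, hdvd⟩ :=
    OrdTools.sylow_facts (G := G) (p := 5) 2 224 (by norm_num) (by rw [hcard]; norm_num)
      (by norm_num) (by norm_num) P0
  have hQc : Nat.card (Q : Subgroup ↥H) = 25 := by
    obtain ⟨k, hk⟩ := Q.2.exists_card_eq
    have h1 : 5 ^ 2 ∣ Nat.card (Q : Subgroup ↥H) :=
      Q.pow_dvd_card_of_pow_dvd_card (by rw [hH]; norm_num)
    have h2 : Nat.card (Q : Subgroup ↥H) ∣ 400 := hH ▸ Subgroup.card_subgroup_dvd_card _
    rw [hk] at h1 h2 ⊢
    have hk2 : k ≤ 2 := by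
      by_contra h
      have h3 : 3 ≤ k := by omega
      have : 5 ^ 3 ∣ 400 := (pow_dvd_pow 5 h3).trans h2
      omega
    have hk2' : 2 ≤ k := (Nat.pow_dvd_pow_iff_le_right (by norm_num)).mp h1
    have : k = 2 := by omega
    rw [this]
    norm_num
  refine ⟨hQc, ?_⟩
  have hQi : (Q : Subgroup ↥H).index = 16 := by
    have := Subgroup.card_mul_index (Q : Subgroup ↥H)
    rw [hQc, hH] at this
    omega
  have h1 : Nat.card (Sylow 5 ↥H) ≡ 1 [MOD 5] := card_sylow_modEq_one 5 ↥H
  have h2 : Nat.card (Sylow 5 ↥H) ∣ (Q : Subgroup ↥H).index := Sylow.card_dvd_index Q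
  rw [Sylow.card_eq_index_normalizer Q, hQi] at h2
  rw [Sylow.card_eq_index_normalizer Q] at h1
  have h3 : (Subgroup.normalizer ((Q : Subgroup ↥H) : Set ↥H)).index % 5 = 1 := h1
  have hle : (Subgroup.normalizer ((Q : Subgroup ↥H) : Set ↥H)).index ≤ 16 :=
    Nat.le_of_dvd (by norm_num) h2
  by_contra hne
  have hone : (Subgroup.normalizer ((Q : Subgroup ↥H) : Set ↥H)).index = 1 := by
    generalize (Subgroup.normalizer ((Q : Subgroup ↥H) : Set ↥H)).index = i at *
    interval_cases i <;> omega
  -- `Q` is normal in `H`, so `H` normalizes a Sylow `5`-subgroup of `G`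
  have hQn : (Q : Subgroup ↥H).Normal :=
    Subgroup.normalizer_eq_top_iff.mp (Subgroup.index_eq_one.mp hone)
  have hHN := le_normalizer_map_subtype H (Q : Subgroup ↥H) hQn
  have hmapc : Nat.card ↥((Q : Subgroup ↥H).map H.subtype) = 25 := by
    rw [Subgroup.card_map_of_injective H.subtype_injective, hQc]
  have hpg : IsPGroup 5 ↥((Q : Subgroup ↥H).map H.subtype) :=
    IsPGroup.of_card (n := 2) (by rw [hmapc]; norm_num)
  obtain ⟨P', hP'⟩ := hpg.exists_le_sylow
  obtain ⟨hPc', -, hNtop', hn', hmod', hdvd'⟩ :=
    OrdTools.sylow_facts (G := G) (p := 5) 2 224 (by norm_num) (by rw [hcard]; norm_num)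
      (by norm_num) (by norm_num) P'
  have heq : (Q : Subgroup ↥H).map H.subtype = (P' : Subgroup G) :=
    Subgroup.eq_of_le_of_card_ge hP' (by rw [hPc', hmapc]; norm_num)
  rw [heq] at hHN
  have hidx := ord5600_index_ge hcard hG _ hNtop'
  have hd : (Subgroup.normalizer ((P' : Subgroup G) : Set G)).index ∣ H.index :=
    Subgroup.index_dvd_of_le hHN
  have hHi : H.index = 14 := by
    have := Subgroup.card_mul_index H
    rw [hH, hcard] at this
    omega
  rw [hHi] at hd
  have hle' : (Subgroup.normalizer ((P' : Subgroup G) : Set G)).index ≤ 14 :=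
    Nat.le_of_dvd (by norm_num) hd
  generalize (Subgroup.normalizer ((P' : Subgroup G) : Set G)).index = i at *
  interval_cases i <;> omega

/-- There is no simple group of order `5600`. -/
theorem no_simple_5600 {G : Type*} [Group G] [Finite G] [IsSimpleGroup G] :
    Nat.card G ≠ 5600 := by
  intro hcard
  haveI h5 : Fact (Nat.Prime 5) := ⟨by norm_num⟩
  haveI h2 : Fact (Nat.Prime 2) := ⟨by norm_num⟩
  have P : Sylow 5 G := default
  obtain ⟨hPc, hG, hNtop, hn, hmod, hdvd⟩ :=
    OrdTools.sylow_facts (G := G) (p := 5) 2 224 (by norm_num) (by rw [hcard]; norm_num)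
      (by norm_num) (by norm_num) P
  have hidx := ord5600_index_ge hcard hG _ hNtop
  have hcases : (Subgroup.normalizer ((P : Subgroup G) : Set G)).index = 16 ∨
      (Subgroup.normalizer ((P : Subgroup G) : Set G)).index = 56 := by
    have hle : (Subgroup.normalizer ((P : Subgroup G) : Set G)).index ≤ 224 :=
      Nat.le_of_dvd (by norm_num) hdvd
    generalize (Subgroup.normalizer ((P : Subgroup G) : Set G)).index = i at *
    interval_cases i <;> omega
  have hnot : ¬ Nat.card (Sylow 5 G) ≡ 1 [MOD 5 ^ 2] := by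
    rw [hn]
    rcases hcases with h | h <;> rw [h] <;> decide
  obtain ⟨H, hHtop, n, hn1, hn2, hHdvd⟩ :=
    SylInter.sylow_inter 5 hnot P (by rw [hPc])
  rw [hPc] at hHdvd
  obtain ⟨c, hc⟩ := hHdvd
  obtain ⟨-, -, hmul⟩ := OrdTools.index_facts hG H hHtop
  have hi := ord5600_index_ge hcard hG H hHtop
  rw [hc, hcard] at hmul
  have h224 : n * (c * H.index) = 224 := by
    have : 25 * (n * (c * H.index)) = 5600 := by
      rw [← hmul]
      ring
    omega
  have hndvd : n ∣ 224 := Dvd.intro _ h224
  have hnle : n ≤ 224 := Nat.le_of_dvd (by norm_num) hndvd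
  have hn16 : n = 16 ∨ n = 56 := by
    clear h224 hc
    interval_cases n <;> omega
  have hH400 : Nat.card ↥H = 400 ∧ H.index = 14 := by
    rcases hn16 with h | h
    · rw [h] at h224 hc
      have h14 : c * H.index = 14 := by omega
      have hjdvd : H.index ∣ 14 := Dvd.intro_left _ h14
      have hjle : H.index ≤ 14 := Nat.le_of_dvd (by norm_num) hjdvd
      have hj : H.index = 14 := by
        clear hmul
        generalize H.index = j at *
        interval_cases j <;> omega
      rw [hj] at h14
      have hc1 : c = 1 := by omega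
      rw [hc1] at hc
      exact ⟨by rw [hc]; norm_num, hj⟩
    · rw [h] at h224
      have h4 : c * H.index = 4 := by omega
      have hjdvd : H.index ∣ 4 := Dvd.intro_left _ h4
      have hjle : H.index ≤ 4 := Nat.le_of_dvd (by norm_num) hjdvd
      omega
  obtain ⟨hH400, hHi⟩ := hH400
  -- a Sylow 5-subgroup of `H` is self-normalizing and abelian
  have Q : Sylow 5 ↥H := default
  obtain ⟨hQc, hQN⟩ := ord5600_sylow5_of_400 hcard H hH400 Q
  have hNQ : Nat.card ↥(Subgroup.normalizer ((Q : Subgroup ↥H) : Set ↥H)) = 25 := by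
    have := Subgroup.card_mul_index (Subgroup.normalizer ((Q : Subgroup ↥H) : Set ↥H))
    rw [hQN, hH400] at this
    omega
  have heq : (Q : Subgroup ↥H) = Subgroup.normalizer ((Q : Subgroup ↥H) : Set ↥H) :=
    Subgroup.eq_of_le_of_card_ge Subgroup.le_normalizer (by rw [hQc, hNQ])
  have hcomm : IsMulCommutative ↥(Q : Subgroup ↥H) :=
    IsPGroup.isMulCommutative_of_card_eq_prime_sq (p := 5) (by rw [hQc]; norm_num)
  have hle' : Subgroup.normalizer ((Q : Subgroup ↥H) : Set ↥H) ≤
      Subgroup.centralizer ((Q : Subgroup ↥H) : Set ↥H) := by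
    rw [← heq]
    intro a ha
    rw [Subgroup.mem_centralizer_iff]
    intro b hb
    have := hcomm.is_comm.comm (⟨b, hb⟩ : ↥(Q : Subgroup ↥H)) ⟨a, ha⟩
    exact congrArg Subtype.val this
  have hcompl := MonoidHom.ker_transferSylow_isComplement' Q hle'
  have hKc := hcompl.card_mul_card
  have hKn : (MonoidHom.transferSylow Q hle').ker.Normal := inferInstance
  generalize (MonoidHom.transferSylow Q hle').ker = K at hKc hKn
  rw [hQc, hH400] at hKc
  have hK16 : Nat.card ↥K = 16 := by omega
  -- its image `T` in `G`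
  have hHT := le_normalizer_map_subtype H K hKn
  have hTc : Nat.card ↥(K.map H.subtype) = 16 := by
    rw [Subgroup.card_map_of_injective H.subtype_injective, hK16]
  generalize K.map H.subtype = T at hHT hTc
  have hpg : IsPGroup 2 ↥T := IsPGroup.of_card (n := 4) (by rw [hTc]; norm_num)
  obtain ⟨S, hTS⟩ := hpg.exists_le_sylow
  obtain ⟨hSc, -, -, -, -, -⟩ :=
    OrdTools.sylow_facts (G := G) (p := 2) 5 175 (by norm_num) (by rw [hcard]; norm_num)
      (by norm_num) (by norm_num) S
  have hrel : T.relIndex (S : Subgroup G) = 2 := by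
    have := SylInter.card_mul_relIndex_of_le hTS
    rw [hTc, hSc] at this
    omega
  have hST : (S : Subgroup G) ≤ Subgroup.normalizer (T : Set G) := by
    rw [← Subgroup.normal_subgroupOf_iff_le_normalizer hTS]
    exact Subgroup.normal_of_index_eq_two hrel
  -- the normalizer of `T` has index dividing 7
  have hd1 : (Subgroup.normalizer (T : Set G)).index ∣ H.index := Subgroup.index_dvd_of_le hHT
  have hd2 : (Subgroup.normalizer (T : Set G)).index ∣ (S : Subgroup G).index :=
    Subgroup.index_dvd_of_le hST
  have hSi : (S : Subgroup G).index = 175 := by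
    have := Subgroup.card_mul_index (S : Subgroup G)
    rw [hSc, hcard] at this
    omega
  rw [hHi] at hd1
  rw [hSi] at hd2
  have hle14 : (Subgroup.normalizer (T : Set G)).index ≤ 14 := Nat.le_of_dvd (by norm_num) hd1
  by_cases hT : Subgroup.normalizer (T : Set G) = ⊤
  · have hTn : T.Normal := Subgroup.normalizer_eq_top_iff.mp hT
    rcases hTn.eq_bot_or_eq_top with h | h
    · rw [h, Subgroup.card_bot] at hTc
      omega
    · rw [h, Subgroup.card_top, hcard] at hTc
      omega
  · have := ord5600_index_ge hcard hG _ hT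
    generalize (Subgroup.normalizer (T : Set G)).index = i at *
    interval_cases i <;> omega

end Cfsg.Agent.Lib.helper46
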