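import Mathlib

/-!
# Arithmetic of the orders of maximal subgroups of `PGL₂(q)` and `PSL₂(q)` (helper46)

`KShape` is the numeric shape of the list of maximal subgroups of `PSL₂(q)`, carrying abstract
structural side facts; the lemmas `arith_*` show that a group of order `m₀` (half the order of a
maximal subgroup of `PGL₂(q)` of a given type) can only sit properly inside such a `K` in a few
residual cases.
-/

set_option autoImplicit false

namespace Cfsg.Agent.Lib.helper46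

section PGLArith

/-- Numeric shape of the list of maximal subgroups of `PSL₂(q)`, `q` odd. -/
def KShape (q p k : ℕ) (P2 P3 : Prop) (P4 : ℕ → Prop) (P6 P7 : Prop) : Prop :=
  2 * k = q * (q - 1) ∨
  (13 ≤ q ∧ k = q - 1 ∧ P2) ∨
  (q ≠ 7 ∧ q ≠ 9 ∧ k = q + 1 ∧ P3) ∨
  (∃ q₁, q = q₁ ^ 2 ∧ k = q₁ * (q₁ ^ 2 - 1) ∧ P4 q₁) ∨
  (∃ q₁ r', r'.Prime ∧ Odd r' ∧ q = q₁ ^ r' ∧ 2 * k = q₁ * (q₁ ^ 2 - 1)) ∨
  ((q % 10 = 1 ∨ q % 10 = 9) ∧ (q = p ∨ (q = p ^ 2 ∧ (p % 10 = 3 ∨ p % 10 = 7))) ∧ k = 60 ∧ P6) ∨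
  (q = p ∧ (p % 8 = 3 ∨ p % 8 = 5) ∧ ¬ (p % 10 = 1 ∨ p % 10 = 9) ∧ k = 12 ∧ P7) ∨
  (q = p ∧ (p % 8 = 1 ∨ p % 8 = 7) ∧ k = 24)

theorem sub_lt_pow_of_three_le (a r : ℕ) (ha : 1 ≤ a) (hr : 3 ≤ r) : a * (a ^ 2 - 1) < a ^ r := by
  have h1 : a ^ 2 - 1 < a ^ 2 := by
    have : 1 ≤ a ^ 2 := Nat.one_le_pow _ _ ha
    omega
  have h2 : a * (a ^ 2 - 1) < a * a ^ 2 := Nat.mul_lt_mul_of_pos_left h1 ha
  have h3 : a * a ^ 2 = a ^ 3 := by ring
  have h4 : a ^ 3 ≤ a ^ r := Nat.pow_le_pow_right ha hr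
  omega

theorem not_prime_pow_of_two_le (a r : ℕ) (hr : 2 ≤ r) : ¬ (a ^ r).Prime := by
  intro h
  exact not_prime_pow (by omega) (Nat.prime_iff.mp h)

theorem odd_prime_three_le (r : ℕ) (hr : r.Prime) (hodd : Odd r) : 3 ≤ r := by
  have h2 := hr.two_le
  obtain ⟨t, ht⟩ := hodd
  omega

theorem coprime_mul_add_one (a b : ℕ) : Nat.Coprime (a * b + 1) a := by
  have h1 : Nat.gcd (a * b + 1) a ∣ a * b + 1 := Nat.gcd_dvd_left _ _
  have h2 : Nat.gcd (a * b + 1) a ∣ a * b := Dvd.dvd.mul_right (Nat.gcd_dvd_right _ _) b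
  have h3 : Nat.gcd (a * b + 1) a ∣ 1 := (Nat.dvd_add_right h2).mp h1
  exact Nat.dvd_one.mp h3

theorem coprime_succ_self' (a : ℕ) : Nat.Coprime (a + 1) a := by
  have h := coprime_mul_add_one a 1
  rwa [mul_one] at h

theorem coprime_sq_add_one (a : ℕ) : Nat.Coprime (a ^ 2 + 1) a := by
  have h := coprime_mul_add_one a a
  rwa [← pow_two] at h

theorem coprime_pred_self (x : ℕ) (hx : 1 ≤ x) : Nat.Coprime (x - 1) x := by
  obtain ⟨y, rfl⟩ : ∃ y, x = y + 1 := ⟨x - 1, by omega⟩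
  rw [Nat.add_sub_cancel]
  exact (coprime_succ_self' y).symm

theorem three_pow_odd_mod (r : ℕ) (hr : Odd r) : 3 ^ r % 8 = 3 := by
  obtain ⟨t, rfl⟩ := hr
  rw [pow_succ, pow_mul, Nat.mul_mod, Nat.pow_mod]
  norm_num

theorem sq_mod_eight (a : ℕ) : a ^ 2 % 8 = 0 ∨ a ^ 2 % 8 = 1 ∨ a ^ 2 % 8 = 4 := by
  have h := Nat.pow_mod a 2 8
  have h8 : a % 8 < 8 := Nat.mod_lt _ (by norm_num)
  rw [h]
  interval_cases a % 8 <;> norm_num

/-- Type `B` (Borel subgroups): never below a maximal subgroup of `PSL₂(q)`. -/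
theorem arith_B (q p k m₀ : ℕ) (h5 : 5 ≤ q) (h2le : 2 * m₀ ≤ k)
    (hm : 2 * m₀ = q * (q - 1)) {P2 P3 : Prop} {P4 : ℕ → Prop} {P6 P7 : Prop}
    (hK : KShape q p k P2 P3 P4 P6 P7) : False := by
  obtain ⟨A, hA⟩ : ∃ A, A = q * (q - 1) := ⟨_, rfl⟩
  rw [← hA] at hm
  have hA5 : 5 * (q - 1) ≤ A := by rw [hA]; exact Nat.mul_le_mul_right _ h5
  rcases hK with h | ⟨-, h, -⟩ | ⟨-, -, h, -⟩ | ⟨q₁, hq, hk, -⟩ | ⟨q₁, r', hr', hr'o, hq, hk⟩ |
    ⟨h10, -, h, -⟩ | ⟨-, -, -, h, -⟩ | ⟨hqp, h8, h⟩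
  · rw [← hA] at h
    omega
  · omega
  · omega
  · have hkpos : 0 < k := by omega
    have hAk : A = q₁ * k := by rw [hA, hk, hq, pow_two, mul_assoc]
    have h1 : q₁ * k ≤ 1 * k := by omega
    have h2 : q₁ ≤ 1 := Nat.le_of_mul_le_mul_right h1 hkpos
    have h3 : q₁ ^ 2 ≤ 1 := by
      interval_cases q₁ <;> norm_num
    omega
  · have hr3 := odd_prime_three_le r' hr' hr'o
    have hq1 : 1 ≤ q₁ := by
      rcases Nat.eq_zero_or_pos q₁ with h | h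
      · rw [h, zero_pow (by omega)] at hq
        omega
      · exact h
    have h1 := sub_lt_pow_of_three_le q₁ r' hq1 hr3
    rw [← hq, ← hk] at h1
    omega
  · have h9 : 9 ≤ q := by omega
    have h8 : 8 ≤ q - 1 := by omega
    have h1 : 9 * 8 ≤ q * (q - 1) := Nat.mul_le_mul h9 h8
    omega
  · omega
  · have h7 : 7 ≤ q := by omega
    have h6 : 6 ≤ q - 1 := by omega
    have h1 : 7 * 6 ≤ q * (q - 1) := Nat.mul_le_mul h7 h6
    omega

/-- Type `Ds` (normalisers of split tori). -/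
theorem arith_Ds (q p k m₀ : ℕ) (hp : p.Prime) (hodd : Odd q) (h5 : 5 ≤ q) (h7 : q ≠ 7)
    (h9 : q ≠ 9) (h11 : q ≠ 11) (hdvd : m₀ ∣ k) (h2le : 2 * m₀ ≤ k) (hq5 : q ≠ 5)
    (hm : m₀ = q - 1) {P2 P3 : Prop} {P4 : ℕ → Prop} {P6 P7 : Prop}
    (hK : KShape q p k P2 P3 P4 P6 P7) :
    (∃ q₁, q = q₁ ^ 2 ∧ P4 q₁) ∨ (q = 31 ∧ P6) := by
  obtain ⟨t, ht⟩ := hodd
  rw [hm] at hdvd h2le
  rcases hK with h | ⟨-, h, -⟩ | ⟨-, -, h, -⟩ | ⟨q₁, hq, hk, h4⟩ | ⟨q₁, r', hr', hr'o, hq, hk⟩ |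
    ⟨h10, hqp, h, h6⟩ | ⟨-, -, -, h, -⟩ | ⟨hqp, h8, h⟩
  · exfalso
    obtain ⟨c, hc⟩ := hdvd
    have h1 : (q - 1) * (2 * c) = (q - 1) * q := by
      rw [hc] at h
      calc (q - 1) * (2 * c) = 2 * ((q - 1) * c) := by ring
        _ = q * (q - 1) := h
        _ = (q - 1) * q := by ring
    have h2 : 2 * c = q := Nat.eq_of_mul_eq_mul_left (by omega) h1
    omega
  · omega
  · omega
  · exact Or.inl ⟨q₁, hq, h4⟩
  · exfalso
    have hr3 := odd_prime_three_le r' hr' hr'o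
    have hq1 : 1 ≤ q₁ := by
      rcases Nat.eq_zero_or_pos q₁ with h | h
      · rw [h, zero_pow (by omega)] at hq
        omega
      · exact h
    have h1 := sub_lt_pow_of_three_le q₁ r' hq1 hr3
    rw [← hq, ← hk] at h1
    omega
  · rw [h] at hdvd h2le
    have hcases : q = 19 ∨ q = 21 ∨ q = 29 ∨ q = 31 := by omega
    rcases hcases with rfl | rfl | rfl | rfl
    · norm_num at hdvd
    · exfalso
      rcases hqp with h' | ⟨h', -⟩
      · rw [← h'] at hp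
        norm_num at hp
      · have hp4 : p ≤ 4 := by
          by_contra hcon
          push Not at hcon
          have : 5 ^ 2 ≤ p ^ 2 := Nat.pow_le_pow_left hcon 2
          omega
        interval_cases p <;> norm_num at h'
    · norm_num at hdvd
    · exact Or.inr ⟨rfl, h6⟩
  · omega
  · omega

/-- Type `Dn` (normalisers of non-split tori). -/
theorem arith_Dn (q p k m₀ : ℕ) (hodd : Odd q) (h5 : 5 ≤ q) (h7 : q ≠ 7)
    (h9 : q ≠ 9) (h11 : q ≠ 11) (hdvd : m₀ ∣ k) (h2le : 2 * m₀ ≤ k)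
    (hm : m₀ = q + 1) {P2 P3 : Prop} {P4 : ℕ → Prop} {P6 P7 : Prop}
    (hK : KShape q p k P2 P3 P4 P6 P7) :
    (q = 19 ∧ P6) ∨ (q = 29 ∧ P6) ∨ (q = 5 ∧ P7) := by
  obtain ⟨t, ht⟩ := hodd
  rw [hm] at hdvd h2le
  rcases hK with h | ⟨-, h, -⟩ | ⟨-, -, h, -⟩ | ⟨q₁, hq, hk, -⟩ | ⟨q₁, r', hr', hr'o, hq, hk⟩ |
    ⟨h10, hqp, h, h6⟩ | ⟨-, -, -, h, h7'⟩ | ⟨hqp, h8, h⟩
  · exfalso
    have h1 : (q + 1) ∣ q * (q - 1) := by
      rw [← h]
      exact Dvd.dvd.mul_left hdvd 2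
    have h2 := (coprime_succ_self' q).dvd_of_dvd_mul_left h1
    have h3 := Nat.le_of_dvd (by omega) h2
    omega
  · omega
  · omega
  · exfalso
    rw [hk, hq] at hdvd
    have h2 := (coprime_sq_add_one q₁).dvd_of_dvd_mul_left hdvd
    have h3 := Nat.le_of_dvd (by omega) h2
    omega
  · exfalso
    have hr3 := odd_prime_three_le r' hr' hr'o
    have hq1 : 1 ≤ q₁ := by
      rcases Nat.eq_zero_or_pos q₁ with h | h
      · rw [h, zero_pow (by omega)] at hq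
        omega
      · exact h
    have h1 := sub_lt_pow_of_three_le q₁ r' hq1 hr3
    rw [← hq, ← hk] at h1
    omega
  · rw [h] at hdvd h2le
    have hcases : q = 19 ∨ q = 21 ∨ q = 29 := by omega
    rcases hcases with rfl | rfl | rfl
    · exact Or.inl ⟨rfl, h6⟩
    · norm_num at hdvd
    · exact Or.inr (Or.inl ⟨rfl, h6⟩)
  · have hq5 : q = 5 := by omega
    exact Or.inr (Or.inr ⟨hq5, h7'⟩)
  · omega

/-- Type `S₄`. -/
theorem arith_S4 (q p k m₀ : ℕ) (hdvd : m₀ ∣ k) (h2le : 2 * m₀ ≤ k)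
    (h40 : q.Prime → q % 40 ∉ ({11, 19, 21, 29} : Finset ℕ))
    (hprime : q.Prime) (h8 : q % 8 = 3 ∨ q % 8 = 5)
    (hm : m₀ = 12) {P2 P3 : Prop} {P4 : ℕ → Prop} {P6 P7 : Prop}
    (hK : KShape q p k P2 P3 P4 P6 P7) : P2 ∨ P3 := by
  rw [hm] at hdvd h2le
  rcases hK with h | ⟨-, h, h2⟩ | ⟨-, -, h, h3⟩ | ⟨q₁, hq, hk, -⟩ | ⟨q₁, r', hr', hr'o, hq, hk⟩ |
    ⟨h10, hqp, h, h6⟩ | ⟨-, -, -, h, -⟩ | ⟨hqp, h8', h⟩
  · exfalso
    obtain ⟨c, hc⟩ := hdvd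
    have h1 : (q * (q - 1)) % 8 = 0 := by
      rw [← h, hc]
      omega
    rw [Nat.mul_mod] at h1
    rcases h8 with h8 | h8
    · have h2 : (q - 1) % 8 = 2 := by omega
      rw [h8, h2] at h1
      norm_num at h1
    · have h2 : (q - 1) % 8 = 4 := by omega
      rw [h8, h2] at h1
      norm_num at h1
  · exact Or.inl h2
  · exact Or.inr h3
  · exfalso
    rw [hq] at hprime
    exact not_prime_pow_of_two_le q₁ 2 (le_refl 2) hprime
  · exfalso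
    rw [hq] at hprime
    exact not_prime_pow_of_two_le q₁ r' (by have := odd_prime_three_le r' hr' hr'o; omega) hprime
  · exfalso
    have h1 := h40 hprime
    simp only [Finset.mem_insert, Finset.mem_singleton, not_or] at h1
    omega
  · omega
  · omega

/-- Type `P` (subfield subgroups `PGL₂(q₀)`, `q = q₀^r`, `r` an odd prime). -/
theorem arith_P (q p n k m₀ : ℕ) (hp : p.Prime) (hpn : q = p ^ n) (hodd : Odd q) (h5 : 5 ≤ q)
    (hdvd : m₀ ∣ k) (h2le : 2 * m₀ ≤ k) (q₀ r : ℕ) (hr : r.Prime) (hro : Odd r)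
    (hq : q = q₀ ^ r) (hm : 2 * m₀ = q₀ * (q₀ ^ 2 - 1)) {P2 P3 : Prop} {P4 : ℕ → Prop}
    {P6 P7 : Prop} (hK : KShape q p k P2 P3 P4 P6 P7) : False := by
  have hr3 := odd_prime_three_le r hr hro
  have hq₀odd : Odd q₀ := by
    by_contra hcon
    have he : Even q₀ := Nat.not_odd_iff_even.mp hcon
    have he' : Even q := by
      rw [hq]
      exact (Nat.even_pow).mpr ⟨he, by omega⟩
    exact (Nat.not_odd_iff_even.mpr he') hodd
  have hq₀3 : 3 ≤ q₀ := by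
    obtain ⟨t, ht⟩ := hq₀odd
    rcases Nat.eq_zero_or_pos t with h | h
    · rw [ht, h] at hq
      simp at hq
      omega
    · omega
  obtain ⟨B, hB⟩ : ∃ B, B = q₀ * (q₀ ^ 2 - 1) := ⟨_, rfl⟩
  rw [← hB] at hm
  have hB2k : B ∣ 2 * k := by
    rw [← hm]
    exact Nat.mul_dvd_mul_left 2 hdvd
  have hBk : B ≤ k := by omega
  have hq₀B : q₀ ∣ B := by rw [hB]; exact dvd_mul_right _ _
  have hq₀1B : (q₀ + 1) ∣ B := by
    rw [hB]
    have e : q₀ ^ 2 - 1 = (q₀ + 1) * (q₀ - 1) := by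
      obtain ⟨a, rfl⟩ : ∃ a, q₀ = a + 1 := ⟨q₀ - 1, by omega⟩
      rw [Nat.add_sub_cancel]
      apply Nat.sub_eq_of_eq_add
      ring
    rw [e]
    exact Dvd.dvd.mul_left (dvd_mul_right _ _) _
  have hq₀q : q₀ ∣ q := by rw [hq]; exact dvd_pow_self _ (by omega)
  have hq₀1q : (q₀ + 1) ∣ q + 1 := by
    have h := Odd.nat_add_dvd_pow_add_pow q₀ 1 hro
    rwa [one_pow, ← hq] at h
  have hB24 : 24 ≤ B := by
    have h1 : 3 ^ 2 ≤ q₀ ^ 2 := Nat.pow_le_pow_left hq₀3 2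
    have h2 : 8 ≤ q₀ ^ 2 - 1 := by omega
    have h3 := Nat.mul_le_mul hq₀3 h2
    rw [← hB] at h3
    omega
  rcases hK with h | ⟨-, h, -⟩ | ⟨-, -, h, -⟩ | ⟨q₁, hq1, hk, -⟩ | ⟨q₁, r', hr', hr'o, hq1, hk⟩ |
    ⟨h10, hqp, h, -⟩ | ⟨-, -, -, h, -⟩ | ⟨hqp, h8, h⟩
  · rw [h] at hB2k
    have h1 : (q₀ + 1) ∣ q * (q - 1) := dvd_trans hq₀1B hB2k
    have hcop : Nat.Coprime (q₀ + 1) q :=
      Nat.Coprime.coprime_dvd_left hq₀1q (coprime_succ_self' q)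
    have h2 : (q₀ + 1) ∣ q - 1 := hcop.dvd_of_dvd_mul_left h1
    have h3 : (q₀ + 1) ∣ (q + 1) - (q - 1) := Nat.dvd_sub hq₀1q h2
    have e : (q + 1) - (q - 1) = 2 := by omega
    rw [e] at h3
    have := Nat.le_of_dvd (by norm_num) h3
    omega
  · rw [h] at hB2k
    have h1 : q₀ ∣ 2 * (q - 1) := dvd_trans hq₀B hB2k
    have h2 : q₀ ∣ 2 * q := Dvd.dvd.mul_left hq₀q 2
    have h3 : q₀ ∣ 2 * q - 2 * (q - 1) := Nat.dvd_sub h2 h1
    have e : 2 * q - 2 * (q - 1) = 2 := by omega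
    rw [e] at h3
    have := Nat.le_of_dvd (by norm_num) h3
    omega
  · rw [h] at hB2k
    have h1 : q₀ ∣ 2 * (q + 1) := dvd_trans hq₀B hB2k
    have h2 : q₀ ∣ 2 * q := Dvd.dvd.mul_left hq₀q 2
    have h3 : q₀ ∣ 2 * (q + 1) - 2 * q := Nat.dvd_sub h1 h2
    have e : 2 * (q + 1) - 2 * q = 2 := by omega
    rw [e] at h3
    have := Nat.le_of_dvd (by norm_num) h3
    omega
  · have hcop : Nat.Coprime (q₀ + 1) q₁ := by
      have h1 : (q₀ + 1) ∣ q₁ ^ 2 + 1 := by rw [← hq1]; exact hq₀1q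
      exact Nat.Coprime.coprime_dvd_left h1 (coprime_sq_add_one q₁)
    have h1 : (q₀ + 1) ∣ q₁ * (2 * (q - 1)) := by
      have h2 : 2 * k = q₁ * (2 * (q - 1)) := by rw [hk, ← hq1]; ring
      rw [← h2]
      exact dvd_trans hq₀1B hB2k
    have h2 : (q₀ + 1) ∣ 2 * (q - 1) := hcop.dvd_of_dvd_mul_left h1
    have h3 : (q₀ + 1) ∣ 2 * (q + 1) := Dvd.dvd.mul_left hq₀1q 2
    have h4 : (q₀ + 1) ∣ 2 * (q + 1) - 2 * (q - 1) := Nat.dvd_sub h3 h2
    have e : 2 * (q + 1) - 2 * (q - 1) = 4 := by omega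
    rw [e] at h4
    have h5 := Nat.le_of_dvd (by norm_num) h4
    have hq₀eq : q₀ = 3 := by omega
    rw [hq₀eq] at hq
    have h6 := three_pow_odd_mod r hro
    rw [← hq, hq1] at h6
    rcases sq_mod_eight q₁ with h | h | h <;> omega
  · have hr'3 := odd_prime_three_le r' hr' hr'o
    obtain ⟨B₁, hB₁⟩ : ∃ B₁, B₁ = q₁ * (q₁ ^ 2 - 1) := ⟨_, rfl⟩
    rw [← hB₁] at hk
    rw [hk] at hB2k
    have hBlt : B < B₁ := by omega
    have hq₀p : q₀ ∣ p ^ n := by rw [← hpn]; exact hq₀q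
    obtain ⟨a, -, ha⟩ := (Nat.dvd_prime_pow hp).mp hq₀p
    have hq₁q : q₁ ∣ q := by rw [hq1]; exact dvd_pow_self _ (by omega)
    have hq₁p : q₁ ∣ p ^ n := by rw [← hpn]; exact hq₁q
    obtain ⟨b, -, hb⟩ := (Nat.dvd_prime_pow hp).mp hq₁p
    have ha1 : 1 ≤ a := by
      rcases Nat.eq_zero_or_pos a with h | h
      · rw [h, pow_zero] at ha
        omega
      · exact h
    have hexp : a * r = b * r' := by
      apply Nat.pow_right_injective hp.two_le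
      show p ^ (a * r) = p ^ (b * r')
      rw [pow_mul, pow_mul, ← ha, ← hb, ← hq, ← hq1]
    have e₀ : q₀ ^ 2 - 1 = p ^ (2 * a) - 1 := by rw [ha, ← pow_mul, mul_comm]
    have e₁ : q₁ ^ 2 - 1 = p ^ (2 * b) - 1 := by rw [hb, ← pow_mul, mul_comm]
    have h1 : (p ^ (2 * a) - 1) ∣ B₁ := by
      have : (p ^ (2 * a) - 1) ∣ B := by rw [hB, e₀]; exact dvd_mul_left _ _
      exact dvd_trans this hB2k
    rw [hB₁, e₁, hb] at h1
    have hcop : Nat.Coprime (p ^ (2 * a) - 1) (p ^ b) := by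
      have h2 : Nat.Coprime (p ^ (2 * a) - 1) (p ^ (2 * a)) :=
        coprime_pred_self _ (Nat.one_le_pow _ _ hp.pos)
      have h3 : Nat.Coprime (p ^ (2 * a) - 1) p :=
        Nat.Coprime.coprime_dvd_right (dvd_pow_self p (by omega)) h2
      exact Nat.Coprime.pow_right b h3
    have h2 : (p ^ (2 * a) - 1) ∣ (p ^ (2 * b) - 1) := hcop.dvd_of_dvd_mul_left h1
    have h3 : (p ^ (2 * b) - 1) % (p ^ (2 * a) - 1) = 0 := Nat.mod_eq_zero_of_dvd h2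
    rw [Nat.pow_sub_one_mod_pow_sub_one] at h3
    have h4 : (2 * b) % (2 * a) = 0 := by
      by_contra hne
      have : 1 < p ^ ((2 * b) % (2 * a)) := Nat.one_lt_pow hne hp.one_lt
      omega
    have h5 : a ∣ b := by
      have h6 : 2 * a ∣ 2 * b := Nat.dvd_of_mod_eq_zero h4
      exact (Nat.mul_dvd_mul_iff_left (by norm_num : 0 < 2)).mp h6
    obtain ⟨c, hc⟩ := h5
    have h6 : r = c * r' := by
      have h7 : a * r = a * (c * r') := by rw [hexp, hc]; ring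
      exact Nat.eq_of_mul_eq_mul_left ha1 h7
    have h7 : r' ∣ r := ⟨c, by rw [h6]; ring⟩
    have h8 : r' = r := (Nat.prime_dvd_prime_iff_eq hr' hr).mp h7
    have hc1 : c = 1 := by
      rw [h8] at h6
      have : 1 * r = c * r := by rw [one_mul]; exact h6
      exact (Nat.eq_of_mul_eq_mul_right hr.pos this).symm
    rw [hc1, mul_one] at hc
    have : B = B₁ := by rw [hB, hB₁, ha, hb, hc]
    omega
  · have hq₀eq : q₀ = 3 := by
      by_contra hne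
      have h5' : 5 ≤ q₀ := by
        obtain ⟨t, ht⟩ := hq₀odd
        omega
      have h1 : 5 ^ 2 ≤ q₀ ^ 2 := Nat.pow_le_pow_left h5' 2
      have h2 : 24 ≤ q₀ ^ 2 - 1 := by omega
      have h3 := Nat.mul_le_mul h5' h2
      rw [← hB] at h3
      omega
    rw [hq₀eq] at hq
    rcases hqp with h' | ⟨h', -⟩
    · rw [← h', hq] at hp
      exact not_prime_pow_of_two_le 3 r (by omega) hp
    · have h1 : p ∣ 3 ^ r := by
        rw [← hq, h']
        exact dvd_pow_self p two_ne_zero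
      have h2 : p ∣ 3 := hp.dvd_of_dvd_pow h1
      have h3 : p = 3 := (Nat.prime_dvd_prime_iff_eq hp Nat.prime_three).mp h2
      rw [h3, hq] at h'
      have h4 : r = 2 := Nat.pow_right_injective (by norm_num : 2 ≤ 3) h'
      omega
  · omega
  · rw [← hqp, hq] at hp
    exact not_prime_pow_of_two_le q₀ r (by omega) hp

end PGLArith

end Cfsg.Agent.Lib.helper46
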