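import Mathlib

/-!
# Element orders in `PGL₂(F)` for a finite field `F` of odd order (helper46)

For `g ∈ GL₂(F)`, `|F| = q` odd: `g^q` is scalar, or `g^(q-1) = 1`, or `g^(q+1)` is scalar
(Frobenius on the commutative algebra `F[g]`).  Hence every element of `PGL₂(F)` has order at most
`q + 1`.
-/

set_option autoImplicit false

namespace Cfsg.Agent.Lib.helper46

section PGLOrders

variable {F : Type*} [Field F]

/-- Cayley–Hamilton for `2 × 2` matrices. -/
theorem cayley_two_gen (A : Matrix (Fin 2) (Fin 2) F) :
    A * A = (A 0 0 + A 1 1) • A - A.det • (1 : Matrix (Fin 2) (Fin 2) F) := by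
  ext i j
  fin_cases i <;> fin_cases j <;>
    simp [Matrix.mul_apply, Fin.sum_univ_two, Matrix.det_fin_two] <;> ring

theorem pow_mem_span_two (A : Matrix (Fin 2) (Fin 2) F) (n : ℕ) :
    ∃ a b : F, A ^ n = a • A + b • (1 : Matrix (Fin 2) (Fin 2) F) := by
  induction n with
  | zero => exact ⟨0, 1, by simp⟩
  | succ n ih =>
    obtain ⟨a, b, h⟩ := ih
    refine ⟨a * (A 0 0 + A 1 1) + b, -(a * A.det), ?_⟩
    rw [pow_succ, h, add_mul, smul_mul_assoc, smul_mul_assoc, one_mul, cayley_two_gen A]
    module

/-- The `q`-th power of an invertible `2 × 2` matrix over a field with `q` elements, `q` odd. -/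
theorem mat_pow_card_cases [Fintype F] (h2 : (2 : F) ≠ 0) (A : Matrix (Fin 2) (Fin 2) F) :
    (∃ c : F, A ^ Fintype.card F = c • (1 : Matrix (Fin 2) (Fin 2) F)) ∨
    A ^ Fintype.card F = A ∨
    (∃ c : F, A ^ (Fintype.card F + 1) = c • (1 : Matrix (Fin 2) (Fin 2) F)) := by
  classical
  obtain ⟨p, hchar⟩ := CharP.exists F
  have hp : p.Prime := CharP.char_is_prime F p
  haveI : Fact p.Prime := ⟨hp⟩
  obtain ⟨n, -, hn⟩ := FiniteField.card F p
  obtain ⟨τ, hτ⟩ : ∃ τ, τ = A 0 0 + A 1 1 := ⟨_, rfl⟩
  obtain ⟨δ, hδ⟩ : ∃ δ, δ = A.det := ⟨_, rfl⟩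
  have hCH : A * A = τ • A - δ • (1 : Matrix (Fin 2) (Fin 2) F) := by
    rw [hτ, hδ]; exact cayley_two_gen A
  have hfrob : ∀ X Y : Matrix (Fin 2) (Fin 2) F, Commute X Y →
      (X - Y) ^ Fintype.card F = X ^ Fintype.card F - Y ^ Fintype.card F := by
    intro X Y hXY
    rw [hn]
    exact sub_pow_char_pow_of_commute p n hXY
  have hsm : ∀ c : F, (c • (1 : Matrix (Fin 2) (Fin 2) F)) ^ Fintype.card F = c • 1 := by
    intro c
    rw [smul_pow, one_pow, FiniteField.pow_card]
  have h4 : (4 : F) ≠ 0 := by
    have e : (4 : F) = 2 * 2 := by norm_num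
    rw [e]
    exact mul_ne_zero h2 h2
  by_cases hdisc : τ * τ = 4 * δ
  · left
    obtain ⟨lam, hlam⟩ : ∃ lam, lam = τ / 2 := ⟨_, rfl⟩
    have h2lam : 2 * lam = τ := by rw [hlam]; field_simp
    have hδ' : δ = lam * lam := by
      have h5 : 4 * δ = 4 * (lam * lam) := by rw [← hdisc, ← h2lam]; ring
      exact mul_left_cancel₀ h4 h5
    have hB : (A - lam • (1 : Matrix (Fin 2) (Fin 2) F)) * (A - lam • 1) = 0 := by
      have e : (A - lam • (1 : Matrix (Fin 2) (Fin 2) F)) * (A - lam • 1) =
          A * A - (2 * lam) • A + (lam * lam) • 1 := by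
        simp only [sub_mul, mul_sub, smul_mul_assoc, mul_smul_comm, mul_one, one_mul]
        module
      rw [e, hCH, h2lam, hδ']
      module
    have hBq : (A - lam • (1 : Matrix (Fin 2) (Fin 2) F)) ^ Fintype.card F = 0 := by
      have hq2 : 2 ≤ Fintype.card F := Fintype.one_lt_card
      obtain ⟨m, hm⟩ : ∃ m, Fintype.card F = 2 + m := ⟨_, (Nat.add_sub_cancel' hq2).symm⟩
      rw [hm, pow_add, pow_two, hB, zero_mul]
    have hcomm : Commute A (lam • (1 : Matrix (Fin 2) (Fin 2) F)) := by
      rw [Commute, SemiconjBy, mul_smul_comm, smul_mul_assoc, mul_one, one_mul]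
    have h3 := hfrob A (lam • 1) hcomm
    rw [hBq, hsm] at h3
    exact ⟨lam, (sub_eq_zero.mp h3.symm)⟩
  · have hind : ∀ x y : F, x • A + y • (1 : Matrix (Fin 2) (Fin 2) F) = 0 → x = 0 ∧ y = 0 := by
      intro x y hxy
      have e00 := congrFun (congrFun hxy 0) 0
      have e01 := congrFun (congrFun hxy 0) 1
      have e10 := congrFun (congrFun hxy 1) 0
      have e11 := congrFun (congrFun hxy 1) 1
      simp only [Matrix.add_apply, Matrix.smul_apply, Matrix.one_apply_eq, Matrix.one_apply_ne,
        ne_eq, Fin.isValue, zero_ne_one, one_ne_zero, not_false_eq_true, smul_eq_mul, mul_one,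
        mul_zero, add_zero, Matrix.zero_apply] at e00 e01 e10 e11
      by_cases hx : x = 0
      · subst hx
        rw [zero_mul, zero_add] at e00
        exact ⟨rfl, e00⟩
      · exfalso
        apply hdisc
        have h01 : A 0 1 = 0 := by
          rcases mul_eq_zero.mp e01 with h | h
          · exact absurd h hx
          · exact h
        have h10 : A 1 0 = 0 := by
          rcases mul_eq_zero.mp e10 with h | h
          · exact absurd h hx
          · exact h
        have h00 : A 0 0 = A 1 1 := by
          have h : x * (A 0 0 - A 1 1) = 0 := by linear_combination e00 - e11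
          rcases mul_eq_zero.mp h with h | h
          · exact absurd h hx
          · exact sub_eq_zero.mp h
        rw [hτ, hδ, Matrix.det_fin_two, h01, h10, h00]
        ring
    obtain ⟨a, b, hab⟩ := pow_mem_span_two A (Fintype.card F)
    have hcomm2 : Commute (τ • A) (δ • (1 : Matrix (Fin 2) (Fin 2) F)) := by
      rw [Commute, SemiconjBy, mul_smul_comm, mul_one, smul_mul_assoc, one_mul]
    have hh : A ^ Fintype.card F * A ^ Fintype.card F =
        τ • A ^ Fintype.card F - δ • (1 : Matrix (Fin 2) (Fin 2) F) := by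
      have h1 : A ^ Fintype.card F * A ^ Fintype.card F = (A * A) ^ Fintype.card F := by
        rw [← pow_two, ← pow_two, ← pow_mul, ← pow_mul, mul_comm]
      rw [h1, hCH, hfrob _ _ hcomm2, smul_pow, hsm, FiniteField.pow_card]
    rw [hab] at hh
    have hlin : (a * a * τ + 2 * a * b - a * τ) • A +
        (b * b - τ * b + δ - a * a * δ) • (1 : Matrix (Fin 2) (Fin 2) F) = 0 := by
      have e : (a • A + b • (1 : Matrix (Fin 2) (Fin 2) F)) * (a • A + b • 1) =
          (a * a) • (A * A) + (2 * a * b) • A + (b * b) • 1 := by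
        simp only [add_mul, mul_add, smul_mul_assoc, mul_smul_comm, mul_one, one_mul]
        module
      rw [e, hCH] at hh
      have h5 := sub_eq_zero.mpr hh
      rw [← h5]
      module
    obtain ⟨hE1, hE2⟩ := hind _ _ hlin
    by_cases ha : a = 0
    · left
      exact ⟨b, by rw [hab, ha, zero_smul, zero_add]⟩
    · have hE1' : a * τ + 2 * b - τ = 0 := by
        have h : a * (a * τ + 2 * b - τ) = 0 := by linear_combination hE1
        rcases mul_eq_zero.mp h with h | h
        · exact absurd h ha
        · exact h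
      have hprod : (1 - a) * (1 + a) * (4 * δ - τ * τ) = 0 := by
        linear_combination 4 * hE2 + (τ * a - 2 * b + τ) * hE1'
      have hne : 4 * δ - τ * τ ≠ 0 := fun h => hdisc (sub_eq_zero.mp h).symm
      rcases mul_eq_zero.mp hprod with h | h
      · rcases mul_eq_zero.mp h with h | h
        · -- `a = 1`
          have ha1 : a = 1 := (sub_eq_zero.mp h).symm
          have hb : b = 0 := by
            rw [ha1] at hE1'
            have h6 : 2 * b = 0 := by linear_combination hE1'
            rcases mul_eq_zero.mp h6 with h | h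
            · exact absurd h h2
            · exact h
          right; left
          rw [hab, ha1, hb, one_smul, zero_smul, add_zero]
        · -- `a = -1`
          have ha1 : a = -1 := by linear_combination h
          have hb : b = τ := by
            rw [ha1] at hE1'
            have h6 : 2 * (b - τ) = 0 := by linear_combination hE1'
            rcases mul_eq_zero.mp h6 with h | h
            · exact absurd h h2
            · exact sub_eq_zero.mp h
          right; right
          refine ⟨δ, ?_⟩
          rw [pow_succ, hab, ha1, hb, add_mul, smul_mul_assoc, smul_mul_assoc, one_mul, hCH]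
          module
      · exact absurd h hne

/-- Element orders in `PGL₂(q)`, `q` odd. -/
theorem pgl_pow_cases [Fintype F] (h2 : (2 : F) ≠ 0) (x : Matrix.ProjGenLinGroup (Fin 2) F) :
    x ^ Fintype.card F = 1 ∨ x ^ (Fintype.card F - 1) = 1 ∨ x ^ (Fintype.card F + 1) = 1 := by
  induction x using Matrix.ProjGenLinGroup.induction_on with
  | mk g =>
    have hscal : ∀ (m : ℕ) (c : F), (g : Matrix (Fin 2) (Fin 2) F) ^ m = c • 1 →
        (Matrix.ProjGenLinGroup.mk g) ^ m = 1 := by
      intro m c hc
      rw [← map_pow, Matrix.ProjGenLinGroup.mk_eq_one, Subgroup.mem_center_iff]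
      intro h
      apply Units.ext
      rw [Units.val_mul, Units.val_mul, Units.val_pow_eq_pow_val, hc, mul_smul_comm,
        smul_mul_assoc, mul_one, one_mul]
    rcases mat_pow_card_cases h2 (g : Matrix (Fin 2) (Fin 2) F) with ⟨c, hc⟩ | h | ⟨c, hc⟩
    · left
      exact hscal _ c hc
    · right; left
      have hg : g ^ Fintype.card F = g := Units.ext (by rw [Units.val_pow_eq_pow_val]; exact h)
      have hq : 1 ≤ Fintype.card F := Fintype.card_pos
      have h3 : g ^ (Fintype.card F - 1) = 1 := by
        have h1 : g ^ (Fintype.card F - 1) * g = 1 * g := by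
          rw [← pow_succ, Nat.sub_add_cancel hq, hg, one_mul]
        exact mul_right_cancel h1
      rw [← map_pow, h3, map_one]
    · right; right
      exact hscal _ c hc

theorem pgl_orderOf_le [Fintype F] (h2 : (2 : F) ≠ 0) (x : Matrix.ProjGenLinGroup (Fin 2) F) :
    orderOf x ≤ Fintype.card F + 1 := by
  have hq : 2 ≤ Fintype.card F := Fintype.one_lt_card
  rcases pgl_pow_cases h2 x with h | h | h
  · have := Nat.le_of_dvd (by omega) (orderOf_dvd_of_pow_eq_one h)
    omega
  · have := Nat.le_of_dvd (by omega) (orderOf_dvd_of_pow_eq_one h)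
    omega
  · exact Nat.le_of_dvd (by omega) (orderOf_dvd_of_pow_eq_one h)

end PGLOrders

end Cfsg.Agent.Lib.helper46
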