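import Mathlib
import Cfsg.Agent.S0265
import Cfsg.Agent.Lib.helper7.CardSL
import Cfsg.Agent.Lib.helper46.PGLOrders
import Cfsg.Agent.Lib.helper46.PGLArith

/-!
# Maximal subgroups of `PGL₂(q)` against maximal subgroups of `PSL₂(q)` (helper46)

`PGLMaxType` / `PSLMaxType` are the conclusions of the two classification statements; the main
result `pgl_incompat` says that half of a maximal subgroup of `PGL₂(q)` (of one of the listed
types) is never properly contained in a subgroup of one of the `PSL₂(q)` types, for the `q`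
allowed in S5890.
-/

set_option autoImplicit false

namespace Cfsg.Agent.Lib.helper46

section PGLStruct

/-- Elements of order dividing three commute. -/
def Cube3Comm (K : Type*) [Group K] : Prop :=
  ∀ x y : K, x ^ 3 = 1 → y ^ 3 = 1 → x * y = y * x

theorem cube3Comm_dihedral (k : ℕ) : Cube3Comm (DihedralGroup k) := by
  have hsr : ∀ j : ZMod k, (DihedralGroup.sr j) ^ 3 ≠ 1 := by
    intro j h
    rw [pow_succ, pow_two, DihedralGroup.sr_mul_self, one_mul, DihedralGroup.one_def] at h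
    cases h
  intro x y hx hy
  cases x with
  | r i =>
    cases y with
    | r j => rw [DihedralGroup.r_mul_r, DihedralGroup.r_mul_r, add_comm]
    | sr j => exact absurd hy (hsr j)
  | sr i => exact absurd hx (hsr i)

theorem cube3Comm_of_equiv {K K' : Type*} [Group K] [Group K'] (e : K ≃* K')
    (h : Cube3Comm K') : Cube3Comm K := by
  intro x y hx hy
  apply e.injective
  rw [map_mul, map_mul]
  exact h (e x) (e y) (by rw [← map_pow, hx, map_one]) (by rw [← map_pow, hy, map_one])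

theorem card_dvd_factorial_index_simple {G : Type*} [Group G] [Finite G] [IsSimpleGroup G]
    (H : Subgroup G) (hH : H ≠ ⊤) : Nat.card G ∣ H.index.factorial := by
  have hcore : H.normalCore = ⊥ := by
    rcases (H.normalCore_normal).eq_bot_or_eq_top with h | h
    · exact h
    · exfalso
      apply hH
      rw [eq_top_iff, ← h]
      exact H.normalCore_le
  have h : H.normalCore.index ∣ H.index.factorial := by
    rw [Subgroup.normalCore_eq_ker, Subgroup.index_ker, Subgroup.index_eq_card, ← Nat.card_perm]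
    exact Subgroup.card_subgroup_dvd_card (MulAction.toPermHom G (G ⧸ H)).range
  rw [hcore, Subgroup.index_bot] at h
  exact h

theorem no_subgroup_A5 (H : Subgroup (alternatingGroup (Fin 5))) :
    Nat.card H ≠ 20 ∧ Nat.card H ≠ 30 := by
  have hcard : Nat.card (alternatingGroup (Fin 5)) = 60 := by
    rw [nat_card_alternatingGroup]
    simp [Nat.factorial]
  haveI : IsSimpleGroup (alternatingGroup (Fin 5)) := alternatingGroup.isSimpleGroup (by simp)
  have hmul := H.card_mul_index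
  rw [hcard] at hmul
  constructor
  · intro h
    have hidx : H.index = 3 := by
      rw [h] at hmul
      omega
    have hH : H ≠ ⊤ := by
      rintro rfl
      rw [Subgroup.card_top, hcard] at h
      omega
    have h1 := card_dvd_factorial_index_simple H hH
    rw [hidx, hcard] at h1
    norm_num [Nat.factorial] at h1
  · intro h
    have hidx : H.index = 2 := by
      rw [h] at hmul
      omega
    have hH : H ≠ ⊤ := by
      rintro rfl
      rw [Subgroup.card_top, hcard] at h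
      omega
    have h1 := card_dvd_factorial_index_simple H hH
    rw [hidx, hcard] at h1
    norm_num [Nat.factorial] at h1

theorem no_subgroup_A4 (H : Subgroup (alternatingGroup (Fin 4))) : Nat.card H ≠ 6 := by
  intro h
  have hcard : Nat.card (alternatingGroup (Fin 4)) = 12 := by
    rw [nat_card_alternatingGroup]
    simp [Nat.factorial]
  have hidx : H.index = 2 := by
    have hmul := H.card_mul_index
    rw [h, hcard] at hmul
    omega
  have hsq : ∀ x : alternatingGroup (Fin 4), x ^ 2 ∈ H := Subgroup.sq_mem_of_index_two hidx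
  have h3 : ∀ σ : Equiv.Perm (Fin 4), σ.IsThreeCycle →
      σ ∈ H.map (alternatingGroup (Fin 4)).subtype := by
    intro σ hσ
    have hmem := hσ.mem_alternatingGroup
    refine ⟨⟨σ, hmem⟩, ?_, rfl⟩
    have hord : σ ^ 3 = 1 := by
      have := hσ.orderOf
      rw [← this]
      exact pow_orderOf_eq_one σ
    have e : ((⟨σ, hmem⟩ : alternatingGroup (Fin 4)) ^ 2) ^ 2 = ⟨σ, hmem⟩ := by
      apply Subtype.ext
      rw [Subgroup.coe_pow, Subgroup.coe_pow, ← pow_mul]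
      calc σ ^ (2 * 2) = σ ^ 3 * σ := by rw [← pow_succ]
        _ = σ := by rw [hord, one_mul]
    have h4 := hsq ((⟨σ, hmem⟩ : alternatingGroup (Fin 4)) ^ 2)
    rw [e] at h4
    exact h4
  have hcl : alternatingGroup (Fin 4) ≤ H.map (alternatingGroup (Fin 4)).subtype := by
    have h5 : Subgroup.closure {σ : Equiv.Perm (Fin 4) | σ.IsThreeCycle} ≤
        H.map (alternatingGroup (Fin 4)).subtype := by
      rw [Subgroup.closure_le]
      exact fun σ hσ => h3 σ hσ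
    intro x hx
    apply h5
    rw [Equiv.Perm.closure_three_cycles_eq_alternating]
    exact hx
  have hH : H = ⊤ := by
    rw [eq_top_iff]
    intro x _
    obtain ⟨y, hy, hyx⟩ := hcl x.2
    have : y = x := Subtype.ext hyx
    rw [← this]
    exact hy
  rw [hH, Subgroup.card_top, hcard] at h
  omega

theorem sq_mem_of_card_two_mul {G : Type*} [Group G] [Finite G] (M M₀ : Subgroup G)
    (hle : M₀ ≤ M) (hcard : Nat.card M = 2 * Nat.card M₀) : ∀ x ∈ M, x ^ 2 ∈ M₀ := by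
  have hidx : (M₀.subgroupOf M).index = 2 := by
    have h1 := (M₀.subgroupOf M).card_mul_index
    rw [Nat.card_congr (Subgroup.subgroupOfEquivOfLe hle).toEquiv, hcard] at h1
    have hpos : 0 < Nat.card M₀ := Nat.card_pos
    have h2 : Nat.card M₀ * (M₀.subgroupOf M).index = Nat.card M₀ * 2 := by rw [h1, mul_comm]
    exact Nat.eq_of_mul_eq_mul_left hpos h2
  intro x hx
  have h := Subgroup.sq_mem_of_index_two hidx (⟨x, hx⟩ : M)
  rw [Subgroup.mem_subgroupOf] at h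
  exact h

theorem pgl_two_ne_zero_of_odd_card {F₀ : Type*} [Field F₀] [Fintype F₀]
    (hodd : Odd (Fintype.card F₀)) : (2 : F₀) ≠ 0 := by
  intro h0
  have h1 : ringChar F₀ ∣ 2 := ringChar.dvd (by exact_mod_cast h0)
  have h2 : ringChar F₀ = 2 := by
    rcases (Nat.dvd_prime Nat.prime_two).mp h1 with h | h
    · exact absurd h CharP.ringChar_ne_one
    · exact h
  have h3 := FiniteField.even_card_of_char_two h2
  obtain ⟨t, ht⟩ := hodd
  omega

theorem odd_of_odd_pow (a r : ℕ) (hr : r ≠ 0) (h : Odd (a ^ r)) : Odd a := by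
  by_contra hcon
  have he : Even a := Nat.not_odd_iff_even.mp hcon
  exact (Nat.not_odd_iff_even.mpr ((Nat.even_pow).mpr ⟨he, hr⟩)) h

/-- The conclusion of the classification of maximal subgroups of `PSL₂(q)`, `q` odd. -/
def PSLMaxType (q p : ℕ) (K : Type*) [Group K] : Prop :=
    2 * Nat.card K = q * (q - 1) ∨
    (13 ≤ q ∧ (∃ k : ℕ, 2 * k = q - 1 ∧ Nonempty (K ≃* DihedralGroup k))) ∨
    (q ≠ 7 ∧ q ≠ 9 ∧ (∃ k : ℕ, 2 * k = q + 1 ∧ Nonempty (K ≃* DihedralGroup k))) ∨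
    (∃ (F₀ : Type) (_ : Field F₀) (_ : Fintype F₀), q = Fintype.card F₀ ^ 2 ∧
        Nonempty (K ≃* Matrix.ProjGenLinGroup (Fin 2) F₀)) ∨
    (∃ (F₀ : Type) (_ : Field F₀) (_ : Fintype F₀) (r : ℕ), r.Prime ∧ Odd r ∧
        q = Fintype.card F₀ ^ r ∧
        Nonempty (K ≃* Matrix.ProjectiveSpecialLinearGroup (Fin 2) F₀)) ∨
    ((q % 10 = 1 ∨ q % 10 = 9) ∧
        (q = p ∨ (q = p ^ 2 ∧ (p % 10 = 3 ∨ p % 10 = 7))) ∧
        Nonempty (K ≃* alternatingGroup (Fin 5))) ∨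
    (q = p ∧ (p % 8 = 3 ∨ p % 8 = 5) ∧ ¬ (p % 10 = 1 ∨ p % 10 = 9) ∧
        Nonempty (K ≃* alternatingGroup (Fin 4))) ∨
    (q = p ∧ (p % 8 = 1 ∨ p % 8 = 7) ∧ Nonempty (K ≃* Equiv.Perm (Fin 4)))

/-- The conclusion of the classification of maximal subgroups of `PGL₂(q)` not containing
`PSL₂(q)`, `q` odd. -/
def PGLMaxType (q : ℕ) (M : Type*) [Group M] : Prop :=
    Nat.card M = q * (q - 1) ∨
    (q ≠ 5 ∧ Nonempty (M ≃* DihedralGroup (q - 1))) ∨
    Nonempty (M ≃* DihedralGroup (q + 1)) ∨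
    (q.Prime ∧ (q % 8 = 3 ∨ q % 8 = 5) ∧ Nonempty (M ≃* Equiv.Perm (Fin 4))) ∨
    (∃ (F₀ : Type) (_ : Field F₀) (_ : Fintype F₀) (r : ℕ), r.Prime ∧ Odd r ∧
        q = Fintype.card F₀ ^ r ∧ Nonempty (M ≃* Matrix.ProjGenLinGroup (Fin 2) F₀))

theorem pslMaxType_congr {q p : ℕ} {K K' : Type*} [Group K] [Group K'] (e : K ≃* K')
    (h : PSLMaxType q p K') : PSLMaxType q p K := by
  have hc : Nat.card K = Nat.card K' := Nat.card_congr e.toEquiv
  rcases h with h | ⟨h13, k, hk, ⟨f⟩⟩ | ⟨h7, h9, k, hk, ⟨f⟩⟩ | ⟨F₀, i1, i2, hq, ⟨f⟩⟩ |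
    ⟨F₀, i1, i2, r, hr, hro, hq, ⟨f⟩⟩ | ⟨h10, hqp, ⟨f⟩⟩ | ⟨hqp, h8, h10, ⟨f⟩⟩ | ⟨hqp, h8, ⟨f⟩⟩
  · exact Or.inl (by rw [hc]; exact h)
  · exact Or.inr (Or.inl ⟨h13, k, hk, ⟨e.trans f⟩⟩)
  · exact Or.inr (Or.inr (Or.inl ⟨h7, h9, k, hk, ⟨e.trans f⟩⟩))
  · exact Or.inr (Or.inr (Or.inr (Or.inl ⟨F₀, i1, i2, hq, ⟨e.trans f⟩⟩)))
  · exact Or.inr (Or.inr (Or.inr (Or.inr (Or.inl ⟨F₀, i1, i2, r, hr, hro, hq, ⟨e.trans f⟩⟩))))
  · exact Or.inr (Or.inr (Or.inr (Or.inr (Or.inr (Or.inl ⟨h10, hqp, ⟨e.trans f⟩⟩)))))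
  · exact Or.inr (Or.inr (Or.inr (Or.inr (Or.inr (Or.inr (Or.inl ⟨hqp, h8, h10, ⟨e.trans f⟩⟩))))))
  · exact Or.inr (Or.inr (Or.inr (Or.inr (Or.inr (Or.inr (Or.inr ⟨hqp, h8, ⟨e.trans f⟩⟩))))))

theorem pslMaxType_digest {q p : ℕ} (hodd : Odd q) {K : Type*} [Group K] [Finite K]
    (h : PSLMaxType q p K) :
    KShape q p (Nat.card K) (Cube3Comm K) (Cube3Comm K) (fun q₁ => ∀ x : K, orderOf x ≤ q₁ + 1)
      (∀ H : Subgroup K, Nat.card H ≠ 20 ∧ Nat.card H ≠ 30) (∀ H : Subgroup K, Nat.card H ≠ 6) := by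
  rcases h with h | ⟨h13, k, hk, ⟨f⟩⟩ | ⟨h7, h9, k, hk, ⟨f⟩⟩ | ⟨F₀, i1, i2, hq, ⟨f⟩⟩ |
    ⟨F₀, i1, i2, r, hr, hro, hq, ⟨f⟩⟩ | ⟨h10, hqp, ⟨f⟩⟩ | ⟨hqp, h8, h10, ⟨f⟩⟩ | ⟨hqp, h8, ⟨f⟩⟩
  · exact Or.inl h
  · refine Or.inr (Or.inl ⟨h13, ?_, cube3Comm_of_equiv f (cube3Comm_dihedral k)⟩)
    rw [Nat.card_congr f.toEquiv, DihedralGroup.nat_card]
    exact hk
  · refine Or.inr (Or.inr (Or.inl ⟨h7, h9, ?_, cube3Comm_of_equiv f (cube3Comm_dihedral k)⟩))
    rw [Nat.card_congr f.toEquiv, DihedralGroup.nat_card]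
    exact hk
  · have ho : Odd (Fintype.card F₀) := odd_of_odd_pow _ 2 (by norm_num) (hq ▸ hodd)
    have h2 : (2 : F₀) ≠ 0 := pgl_two_ne_zero_of_odd_card ho
    refine Or.inr (Or.inr (Or.inr (Or.inl ⟨Fintype.card F₀, hq, ?_, ?_⟩)))
    · rw [Nat.card_congr f.toEquiv, Cfsg.Agent.S0265.result 2,
        Cfsg.Agent.Lib.helper7.card_SL2 rfl]
    · intro x
      have h3 := pgl_orderOf_le h2 (f x)
      rwa [f.orderOf_eq] at h3
  · have ho : Odd (Fintype.card F₀) := odd_of_odd_pow _ r hr.ne_zero (hq ▸ hodd)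
    have h2 : (2 : F₀) ≠ 0 := pgl_two_ne_zero_of_odd_card ho
    refine Or.inr (Or.inr (Or.inr (Or.inr (Or.inl ⟨Fintype.card F₀, r, hr, hro, hq, ?_⟩))))
    rw [Nat.card_congr f.toEquiv]
    exact Cfsg.Agent.Lib.helper7.two_mul_card_PSL2 rfl h2
  · refine Or.inr (Or.inr (Or.inr (Or.inr (Or.inr (Or.inl ⟨h10, hqp, ?_, ?_⟩)))))
    · rw [Nat.card_congr f.toEquiv, nat_card_alternatingGroup]
      simp [Nat.factorial]
    · intro H
      have h3 := no_subgroup_A5 (H.map f.toMonoidHom)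
      rwa [← Nat.card_congr (H.equivMapOfInjective f.toMonoidHom f.injective).toEquiv] at h3
  · refine Or.inr (Or.inr (Or.inr (Or.inr (Or.inr (Or.inr (Or.inl ⟨hqp, h8, h10, ?_, ?_⟩))))))
    · rw [Nat.card_congr f.toEquiv, nat_card_alternatingGroup]
      simp [Nat.factorial]
    · intro H
      have h3 := no_subgroup_A4 (H.map f.toMonoidHom)
      rwa [← Nat.card_congr (H.equivMapOfInjective f.toMonoidHom f.injective).toEquiv] at h3
  · refine Or.inr (Or.inr (Or.inr (Or.inr (Or.inr (Or.inr (Or.inr ⟨hqp, h8, ?_⟩))))))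
    rw [Nat.card_congr f.toEquiv, Nat.card_perm]
    simp [Nat.factorial]

/-- **Incompatibility.** Half of a maximal subgroup of `PGL₂(q)` (of one of the listed types) is
never properly contained in a group of one of the `PSL₂(q)` types. -/
theorem pgl_incompat {G : Type*} [Group G] [Finite G] (q p n : ℕ) (hp : p.Prime)
    (hpn : q = p ^ n) (hodd : Odd q) (h5 : 5 ≤ q) (h7 : q ≠ 7) (h9 : q ≠ 9) (h11 : q ≠ 11)
    (h40 : q.Prime → q % 40 ∉ ({11, 19, 21, 29} : Finset ℕ))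
    (M M₀ K : Subgroup G) (hle : M₀ ≤ M) (hcard : Nat.card M = 2 * Nat.card M₀) (hlt : M₀ < K)
    (hM : PGLMaxType q M) (hK : PSLMaxType q p K) : False := by
  have hKd := pslMaxType_digest hodd hK
  have hdvd : Nat.card M₀ ∣ Nat.card K := Subgroup.card_dvd_of_le hlt.le
  have hltc : Nat.card M₀ < Nat.card K := by
    have h1 : Nat.card M₀ ≤ Nat.card K := Subgroup.card_le_of_le hlt.le
    rcases h1.lt_or_eq with h | h
    · exact h
    · exact absurd (Subgroup.eq_of_le_of_card_ge hlt.le h.ge) hlt.ne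
  have h2le : 2 * Nat.card M₀ ≤ Nat.card K := by
    obtain ⟨c, hc⟩ := hdvd
    have hc2 : 2 ≤ c := by
      by_contra hcon
      push Not at hcon
      interval_cases c
      · rw [mul_zero] at hc
        omega
      · rw [mul_one] at hc
        omega
    calc 2 * Nat.card M₀ = Nat.card M₀ * 2 := mul_comm _ _
      _ ≤ Nat.card M₀ * c := Nat.mul_le_mul_left _ hc2
      _ = Nat.card K := hc.symm
  have hsq : ∀ x ∈ M, x ^ 2 ∈ M₀ := sq_mem_of_card_two_mul M M₀ hle hcard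
  have hsub : ∀ c, Nat.card M₀ = c → ∃ H : Subgroup K, Nat.card H = c := fun c hc =>
    ⟨M₀.subgroupOf K, by
      rw [Nat.card_congr (Subgroup.subgroupOfEquivOfLe hlt.le).toEquiv]
      exact hc⟩
  rcases hM with h | ⟨hq5, ⟨e⟩⟩ | ⟨⟨e⟩⟩ | ⟨hprime, h8, ⟨e⟩⟩ | ⟨F₀, i1, i2, r, hr, hro, hq, ⟨e⟩⟩
  · exact arith_B q p _ _ h5 h2le (by rw [← hcard]; exact h) hKd
  · have hm : Nat.card M₀ = q - 1 := by
      have h1 : Nat.card M = 2 * (q - 1) := by
        rw [Nat.card_congr e.toEquiv, DihedralGroup.nat_card]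
      omega
    rcases arith_Ds q p _ _ hp hodd h5 h7 h9 h11 hdvd h2le hq5 hm hKd with
      ⟨q₁, hq1, h4⟩ | ⟨hq31, h6⟩
    · obtain ⟨x, hx⟩ : ∃ x : M, x = e.symm (DihedralGroup.r 1) := ⟨_, rfl⟩
      have hordx : orderOf x = q - 1 := by
        rw [hx, e.symm.orderOf_eq, DihedralGroup.orderOf_r_one]
      have hy : (x : G) ^ 2 ∈ M₀ := hsq _ x.2
      have hordy : 2 * orderOf ((x : G) ^ 2) = q - 1 := by
        rw [orderOf_pow' _ two_ne_zero, Subgroup.orderOf_coe, hordx]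
        obtain ⟨t, ht⟩ := hodd
        have e1 : q - 1 = 2 * t := by omega
        rw [e1, Nat.gcd_eq_right (dvd_mul_right 2 t),
          Nat.mul_div_cancel_left _ (by norm_num : 0 < 2)]
      have h5' := h4 ⟨(x : G) ^ 2, hlt.le hy⟩
      rw [← Subgroup.orderOf_coe] at h5'
      have h6 : q₁ * q₁ - 1 ≤ 2 * (q₁ + 1) := by
        have e2 : q₁ * q₁ = q := by rw [hq1, pow_two]
        rw [e2, ← hordy]
        exact Nat.mul_le_mul_left 2 h5'
      have hq₁3 : q₁ ≤ 3 := by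
        by_contra hcon
        push Not at hcon
        have h7' : 4 * q₁ ≤ q₁ * q₁ := Nat.mul_le_mul_right q₁ hcon
        omega
      have h8 : q₁ ^ 2 ≤ 3 ^ 2 := Nat.pow_le_pow_left hq₁3 2
      have h9' : q₁ ^ 2 = q := hq1.symm
      obtain ⟨t, ht⟩ := hodd
      interval_cases q₁ <;> omega
    · obtain ⟨H, hH⟩ := hsub 30 (by omega)
      exact (h6 H).2 hH
  · have hm : Nat.card M₀ = q + 1 := by
      have h1 : Nat.card M = 2 * (q + 1) := by
        rw [Nat.card_congr e.toEquiv, DihedralGroup.nat_card]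
      omega
    rcases arith_Dn q p _ _ hodd h5 h7 h9 h11 hdvd h2le hm hKd with
      ⟨hq, h6⟩ | ⟨hq, h6⟩ | ⟨hq, h7'⟩
    · obtain ⟨H, hH⟩ := hsub 20 (by omega)
      exact (h6 H).1 hH
    · obtain ⟨H, hH⟩ := hsub 30 (by omega)
      exact (h6 H).2 hH
    · obtain ⟨H, hH⟩ := hsub 6 (by omega)
      exact h7' H hH
  · have hm : Nat.card M₀ = 12 := by
      have h1 : Nat.card M = 24 := by
        rw [Nat.card_congr e.toEquiv, Nat.card_perm]
        simp [Nat.factorial]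
      omega
    have hC : Cube3Comm K := by
      rcases arith_S4 q p _ _ hdvd h2le h40 hprime h8 hm hKd with h | h <;> exact h
    obtain ⟨σ, τ, hσ3, hτ3, hστ⟩ : ∃ σ τ : Equiv.Perm (Fin 4),
        σ ^ 3 = 1 ∧ τ ^ 3 = 1 ∧ σ * τ ≠ τ * σ :=
      ⟨c[0, 1, 2], c[0, 1, 3], by decide, by decide, by decide⟩
    have key : ∀ ρ : Equiv.Perm (Fin 4), ρ ^ 3 = 1 →
        ((e.symm ρ : M) : G) ^ 3 = 1 ∧ ((e.symm ρ : M) : G) ∈ M₀ := by
      intro ρ hρ
      have h1 : ((e.symm ρ : M) : G) ^ 3 = 1 := by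
        rw [← Subgroup.coe_pow, ← map_pow, hρ, map_one, Subgroup.coe_one]
      refine ⟨h1, ?_⟩
      have h2 := hsq _ (M.pow_mem (e.symm ρ).2 2)
      have e4 : (((e.symm ρ : M) : G) ^ 2) ^ 2 = ((e.symm ρ : M) : G) := by
        rw [← pow_mul]
        calc ((e.symm ρ : M) : G) ^ (2 * 2) = ((e.symm ρ : M) : G) ^ 3 * ((e.symm ρ : M) : G) := by
              rw [← pow_succ]
          _ = ((e.symm ρ : M) : G) := by rw [h1, one_mul]
      rwa [e4] at h2
    obtain ⟨hs3, hs⟩ := key σ hσ3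
    obtain ⟨ht3, ht⟩ := key τ hτ3
    have hcomm := hC ⟨_, hlt.le hs⟩ ⟨_, hlt.le ht⟩ (Subtype.ext hs3) (Subtype.ext ht3)
    apply hστ
    have h3 : ((e.symm σ : M) : G) * ((e.symm τ : M) : G) =
        ((e.symm τ : M) : G) * ((e.symm σ : M) : G) := congrArg Subtype.val hcomm
    have h4 : e.symm σ * e.symm τ = e.symm τ * e.symm σ := Subtype.ext h3
    rw [← map_mul, ← map_mul] at h4
    exact e.symm.injective h4
  · have hm : 2 * Nat.card M₀ = Fintype.card F₀ * (Fintype.card F₀ ^ 2 - 1) := by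
      rw [← hcard, Nat.card_congr e.toEquiv, Cfsg.Agent.S0265.result 2,
        Cfsg.Agent.Lib.helper7.card_SL2 rfl]
    exact arith_P q p n _ _ hp hpn hodd h5 hdvd h2le (Fintype.card F₀) r hr hro hq hm hKd

end PGLStruct

end Cfsg.Agent.Lib.helper46
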