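import Mathlib
import Cfsg.Agent.S5892
import Cfsg.Agent.Lib.helper46.PGLStruct

/-!
# Maximal subgroups of `PGL₂(q)` meet `PSL₂(q)` in maximal subgroups (helper46)

Reduction of S5890 to the two classification statements (S5891 for `PGL₂(q)`, taken here as a
hypothesis `hMtype` on the given maximal subgroup, and S5892 for `PSL₂(q)`).
-/

set_option autoImplicit false

namespace Cfsg.Agent.Lib.helper46

section PGLMeet

theorem isCoatom_subgroupOf_of {G : Type*} [Group G] (K L : Subgroup G) (hKL : K ≤ L)
    (hne : K ≠ L) (hmax : ∀ K' : Subgroup G, K ≤ K' → K' ≤ L → K' = K ∨ K' = L) :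
    IsCoatom (K.subgroupOf L) := by
  constructor
  · intro h
    rw [Subgroup.subgroupOf_eq_top] at h
    exact hne (le_antisymm hKL h)
  · intro b hb
    have h1 : K ≤ b.map L.subtype := by
      intro x hx
      exact ⟨⟨x, hKL hx⟩, hb.le (Subgroup.mem_subgroupOf.mpr hx), rfl⟩
    have h2 : b.map L.subtype ≤ L := by
      rintro x ⟨y, -, rfl⟩
      exact y.2
    have h3 : (b.map L.subtype).subgroupOf L = b := by
      ext y
      rw [Subgroup.mem_subgroupOf]
      constructor
      · rintro ⟨z, hz, hzy⟩
        have : z = y := Subtype.ext hzy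
        rwa [← this]
      · intro hy
        exact ⟨y, hy, rfl⟩
    rcases hmax _ h1 h2 with h | h
    · exfalso
      rw [h] at h3
      exact hb.ne h3
    · rw [← h3, h]
      exact Subgroup.subgroupOf_self L

variable {F : Type*} [Field F] [Fintype F]

/-- **S5890 modulo the classification of the maximal subgroups of `PGL₂(q)`.** -/
theorem pgl_max_meet (h4 : 4 ≤ Fintype.card F) (h7 : Fintype.card F ≠ 7)
    (h9 : Fintype.card F ≠ 9) (h11 : Fintype.card F ≠ 11)
    (h40 : (Fintype.card F).Prime → Fintype.card F % 40 ∉ ({11, 19, 21, 29} : Finset ℕ))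
    (M : Subgroup (Matrix.ProjGenLinGroup (Fin 2) F)) (hM : IsCoatom M)
    (hML : ¬ (Matrix.ProjGenLinGroup.mk.comp Matrix.SpecialLinearGroup.toGL).range ≤ M)
    (hMtype : Odd (Fintype.card F) → PGLMaxType (Fintype.card F) M) :
    IsCoatom ((M ⊓ (Matrix.ProjGenLinGroup.mk.comp Matrix.SpecialLinearGroup.toGL).range).subgroupOf
      (Matrix.ProjGenLinGroup.mk.comp Matrix.SpecialLinearGroup.toGL).range) := by
  classical
  obtain ⟨L, hL⟩ : ∃ L : Subgroup (Matrix.ProjGenLinGroup (Fin 2) F),
      L = (Matrix.ProjGenLinGroup.mk.comp Matrix.SpecialLinearGroup.toGL).range := ⟨_, rfl⟩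
  rw [← hL] at hML ⊢
  haveI hfin : Finite (Matrix.ProjGenLinGroup (Fin 2) F) :=
    Finite.of_surjective _ Matrix.ProjGenLinGroup.mk_surjective
  have hrange : (Matrix.ProjectiveSpecialLinearGroup.toPGL (n := Fin 2) (R := F)).range = L := by
    rw [hL]
    ext x
    constructor
    · rintro ⟨y, rfl⟩
      obtain ⟨s, rfl⟩ := QuotientGroup.mk_surjective y
      exact ⟨s, rfl⟩
    · rintro ⟨s, rfl⟩
      exact ⟨QuotientGroup.mk s, rfl⟩
  obtain ⟨p, hchar⟩ := CharP.exists F
  have hp : p.Prime := CharP.char_is_prime F p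
  haveI : Fact p.Prime := ⟨hp⟩
  obtain ⟨n, -, hn⟩ := FiniteField.card F p
  rcases Nat.even_or_odd (Fintype.card F) with heven | hodd
  · -- `q` even: `L = ⊤`
    have hp2 : p = 2 := by
      rw [hn] at heven
      have h1 : Even p := ((Nat.even_pow).mp heven).1
      exact (Nat.Prime.even_iff hp).mp h1
    have hrc : ringChar F = 2 := by rw [ringChar.eq F p]; exact hp2
    have hsurj : Function.Surjective
        (Matrix.ProjectiveSpecialLinearGroup.toPGL (n := Fin 2) (R := F)) := by
      apply Matrix.ProjectiveSpecialLinearGroup.toPGL_surj_of_roots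
      intro r
      obtain ⟨c, hc⟩ := FiniteField.isSquare_of_char_two hrc (r : F)
      have hc0 : c ≠ 0 := by
        rintro rfl
        rw [mul_zero] at hc
        exact r.ne_zero hc
      refine ⟨Units.mk0 c hc0, ?_⟩
      apply Units.ext
      rw [Fintype.card_fin, Units.val_pow_eq_pow_val, Units.val_mk0, hc, pow_two]
    have hLtop : L = ⊤ := by
      rw [← hrange]
      exact MonoidHom.range_eq_top.mpr hsurj
    rw [hLtop]
    apply isCoatom_subgroupOf_of
    · exact inf_le_right
    · rw [inf_top_eq]
      exact hM.1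
    · intro K' h1 _
      rw [inf_top_eq] at h1 ⊢
      rcases eq_or_lt_of_le h1 with h | h
      · exact Or.inl h.symm
      · exact Or.inr (hM.2 K' h)
  · -- `q` odd
    have h5 : 5 ≤ Fintype.card F := by
      obtain ⟨t, ht⟩ := hodd
      omega
    have h2F : (2 : F) ≠ 0 := pgl_two_ne_zero_of_odd_card hodd
    obtain ⟨eL⟩ : Nonempty (Matrix.ProjectiveSpecialLinearGroup (Fin 2) F ≃* L) := by
      rw [← hrange]
      exact ⟨MonoidHom.ofInjective Matrix.ProjectiveSpecialLinearGroup.toPGL_injective⟩
    have hcardG : Nat.card (Matrix.ProjGenLinGroup (Fin 2) F) =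
        Fintype.card F * (Fintype.card F ^ 2 - 1) := by
      rw [Cfsg.Agent.S0265.result 2, Cfsg.Agent.Lib.helper7.card_SL2 rfl]
    have hcardL : 2 * Nat.card L = Fintype.card F * (Fintype.card F ^ 2 - 1) := by
      rw [← Nat.card_congr eL.toEquiv]
      exact Cfsg.Agent.Lib.helper7.two_mul_card_PSL2 rfl h2F
    have hidx : L.index = 2 := by
      have h1 := L.card_mul_index
      rw [hcardG, ← hcardL] at h1
      have hpos : 0 < Nat.card L := Nat.card_pos
      have h2 : Nat.card L * L.index = Nat.card L * 2 := by rw [h1, mul_comm]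
      exact Nat.eq_of_mul_eq_mul_left hpos h2
    haveI hLn : L.Normal := Subgroup.normal_of_index_eq_two hidx
    have hLtop : L ≠ ⊤ := by
      intro h
      rw [h, Subgroup.index_top] at hidx
      omega
    have hMnotle : ¬ M ≤ L := by
      intro h
      rcases eq_or_lt_of_le h with h' | h'
      · exact hML (h' ▸ le_refl _)
      · exact hLtop (hM.2 L h')
    have hcardM : Nat.card M = 2 * Nat.card (M ⊓ L : Subgroup _) := by
      have h1 : L.relIndex M = 2 := by
        have h2 := Subgroup.relIndex_dvd_index_of_normal L M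
        rw [hidx] at h2
        rcases (Nat.dvd_prime Nat.prime_two).mp h2 with h | h
        · exact absurd (Subgroup.relIndex_eq_one.mp h) hMnotle
        · exact h
      have h3 := (L.subgroupOf M).card_mul_index
      have h4 : Nat.card (L.subgroupOf M) = Nat.card (M ⊓ L : Subgroup _) := by
        rw [← Subgroup.inf_subgroupOf_right L M, inf_comm]
        exact Nat.card_congr (Subgroup.subgroupOfEquivOfLe inf_le_left).toEquiv
      have h5' : (L.subgroupOf M).index = 2 := h1
      rw [h4, h5'] at h3
      omega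
    apply isCoatom_subgroupOf_of (M ⊓ L) L inf_le_right
    · intro h
      exact hML (by rw [← h]; exact inf_le_left)
    · intro K' h1 h2
      by_contra hcon
      push Not at hcon
      obtain ⟨hne1, hne2⟩ := hcon
      have h3 : K'.subgroupOf L ≠ ⊤ := by
        rw [Ne, Subgroup.subgroupOf_eq_top]
        intro h
        exact hne2 (le_antisymm h2 h)
      obtain ⟨C, hC, hKC⟩ := (eq_top_or_exists_le_coatom (K'.subgroupOf L)).resolve_left h3
      obtain ⟨K, hKdef⟩ : ∃ K, K = C.map L.subtype := ⟨_, rfl⟩
      have hlt : M ⊓ L < K := by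
        have h4' : K' ≤ K := by
          intro x hx
          rw [hKdef]
          exact ⟨⟨x, h2 hx⟩, hKC (Subgroup.mem_subgroupOf.mpr hx), rfl⟩
        exact lt_of_lt_of_le (lt_of_le_of_ne h1 (Ne.symm hne1)) h4'
      have hKtype : PSLMaxType (Fintype.card F) p K := by
        have hC'co : IsCoatom (eL.symm.mapSubgroup C) := (eL.symm.mapSubgroup.isCoatom_iff C).mpr hC
        have e1 : K ≃* C := by
          rw [hKdef]
          exact (C.equivMapOfInjective L.subtype L.subtype_injective).symm
        have e2 : C ≃* (eL.symm.mapSubgroup C : Subgroup _) := eL.symm.subgroupMap C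
        exact pslMaxType_congr (e1.trans e2) (Cfsg.Agent.S5892.result p hodd h5 _ hC'co)
      exact pgl_incompat (Fintype.card F) p n hp hn hodd h5 h7 h9 h11 h40 M (M ⊓ L) K inf_le_left
        hcardM hlt (hMtype hodd) hKtype

end PGLMeet

end Cfsg.Agent.Lib.helper46
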