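import Mathlib
import Cfsg.Agent.S2904
import Cfsg.Agent.Lib.helper46.NMax13
import Cfsg.Agent.Lib.helper46.DicksonSylow

/-!
# Lower bounds for commutators of `p`-elements of `SL₂(q)` on faithful modules (helper46)

For a `p`-element `a ≠ 1` of `H ≅ SL₂(q)`, `q = p^n`, acting faithfully on an elementary abelian
`p`-group `V`: `|V : C_V(a)| ≥ q`.  Proof: for a suitable conjugate `a'` of `a` the product `a a'`
has order divisible by a primitive prime divisor `r` of `p^(2n) - 1` (Zsigmondy); `D = [V,a][V,a']`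
is invariant under `a, a'` which act trivially on `V/D`; orbit counting for an element of order
`r` on `D` gives `r ∣ p^j - 1` with `j ≤ dim D ≤ 2 dim [V,a]`.
-/

set_option autoImplicit false

namespace Cfsg.Agent.Lib.helper46

open Cfsg.Agent.Lib.helper98

section PPDAbstract

variable {V : Type*} [Group V] {Γ : Type*} [Group Γ] [MulDistribMulAction Γ V]

/-- The commutator map `v ↦ v⁻¹ * γ • v` of a commutative group. -/
def commHom (hcomm : ∀ x y : V, x * y = y * x) (γ : Γ) : V →* V where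
  toFun v := v⁻¹ * γ • v
  map_one' := by simp
  map_mul' v w := by
    rw [smul_mul', mul_inv_rev, hcomm w⁻¹ v⁻¹]
    calc v⁻¹ * w⁻¹ * (γ • v * γ • w) = v⁻¹ * (w⁻¹ * γ • v) * γ • w := by group
      _ = v⁻¹ * (γ • v * w⁻¹) * γ • w := by rw [hcomm w⁻¹ (γ • v)]
      _ = v⁻¹ * γ • v * (w⁻¹ * γ • w) := by group

theorem commHom_apply (hcomm : ∀ x y : V, x * y = y * x) (γ : Γ) (v : V) :
    commHom hcomm γ v = v⁻¹ * γ • v := rfl

/-- The elements of `Γ` acting trivially modulo `D`. -/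
def trivMod (Γ : Type*) [Group Γ] [MulDistribMulAction Γ V] (D : Subgroup V) : Subgroup Γ where
  carrier := {γ | ∀ v : V, v⁻¹ * γ • v ∈ D}
  one_mem' := by
    intro v
    simp
  mul_mem' := by
    intro γ δ hγ hδ v
    have e : v⁻¹ * (γ * δ) • v = (v⁻¹ * δ • v) * ((δ • v)⁻¹ * γ • (δ • v)) := by
      rw [mul_smul]; group
    rw [e]
    exact D.mul_mem (hδ v) (hγ _)
  inv_mem' := by
    intro γ hγ v
    have h := D.inv_mem (hγ (γ⁻¹ • v))
    rw [smul_inv_smul, mul_inv_rev, inv_inv] at h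
    exact h

/-- A finite group acting freely on a finite type: its order divides the cardinality. -/
theorem card_dvd_of_free {C X : Type*} [Group C] [MulAction C X] [Finite C] [Finite X]
    (hfree : ∀ (c : C) (x : X), c • x = x → c = 1) : Nat.card C ∣ Nat.card X := by
  classical
  have := Fintype.ofFinite C
  have := Fintype.ofFinite X
  have h := MulAction.sum_card_fixedBy_eq_card_orbits_mul_card_group C X
  have h1 : ∑ c : C, Fintype.card (MulAction.fixedBy X c) = Fintype.card X := by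
    rw [Finset.sum_eq_single (1 : C)]
    · apply Fintype.card_congr
      exact
        { toFun := fun x => x.1
          invFun := fun x => ⟨x, by simp⟩
          left_inv := fun x => rfl
          right_inv := fun x => rfl }
    · intro c _ hc
      rw [Fintype.card_eq_zero_iff]
      exact ⟨fun x => hc (hfree c x.1 x.2)⟩
    · intro h0
      exact absurd (Finset.mem_univ _) h0
  rw [h1] at h
  rw [Nat.card_eq_fintype_card, Nat.card_eq_fintype_card, h]
  exact dvd_mul_left _ _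

/-- In a cyclic group of prime power order `ℓ^e`, every nontrivial subgroup contains the element
of order `ℓ`. -/
theorem pow_mem_of_ne_bot {Γ : Type*} [Group Γ] (ψ : Γ) (ℓ e : ℕ) (hℓ : ℓ.Prime) (he : 0 < e)
    (hord : orderOf ψ = ℓ ^ e) (K : Subgroup Γ) (hK : K ≤ Subgroup.zpowers ψ) (hne : K ≠ ⊥) :
    ψ ^ (ℓ ^ (e - 1)) ∈ K := by
  obtain ⟨e', rfl⟩ : ∃ e', e = e' + 1 := ⟨e - 1, by omega⟩
  rw [Nat.add_sub_cancel]
  have hfin : IsOfFinOrder ψ := by
    rw [← orderOf_pos_iff, hord]; exact pow_pos hℓ.pos _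
  obtain ⟨⟨c, hcK⟩, hc1⟩ := (Subgroup.ne_bot_iff_exists_ne_one).mp hne
  have hc1' : c ≠ 1 := fun h => hc1 (Subtype.ext h)
  obtain ⟨i, hi⟩ := (hfin.mem_powers_iff_mem_zpowers).mpr (hK hcK)
  have hi' : ψ ^ i = c := hi
  have hi0 : i ≠ 0 := by
    rintro rfl
    exact hc1' (by rw [← hi', pow_zero])
  obtain ⟨s, m, hm, his⟩ := Nat.exists_eq_pow_mul_and_not_dvd hi0 ℓ hℓ.ne_one
  have hs : s ≤ e' := by
    by_contra hcon
    push Not at hcon
    apply hc1'
    rw [← hi', his]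
    have h2 : ℓ ^ (e' + 1) ∣ ℓ ^ s * m := Dvd.dvd.mul_right (pow_dvd_pow ℓ hcon) m
    rw [← hord] at h2
    exact orderOf_dvd_iff_pow_eq_one.mp h2
  have h1 : (ψ ^ (ℓ ^ e')) ^ m ∈ K := by
    have h2 : (ψ ^ (ℓ ^ e')) ^ m = c ^ (ℓ ^ (e' - s)) := by
      rw [← hi', his, ← pow_mul, ← pow_mul]
      congr 1
      rw [mul_right_comm, ← pow_add, Nat.add_sub_cancel' hs]
    rw [h2]
    exact K.pow_mem hcK _
  have hord₀ : (ψ ^ (ℓ ^ e')) ^ ℓ = 1 := by
    rw [← pow_mul, ← pow_succ, ← hord, pow_orderOf_eq_one]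
  have hcop : IsCoprime (m : ℤ) (ℓ : ℤ) :=
    Nat.isCoprime_iff_coprime.mpr ((Nat.Prime.coprime_iff_not_dvd hℓ).mpr hm).symm
  obtain ⟨a, b, hab⟩ := hcop
  have h3 : ψ ^ (ℓ ^ e') = ((ψ ^ (ℓ ^ e')) ^ m) ^ a := by
    have h2 : (ψ ^ (ℓ ^ e')) ^ (a * (m : ℤ) + b * (ℓ : ℤ)) = ψ ^ (ℓ ^ e') := by
      rw [hab, zpow_one]
    rw [zpow_add, mul_comm a, mul_comm b, zpow_mul, zpow_mul, zpow_natCast, zpow_natCast, hord₀,
      one_zpow, mul_one] at h2
    exact h2.symm
  rw [h3]
  exact K.zpow_mem h1 _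

/-- **Orbit counting bound.** -/
theorem ppd_orbit_bound [Finite V] (hcomm : ∀ x y : V, x * y = y * x) (p : ℕ) [Fact p.Prime]
    (hV : IsPGroup p V) (hfaith : ∀ γ : Γ, (∀ v : V, γ • v = v) → γ = 1)
    (α β ψ : Γ) (hψ : ψ ∈ Subgroup.closure ({α, β} : Set Γ)) (ℓ e : ℕ) (hℓ : ℓ.Prime)
    (hℓp : ℓ ≠ p) (he : 0 < e) (hord : orderOf ψ = ℓ ^ e) :
    ∃ j, 0 < j ∧ ℓ ^ e ∣ p ^ j - 1 ∧
      p ^ j ≤ Nat.card (commHom hcomm α).range * Nat.card (commHom hcomm β).range := by
  classical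
  have hp := (Fact.out : p.Prime)
  have hnormal : ∀ K : Subgroup V, K.Normal := by
    intro K
    refine ⟨fun x hx g => ?_⟩
    rw [hcomm g x, mul_inv_cancel_right]
    exact hx
  obtain ⟨D, hD⟩ : ∃ D : Subgroup V, D = (commHom hcomm α).range ⊔ (commHom hcomm β).range :=
    ⟨_, rfl⟩
  have hDcard : Nat.card D ≤
      Nat.card (commHom hcomm α).range * Nat.card (commHom hcomm β).range := by
    rw [hD, ← Nat.card_prod]
    apply Nat.card_le_card_of_surjective
      (fun x : (commHom hcomm α).range × (commHom hcomm β).range =>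
        (⟨x.1.1 * x.2.1, Subgroup.mul_mem_sup x.1.2 x.2.2⟩ :
          ↥((commHom hcomm α).range ⊔ (commHom hcomm β).range)))
    rintro ⟨d, hd⟩
    have := hnormal (commHom hcomm β).range
    obtain ⟨y, hy, z, hz, rfl⟩ := Subgroup.mem_sup_of_normal_right.mp hd
    exact ⟨(⟨y, hy⟩, ⟨z, hz⟩), rfl⟩
  have hα : α ∈ trivMod Γ D := by
    intro v
    rw [hD]
    exact Subgroup.mem_sup_left ⟨v, rfl⟩
  have hβ : β ∈ trivMod Γ D := by
    intro v
    rw [hD]
    exact Subgroup.mem_sup_right ⟨v, rfl⟩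
  have hcl : Subgroup.closure ({α, β} : Set Γ) ≤ trivMod Γ D := by
    rw [Subgroup.closure_le]
    rintro x (rfl | rfl)
    · exact hα
    · exact hβ
  have hψD := hcl hψ
  have hsmulD : ∀ γ ∈ trivMod Γ D, ∀ d ∈ D, γ • d ∈ D := by
    intro γ hγ d hd
    have e1 : γ • d = d * (d⁻¹ * γ • d) := by group
    rw [e1]
    exact D.mul_mem hd (hγ d)
  obtain ⟨ψ₀, hψ₀⟩ : ∃ ψ₀, ψ₀ = ψ ^ (ℓ ^ (e - 1)) := ⟨_, rfl⟩
  have hord₀ : orderOf ψ₀ = ℓ := by
    rw [hψ₀, orderOf_pow_of_dvd (pow_ne_zero _ hℓ.ne_zero)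
      (by rw [hord]; exact pow_dvd_pow ℓ (Nat.sub_le e 1)), hord]
    obtain ⟨e', rfl⟩ : ∃ e', e = e' + 1 := ⟨e - 1, by omega⟩
    rw [Nat.add_sub_cancel, pow_succ, Nat.mul_div_cancel_left _ (pow_pos hℓ.pos e')]
  have hψ₀D : ψ₀ ∈ trivMod Γ D := by
    rw [hψ₀]
    exact Subgroup.pow_mem _ hψD _
  have hψ₀1 : ψ₀ ≠ 1 := by
    intro h
    rw [h, orderOf_one] at hord₀
    exact hℓ.one_lt.ne hord₀
  have hmove : ∃ d ∈ D, ψ₀ • d ≠ d := by
    by_contra hcon
    push Not at hcon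
    apply hψ₀1
    apply hfaith
    intro v
    obtain ⟨d, hd⟩ : ∃ d, d = v⁻¹ * ψ₀ • v := ⟨_, rfl⟩
    have hdD : d ∈ D := hd ▸ hψ₀D v
    have hfix : ψ₀ • d = d := hcon d hdD
    have hv : ψ₀ • v = v * d := by rw [hd]; group
    have hpow : ∀ m : ℕ, ψ₀ ^ m • v = v * d ^ m := by
      intro m
      induction m with
      | zero => simp
      | succ m ih =>
        rw [pow_succ', mul_smul, ih, smul_mul', smul_pow', hfix, hv, mul_assoc, ← pow_succ']
    have h1 := hpow ℓ
    rw [← hord₀, pow_orderOf_eq_one, one_smul, hord₀] at h1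
    have hdl : d ^ ℓ = 1 := by
      have h2 : v * d ^ ℓ = v * 1 := by rw [mul_one]; exact h1.symm
      exact mul_left_cancel h2
    obtain ⟨k, hk⟩ := hV d
    have h2 : d ^ (ℓ.gcd (p ^ k)) = 1 := pow_gcd_eq_one.mpr ⟨hdl, hk⟩
    have hcop : Nat.Coprime ℓ (p ^ k) :=
      Nat.Coprime.pow_right _ ((Nat.coprime_primes hℓ hp).mpr hℓp)
    rw [hcop, pow_one] at h2
    rw [hv, h2, mul_one]
  obtain ⟨d₁, hd₁D, hd₁⟩ := hmove
  obtain ⟨D₀, hD₀⟩ : ∃ D₀ : Subgroup V, D₀ = D ⊓ (commHom hcomm ψ₀).ker := ⟨_, rfl⟩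
  have hmemD₀ : ∀ d, d ∈ D₀ ↔ (d ∈ D ∧ ψ₀ • d = d) := by
    intro d
    rw [hD₀, Subgroup.mem_inf, MonoidHom.mem_ker, commHom_apply, inv_mul_eq_one]
    constructor <;> rintro ⟨h1, h2⟩ <;> exact ⟨h1, h2.symm⟩
  have hD₀le : D₀ ≤ D := by rw [hD₀]; exact inf_le_left
  have hD₀ne : D₀ ≠ D := by
    intro h
    apply hd₁
    exact ((hmemD₀ d₁).mp (h ▸ hd₁D)).2
  have hzle : Subgroup.zpowers ψ ≤ trivMod Γ D := by
    rw [Subgroup.zpowers_le]; exact hψD
  let X : SubMulAction (Subgroup.zpowers ψ) V :=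
    { carrier := {d | d ∈ D ∧ ψ₀ • d ≠ d}
      smul_mem' := by
        rintro ⟨c, hc⟩ d ⟨hdD, hd⟩
        refine ⟨hsmulD c (hzle hc) d hdD, ?_⟩
        intro h
        apply hd
        have hcomm' : ψ₀ * c = c * ψ₀ := by
          obtain ⟨i, rfl⟩ := hc
          rw [hψ₀]
          exact (Commute.pow_left (Commute.zpow_right (Commute.refl ψ) i) _).eq
        have h2 : c • ψ₀ • d = c • d := by
          rw [← mul_smul, ← hcomm', mul_smul]
          exact h
        exact smul_left_cancel c h2 }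
  have hXmem : ∀ d : V, d ∈ X ↔ (d ∈ D ∧ ψ₀ • d ≠ d) := fun d => Iff.rfl
  have hfree : ∀ (c : Subgroup.zpowers ψ) (x : X), c • x = x → c = 1 := by
    intro c x hcx
    by_contra hc1
    have hx := (hXmem x.1).mp x.2
    apply hx.2
    have hcx' : (c : Γ) • (x : V) = x := congrArg Subtype.val hcx
    -- the stabilizer of `x` inside `⟨ψ⟩`
    have hK : Subgroup.zpowers (c : Γ) ≤ Subgroup.zpowers ψ := by
      rw [Subgroup.zpowers_le]; exact c.2
    have hne : Subgroup.zpowers (c : Γ) ≠ ⊥ := by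
      intro h
      apply hc1
      have h2 : (c : Γ) ∈ Subgroup.zpowers (c : Γ) := Subgroup.mem_zpowers _
      rw [h, Subgroup.mem_bot] at h2
      exact Subtype.ext h2
    have h3 := pow_mem_of_ne_bot ψ ℓ e hℓ he hord _ hK hne
    rw [← hψ₀] at h3
    have hstab : Subgroup.zpowers (c : Γ) ≤ MulAction.stabilizer Γ (x : V) := by
      rw [Subgroup.zpowers_le]
      exact MulAction.mem_stabilizer_iff.mpr hcx'
    exact MulAction.mem_stabilizer_iff.mp (hstab h3)
  have : Finite (Subgroup.zpowers ψ) := Nat.finite_of_card_ne_zero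
    (by rw [Nat.card_zpowers, hord]; exact pow_ne_zero _ hℓ.ne_zero)
  have hdvd : Nat.card (Subgroup.zpowers ψ) ∣ Nat.card X := card_dvd_of_free hfree
  rw [Nat.card_zpowers, hord] at hdvd
  have hXcard : Nat.card X = Nat.card D - Nat.card D₀ := by
    have hset : {d : V | d ∈ X} = (D : Set V) \ (D₀ : Set V) := by
      ext d
      constructor
      · rintro ⟨h1, h2⟩
        exact ⟨h1, fun h => h2 ((hmemD₀ d).mp h).2⟩
      · rintro ⟨h1, h2⟩
        exact ⟨h1, fun h => h2 ((hmemD₀ d).mpr ⟨h1, h⟩)⟩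
    have h1 : Nat.card X = Set.ncard {d : V | d ∈ X} := Nat.card_coe_set_eq {d : V | d ∈ X}
    have h2 : Nat.card D = Set.ncard (D : Set V) := Nat.card_coe_set_eq (D : Set V)
    have h3 : Nat.card D₀ = Set.ncard (D₀ : Set V) := Nat.card_coe_set_eq (D₀ : Set V)
    rw [h1, h2, h3, hset]
    exact Set.ncard_sdiff hD₀le (Set.toFinite _)
  obtain ⟨dD, hdD⟩ := (hV.to_subgroup D).exists_card_eq
  obtain ⟨dD₀, hdD₀⟩ := (hV.to_subgroup D₀).exists_card_eq
  have hlt : dD₀ < dD := by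
    have h1 : Nat.card D₀ ≤ Nat.card D := Subgroup.card_le_of_le hD₀le
    have h2 : Nat.card D₀ ≠ Nat.card D :=
      fun h => hD₀ne (Subgroup.eq_of_le_of_card_ge hD₀le h.ge)
    rw [hdD, hdD₀] at h1 h2
    have h3 : dD₀ ≤ dD := (Nat.pow_le_pow_iff_right hp.one_lt).mp h1
    rcases h3.lt_or_eq with h | h
    · exact h
    · exact absurd (by rw [h]) h2
  refine ⟨dD - dD₀, by omega, ?_, ?_⟩
  · rw [hXcard, hdD, hdD₀] at hdvd
    have e1 : p ^ dD - p ^ dD₀ = p ^ dD₀ * (p ^ (dD - dD₀) - 1) := by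
      rw [Nat.mul_sub, mul_one, ← pow_add, Nat.add_sub_cancel' hlt.le]
    rw [e1] at hdvd
    have hcop : Nat.Coprime (ℓ ^ e) (p ^ dD₀) :=
      Nat.Coprime.pow _ _ ((Nat.coprime_primes hℓ hp).mpr hℓp)
    exact hcop.dvd_of_dvd_mul_left hdvd
  · calc p ^ (dD - dD₀) ≤ p ^ dD := Nat.pow_le_pow_right hp.pos (Nat.sub_le _ _)
      _ = Nat.card D := hdD.symm
      _ ≤ _ := hDcard

/-- Conjugate automorphisms have commutator subgroups of the same order. -/
theorem commHom_conj_card_le [Finite V] (hcomm : ∀ x y : V, x * y = y * x) (δ γ : Γ) :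
    Nat.card (commHom hcomm γ).range ≤ Nat.card (commHom hcomm (δ * γ * δ⁻¹)).range := by
  apply Nat.card_le_card_of_injective
    (fun w : (commHom hcomm γ).range => (⟨δ • w.1, by
      obtain ⟨v, hv⟩ := w.2
      refine ⟨δ • v, ?_⟩
      rw [← hv, commHom_apply, commHom_apply, smul_mul', smul_inv', mul_smul, mul_smul,
        inv_smul_smul]⟩ : (commHom hcomm (δ * γ * δ⁻¹)).range))
  intro w w' h
  have h1 : δ • w.1 = δ • w'.1 := congrArg Subtype.val h
  exact Subtype.ext (smul_left_cancel δ h1)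

theorem commHom_conj_card [Finite V] (hcomm : ∀ x y : V, x * y = y * x) (δ γ : Γ) :
    Nat.card (commHom hcomm (δ * γ * δ⁻¹)).range = Nat.card (commHom hcomm γ).range := by
  apply le_antisymm
  · have h := commHom_conj_card_le hcomm δ⁻¹ (δ * γ * δ⁻¹)
    have e : δ⁻¹ * (δ * γ * δ⁻¹) * δ⁻¹⁻¹ = γ := by group
    rwa [e] at h
  · exact commHom_conj_card_le hcomm δ γ

end PPDAbstract

section PPDMatrix

variable {F : Type*} [Field F]

local notation "SL" => Matrix.SpecialLinearGroup (Fin 2) F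

/-- Coefficients of the powers of a `2 × 2` matrix of determinant one:
`M ^ (k+1) = chebU τ (k+1) • M - chebU τ k • 1`. -/
def chebU (τ : F) : ℕ → F
  | 0 => 0
  | 1 => 1
  | (k + 2) => τ * chebU τ (k + 1) - chebU τ k

theorem pow_eq_chebU (M : Matrix (Fin 2) (Fin 2) F) (hdet : M.det = 1) (k : ℕ) :
    M ^ (k + 1) = chebU (M 0 0 + M 1 1) (k + 1) • M
      - chebU (M 0 0 + M 1 1) k • (1 : Matrix (Fin 2) (Fin 2) F) := by
  induction k with
  | zero => simp [chebU]
  | succ k ih =>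
    rw [pow_succ, ih, sub_mul, smul_mul_assoc, cayley_two M hdet, smul_mul_assoc, one_mul]
    rw [show chebU (M 0 0 + M 1 1) (k + 1 + 1) = (M 0 0 + M 1 1) * chebU (M 0 0 + M 1 1) (k + 1)
      - chebU (M 0 0 + M 1 1) k from rfl]
    module

/-- The order of a non-scalar matrix of determinant one is determined by its trace. -/
theorem pow_eq_one_of_trace_eq (M M' : Matrix (Fin 2) (Fin 2) F) (hdet : M.det = 1)
    (hdet' : M'.det = 1) (htr : M 0 0 + M 1 1 = M' 0 0 + M' 1 1)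
    (hns : M 0 1 ≠ 0 ∨ M 1 0 ≠ 0 ∨ M 0 0 ≠ M 1 1) (m : ℕ) (hm : M ^ m = 1) : M' ^ m = 1 := by
  cases m with
  | zero => simp
  | succ k =>
    have h1 := pow_eq_chebU M hdet k
    rw [hm] at h1
    have e00 := congrFun (congrFun h1 0) 0
    have e01 := congrFun (congrFun h1 0) 1
    have e10 := congrFun (congrFun h1 1) 0
    have e11 := congrFun (congrFun h1 1) 1
    simp only [Matrix.sub_apply, Matrix.smul_apply, Matrix.one_apply_eq, Matrix.one_apply_ne,
      ne_eq, Fin.isValue, zero_ne_one, one_ne_zero, not_false_eq_true, smul_eq_mul, mul_one,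
      mul_zero, sub_zero] at e00 e01 e10 e11
    have hU : chebU (M 0 0 + M 1 1) (k + 1) = 0 := by
      rcases hns with h | h | h
      · rcases mul_eq_zero.mp e01.symm with h' | h'
        · exact h'
        · exact absurd h' h
      · rcases mul_eq_zero.mp e10.symm with h' | h'
        · exact h'
        · exact absurd h' h
      · have h2 : chebU (M 0 0 + M 1 1) (k + 1) * (M 0 0 - M 1 1) = 0 := by
          linear_combination e11 - e00
        rcases mul_eq_zero.mp h2 with h' | h'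
        · exact h'
        · exact absurd (sub_eq_zero.mp h') h
    have hU' : chebU (M 0 0 + M 1 1) k = -1 := by
      rw [hU] at e00
      linear_combination e00
    rw [pow_eq_chebU M' hdet' k, ← htr, hU, hU']
    simp

theorem sl_pow_eq_one_of_trace_eq (x x' : SL) (htr : x 0 0 + x 1 1 = x' 0 0 + x' 1 1)
    (hx : x ∉ Subgroup.center SL) (m : ℕ) (hm : x ^ m = 1) : x' ^ m = 1 := by
  have hns : x 0 1 ≠ 0 ∨ x 1 0 ≠ 0 ∨ x 0 0 ≠ x 1 1 := by
    by_contra hcon
    push Not at hcon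
    exact hx ((mem_center_sl2_iff x).mpr hcon)
  apply Subtype.ext
  rw [Matrix.SpecialLinearGroup.coe_pow, Matrix.SpecialLinearGroup.coe_one]
  apply pow_eq_one_of_trace_eq x.1 x'.1 x.det_coe x'.det_coe htr hns m
  rw [← Matrix.SpecialLinearGroup.coe_pow, hm, Matrix.SpecialLinearGroup.coe_one]

/-- For a nontrivial unipotent `u`, the products `u * u^g` realise every trace `2 - σ²`. -/
theorem exists_conj_product_trace (u : SL) (hu1 : u ≠ 1) (htr : u 0 0 + u 1 1 = 2) (σ : F) :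
    ∃ g : SL, (u * (g * u * g⁻¹)) 0 0 + (u * (g * u * g⁻¹)) 1 1 = 2 - σ * σ ∧
      (σ ≠ 0 → u * (g * u * g⁻¹) ∉ Subgroup.center SL) := by
  obtain ⟨c, t₀, ht₀, hc⟩ := exists_conj_eq_upSL u hu1 htr
  obtain ⟨z, hz⟩ : ∃ z, z = σ / t₀ := ⟨_, rfl⟩
  refine ⟨c⁻¹ * lowSL z * c, ?_⟩
  have e : u * (c⁻¹ * lowSL z * c * u * (c⁻¹ * lowSL z * c)⁻¹) =
      c⁻¹ * (upSL t₀ * (lowSL z * upSL t₀ * (lowSL z)⁻¹)) * c⁻¹⁻¹ := by
    rw [← hc]; group
  rw [e]
  have hxz : t₀ * z = σ := by rw [hz]; field_simp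
  constructor
  · rw [trace_conj]
    simp only [sl2_mul_apply, sl2_inv_00, sl2_inv_01, sl2_inv_10, sl2_inv_11, upSL_00, upSL_01,
      upSL_10, upSL_11, lowSL_00, lowSL_01, lowSL_10, lowSL_11]
    linear_combination (-(t₀ * z) - σ) * hxz
  · intro hσ hcen
    have h3 := Subgroup.Normal.conj_mem (inferInstance : (Subgroup.center SL).Normal) _ hcen c
    have e2 : c * (c⁻¹ * (upSL t₀ * (lowSL z * upSL t₀ * (lowSL z)⁻¹)) * c⁻¹⁻¹) * c⁻¹ =
        upSL t₀ * (lowSL z * upSL t₀ * (lowSL z)⁻¹) := by group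
    rw [e2, mem_center_sl2_iff] at h3
    have h10 := h3.2.1
    simp only [sl2_mul_apply, sl2_inv_00, sl2_inv_01, sl2_inv_10, sl2_inv_11, upSL_00, upSL_01,
      upSL_10, upSL_11, lowSL_00, lowSL_01, lowSL_10, lowSL_11] at h10
    have hz0 : z = 0 := by
      have h4 : z * z * t₀ = 0 := by linear_combination -h10
      rcases mul_eq_zero.mp h4 with h | h
      · exact mul_self_eq_zero.mp h
      · exact absurd h ht₀
    apply hσ
    rw [← hxz, hz0, mul_zero]

/-- Products of two conjugates of a unipotent element have the same orders as `-y²`. -/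
theorem exists_conj_product_of (u : SL) (hu1 : u ≠ 1) (htr : u 0 0 + u 1 1 = 2) (y : SL)
    (hy4 : ¬ y ^ 4 = 1) :
    ∃ g : SL, ∀ m : ℕ, ((negOne * (y * y)) ^ m = 1 ↔ (u * (g * u * g⁻¹)) ^ m = 1) := by
  have hσ : y 0 0 + y 1 1 ≠ 0 := by
    intro h
    apply hy4
    have h2 := sq_of_trace_zero y h
    have e : y ^ 4 = (y * y) * (y * y) := by simp only [pow_succ, pow_zero, one_mul, mul_assoc]
    rw [e, h2, negOne_mul_self]
  obtain ⟨g, hg, hgc⟩ := exists_conj_product_trace u hu1 htr (y 0 0 + y 1 1)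
  have htr0 : (negOne * (y * y) : SL) 0 0 + (negOne * (y * y) : SL) 1 1 =
      2 - (y 0 0 + y 1 1) * (y 0 0 + y 1 1) := by
    have h2 := sl_trace_sq y
    simp only [sl2_mul_apply, negOne_00, negOne_01, negOne_10, negOne_11] at h2 ⊢
    linear_combination -h2
  have hc0 : negOne * (y * y) ∉ Subgroup.center SL := by
    intro hc
    apply hy4
    have e : y ^ 4 = (y * y) * (y * y) := by simp only [pow_succ, pow_zero, one_mul, mul_assoc]
    rcases center_sl2_eq _ hc with h | h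
    · have h2 : y * y = negOne := by
        have h3 := congrArg (fun x => negOne * x) h
        simp only [negOne_mul_cancel, mul_one] at h3
        exact h3
      rw [e, h2, negOne_mul_self]
    · have h2 : y * y = 1 := by
        have h3 := congrArg (fun x => negOne * x) h
        simp only [negOne_mul_cancel, negOne_mul_self] at h3
        exact h3
      rw [e, h2, mul_one]
  refine ⟨g, fun m => ⟨fun h => ?_, fun h => ?_⟩⟩
  · exact sl_pow_eq_one_of_trace_eq _ _ (by rw [htr0, hg]) hc0 m h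
  · exact sl_pow_eq_one_of_trace_eq _ _ (by rw [htr0, hg]) (hgc hσ) m h

theorem negOne_mul_pow (y : SL) (m : ℕ) :
    (negOne * (y * y)) ^ m = negOne ^ m * y ^ (2 * m) := by
  have hcomm : Commute (negOne : SL) (y * y) := negOne_comm _
  rw [hcomm.mul_pow, ← pow_two, ← pow_mul]

/-- **Products of two conjugates of a `p`-element of `SL₂(p^n)`** with an element of order a
"primitive" prime power. -/
theorem exists_ppd_product [Fintype F] (p n : ℕ) [Fact p.Prime] (hF : Fintype.card F = p ^ n)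
    (hn : 2 ≤ n) (u : SL) (hu1 : u ≠ 1) (k : ℕ) (huk : u ^ p ^ k = 1) :
    ∃ (g ψ : SL) (ℓ e : ℕ), ψ ∈ Subgroup.closure ({u, g * u * g⁻¹} : Set SL) ∧ ℓ.Prime ∧
      ℓ ≠ p ∧ 0 < e ∧ orderOf ψ = ℓ ^ e ∧ ∀ j, 0 < j → ℓ ^ e ∣ p ^ j - 1 → 2 * n ≤ j := by
  classical
  have hp := (Fact.out : p.Prime)
  have hchar : CharP F p := charP_of_card_eq_prime_pow hF
  have htr : u 0 0 + u 1 1 = 2 := trace_of_pow_char_pow p u k huk
  have hSL : Nat.card SL = p ^ n * ((p ^ n) ^ 2 - 1) := Cfsg.Agent.Lib.helper7.card_SL2 hF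
  have hmemcl : ∀ g : SL, u * (g * u * g⁻¹) ∈ Subgroup.closure ({u, g * u * g⁻¹} : Set SL) :=
    fun g => Subgroup.mul_mem _ (Subgroup.subset_closure (Set.mem_insert _ _))
      (Subgroup.subset_closure (Set.mem_insert_of_mem _ rfl))
  by_cases hex : p = 2 ∧ n = 3
  · -- `q = 8`: an element of order `9`
    obtain ⟨rfl, rfl⟩ := hex
    have h2 : (2 : F) = 0 := by
      have := CharP.cast_eq_zero F 2
      exact_mod_cast this
    have hneg1 : (negOne : SL) = 1 := negOne_eq_one h2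
    obtain ⟨t, w, hT⟩ := nonsplit_torus_pkg (F := F)
    have hord : orderOf t = 9 := by rw [hT.1, hF]; norm_num
    have hy4 : ¬ t ^ 4 = 1 := by
      intro h
      have := orderOf_dvd_of_pow_eq_one h
      rw [hord] at this
      norm_num at this
    obtain ⟨g, hg⟩ := exists_conj_product_of u hu1 htr t hy4
    have hx9 : (u * (g * u * g⁻¹)) ^ 9 = 1 := by
      rw [← hg, negOne_mul_pow, hneg1, one_pow, one_mul]
      have : t ^ (2 * 9) = (t ^ 9) ^ 2 := by rw [← pow_mul]
      rw [this, ← hord, pow_orderOf_eq_one, one_pow]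
    have hx3 : ¬ (u * (g * u * g⁻¹)) ^ 3 = 1 := by
      intro h
      rw [← hg, negOne_mul_pow, hneg1, one_pow, one_mul] at h
      have := orderOf_dvd_of_pow_eq_one h
      rw [hord] at this
      norm_num at this
    have hordx : orderOf (u * (g * u * g⁻¹)) = 3 ^ 2 :=
      orderOf_eq_prime_pow (p := 3) (n := 1) (by rw [pow_one]; exact hx3) (by norm_num; exact hx9)
    refine ⟨g, u * (g * u * g⁻¹), 3, 2, hmemcl g, Nat.prime_three, by norm_num, by norm_num,
      hordx, ?_⟩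
    intro j hj hdvd
    by_contra hcon
    push Not at hcon
    have hj6 : j < 6 := by omega
    interval_cases j <;> norm_num at hdvd
  · -- Zsigmondy
    have h6 : ¬ (p = 2 ∧ 2 * n = 6) := by
      rintro ⟨h1, h2⟩
      exact hex ⟨h1, by omega⟩
    have h2' : ¬ (2 * n = 2 ∧ ∃ m : ℕ, p + 1 = 2 ^ m) := by
      rintro ⟨h1, -⟩
      omega
    obtain ⟨r, hr, hrdvd, hrprim⟩ := Cfsg.Agent.S2904.result p (2 * n) hp.one_lt (by omega) h6 h2'
    have hrp : r ≠ p := by
      rintro rfl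
      have h1 : r ∣ r ^ (2 * n) := dvd_pow_self r (by omega)
      have h3 : 1 ≤ r ^ (2 * n) := Nat.one_le_pow _ _ hp.pos
      have h4 : r ∣ 1 := by
        have h5 := Nat.dvd_sub h1 hrdvd
        rwa [Nat.sub_sub_self h3] at h5
      exact hp.one_lt.ne' (Nat.dvd_one.mp h4)
    have hr2 : r ≠ 2 := by
      rintro rfl
      have h1 := hrprim 1 (by norm_num) (by omega)
      rw [pow_one] at h1
      rcases hp.eq_two_or_odd with h | h
      · subst h
        have h3 : (2 : ℕ) ^ (2 * n) = 2 * 2 ^ (2 * n - 1) := by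
          rw [← pow_succ']; congr 1; omega
        have h5 : 1 ≤ 2 ^ (2 * n - 1) := Nat.one_le_pow _ _ (by norm_num)
        omega
      · apply h1
        omega
    have : Fact r.Prime := ⟨hr⟩
    have hrSL : r ∣ Nat.card SL := by
      rw [hSL, ← pow_mul, mul_comm n 2]
      exact Dvd.dvd.mul_left hrdvd _
    obtain ⟨y, hy⟩ := exists_prime_orderOf_dvd_card' (G := SL) r hrSL
    have hy4 : ¬ y ^ 4 = 1 := by
      intro h
      have h1 := orderOf_dvd_of_pow_eq_one h
      rw [hy] at h1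
      have h3 : r ∣ 2 ^ 2 := by norm_num; exact h1
      exact hr2 ((Nat.prime_dvd_prime_iff_eq hr Nat.prime_two).mp (hr.dvd_of_dvd_pow h3))
    obtain ⟨g, hg⟩ := exists_conj_product_of u hu1 htr y hy4
    have hnegsq : (negOne : SL) ^ 2 = 1 := negOne_pow_two
    have hx2r : (u * (g * u * g⁻¹)) ^ (2 * r) = 1 := by
      rw [← hg, negOne_mul_pow, pow_mul, hnegsq, one_pow, one_mul]
      have : y ^ (2 * (2 * r)) = (y ^ r) ^ 4 := by rw [← pow_mul]; congr 1; ring
      rw [this, ← hy, pow_orderOf_eq_one, one_pow]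
    have hx2 : ¬ (u * (g * u * g⁻¹)) ^ 2 = 1 := by
      intro h
      rw [← hg, negOne_mul_pow, hnegsq, one_mul] at h
      exact hy4 h
    have hordx : orderOf ((u * (g * u * g⁻¹)) ^ 2) = r :=
      orderOf_eq_prime (by rw [← pow_mul]; exact hx2r) hx2
    refine ⟨g, (u * (g * u * g⁻¹)) ^ 2, r, 1, Subgroup.pow_mem _ (hmemcl g) _, hr, hrp,
      by norm_num, by rw [pow_one]; exact hordx, ?_⟩
    intro j hj hdvd
    by_contra hcon
    push Not at hcon
    rw [pow_one] at hdvd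
    exact hrprim j hj hcon hdvd

end PPDMatrix

section PPDGlue

variable {G : Type*} [Group G]

/-- Conjugation action of the normalizer of `V` on `V`. -/
def normAut (V : Subgroup G) : ↥(Subgroup.normalizer (V : Set G)) →* MulAut ↥V where
  toFun g :=
    { toFun := fun v => ⟨g.1 * v.1 * g.1⁻¹, (Subgroup.mem_normalizer_iff.mp g.2 v.1).mp v.2⟩
      invFun := fun v => ⟨g.1⁻¹ * v.1 * g.1, (Subgroup.mem_normalizer_iff''.mp g.2 v.1).mp v.2⟩
      left_inv := fun v => Subtype.ext (by simp [mul_assoc])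
      right_inv := fun v => Subtype.ext (by simp [mul_assoc])
      map_mul' := fun v w => Subtype.ext (by simp [mul_assoc]) }
  map_one' := by
    apply MulEquiv.ext
    intro v
    apply Subtype.ext
    simp
  map_mul' := fun g h => by
    apply MulEquiv.ext
    intro v
    apply Subtype.ext
    simp [mul_assoc]

theorem normAut_apply (V : Subgroup G) (g : ↥(Subgroup.normalizer (V : Set G))) (v : ↥V) :
    ((normAut V g v : ↥V) : G) = g.1 * v.1 * g.1⁻¹ := rfl

/-- **Commutator bound for `p`-elements of `SL₂(p^n)` acting faithfully on an elementary abelian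
`p`-group**: `|V : C_V(a)| ≥ p^n`. -/
theorem sl2_faithful_bound [Finite G] {p : ℕ} [Fact p.Prime] (V H : Subgroup G)
    (hVc : ∀ x ∈ V, ∀ y ∈ V, x * y = y * x) (hVp : ∀ x ∈ V, x ^ p = 1)
    (hHV : H ≤ Subgroup.normalizer (V : Set G))
    (hf : H ⊓ Subgroup.centralizer (V : Set G) = ⊥) {F : Type*} [Field F] [Fintype F] (n : ℕ)
    (hF : Fintype.card F = p ^ n) (e : ↥H ≃* Matrix.SpecialLinearGroup (Fin 2) F) (a : G)
    (haH : a ∈ H) (ha1 : a ≠ 1) (k : ℕ) (hak : a ^ p ^ k = 1) :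
    p ^ n ≤ (V ⊓ Subgroup.centralizer ({a} : Set G)).relIndex V := by
  classical
  have hp := (Fact.out : p.Prime)
  have hc : ∀ x y : ↥V, x * y = y * x := fun x y => Subtype.ext (hVc x x.2 y y.2)
  have hVP : IsPGroup p ↥V := by
    intro x
    refine ⟨1, Subtype.ext ?_⟩
    rw [pow_one, Subgroup.coe_pow, Subgroup.coe_one]
    exact hVp x x.2
  obtain ⟨ρ, hρ⟩ : ∃ ρ : ↥H →* MulAut ↥V, ρ = (normAut V).comp (Subgroup.inclusion hHV) :=
    ⟨_, rfl⟩
  have hρapp : ∀ (h : ↥H) (v : ↥V), ((ρ h • v : ↥V) : G) = (h : G) * v * (h : G)⁻¹ := by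
    intro h v
    rw [hρ]
    rfl
  have hρinj : Function.Injective ρ := by
    rw [injective_iff_map_eq_one]
    intro h hh
    have h1 : (h : G) ∈ H ⊓ Subgroup.centralizer (V : Set G) := by
      rw [Subgroup.mem_inf, Subgroup.mem_centralizer_iff]
      refine ⟨h.2, ?_⟩
      intro v hv
      have h2 := hρapp h ⟨v, hv⟩
      rw [hh, one_smul] at h2
      have h3 : v = (h : G) * v * (h : G)⁻¹ := h2
      calc v * (h : G) = ((h : G) * v * (h : G)⁻¹) * (h : G) := by rw [← h3]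
        _ = (h : G) * v := by group
    rw [hf, Subgroup.mem_bot] at h1
    exact Subtype.ext h1
  obtain ⟨a', ha'⟩ : ∃ a' : ↥H, a' = ⟨a, haH⟩ := ⟨_, rfl⟩
  have ha'v : (a' : G) = a := by rw [ha']
  have ha'1 : a' ≠ 1 := by
    intro h
    apply ha1
    rw [← ha'v, h, Subgroup.coe_one]
  have ha'k : a' ^ p ^ k = 1 := by
    apply Subtype.ext
    rw [Subgroup.coe_pow, Subgroup.coe_one, ha'v]
    exact hak
  have hidx : (V ⊓ Subgroup.centralizer ({a} : Set G)).relIndex V =
      Nat.card (commHom hc (ρ a')).range := by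
    rw [← Subgroup.index_ker, Subgroup.relIndex]
    congr 1
    ext v
    rw [Subgroup.mem_subgroupOf, MonoidHom.mem_ker, commHom_apply, Subgroup.mem_inf,
      Subgroup.mem_centralizer_iff, inv_mul_eq_one]
    have h2 := hρapp a' v
    rw [ha'v] at h2
    constructor
    · rintro ⟨-, h⟩
      apply Subtype.ext
      rw [h2]
      have h3 := h a rfl
      rw [h3, mul_inv_cancel_right]
    · intro h
      refine ⟨v.2, ?_⟩
      intro b hb
      rw [Set.mem_singleton_iff] at hb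
      subst hb
      have h3 : (v : G) = b * v * b⁻¹ := by rw [← h2, ← h]
      calc b * (v : G) = (b * v * b⁻¹) * b := by group
        _ = v * b := by rw [← h3]
  rw [hidx]
  have hKpos : 0 < Nat.card (commHom hc (ρ a')).range := Nat.card_pos
  have hρa1 : ρ a' ≠ 1 := by
    intro h
    exact ha'1 (hρinj (by rw [h, map_one]))
  rcases Nat.lt_or_ge n 2 with hn | hn
  · -- `n ≤ 1`
    obtain ⟨i, hi⟩ := (hVP.to_subgroup (commHom hc (ρ a')).range).exists_card_eq
    rw [hi]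
    apply Nat.pow_le_pow_right hp.pos
    by_contra hcon
    push Not at hcon
    have hi0 : i = 0 := by omega
    rw [hi0, pow_zero] at hi
    have hbot : (commHom hc (ρ a')).range = ⊥ := Subgroup.card_eq_one.mp hi
    apply hρa1
    apply MulEquiv.ext
    intro v
    have h1 : commHom hc (ρ a') v ∈ (commHom hc (ρ a')).range := ⟨v, rfl⟩
    rw [hbot, Subgroup.mem_bot, commHom_apply, inv_mul_eq_one] at h1
    exact h1.symm
  · -- `n ≥ 2`
    obtain ⟨u, hu⟩ : ∃ u, u = e a' := ⟨_, rfl⟩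
    have hu1 : u ≠ 1 := by
      intro h
      apply ha'1
      apply e.injective
      rw [← hu, h, map_one]
    have huk : u ^ p ^ k = 1 := by rw [hu, ← map_pow, ha'k, map_one]
    obtain ⟨g, ψ, ℓ, e', hψ, hℓ, hℓp, he', hord, hprim⟩ := exists_ppd_product p n hF hn u hu1 k huk
    obtain ⟨φ, hφ⟩ : ∃ φ : Matrix.SpecialLinearGroup (Fin 2) F →* MulAut ↥V,
        φ = ρ.comp e.symm.toMonoidHom := ⟨_, rfl⟩
    have hφinj : Function.Injective φ := by
      rw [hφ]
      exact hρinj.comp e.symm.injective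
    have hφu : φ u = ρ a' := by
      rw [hφ, hu]
      simp
    have hΨ : φ ψ ∈ Subgroup.closure ({ρ a', φ g * ρ a' * (φ g)⁻¹} : Set (MulAut ↥V)) := by
      have h1 := Subgroup.mem_map_of_mem φ hψ
      rw [MonoidHom.map_closure, Set.image_pair, map_mul, map_mul, map_inv, hφu] at h1
      exact h1
    have hordΨ : orderOf (φ ψ) = ℓ ^ e' := by rw [orderOf_injective φ hφinj, hord]
    obtain ⟨j, hj, hdvd, hle⟩ := ppd_orbit_bound hc p hVP (fun γ hγ => MulEquiv.ext hγ) (ρ a')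
      (φ g * ρ a' * (φ g)⁻¹) (φ ψ) hΨ ℓ e' hℓ hℓp he' hordΨ
    have h2n := hprim j hj hdvd
    rw [commHom_conj_card] at hle
    have h1 : p ^ n * p ^ n ≤
        Nat.card (commHom hc (ρ a')).range * Nat.card (commHom hc (ρ a')).range := by
      calc p ^ n * p ^ n = p ^ (2 * n) := by rw [← pow_add]; congr 1; omega
        _ ≤ p ^ j := Nat.pow_le_pow_right hp.pos h2n
        _ ≤ _ := hle
    exact Nat.mul_self_le_mul_self_iff.mp h1

end PPDGlue

end Cfsg.Agent.Lib.helper46
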