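import Mathlib
import Cfsg.Agent.Lib.helper75.PQDefs
import Cfsg.Agent.Lib.helper50.PQ_C5
import Cfsg.Agent.Lib.helper83.PQ_C1
import Cfsg.Agent.Lib.helper46.PQ_C238

/-!
# S4306 pieces C10, C11 (second batch)

* `MinTower.pow_mem_center` (C10): `R / Z(R)` has exponent `r` for nonabelian `R`;
* `MinTower.comm_SH_fix` (C11): an element of `[S, H]` centralized by `H` centralizes `R`.
-/

set_option autoImplicit false

namespace Cfsg.Agent.Lib.helper46.PQ

variable {Γ : Type*} [Group Γ]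

/-- Conjugation action of the normalizer of `R` on `R`. -/
def pqConj (R : Subgroup Γ) : ↥(Subgroup.normalizer (R : Set Γ)) →* MulAut ↥R where
  toFun g :=
    { toFun := fun x => ⟨(g : Γ) * x * (g : Γ)⁻¹, pq_conj_mem_of_mem_normalizer g.2 x.2⟩
      invFun := fun x => ⟨(g : Γ)⁻¹ * x * (g : Γ), pq_conj_mem_of_mem_normalizer' g.2 x.2⟩
      left_inv := fun x => by
        apply Subtype.ext
        simp [mul_assoc]
      right_inv := fun x => by
        apply Subtype.ext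
        simp [mul_assoc]
      map_mul' := fun x y => by
        apply Subtype.ext
        simp [mul_assoc] }
  map_one' := by
    apply MulEquiv.ext
    intro x
    apply Subtype.ext
    simp
  map_mul' g h := by
    apply MulEquiv.ext
    intro x
    apply Subtype.ext
    simp [mul_assoc]

theorem pqConj_apply (R : Subgroup Γ) (g : ↥(Subgroup.normalizer (R : Set Γ))) (x : R) :
    ((pqConj R g x : R) : Γ) = (g : Γ) * x * (g : Γ)⁻¹ := rfl

end Cfsg.Agent.Lib.helper46.PQ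

namespace Cfsg.Agent.Lib.helper75.PQ

open scoped commutatorElement
open Cfsg.Agent.Lib.helper46.PQ

variable {Γ : Type*} [Group Γ] [Finite Γ] {F : Type*} [Field F]
  {W : Type*} [AddCommGroup W] [Module F W]
  {ρ : Γ →* Module.End F W} {K H S R : Subgroup Γ} {p q s r : ℕ}

/-- C10: `R / Z(R)` has exponent `r` (for nonabelian `R`). -/
theorem MinTower.pow_mem_center (T : MinTower ρ K H S R p q s r)
    (hnab : ¬ ∀ x ∈ R, ∀ x' ∈ R, x * x' = x' * x) : ∀ u ∈ R, u ^ r ∈ ZR R := by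
  obtain ⟨hCS, hcl⟩ := T.center_R hnab
  have hcomR : ∀ a ∈ R, ∀ b ∈ R, ⁅a, b⁆ ∈ R := fun a ha b hb => by
    rw [commutatorElement_def]
    exact R.mul_mem (R.mul_mem (R.mul_mem ha hb) (R.inv_mem ha)) (R.inv_mem hb)
  have hhom : ∀ a ∈ R, ∀ b ∈ R, ∀ x ∈ R, ⁅a * b, x⁆ = ⁅a, x⁆ * ⁅b, x⁆ := by
    intro a ha b hb x hx
    have h1 := hcl b hb x hx a ha
    have h2 := hcl b hb x hx ⁅a, x⁆ (hcomR a ha x hx)
    have e : ⁅a * b, x⁆ = (a * ⁅b, x⁆) * a⁻¹ * ⁅a, x⁆ := by
      simp only [commutatorElement_def]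
      group
    rw [e, ← h1, ← h2]
    group
  have hpow : ∀ a ∈ R, ∀ x ∈ R, ∀ n : ℕ, ⁅a ^ n, x⁆ = ⁅a, x⁆ ^ n := by
    intro a ha x hx n
    induction n with
    | zero => rw [pow_zero, pow_zero, commutatorElement_one_left]
    | succ n ih => rw [pow_succ, hhom _ (R.pow_mem ha n) a ha x hx, ih, pow_succ]
  obtain ⟨P, hmemP⟩ : ∃ P : Subgroup Γ, ∀ u : Γ, u ∈ P ↔ (u ∈ R ∧ ∀ x ∈ R, ⁅u, x⁆ ^ r = 1) :=
    ⟨{ carrier := {u | u ∈ R ∧ ∀ x ∈ R, ⁅u, x⁆ ^ r = 1}
       one_mem' := ⟨R.one_mem, fun x _ => by rw [commutatorElement_one_left, one_pow]⟩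
       mul_mem' := by
         rintro a b ⟨ha, h1⟩ ⟨hb, h2⟩
         refine ⟨R.mul_mem ha hb, fun x hx => ?_⟩
         have hc : Commute ⁅a, x⁆ ⁅b, x⁆ := hcl a ha x hx ⁅b, x⁆ (hcomR b hb x hx)
         rw [hhom a ha b hb x hx, hc.mul_pow, h1 x hx, h2 x hx, one_mul]
       inv_mem' := by
         rintro a ⟨ha, h1⟩
         refine ⟨R.inv_mem ha, fun x hx => ?_⟩
         have h3 := hhom a⁻¹ (R.inv_mem ha) a ha x hx
         rw [inv_mul_cancel, commutatorElement_one_left] at h3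
         have h4 : ⁅a⁻¹, x⁆ = ⁅a, x⁆⁻¹ := eq_inv_of_mul_eq_one_left h3.symm
         rw [h4, inv_pow, h1 x hx, inv_one] }, fun u => Iff.rfl⟩
  have hPR : P ≤ R := fun u hu => ((hmemP u).mp hu).1
  have hconjP : ∀ g ∈ Subgroup.normalizer (R : Set Γ), ∀ u ∈ P, g * u * g⁻¹ ∈ P := by
    intro g hg u hu
    obtain ⟨huR, hu2⟩ := (hmemP u).mp hu
    rw [hmemP]
    refine ⟨pq_conj_mem_of_mem_normalizer hg huR, fun x hx => ?_⟩
    have e : ⁅g * u * g⁻¹, x⁆ = g * ⁅u, g⁻¹ * x * g⁆ * g⁻¹ := by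
      simp only [commutatorElement_def]
      group
    rw [e, conj_pow, hu2 _ (pq_conj_mem_of_mem_normalizer' hg hx)]
    group
  -- an element of `P` outside the center
  have hex : ∃ u ∈ P, u ∉ ZR R := by
    have h1 : ∃ u ∈ R, u ∉ ZR R := by
      by_contra hcon
      push Not at hcon
      apply hnab
      intro x hx x' hx'
      exact (mem_ZR.mp (hcon x' hx')).2 x hx
    obtain ⟨u, huR, huZ⟩ := h1
    have hfin : ∃ n : ℕ, u ^ (r ^ n) ∈ ZR R := by
      have : Fact r.Prime := ⟨T.hr⟩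
      obtain ⟨m, hm⟩ := (IsPGroup.iff_card).mp T.Rgrp
      refine ⟨m, ?_⟩
      have h2 : (⟨u, huR⟩ : R) ^ Nat.card R = 1 := pow_card_eq_one'
      have h3 : u ^ (r ^ m) = 1 := by
        rw [← hm]
        have h2' := congrArg Subtype.val h2
        rw [Subgroup.coe_pow, Subgroup.coe_one] at h2'
        exact h2'
      rw [h3]
      exact Subgroup.one_mem _
    classical
    have hmin := @Nat.find_min _ _ hfin
    have hspec := Nat.find_spec hfin
    have hne0 : Nat.find hfin ≠ 0 := by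
      intro h0
      rw [h0, pow_zero, pow_one] at hspec
      exact huZ hspec
    obtain ⟨n, hn⟩ := Nat.exists_eq_succ_of_ne_zero hne0
    have hu'Z : u ^ (r ^ n) ∉ ZR R := hmin (by rw [hn]; exact Nat.lt_succ_self n)
    have hu'r : (u ^ (r ^ n)) ^ r ∈ ZR R := by
      rw [← pow_mul, ← pow_succ, ← Nat.succ_eq_add_one, ← hn]
      exact hspec
    refine ⟨u ^ (r ^ n), ?_, hu'Z⟩
    rw [hmemP]
    refine ⟨R.pow_mem huR _, fun x hx => ?_⟩
    rw [← hpow _ (R.pow_mem huR _) x hx, commutatorElement_eq_one_iff_commute]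
    exact ((mem_ZR.mp hu'r).2 x hx).symm
  by_cases hPeq : P = R
  · intro u hu
    have huP : u ∈ P := by rw [hPeq]; exact hu
    obtain ⟨-, hu2⟩ := (hmemP u).mp huP
    rw [mem_ZR]
    refine ⟨R.pow_mem hu r, fun x hx => ?_⟩
    have h1 : ⁅u ^ r, x⁆ = 1 := by rw [hpow u hu x hx, hu2 x hx]
    exact (commutatorElement_eq_one_iff_commute.mp h1).symm.eq
  · exfalso
    obtain ⟨u', hu'P, hu'Z⟩ := hex
    have hS : S ≤ Subgroup.normalizer (P : Set Γ) :=
      pq_le_normalizer_of_conj fun y hy u hu => hconjP y (T.SR hy) u hu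
    have hK : K ≤ Subgroup.normalizer (P : Set Γ) :=
      pq_le_normalizer_of_conj fun y hy u hu => hconjP y (T.KR hy) u hu
    have hH : H ≤ Subgroup.normalizer (P : Set Γ) :=
      pq_le_normalizer_of_conj fun y hy u hu => hconjP y (T.HR hy) u hu
    have hcz := T.minR P hPR hPeq hS hK hH
    apply hu'Z
    rw [mem_ZR]
    have hu'R := hPR hu'P
    refine ⟨hu'R, fun x hx => ?_⟩
    exact (((hCS u' hu'R).mp (fun y hy => hcz y hy u' hu'P)) x hx).symm

/-- C11: an element of `[S, H]` centralized by `H` centralizes `R`. -/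
theorem MinTower.comm_SH_fix (T : MinTower ρ K H S R p q s r) :
    ∀ c ∈ ⁅S, H⁆, (∀ h ∈ H, h * c = c * h) → ∀ x ∈ R, c * x = x * c := by
  intro c hc hcH x hx
  have hSN : S ≤ Subgroup.normalizer (R : Set Γ) := T.SR
  have hHN : H ≤ Subgroup.normalizer (R : Set Γ) := T.HR
  have hab : ∀ a ∈ (S.subgroupOf (Subgroup.normalizer (R : Set Γ))).map (pqConj R),
      ∀ b ∈ (S.subgroupOf (Subgroup.normalizer (R : Set Γ))).map (pqConj R), a * b = b * a := by
    rintro _ ⟨y, hy, rfl⟩ _ ⟨y', hy', rfl⟩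
    have hyS : (y : Γ) ∈ S := Subgroup.mem_subgroupOf.mp hy
    have hyS' : (y' : Γ) ∈ S := Subgroup.mem_subgroupOf.mp hy'
    apply MulEquiv.ext
    intro x
    apply Subtype.ext
    rw [MulAut.mul_apply, MulAut.mul_apply, pqConj_apply, pqConj_apply, pqConj_apply,
      pqConj_apply]
    have hx' : (y' : Γ) * ((y : Γ) * x * (y : Γ)⁻¹) * (y' : Γ)⁻¹ ∈ R :=
      pq_conj_mem_of_mem_normalizer y'.2 (pq_conj_mem_of_mem_normalizer y.2 x.2)
    have h1 := T.comm_S (y : Γ) hyS (y' : Γ) hyS' _ hx'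
    rw [commutatorElement_def] at h1
    calc (y : Γ) * ((y' : Γ) * x * (y' : Γ)⁻¹) * (y : Γ)⁻¹
        = ((y : Γ) * (y' : Γ) * (y : Γ)⁻¹ * (y' : Γ)⁻¹ *
            ((y' : Γ) * ((y : Γ) * x * (y : Γ)⁻¹) * (y' : Γ)⁻¹)) *
            ((y : Γ) * (y' : Γ) * (y : Γ)⁻¹ * (y' : Γ)⁻¹)⁻¹ := by group
      _ = ((y' : Γ) * ((y : Γ) * x * (y : Γ)⁻¹) * (y' : Γ)⁻¹ *
            ((y : Γ) * (y' : Γ) * (y : Γ)⁻¹ * (y' : Γ)⁻¹)) *
            ((y : Γ) * (y' : Γ) * (y : Γ)⁻¹ * (y' : Γ)⁻¹)⁻¹ := by rw [h1]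
      _ = (y' : Γ) * ((y : Γ) * x * (y : Γ)⁻¹) * (y' : Γ)⁻¹ := by group
  have hH'S' : H.subgroupOf (Subgroup.normalizer (R : Set Γ)) ≤
      Subgroup.normalizer ((S.subgroupOf (Subgroup.normalizer (R : Set Γ)) :
        Subgroup ↥(Subgroup.normalizer (R : Set Γ))) : Set ↥(Subgroup.normalizer (R : Set Γ))) := by
    apply pq_le_normalizer_of_conj
    intro h hh y hy
    rw [Subgroup.mem_subgroupOf] at hh hy ⊢
    exact pq_conj_mem_of_mem_normalizer (T.HS hh) hy
  have hPA : (H.subgroupOf (Subgroup.normalizer (R : Set Γ))).map (pqConj R) ≤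
      Subgroup.normalizer (((S.subgroupOf (Subgroup.normalizer (R : Set Γ))).map (pqConj R) :
        Subgroup (MulAut ↥R)) : Set (MulAut ↥R)) :=
    (Subgroup.map_mono hH'S').trans (Subgroup.le_normalizer_map (pqConj R))
  have hcop : (Nat.card ((S.subgroupOf (Subgroup.normalizer (R : Set Γ))).map (pqConj R))).Coprime
      (Nat.card ((H.subgroupOf (Subgroup.normalizer (R : Set Γ))).map (pqConj R))) := by
    have hS' : IsPGroup s (S.subgroupOf (Subgroup.normalizer (R : Set Γ))) :=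
      T.Sgrp.comap_subtype
    have hHq : IsPGroup q H := IsPGroup.of_card (n := 1) (by rw [T.cardH, pow_one])
    have hH' : IsPGroup q (H.subgroupOf (Subgroup.normalizer (R : Set Γ))) := hHq.comap_subtype
    exact pq_coprime_card _ _ s q T.hs T.hq T.hsq (hS'.map (pqConj R)) (hH'.map (pqConj R))
  have hcN : c ∈ (⁅S.subgroupOf (Subgroup.normalizer (R : Set Γ)),
      H.subgroupOf (Subgroup.normalizer (R : Set Γ))⁆ :
        Subgroup ↥(Subgroup.normalizer (R : Set Γ))).map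
      (Subgroup.normalizer (R : Set Γ)).subtype := by
    rw [Subgroup.map_commutator, Subgroup.map_subgroupOf_eq_of_le hSN,
      Subgroup.map_subgroupOf_eq_of_le hHN]
    exact hc
  obtain ⟨c', hc', rfl⟩ := hcN
  have h1 : pqConj R c' ∈ ⁅(S.subgroupOf (Subgroup.normalizer (R : Set Γ))).map (pqConj R),
      (H.subgroupOf (Subgroup.normalizer (R : Set Γ))).map (pqConj R)⁆ := by
    have h0 := Subgroup.mem_map_of_mem (pqConj R) hc'
    rwa [Subgroup.map_commutator] at h0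
  have h2 : pqConj R c' ∈ Subgroup.centralizer
      (((H.subgroupOf (Subgroup.normalizer (R : Set Γ))).map (pqConj R) :
        Subgroup (MulAut ↥R)) : Set (MulAut ↥R)) := by
    rw [Subgroup.mem_centralizer_iff]
    rintro _ ⟨h, hh, rfl⟩
    rw [← map_mul, ← map_mul]
    congr 1
    apply Subtype.ext
    exact hcH _ (Subgroup.mem_subgroupOf.mp hh)
  have h3 := pq_abel_comm_inf_cent _ _ hab hPA hcop
  have h4 : pqConj R c' ∈ (⁅(S.subgroupOf (Subgroup.normalizer (R : Set Γ))).map (pqConj R),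
      (H.subgroupOf (Subgroup.normalizer (R : Set Γ))).map (pqConj R)⁆ ⊓
      Subgroup.centralizer (((H.subgroupOf (Subgroup.normalizer (R : Set Γ))).map (pqConj R) :
        Subgroup (MulAut ↥R)) : Set (MulAut ↥R)) : Subgroup (MulAut ↥R)) := ⟨h1, h2⟩
  rw [h3, Subgroup.mem_bot] at h4
  have h5 : ((pqConj R c' ⟨x, hx⟩ : R) : Γ) = x := by rw [h4]; rfl
  rw [pqConj_apply] at h5
  have h6 : ((Subgroup.normalizer (R : Set Γ)).subtype c') = (c' : Γ) := rfl
  rw [h6]
  calc (c' : Γ) * x = ((c' : Γ) * x * (c' : Γ)⁻¹) * (c' : Γ) := by group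
    _ = x * (c' : Γ) := by rw [h5]

end Cfsg.Agent.Lib.helper75.PQ
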