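import Mathlib
import Cfsg.Agent.Lib.helper46.Dicyclic

/-!
# Subgroups of dicyclic groups (helper46)

A non-abelian subgroup of the dicyclic group `QuaternionGroup n` is again dicyclic:
it is isomorphic to `QuaternionGroup m` for some `m ≥ 2`.
-/

set_option autoImplicit false

namespace Cfsg.Agent.Lib.helper46

open QuaternionGroup

section QuatSubgroup

/-- The only involution of `QuaternionGroup n` is `a n`. -/
theorem quat_sq_eq_one (n : ℕ) [NeZero n] (g : QuaternionGroup n) (hg : g * g = 1) :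
    g = 1 ∨ g = a (n : ZMod (2 * n)) := by
  have hn : 0 < n := Nat.pos_of_ne_zero (NeZero.ne n)
  have hnz : (n : ZMod (2 * n)) ≠ 0 := by
    intro h
    rw [ZMod.natCast_eq_zero_iff] at h
    have := Nat.le_of_dvd hn h
    omega
  rcases g with i | i
  · rw [a_mul_a, one_def] at hg
    have hi : i + i = 0 := by
      injection hg
    rcases (zmod_add_self_eq_zero_iff n i).mp hi with h | h
    · left
      rw [h, one_def]
    · right
      rw [h]
  · exfalso
    rw [xa_mul_xa, one_def] at hg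
    have hi : (n : ZMod (2 * n)) + i - i = 0 := by
      injection hg
    rw [add_sub_cancel_right] at hi
    exact hnz hi

theorem quat_a_ne_one (n : ℕ) [NeZero n] : (a (n : ZMod (2 * n)) : QuaternionGroup n) ≠ 1 := by
  have hn : 0 < n := Nat.pos_of_ne_zero (NeZero.ne n)
  intro h
  rw [one_def] at h
  have h' : (n : ZMod (2 * n)) = 0 := by
    injection h
  rw [ZMod.natCast_eq_zero_iff] at h'
  have := Nat.le_of_dvd hn h'
  omega

theorem quat_a_mem_zpowers (n : ℕ) [NeZero n] (i : ZMod (2 * n)) :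
    (a i : QuaternionGroup n) ∈ Subgroup.zpowers (a 1 : QuaternionGroup n) := by
  have hn : 0 < n := Nat.pos_of_ne_zero (NeZero.ne n)
  have : NeZero (2 * n) := ⟨by omega⟩
  refine Subgroup.mem_zpowers_iff.mpr ⟨(i.val : ℤ), ?_⟩
  rw [zpow_natCast, a_one_pow, ZMod.natCast_zmod_val]

theorem quat_mem_zpowers_a (n : ℕ) (g : QuaternionGroup n)
    (hg : g ∈ Subgroup.zpowers (a 1 : QuaternionGroup n)) : ∃ i, g = a i := by
  obtain ⟨k, rfl⟩ := Subgroup.mem_zpowers_iff.mp hg
  rcases Int.eq_nat_or_neg k with ⟨m, rfl | rfl⟩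
  · exact ⟨(m : ZMod (2 * n)), by rw [zpow_natCast, a_one_pow]⟩
  · refine ⟨-(m : ZMod (2 * n)), ?_⟩
    rw [zpow_neg, zpow_natCast, a_one_pow]
    rfl

/-- A non-abelian subgroup of the dicyclic group `QuaternionGroup n` is dicyclic. -/
theorem quat_subgroup (n : ℕ) [NeZero n] (K : Subgroup (QuaternionGroup n))
    (hK : ¬ ∀ x ∈ K, ∀ y ∈ K, x * y = y * x) :
    ∃ m, 2 ≤ m ∧ Nonempty (QuaternionGroup m ≃* K) := by
  have hn : 0 < n := Nat.pos_of_ne_zero (NeZero.ne n)
  -- `K` contains some `xa j`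
  have hxa : ∃ j, xa j ∈ K := by
    by_contra hno
    push Not at hno
    apply hK
    intro x hx y hy
    rcases x with i | i
    · rcases y with j | j
      · rw [a_mul_a, a_mul_a, add_comm]
      · exact absurd hy (hno j)
    · exact absurd hx (hno i)
  obtain ⟨j, hj⟩ := hxa
  -- `K ∩ ⟨a⟩` is cyclic
  have hAcyc : IsCyclic (K ⊓ Subgroup.zpowers (a 1 : QuaternionGroup n) : Subgroup _) :=
    Subgroup.isCyclic_of_le (inf_le_right : K ⊓ Subgroup.zpowers (a 1 : QuaternionGroup n) ≤ _)
  obtain ⟨⟨t, htA⟩, ht⟩ := hAcyc.exists_generator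
  have htK : t ∈ K := htA.1
  have hA : ∀ x, x ∈ K → x ∈ Subgroup.zpowers (a 1 : QuaternionGroup n) →
      x ∈ Subgroup.zpowers t := by
    intro x hxK hxa
    obtain ⟨k, hk⟩ := Subgroup.mem_zpowers_iff.mp
      (ht ⟨x, ⟨hxK, hxa⟩⟩)
    refine Subgroup.mem_zpowers_iff.mpr ⟨k, ?_⟩
    have := congrArg Subtype.val hk
    simpa using this
  have htz : Subgroup.zpowers t ≤ K := by
    rw [Subgroup.zpowers_le]
    exact htK
  obtain ⟨d, rfl⟩ := quat_mem_zpowers_a n t htA.2
  -- the element `w = xa j`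
  have hw : xa j * a d * (xa j : QuaternionGroup n)⁻¹ = (a d)⁻¹ := by
    have h1 : (xa j : QuaternionGroup n)⁻¹ = xa ((n : ZMod (2 * n)) + j) := rfl
    have h2 : (a d : QuaternionGroup n)⁻¹ = a (-d) := rfl
    rw [h1, h2, xa_mul_a, xa_mul_xa]
    congr 1
    have h3 : (n : ZMod (2 * n)) + n = 0 := by
      have : ((2 * n : ℕ) : ZMod (2 * n)) = 0 := ZMod.natCast_self _
      rw [← this]
      push_cast
      ring
    linear_combination h3
  have hwT : (xa j : QuaternionGroup n) ∉ Subgroup.zpowers (a d : QuaternionGroup n) := by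
    intro h
    obtain ⟨i, hi⟩ := quat_mem_zpowers_a n _
      (Subgroup.zpowers_le.mpr (quat_a_mem_zpowers n d) h)
    cases hi
  have hww : (xa j : QuaternionGroup n) * xa j = a (n : ZMod (2 * n)) := by
    rw [xa_mul_xa, add_sub_cancel_right]
  have hwwz : (a (n : ZMod (2 * n)) : QuaternionGroup n) ∈ Subgroup.zpowers (a d) := by
    apply hA
    · rw [← hww]
      exact K.mul_mem hj hj
    · exact quat_a_mem_zpowers n _
  -- order of `t` is even
  have hord2 : orderOf (a (n : ZMod (2 * n)) : QuaternionGroup n) = 2 := by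
    apply orderOf_eq_prime
    · rw [sq, a_mul_a, one_def]
      congr 1
      have : ((2 * n : ℕ) : ZMod (2 * n)) = 0 := ZMod.natCast_self _
      rw [← this]
      push_cast
      ring
    · exact quat_a_ne_one n
  have hdvd : 2 ∣ orderOf (a d : QuaternionGroup n) := by
    rw [← hord2]
    exact orderOf_dvd_of_mem_zpowers hwwz
  obtain ⟨m, hm⟩ := hdvd
  have hopos : 0 < orderOf (a d : QuaternionGroup n) := orderOf_pos _
  have hmpos : 0 < m := by omega
  have : NeZero m := ⟨by omega⟩
  have hw2 : (xa j : QuaternionGroup n) * xa j = a d ^ m := by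
    rw [hww]
    have h1 : (a d : QuaternionGroup n) ^ m * a d ^ m = 1 := by
      rw [← pow_add, ← two_mul, ← hm, pow_orderOf_eq_one]
    rcases quat_sq_eq_one n _ h1 with h | h
    · exfalso
      exact pow_ne_one_of_lt_orderOf (by omega) (by omega) h
    · exact h.symm
  have hN : ∀ g, g ∈ K ↔ g ∈ Subgroup.zpowers (a d : QuaternionGroup n) ∨
      (xa j : QuaternionGroup n)⁻¹ * g ∈ Subgroup.zpowers (a d : QuaternionGroup n) := by
    intro g
    constructor
    · intro hg
      rcases g with i | i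
      · left
        exact hA _ hg (quat_a_mem_zpowers n i)
      · right
        apply hA
        · exact K.mul_mem (K.inv_mem hj) hg
        · have h1 : (xa j : QuaternionGroup n)⁻¹ = xa ((n : ZMod (2 * n)) + j) := rfl
          rw [h1, xa_mul_xa]
          exact quat_a_mem_zpowers n _
    · rintro (h | h)
      · exact htz h
      · have := K.mul_mem hj (htz h)
        rwa [mul_inv_cancel_left] at this
  obtain ⟨e⟩ := dicyclic_equiv m (a d) (xa j) hm hw hwT hw2 K hN
  refine ⟨m, ?_, ⟨e⟩⟩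
  by_contra hlt
  have hm1 : m = 1 := by omega
  subst hm1
  apply hK
  intro x hx y hy
  have := quaternionGroup_one_isCyclic
  have hcomm : ∀ u v : QuaternionGroup 1, u * v = v * u := by
    intro u v
    obtain ⟨g, hg⟩ := IsCyclic.exists_generator (α := QuaternionGroup 1)
    obtain ⟨k₁, rfl⟩ := Subgroup.mem_zpowers_iff.mp (hg u)
    obtain ⟨k₂, rfl⟩ := Subgroup.mem_zpowers_iff.mp (hg v)
    rw [← zpow_add, ← zpow_add, add_comm]
  have h1 := hcomm (e.symm ⟨x, hx⟩) (e.symm ⟨y, hy⟩)
  rw [← map_mul, ← map_mul] at h1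
  have h2 := e.symm.injective h1
  exact congrArg Subtype.val h2

/-- A non-abelian group embedding into a dicyclic group is dicyclic. -/
theorem quat_of_embedding {S : Type*} [Group S] (n : ℕ) [NeZero n]
    (ψ : S →* QuaternionGroup n) (hψ : Function.Injective ψ)
    (hS : ¬ ∀ x y : S, x * y = y * x) :
    ∃ m, 2 ≤ m ∧ Nonempty (S ≃* QuaternionGroup m) := by
  have hK : ¬ ∀ x ∈ ψ.range, ∀ y ∈ ψ.range, x * y = y * x := by
    intro h
    apply hS
    intro x y
    apply hψ
    rw [map_mul, map_mul]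
    exact h _ ⟨x, rfl⟩ _ ⟨y, rfl⟩
  obtain ⟨m, hm, ⟨e⟩⟩ := quat_subgroup n ψ.range hK
  exact ⟨m, hm, ⟨(MonoidHom.ofInjective hψ).trans e.symm⟩⟩

end QuatSubgroup

end Cfsg.Agent.Lib.helper46
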