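import Mathlib

/-!
# Redundant Sylow subgroups: abstract lemmas (helper46)

A Sylow `p`-subgroup `Q` is *redundant* when every `p`-element lies in a Sylow `p`-subgroup other
than `Q`.  We give criteria for (non-)redundancy and transfer the property to the quotient by
the centre.
-/

set_option autoImplicit false

namespace Cfsg.Agent.Lib.helper46

section Redundant

variable {G : Type*} [Group G]

/-- Some Sylow `p`-subgroup is redundant. -/
def redundantSylow (G : Type*) [Group G] (p : ℕ) [Fact p.Prime] : Prop :=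
  ∃ Q : Sylow p G, ∀ x : G, (∃ k : ℕ, orderOf x = p ^ k) → ∃ P : Sylow p G, P ≠ Q ∧ x ∈ P

theorem sylow_mem_smul_iff (p : ℕ) [Fact p.Prime] (g x : G) (P : Sylow p G) :
    x ∈ g • P ↔ g⁻¹ * x * g ∈ P := by
  show x ∈ ((g • P : Sylow p G) : Subgroup G) ↔ _
  rw [Sylow.coe_subgroup_smul, Subgroup.mem_pointwise_smul_iff_inv_smul_mem]
  show (MulAut.conj g)⁻¹ x ∈ (P : Subgroup G) ↔ _
  rw [← map_inv, MulAut.conj_apply, inv_inv]
  rfl

/-- If some `p`-element lies in a unique Sylow `p`-subgroup, no Sylow `p`-subgroup is redundant. -/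
theorem not_redundant_of_unique [Finite G] (p : ℕ) [Fact p.Prime] (P₀ : Sylow p G) (x₀ : G)
    (hx₀ : ∃ k : ℕ, orderOf x₀ = p ^ k) (huniq : ∀ P : Sylow p G, x₀ ∈ P → P = P₀) :
    ¬ redundantSylow G p := by
  rintro ⟨Q, hQ⟩
  obtain ⟨g, hg⟩ := MulAction.exists_smul_eq G P₀ Q
  obtain ⟨P, hPQ, hxP⟩ := hQ (g * x₀ * g⁻¹) (by
    obtain ⟨k, hk⟩ := hx₀
    exact ⟨k, by rw [← hk]; exact MulEquiv.orderOf_eq (MulAut.conj g) x₀⟩)
  apply hPQ
  have h1 : x₀ ∈ g⁻¹ • P := by
    rw [sylow_mem_smul_iff, inv_inv]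
    exact hxP
  have h2 := huniq _ h1
  rw [← hg, ← h2, smul_smul, mul_inv_cancel, one_smul]

/-- If some element has order the full `p`-part of `|G|`, no Sylow `p`-subgroup is redundant. -/
theorem not_redundant_of_cyclic [Finite G] (p : ℕ) [Fact p.Prime] (x₀ : G)
    (hx₀ : orderOf x₀ = p ^ (Nat.card G).factorization p) : ¬ redundantSylow G p := by
  have hcard : Nat.card (Subgroup.zpowers x₀) = p ^ (Nat.card G).factorization p := by
    rw [Nat.card_zpowers, hx₀]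
  apply not_redundant_of_unique p (Sylow.ofCard (Subgroup.zpowers x₀) hcard) x₀ ⟨_, hx₀⟩
  intro P hP
  apply Sylow.ext
  rw [Sylow.coe_ofCard]
  symm
  apply Subgroup.eq_of_le_of_card_ge
  · rw [Subgroup.zpowers_le]
    exact hP
  · rw [hcard, P.card_eq_multiplicity]

/-- If every `p`-element lies in two distinct Sylow `p`-subgroups, every Sylow `p`-subgroup is
redundant. -/
theorem redundant_of_two (p : ℕ) [Fact p.Prime]
    (h : ∀ x : G, (∃ k : ℕ, orderOf x = p ^ k) →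
      ∃ P₁ P₂ : Sylow p G, P₁ ≠ P₂ ∧ x ∈ P₁ ∧ x ∈ P₂) : redundantSylow G p := by
  obtain ⟨Q⟩ : Nonempty (Sylow p G) := Sylow.nonempty
  refine ⟨Q, fun x hx => ?_⟩
  obtain ⟨P₁, P₂, hne, h1, h2⟩ := h x hx
  by_cases hQ : P₁ = Q
  · exact ⟨P₂, fun h' => hne (hQ.trans h'.symm), h2⟩
  · exact ⟨P₁, hQ, h1⟩

/-- A central element of `p`-power order lies in every Sylow `p`-subgroup. -/
theorem central_mem_sylow [Finite G] (p : ℕ) [Fact p.Prime] (z : G) (hz : z ∈ Subgroup.center G)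
    (hord : ∃ k : ℕ, orderOf z = p ^ k) (P : Sylow p G) : z ∈ P := by
  have hp : IsPGroup p (Subgroup.zpowers z) := by
    obtain ⟨k, hk⟩ := hord
    apply IsPGroup.of_card (n := k)
    rw [Nat.card_zpowers, hk]
  obtain ⟨P₁, hP₁⟩ := hp.exists_le_sylow
  obtain ⟨g, hg⟩ := MulAction.exists_smul_eq G P₁ P
  rw [← hg, sylow_mem_smul_iff]
  have hzP₁ : z ∈ P₁ := hP₁ (Subgroup.mem_zpowers z)
  have : g⁻¹ * z * g = z := by
    rw [Subgroup.mem_center_iff] at hz
    rw [mul_assoc, ← hz g, ← mul_assoc, inv_mul_cancel, one_mul]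
  rw [this]
  exact hzP₁

/-- If `x = a z` with `x`, `a` of `p`-power order, `z` central and `a` in the Sylow subgroup `P`,
then `x ∈ P`. -/
theorem mem_sylow_of_mul_central [Finite G] (p : ℕ) [Fact p.Prime] (P : Sylow p G) (a x : G)
    (ha : a ∈ P) (hx : ∃ k : ℕ, orderOf x = p ^ k) (hz : a⁻¹ * x ∈ Subgroup.center G) :
    x ∈ P := by
  obtain ⟨k, hk⟩ := hx
  obtain ⟨j, hj⟩ := (IsPGroup.iff_orderOf.mp P.isPGroup') ⟨a, ha⟩
  have hj' : orderOf a = p ^ j := by
    rw [← hj]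
    exact Subgroup.orderOf_coe (⟨a, ha⟩ : (P : Subgroup G))
  have hcomm : Commute a⁻¹ x := by
    rw [Subgroup.mem_center_iff] at hz
    have h1 := hz a
    -- a * (a⁻¹ * x) = a⁻¹ * x * a
    show a⁻¹ * x = x * a⁻¹
    have h2 : x = a⁻¹ * x * a := by rw [← h1, mul_inv_cancel_left]
    calc a⁻¹ * x = a⁻¹ * x * a * a⁻¹ := by rw [mul_inv_cancel_right]
      _ = x * a⁻¹ := by rw [← h2]
  have hzpow : (a⁻¹ * x) ^ (p ^ (j + k)) = 1 := by
    rw [hcomm.mul_pow, inv_pow, pow_add, pow_mul, ← hj', pow_orderOf_eq_one, one_pow, inv_one,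
      one_mul, mul_comm, pow_mul, ← hk, pow_orderOf_eq_one, one_pow]
  have hzord : ∃ i : ℕ, orderOf (a⁻¹ * x) = p ^ i := by
    have := orderOf_dvd_of_pow_eq_one hzpow
    obtain ⟨i, -, hi⟩ := (Nat.dvd_prime_pow Fact.out).mp this
    exact ⟨i, hi⟩
  have hzP := central_mem_sylow p (a⁻¹ * x) hz hzord P
  have : x = a * (a⁻¹ * x) := by rw [mul_inv_cancel_left]
  rw [this]
  exact P.mul_mem ha hzP

/-- **Transfer to the central quotient**: redundancy of Sylow `p`-subgroups is the same for `G`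
and for `G ⧸ Z(G)`. -/
theorem redundant_quotient_center_iff [Finite G] (p : ℕ) [Fact p.Prime] :
    redundantSylow (G ⧸ Subgroup.center G) p ↔ redundantSylow G p := by
  have hsurj : Function.Surjective (QuotientGroup.mk' (Subgroup.center G)) :=
    QuotientGroup.mk'_surjective _
  have key : ∀ (P : Sylow p G) (x : G), (∃ k : ℕ, orderOf x = p ^ k) →
      (QuotientGroup.mk' (Subgroup.center G) x ∈ P.mapSurjective hsurj ↔ x ∈ P) := by
    intro P x hx
    constructor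
    · intro h
      have h' : QuotientGroup.mk' (Subgroup.center G) x ∈
          (P : Subgroup G).map (QuotientGroup.mk' (Subgroup.center G)) := h
      obtain ⟨a, ha, hax⟩ := Subgroup.mem_map.mp h'
      apply mem_sylow_of_mul_central p P a x ha hx
      have := QuotientGroup.eq.mp hax
      exact this
    · intro h
      exact Subgroup.mem_map_of_mem _ h
  have hord : ∀ x : G, (∃ k : ℕ, orderOf x = p ^ k) →
      ∃ k : ℕ, orderOf (QuotientGroup.mk' (Subgroup.center G) x) = p ^ k := by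
    rintro x ⟨k, hk⟩
    have h1 : orderOf (QuotientGroup.mk' (Subgroup.center G) x) ∣ p ^ k := by
      rw [← hk]
      exact orderOf_map_dvd _ x
    obtain ⟨i, -, hi⟩ := (Nat.dvd_prime_pow Fact.out).mp h1
    exact ⟨i, hi⟩
  constructor
  · rintro ⟨Qbar, hQ⟩
    obtain ⟨Q, rfl⟩ := Sylow.mapSurjective_surjective hsurj p Qbar
    refine ⟨Q, fun x hx => ?_⟩
    obtain ⟨Pbar, hne, hmem⟩ := hQ _ (hord x hx)
    obtain ⟨P, rfl⟩ := Sylow.mapSurjective_surjective hsurj p Pbar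
    refine ⟨P, fun h => hne (by rw [h]), (key P x hx).mp hmem⟩
  · rintro ⟨Q, hQ⟩
    refine ⟨Q.mapSurjective hsurj, fun xbar hxbar => ?_⟩
    -- lift `xbar` to a `p`-element
    have hp : IsPGroup p (Subgroup.zpowers xbar) := by
      obtain ⟨k, hk⟩ := hxbar
      apply IsPGroup.of_card (n := k)
      rw [Nat.card_zpowers, hk]
    obtain ⟨P'bar, hP'⟩ := hp.exists_le_sylow
    obtain ⟨P', rfl⟩ := Sylow.mapSurjective_surjective hsurj p P'bar
    have hx' : xbar ∈ (P' : Subgroup G).map (QuotientGroup.mk' (Subgroup.center G)) :=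
      hP' (Subgroup.mem_zpowers xbar)
    obtain ⟨x, hxP', rfl⟩ := Subgroup.mem_map.mp hx'
    have hxord : ∃ k : ℕ, orderOf x = p ^ k := by
      obtain ⟨j, hj⟩ := (IsPGroup.iff_orderOf.mp P'.isPGroup') ⟨x, hxP'⟩
      exact ⟨j, by rw [← hj]; exact Subgroup.orderOf_coe (⟨x, hxP'⟩ : (P' : Subgroup G))⟩
    obtain ⟨P, hne, hmem⟩ := hQ x hxord
    refine ⟨P.mapSurjective hsurj, ?_, (key P x hxord).mpr hmem⟩
    intro heq
    apply hne
    -- `P` and `Q` have the same image, hence are equal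
    apply Sylow.ext
    symm
    apply Subgroup.eq_of_le_of_card_ge
    · intro y hy
      have hyord : ∃ k : ℕ, orderOf y = p ^ k := by
        obtain ⟨j, hj⟩ := (IsPGroup.iff_orderOf.mp Q.isPGroup') ⟨y, hy⟩
        exact ⟨j, by rw [← hj]; exact Subgroup.orderOf_coe (⟨y, hy⟩ : (Q : Subgroup G))⟩
      rw [← SetLike.mem_coe]
      have : QuotientGroup.mk' (Subgroup.center G) y ∈ P.mapSurjective hsurj := by
        rw [heq]
        exact (key Q y hyord).mpr hy
      exact (key P y hyord).mp this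
    · rw [P.card_eq_multiplicity, Q.card_eq_multiplicity]

/-- A subgroup of index two is normalized by the ambient subgroup. -/
theorem conj_mem_of_card_eq_two_mul [Finite G] (S P : Subgroup G) (hSP : S ≤ P)
    (hcard : Nat.card P = 2 * Nat.card S) (v s : G) (hv : v ∈ P) (hs : s ∈ S) :
    v * s * v⁻¹ ∈ S := by
  have h1 : Nat.card (S.subgroupOf P) = Nat.card S :=
    Nat.card_congr (Subgroup.subgroupOfEquivOfLe hSP).toEquiv
  have h2 := Subgroup.card_mul_index (S.subgroupOf P)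
  rw [h1, hcard] at h2
  have hpos : 0 < Nat.card S := Nat.card_pos
  have hidx : (S.subgroupOf P).index = 2 := by
    have : Nat.card S * (S.subgroupOf P).index = Nat.card S * 2 := by rw [h2]; ring
    exact Nat.eq_of_mul_eq_mul_left hpos this
  have hN := Subgroup.normal_of_index_eq_two hidx
  have h3 := hN.conj_mem ⟨s, hSP hs⟩ (Subgroup.mem_subgroupOf.mpr hs) ⟨v, hv⟩
  exact Subgroup.mem_subgroupOf.mp h3

/-- In a group with a self-centralizing cyclic torus `⟨t⟩` of order `2n` (`4 ∣ 2n`, `n` not a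
power of `2`) and `|G|_2 = 2 |⟨t⟩|_2`, there are two distinct Sylow `2`-subgroups containing all
`2`-elements of the torus. -/
theorem two_sylow_of_torus [Finite G] (n : ℕ) (t : G)
    (ht : orderOf t = 2 * n) (h4 : 4 ∣ 2 * n)
    (hC : ∀ g : G, g * t = t * g → g ∈ Subgroup.zpowers t)
    (hconj : ∀ g : G, g * t * g⁻¹ ∈ Subgroup.zpowers t → g * t * g⁻¹ = t ∨ g * t * g⁻¹ = t⁻¹)
    (hcent : ∀ x ∈ Subgroup.zpowers t, x * x ≠ 1 →
      ∀ h : G, h * x = x * h → h ∈ Subgroup.zpowers t)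
    (hfac : (Nat.card G).factorization 2 = (2 * n).factorization 2 + 1)
    (hnpow : ¬ ∃ k : ℕ, n = 2 ^ k) :
    ∃ P₁ P₂ : Sylow 2 G, P₁ ≠ P₂ ∧
      ∀ x ∈ Subgroup.zpowers t, (∃ k : ℕ, orderOf x = 2 ^ k) → x ∈ P₁ ∧ x ∈ P₂ := by
  have hn0 : 2 * n ≠ 0 := by
    rw [← ht]
    exact (orderOf_pos t).ne'
  obtain ⟨a, ha⟩ : ∃ a, a = (2 * n).factorization 2 := ⟨_, rfl⟩
  obtain ⟨m, hm⟩ : ∃ m, m = 2 * n / 2 ^ a := ⟨_, rfl⟩
  have hnm : 2 ^ a * m = 2 * n := by
    rw [hm, ha]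
    exact Nat.ordProj_mul_ordCompl_eq_self (2 * n) 2
  have hmodd : ¬ 2 ∣ m := by
    rw [hm, ha]
    exact Nat.not_dvd_ordCompl Nat.prime_two hn0
  have hm0 : m ≠ 0 := by
    rintro rfl
    exact hmodd (dvd_zero 2)
  have ha2 : 2 ≤ a := by
    rw [ha]
    exact (Nat.Prime.pow_dvd_iff_le_factorization Nat.prime_two hn0).mp (by norm_num; exact h4)
  obtain ⟨s, hs⟩ : ∃ s, s = t ^ m := ⟨_, rfl⟩
  have hsord : orderOf s = 2 ^ a := by
    rw [hs, orderOf_pow_of_dvd hm0 (by rw [ht, ← hnm]; exact dvd_mul_left m _), ht, ← hnm,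
      Nat.mul_div_cancel _ (Nat.pos_of_ne_zero hm0)]
  have hst : s ∈ Subgroup.zpowers t := by
    rw [hs]
    exact Subgroup.pow_mem _ (Subgroup.mem_zpowers t) m
  have hSt : Subgroup.zpowers s ≤ Subgroup.zpowers t := by
    rw [Subgroup.zpowers_le]
    exact hst
  -- the `2`-elements of the torus are the powers of `s`
  have hS2 : ∀ x ∈ Subgroup.zpowers t, (∃ k : ℕ, orderOf x = 2 ^ k) → x ∈ Subgroup.zpowers s := by
    rintro x ⟨i, rfl⟩ ⟨k, hk⟩
    have hk1 : 2 ^ k ∣ 2 * n := by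
      rw [← ht]
      have : orderOf (t ^ i) ∣ orderOf t := orderOf_dvd_of_mem_zpowers ⟨i, rfl⟩
      rw [← hk]
      exact this
    have hka : k ≤ a := by
      rw [ha]
      exact (Nat.Prime.pow_dvd_iff_le_factorization Nat.prime_two hn0).mp hk1
    have h1 : (t ^ i) ^ (2 ^ a) = 1 := by
      apply orderOf_dvd_iff_pow_eq_one.mp
      rw [hk]
      exact pow_dvd_pow 2 hka
    have h2 : t ^ (i * ((2 ^ a : ℕ) : ℤ)) = 1 := by
      rw [zpow_mul, zpow_natCast]
      exact h1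
    have h3 := orderOf_dvd_iff_zpow_eq_one.mpr h2
    rw [ht, ← hnm] at h3
    have h4' : (m : ℤ) ∣ i := by
      have h5 : ((2 ^ a : ℕ) : ℤ) * (m : ℤ) ∣ ((2 ^ a : ℕ) : ℤ) * i := by
        rw [mul_comm _ i]
        exact_mod_cast h3
      exact (mul_dvd_mul_iff_left (by positivity)).mp h5
    obtain ⟨j, rfl⟩ := h4'
    refine ⟨j, ?_⟩
    show (fun z : ℤ => s ^ z) j = _
    simp only
    rw [hs, zpow_mul, zpow_natCast]
  have hScard : Nat.card (Subgroup.zpowers s) = 2 ^ a := by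
    rw [Nat.card_zpowers, hsord]
  have hSp : IsPGroup 2 (Subgroup.zpowers s) := IsPGroup.of_card hScard
  obtain ⟨P₁, hP₁⟩ := hSp.exists_le_sylow
  have hP₁card : Nat.card P₁ = 2 * Nat.card (Subgroup.zpowers s) := by
    rw [P₁.card_eq_multiplicity, hfac, ← ha, hScard, pow_succ]
    ring
  -- an element of `P₁` outside `S`
  obtain ⟨v, hvP, hvS⟩ : ∃ v, v ∈ P₁ ∧ v ∉ Subgroup.zpowers s := by
    by_contra hcon
    push Not at hcon
    have hle : (P₁ : Subgroup G) ≤ Subgroup.zpowers s := fun v hv => hcon v hv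
    have := Subgroup.card_le_of_le hle
    have hpos : 0 < Nat.card (Subgroup.zpowers s) := Nat.card_pos
    have h' : Nat.card (P₁ : Subgroup G) = 2 * Nat.card (Subgroup.zpowers s) := hP₁card
    omega
  have hss : s * s ≠ 1 := by
    intro h
    have h1 : s ^ 2 = 1 := by rw [pow_two]; exact h
    have h2 := orderOf_dvd_of_pow_eq_one h1
    rw [hsord] at h2
    have h3 : 2 ^ 2 ≤ 2 ^ a := Nat.pow_le_pow_right (by norm_num) ha2
    have := Nat.le_of_dvd (by norm_num) h2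
    omega
  have hvt : v * t * v⁻¹ = t⁻¹ := by
    have h1 : v * s * v⁻¹ ∈ Subgroup.zpowers s :=
      conj_mem_of_card_eq_two_mul (Subgroup.zpowers s) P₁ hP₁ hP₁card v s hvP
        (Subgroup.mem_zpowers s)
    have h2 : v * s * v⁻¹ * (v * s * v⁻¹) ≠ 1 := by
      intro h
      apply hss
      have : v * s * v⁻¹ * (v * s * v⁻¹) = v * (s * s) * v⁻¹ := by group
      rw [this] at h
      have h' : s * s = v⁻¹ * (v * (s * s) * v⁻¹) * v := by group
      rw [h', h]
      group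
    have h3 : v * t * v⁻¹ * (v * s * v⁻¹) = v * s * v⁻¹ * (v * t * v⁻¹) := by
      have : t * s = s * t := by
        rw [hs, ← pow_succ', ← pow_succ]
      have e1 : v * t * v⁻¹ * (v * s * v⁻¹) = v * (t * s) * v⁻¹ := by group
      have e2 : v * s * v⁻¹ * (v * t * v⁻¹) = v * (s * t) * v⁻¹ := by group
      rw [e1, e2, this]
    have h4' := hcent _ (hSt h1) h2 _ h3
    rcases hconj v h4' with h5 | h5
    · exfalso
      apply hvS
      have h6 : v ∈ Subgroup.zpowers t := by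
        apply hC
        have : v * t = v * t * v⁻¹ * v := by group
        rw [this, h5]
      apply hS2 v h6
      obtain ⟨j, hj⟩ := (IsPGroup.iff_orderOf.mp P₁.isPGroup') ⟨v, hvP⟩
      exact ⟨j, by rw [← hj]; exact Subgroup.orderOf_coe (⟨v, hvP⟩ : (P₁ : Subgroup G))⟩
    · exact h5
  have hS₁ : ∀ x ∈ Subgroup.zpowers t, (∃ k : ℕ, orderOf x = 2 ^ k) → x ∈ P₁ :=
    fun x hx hk => hP₁ (hS2 x hx hk)
  refine ⟨P₁, t • P₁, ?_, fun x hx hk => ⟨hS₁ x hx hk, ?_⟩⟩
  · intro heq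
    have h1 : v ∈ t • P₁ := by rw [← heq]; exact hvP
    rw [sylow_mem_smul_iff] at h1
    have h2 : t⁻¹ * v * t * v⁻¹ ∈ P₁ := P₁.mul_mem h1 (P₁.inv_mem hvP)
    have h3 : t⁻¹ * v * t * v⁻¹ = (t ^ 2)⁻¹ := by
      have : t⁻¹ * v * t * v⁻¹ = t⁻¹ * (v * t * v⁻¹) := by group
      rw [this, hvt, pow_two, mul_inv_rev]
    rw [h3] at h2
    have h4' : t ^ 2 ∈ P₁ := by
      have := P₁.inv_mem h2
      rwa [inv_inv] at this
    obtain ⟨j, hj⟩ := (IsPGroup.iff_orderOf.mp P₁.isPGroup') ⟨t ^ 2, h4'⟩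
    have h5 : orderOf (t ^ 2) = 2 ^ j := by
      rw [← hj]
      exact Subgroup.orderOf_coe (⟨t ^ 2, h4'⟩ : (P₁ : Subgroup G))
    rw [orderOf_pow_of_dvd (by norm_num) (by rw [ht]; exact dvd_mul_right 2 n), ht,
      Nat.mul_div_cancel_left n (by norm_num)] at h5
    exact hnpow ⟨j, h5⟩
  · rw [sylow_mem_smul_iff]
    obtain ⟨i, rfl⟩ := hx
    have : t⁻¹ * (fun z : ℤ => t ^ z) i * t = t ^ i := by
      simp only
      rw [← zpow_neg_one, ← zpow_add, ← zpow_add_one]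
      congr 1
      ring
    rw [this]
    exact hS₁ _ ⟨i, rfl⟩ hk

/-- In a group with a self-centralizing cyclic `2`-torus `⟨t⟩` of order `2n` and
`|G|_2 = 2 |⟨t⟩|`, the generator `t` lies in a unique Sylow `2`-subgroup; so no Sylow
`2`-subgroup is redundant. -/
theorem not_redundant_of_torus_pow_two [Finite G] (n : ℕ) (t : G)
    (ht : orderOf t = 2 * n)
    (hC : ∀ g : G, g * t = t * g → g ∈ Subgroup.zpowers t)
    (hconj : ∀ g : G, g * t * g⁻¹ ∈ Subgroup.zpowers t → g * t * g⁻¹ = t ∨ g * t * g⁻¹ = t⁻¹)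
    (hfac : (Nat.card G).factorization 2 = (2 * n).factorization 2 + 1)
    (hpow : ∃ k : ℕ, 2 * n = 2 ^ k) : ¬ redundantSylow G 2 := by
  obtain ⟨k, hk⟩ := hpow
  have hTcard : Nat.card (Subgroup.zpowers t) = 2 ^ k := by
    rw [Nat.card_zpowers, ht, hk]
  have hTp : IsPGroup 2 (Subgroup.zpowers t) := IsPGroup.of_card hTcard
  obtain ⟨P₀, hP₀⟩ := hTp.exists_le_sylow
  have hcardP : ∀ P : Sylow 2 G, Nat.card P = 2 * Nat.card (Subgroup.zpowers t) := by
    intro P
    rw [P.card_eq_multiplicity, hfac, hk, Nat.Prime.factorization_pow Nat.prime_two, hTcard,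
      Finsupp.single_eq_same, pow_succ]
    ring
  have hnorm : ∀ P : Sylow 2 G, t ∈ P → ∀ v ∈ P, v * t * v⁻¹ = t ∨ v * t * v⁻¹ = t⁻¹ := by
    intro P htP v hv
    apply hconj
    exact conj_mem_of_card_eq_two_mul (Subgroup.zpowers t) P
      (by rw [Subgroup.zpowers_le]; exact htP) (hcardP P) v t hv (Subgroup.mem_zpowers t)
  have htP₀ : t ∈ P₀ := hP₀ (Subgroup.mem_zpowers t)
  obtain ⟨v₀, hv₀P, hv₀T⟩ : ∃ v, v ∈ P₀ ∧ v ∉ Subgroup.zpowers t := by
    by_contra hcon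
    push Not at hcon
    have hle : (P₀ : Subgroup G) ≤ Subgroup.zpowers t := fun v hv => hcon v hv
    have := Subgroup.card_le_of_le hle
    have hpos : 0 < Nat.card (Subgroup.zpowers t) := Nat.card_pos
    have h' : Nat.card (P₀ : Subgroup G) = 2 * Nat.card (Subgroup.zpowers t) := hcardP P₀
    omega
  have hv₀ : v₀ * t * v₀⁻¹ = t⁻¹ := by
    rcases hnorm P₀ htP₀ v₀ hv₀P with h | h
    · exfalso
      apply hv₀T
      apply hC
      have : v₀ * t = v₀ * t * v₀⁻¹ * v₀ := by group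
      rw [this, h]
    · exact h
  apply not_redundant_of_unique 2 P₀ t ⟨k, by rw [ht, hk]⟩
  intro P htP
  apply Sylow.ext
  apply Subgroup.eq_of_le_of_card_ge
  · intro v hv
    rcases hnorm P htP v hv with h | h
    · apply hP₀
      apply hC
      have : v * t = v * t * v⁻¹ * v := by group
      rw [this, h]
    · have h1 : v₀⁻¹ * v ∈ Subgroup.zpowers t := by
        apply hC
        have e1 : v₀⁻¹ * v * t = v₀⁻¹ * (v * t * v⁻¹) * v := by group
        have e2 : t * (v₀⁻¹ * v) = v₀⁻¹ * (v₀ * t * v₀⁻¹) * v := by group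
        rw [e1, e2, h, hv₀]
      have h2 : v = v₀ * (v₀⁻¹ * v) := by group
      rw [h2]
      exact P₀.mul_mem hv₀P (hP₀ h1)
  · rw [hcardP P, hcardP P₀]

end Redundant

end Cfsg.Agent.Lib.helper46
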