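import Mathlib
import Cfsg.Agent.Lib.helper81.S0197Defs

/-!
# S0197 pieces GD1, GD2, GD3 (helper46)

`G` simple, `t` an involution with `C_G(t) ≃* H`, `H` satisfying `GLFacts H z0 w0`
(the facts of `GL(2,3)`); `z`, `w` the elements of `C_G(t)` corresponding to `z0`, `w0`.
* `gd_basic`: `z ^ 4 = t = w ^ 3`, orders 8 and 6, `|C(t)| = 48`, `|C(z)| = |C(z^2)| = 8`,
  `|C(w)| = 6`.
* `gd_conj`: `z ∼ z ^ 3`, `z ≁ z⁻¹`, `w ∼ w⁻¹`.
* `gd_sylow`: a Sylow 2-subgroup of `G` containing `z` lies in `C_G(t)`; `32 ∤ |G|`.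
-/

set_option autoImplicit false

namespace Cfsg.Agent.Lib.helper46.S0197

open Cfsg Cfsg.Agent.Lib.helper81.S0197

universe u

section gd

/-- The central involution of `C_G(t)` corresponds to `z0 ^ 4`. -/
theorem gd_aux_t {G : Type u} [Group G] (t : G) (ht : orderOf t = 2) {H : Type*} [Group H]
    (z0 w0 : H) (hH : GLFacts H z0 w0) (e : Subgroup.centralizer ({t} : Set G) ≃* H)
    (htC : t ∈ Subgroup.centralizer ({t} : Set G)) : e ⟨t, htC⟩ = z0 ^ 4 := by
  have ht1 : t ≠ 1 := by
    intro h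
    rw [h, orderOf_one] at ht
    omega
  have hc : ∀ y : H, e ⟨t, htC⟩ * y = y * e ⟨t, htC⟩ := by
    intro y
    obtain ⟨y', rfl⟩ := e.surjective y
    rw [← map_mul, ← map_mul]
    congr 1
    apply Subtype.ext
    have h := Subgroup.mem_centralizer_singleton_iff.mp y'.2
    exact h.symm
  rcases hH.center _ hc with h | h
  · exfalso
    apply ht1
    have h' := e.injective (h.trans (map_one e).symm)
    exact congrArg Subtype.val h'
  · exact h

/-- Transport of a centralizer computed in `H`. -/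
theorem gd_aux_cent {G : Type u} [Group G] (t : G) {H : Type*} [Group H]
    (e : Subgroup.centralizer ({t} : Set G) ≃* H) (b0 c0 : H)
    (hb : ∀ x : H, x * b0 = b0 * x → x ∈ Subgroup.zpowers c0)
    (hcb : c0 * b0 = b0 * c0)
    (k : ℕ) (hk : ((e.symm b0 : Subgroup.centralizer ({t} : Set G)) : G) ^ k = t) :
    Subgroup.centralizer ({((e.symm b0 : Subgroup.centralizer ({t} : Set G)) : G)} : Set G)
      = Subgroup.zpowers ((e.symm c0 : Subgroup.centralizer ({t} : Set G)) : G) := by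
  ext g
  rw [Subgroup.mem_centralizer_singleton_iff]
  constructor
  · intro hg
    have hgt : g ∈ Subgroup.centralizer ({t} : Set G) := by
      rw [Subgroup.mem_centralizer_singleton_iff, ← hk]
      have hc : Commute g ((e.symm b0 : Subgroup.centralizer ({t} : Set G)) : G) := hg
      exact (hc.pow_right k).eq
    have h1 : e ⟨g, hgt⟩ * b0 = b0 * e ⟨g, hgt⟩ := by
      have h2 : (⟨g, hgt⟩ : Subgroup.centralizer ({t} : Set G)) * e.symm b0
          = e.symm b0 * ⟨g, hgt⟩ := Subtype.ext hg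
      have h3 := congrArg e h2
      rwa [map_mul, map_mul, e.apply_symm_apply] at h3
    obtain ⟨j, hj⟩ := Subgroup.mem_zpowers_iff.mp (hb _ h1)
    rw [Subgroup.mem_zpowers_iff]
    refine ⟨j, ?_⟩
    have h4 : (e.symm c0) ^ j = (⟨g, hgt⟩ : Subgroup.centralizer ({t} : Set G)) := by
      rw [← map_zpow, hj, e.symm_apply_apply]
    have h5 := congrArg Subtype.val h4
    rwa [Subgroup.coe_zpow] at h5
  · intro hg
    obtain ⟨j, rfl⟩ := Subgroup.mem_zpowers_iff.mp hg
    have hcb' : Commute ((e.symm c0 : Subgroup.centralizer ({t} : Set G)) : G)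
        ((e.symm b0 : Subgroup.centralizer ({t} : Set G)) : G) := by
      have h2 : e.symm c0 * e.symm b0 = e.symm b0 * e.symm c0 := by
        rw [← map_mul, ← map_mul, hcb]
      exact congrArg Subtype.val h2
    exact (hcb'.zpow_left j).eq

/-- The involution of a cyclic group of order 8. -/
theorem gd_invol_zpowers_eight {G : Type*} [Group G] {x v : G} (hx : orderOf x = 8)
    (hv : v ∈ Subgroup.zpowers x) (hv2 : orderOf v = 2) : v = x ^ 4 := by
  have hfin : IsOfFinOrder x := orderOf_pos_iff.mp (by rw [hx]; norm_num)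
  obtain ⟨n, rfl⟩ := (Submonoid.mem_powers_iff _ _).mp (hfin.mem_powers_iff_mem_zpowers.mpr hv)
  have hmod := pow_mod_orderOf x n
  rw [hx] at hmod
  have hlt : n % 8 < 8 := Nat.mod_lt _ (by norm_num)
  rw [← hmod] at hv2 ⊢
  generalize n % 8 = r at hlt hv2
  have h1 : (x ^ r) ^ 2 = 1 := by
    rw [← hv2]
    exact pow_orderOf_eq_one _
  rw [← pow_mul] at h1
  have h2 := orderOf_dvd_of_pow_eq_one h1
  rw [hx] at h2
  have hr0 : r ≠ 0 := by
    rintro rfl
    rw [pow_zero, orderOf_one] at hv2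
    omega
  have hr4 : r = 4 := by omega
  rw [hr4]

/-- PIECE GD1: the elements `z, w` and their centralizers / conjugacy. -/
theorem gd_basic {G : Type u} [Group G] [Finite G] [IsSimpleGroup G] (t : G)
    (ht : orderOf t = 2) {H : Type*} [Group H] (z0 w0 : H) (hH : GLFacts H z0 w0)
    (e : Subgroup.centralizer ({t} : Set G) ≃* H) :
    ((e.symm z0 : Subgroup.centralizer ({t} : Set G)) : G) ^ 4 = t ∧
    ((e.symm w0 : Subgroup.centralizer ({t} : Set G)) : G) ^ 3 = t ∧
    orderOf ((e.symm z0 : Subgroup.centralizer ({t} : Set G)) : G) = 8 ∧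
    orderOf ((e.symm w0 : Subgroup.centralizer ({t} : Set G)) : G) = 6 ∧
    Nat.card (Subgroup.centralizer ({t} : Set G)) = 48 ∧
    Nat.card (Subgroup.centralizer
      ({((e.symm z0 : Subgroup.centralizer ({t} : Set G)) : G)} : Set G)) = 8 ∧
    Nat.card (Subgroup.centralizer
      ({((e.symm z0 : Subgroup.centralizer ({t} : Set G)) : G) ^ 2} : Set G)) = 8 ∧
    Nat.card (Subgroup.centralizer
      ({((e.symm w0 : Subgroup.centralizer ({t} : Set G)) : G)} : Set G)) = 6 := by
  have htC : t ∈ Subgroup.centralizer ({t} : Set G) :=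
    Subgroup.mem_centralizer_singleton_iff.mpr rfl
  have ht1 : t ≠ 1 := by
    intro h
    rw [h, orderOf_one] at ht
    omega
  have ht2 : t ^ 2 = 1 := by
    rw [← ht]
    exact pow_orderOf_eq_one t
  have het := gd_aux_t t ht z0 w0 hH e htC
  have hsymm : e.symm (z0 ^ 4) = ⟨t, htC⟩ := by
    rw [← het, e.symm_apply_apply]
  have hz4 : ((e.symm z0 : Subgroup.centralizer ({t} : Set G)) : G) ^ 4 = t := by
    have h1 : (e.symm z0) ^ 4 = (⟨t, htC⟩ : Subgroup.centralizer ({t} : Set G)) := by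
      rw [← map_pow, hsymm]
    have h2 := congrArg Subtype.val h1
    rwa [Subgroup.coe_pow] at h2
  have hw3 : ((e.symm w0 : Subgroup.centralizer ({t} : Set G)) : G) ^ 3 = t := by
    have h1 : (e.symm w0) ^ 3 = (⟨t, htC⟩ : Subgroup.centralizer ({t} : Set G)) := by
      rw [← map_pow, hH.w3, hsymm]
    have h2 := congrArg Subtype.val h1
    rwa [Subgroup.coe_pow] at h2
  have hw2 : ((e.symm w0 : Subgroup.centralizer ({t} : Set G)) : G) ^ 2 ≠ 1 := by
    intro h
    apply hH.w2
    have h1 : (e.symm w0) ^ 2 = (1 : Subgroup.centralizer ({t} : Set G)) := by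
      apply Subtype.ext
      rw [Subgroup.coe_pow, h]
      rfl
    rw [← map_pow] at h1
    have h2 := congrArg e h1
    rwa [e.apply_symm_apply, map_one] at h2
  have hz8 : orderOf ((e.symm z0 : Subgroup.centralizer ({t} : Set G)) : G) = 8 := by
    have h := orderOf_eq_prime_pow (x := ((e.symm z0 : Subgroup.centralizer ({t} : Set G)) : G))
      (p := 2) (n := 2) (by norm_num; rw [hz4]; exact ht1)
      (by
        norm_num
        have e8 : (8 : ℕ) = 4 * 2 := by norm_num
        rw [e8, pow_mul, hz4, ht2])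
    rw [h]
    norm_num
  have hw6 : orderOf ((e.symm w0 : Subgroup.centralizer ({t} : Set G)) : G) = 6 := by
    have h6 : ((e.symm w0 : Subgroup.centralizer ({t} : Set G)) : G) ^ 6 = 1 := by
      have e6 : (6 : ℕ) = 3 * 2 := by norm_num
      rw [e6, pow_mul, hw3, ht2]
    have hd := orderOf_dvd_of_pow_eq_one h6
    have hpos := orderOf_pos ((e.symm w0 : Subgroup.centralizer ({t} : Set G)) : G)
    have hpow := pow_orderOf_eq_one ((e.symm w0 : Subgroup.centralizer ({t} : Set G)) : G)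
    generalize orderOf ((e.symm w0 : Subgroup.centralizer ({t} : Set G)) : G) = o at hd hpos hpow
    have hle : o ≤ 6 := Nat.le_of_dvd (by norm_num) hd
    interval_cases o
    · exfalso
      apply hw2
      rw [pow_one] at hpow
      rw [hpow, one_pow]
    · exact absurd hpow hw2
    · exfalso
      apply ht1
      rw [← hw3, hpow]
    · omega
    · omega
    · rfl
  refine ⟨hz4, hw3, hz8, hw6, (Nat.card_congr e.toEquiv).trans hH.card, ?_, ?_, ?_⟩
  · rw [gd_aux_cent t e z0 z0 hH.cent_z rfl 4 hz4, Nat.card_zpowers, hz8]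
  · have e1 : ((e.symm (z0 ^ 2) : Subgroup.centralizer ({t} : Set G)) : G)
        = ((e.symm z0 : Subgroup.centralizer ({t} : Set G)) : G) ^ 2 := by
      rw [map_pow, Subgroup.coe_pow]
    have hk : ((e.symm (z0 ^ 2) : Subgroup.centralizer ({t} : Set G)) : G) ^ 2 = t := by
      rw [e1, ← pow_mul]
      exact hz4
    rw [← e1, gd_aux_cent t e (z0 ^ 2) z0 hH.cent_y
      ((Commute.refl z0).pow_right 2).eq 2 hk, Nat.card_zpowers, hz8]
  · rw [gd_aux_cent t e w0 w0 hH.cent_w rfl 3 hw3, Nat.card_zpowers, hw6]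

/-- PIECE GD2: conjugacy of `z, w` with their powers. -/
theorem gd_conj {G : Type u} [Group G] [Finite G] [IsSimpleGroup G] (t : G)
    (ht : orderOf t = 2) {H : Type*} [Group H] (z0 w0 : H) (hH : GLFacts H z0 w0)
    (e : Subgroup.centralizer ({t} : Set G) ≃* H) :
    IsConj ((e.symm z0 : Subgroup.centralizer ({t} : Set G)) : G)
      (((e.symm z0 : Subgroup.centralizer ({t} : Set G)) : G) ^ 3) ∧
    ¬ IsConj ((e.symm z0 : Subgroup.centralizer ({t} : Set G)) : G)
      (((e.symm z0 : Subgroup.centralizer ({t} : Set G)) : G))⁻¹ ∧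
    IsConj ((e.symm w0 : Subgroup.centralizer ({t} : Set G)) : G)
      (((e.symm w0 : Subgroup.centralizer ({t} : Set G)) : G))⁻¹ := by
  obtain ⟨hz4, -, -, -, -, -, -, -⟩ := gd_basic t ht z0 w0 hH e
  have ht2 : t ^ 2 = 1 := by
    rw [← ht]
    exact pow_orderOf_eq_one t
  have htinv : t⁻¹ = t := by
    rw [inv_eq_iff_eq_inv, eq_inv_iff_mul_eq_one, ← pow_two]
    exact ht2
  refine ⟨?_, ?_, ?_⟩
  · obtain ⟨n, hn⟩ := hH.conj_z
    rw [isConj_iff]
    refine ⟨((e.symm n : Subgroup.centralizer ({t} : Set G)) : G), ?_⟩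
    have h1 : e.symm n * e.symm z0 * (e.symm n)⁻¹ = (e.symm z0) ^ 3 := by
      rw [← map_inv, ← map_mul, ← map_mul, hn, map_pow]
    have h2 := congrArg Subtype.val h1
    simpa using h2
  · intro h
    obtain ⟨g, hg⟩ := isConj_iff.mp h
    have hgt : g ∈ Subgroup.centralizer ({t} : Set G) := by
      rw [Subgroup.mem_centralizer_singleton_iff]
      have h1 : g * t * g⁻¹ = t := by
        rw [← hz4, ← conj_pow, hg, inv_pow, hz4, htinv]
      calc g * t = g * t * g⁻¹ * g := by group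
        _ = t * g := by rw [h1]
    have h1 : (⟨g, hgt⟩ : Subgroup.centralizer ({t} : Set G)) * e.symm z0 * ⟨g, hgt⟩⁻¹
        = (e.symm z0)⁻¹ := Subtype.ext (by simpa using hg)
    have h2 := congrArg e h1
    rw [map_mul, map_mul, map_inv, map_inv, e.apply_symm_apply] at h2
    exact hH.nconj_z _ h2
  · obtain ⟨n, hn⟩ := hH.conj_w
    rw [isConj_iff]
    refine ⟨((e.symm n : Subgroup.centralizer ({t} : Set G)) : G), ?_⟩
    have h1 : e.symm n * e.symm w0 * (e.symm n)⁻¹ = (e.symm w0)⁻¹ := by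
      rw [← map_inv, ← map_mul, ← map_mul, hn, map_inv]
    have h2 := congrArg Subtype.val h1
    simpa using h2

/-- PIECE GD3: a Sylow 2-subgroup of `G` containing `t` lies in `C_G(t)`; so `32 ∤ |G|`. -/
theorem gd_sylow {G : Type u} [Group G] [Finite G] [IsSimpleGroup G] (t : G)
    (ht : orderOf t = 2) {H : Type*} [Group H] (z0 w0 : H) (hH : GLFacts H z0 w0)
    (e : Subgroup.centralizer ({t} : Set G) ≃* H) :
    (∃ P : Sylow 2 G, t ∈ P ∧ (P : Subgroup G) ≤ Subgroup.centralizer ({t} : Set G)) ∧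
    ¬ 32 ∣ Nat.card G := by
  obtain ⟨hz4, -, hz8, -, hC48, hCz, -, -⟩ := gd_basic t ht z0 w0 hH e
  obtain ⟨z, hz⟩ : ∃ z : G, z = ((e.symm z0 : Subgroup.centralizer ({t} : Set G)) : G) :=
    ⟨_, rfl⟩
  rw [← hz] at hz4 hz8 hCz
  have hcz : Subgroup.zpowers z = Subgroup.centralizer ({z} : Set G) := by
    apply Subgroup.eq_of_le_of_card_ge
    · rw [Subgroup.zpowers_le, Subgroup.mem_centralizer_singleton_iff]
    · rw [hCz, Nat.card_zpowers, hz8]
  have h2 : Fact (Nat.Prime 2) := ⟨Nat.prime_two⟩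
  have hpg : IsPGroup 2 (Subgroup.zpowers z) :=
    IsPGroup.of_card (n := 3) (by rw [Nat.card_zpowers, hz8]; norm_num)
  obtain ⟨P, hP⟩ := hpg.exists_le_sylow
  have hzP : z ∈ (P : Subgroup G) := hP (Subgroup.mem_zpowers z)
  have hz1 : z ≠ 1 := by
    intro h
    rw [h, orderOf_one] at hz8
    omega
  have hnt : Nontrivial (P : Subgroup G) :=
    ⟨⟨⟨z, hzP⟩, 1, fun h => hz1 (congrArg Subtype.val h)⟩⟩
  have hcn : Nontrivial (Subgroup.center (P : Subgroup G)) := IsPGroup.center_nontrivial P.2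
  obtain ⟨⟨u, hu⟩, hu1⟩ := exists_ne (1 : Subgroup.center (P : Subgroup G))
  have hu1' : (u : G) ≠ 1 := by
    intro h
    apply hu1
    apply Subtype.ext
    apply Subtype.ext
    exact h
  have huz : (u : G) ∈ Subgroup.zpowers z := by
    rw [hcz, Subgroup.mem_centralizer_singleton_iff]
    have h := Subgroup.mem_center_iff.mp hu ⟨z, hzP⟩
    have h' := congrArg Subtype.val h
    exact h'.symm
  have hdvd : orderOf (u : G) ∣ 2 ^ 3 := by
    have h := orderOf_dvd_of_mem_zpowers huz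
    rw [hz8] at h
    exact h
  have h2dvd : 2 ∣ orderOf (u : G) := by
    obtain ⟨m, -, hm⟩ := (Nat.dvd_prime_pow Nat.prime_two).mp hdvd
    rcases m with _ | m
    · rw [pow_zero] at hm
      exact absurd (orderOf_eq_one_iff.mp hm) hu1'
    · rw [hm, pow_succ]
      exact Dvd.intro_left _ rfl
  have hv2 : orderOf ((u : G) ^ (orderOf (u : G) / 2)) = 2 :=
    orderOf_pow_orderOf_div (orderOf_pos (u : G)).ne' h2dvd
  have hvt : (u : G) ^ (orderOf (u : G) / 2) = t := by
    rw [← hz4]
    exact gd_invol_zpowers_eight hz8 (pow_mem huz _) hv2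
  have hvc : u ^ (orderOf (u : G) / 2) ∈ Subgroup.center (P : Subgroup G) := pow_mem hu _
  have hPC : (P : Subgroup G) ≤ Subgroup.centralizer ({t} : Set G) := by
    intro g hg
    rw [Subgroup.mem_centralizer_singleton_iff, ← hvt]
    have h := Subgroup.mem_center_iff.mp hvc ⟨g, hg⟩
    have h' := congrArg Subtype.val h
    simpa using h'
  refine ⟨⟨P, ?_, hPC⟩, ?_⟩
  · rw [← hvt]
    exact pow_mem u.2 _
  · intro h32
    have h1 : 2 ^ 5 ∣ Nat.card P := P.pow_dvd_card_of_pow_dvd_card (by norm_num; exact h32)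
    have h3 := Subgroup.card_dvd_of_le hPC
    rw [hC48] at h3
    have h4 : 2 ^ 5 ∣ 48 := h1.trans h3
    norm_num at h4

end gd

end Cfsg.Agent.Lib.helper46.S0197
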