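import Mathlib
import Cfsg.Agent.Lib.helper6.S3313Defs

/-!
# S3313 split, piece AF1: facts about a subgroup isomorphic to `A₅` (helper46)
-/

set_option autoImplicit false

namespace Cfsg.Agent.Lib.helper46.S3313

open Cfsg.Agent.Lib.helper6.S3313

set_option maxRecDepth 1000000 in
theorem af_cnt2 : (Finset.univ.filter (fun g : Equiv.Perm (Fin 5) =>
    Equiv.Perm.sign g = 1 ∧ (g ^ 2 = 1 ∧ g ≠ 1))).card = 15 := by
  decide +kernel

set_option maxRecDepth 1000000 in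
theorem af_cent : ∀ κ : Equiv.Perm (Fin 5), Equiv.Perm.sign κ = 1 → κ ^ 2 = 1 → κ ≠ 1 →
    (Finset.univ.filter (fun g : Equiv.Perm (Fin 5) =>
      Equiv.Perm.sign g = 1 ∧ g * κ = κ * g)).card = 4 ∧
    ∀ g : Equiv.Perm (Fin 5), Equiv.Perm.sign g = 1 → g * κ = κ * g → g ^ 2 = 1 := by
  decide +kernel

theorem af_rot : Equiv.Perm.sign (finRotate 5) = 1 ∧ (finRotate 5) ^ 5 = 1 ∧
    finRotate 5 ≠ (1 : Equiv.Perm (Fin 5)) := by
  decide

variable {G : Type*} [Group G]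

/-- Orders transfer along `K ≃* A₅`. -/
theorem af_orderOf (K : Subgroup G) (e : K ≃* alternatingGroup (Fin 5)) (k : K) :
    orderOf (k : G) = orderOf (e k : Equiv.Perm (Fin 5)) := by
  rw [Subgroup.orderOf_coe, Subgroup.orderOf_coe, MulEquiv.orderOf_eq]

/-- Counting elements of a subgroup isomorphic to `A₅` by counting even permutations. -/
theorem af_card_transport (K : Subgroup G) (e : K ≃* alternatingGroup (Fin 5)) (P : G → Prop)
    (P' : Equiv.Perm (Fin 5) → Prop) [DecidablePred P']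
    (hP : ∀ k : K, P (k : G) ↔ P' (e k : Equiv.Perm (Fin 5))) :
    Nat.card {k : G // k ∈ K ∧ P k} =
      (Finset.univ.filter (fun g : Equiv.Perm (Fin 5) => Equiv.Perm.sign g = 1 ∧ P' g)).card := by
  rw [← Fintype.card_subtype, ← Nat.card_eq_fintype_card]
  apply Nat.card_congr
  refine Equiv.ofBijective (fun k => ⟨(e ⟨k.1, k.2.1⟩ : Equiv.Perm (Fin 5)),
    Equiv.Perm.mem_alternatingGroup.mp (e ⟨k.1, k.2.1⟩).2, (hP ⟨k.1, k.2.1⟩).mp k.2.2⟩) ⟨?_, ?_⟩
  · intro a b hab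
    have h1 : (e ⟨a.1, a.2.1⟩ : Equiv.Perm (Fin 5)) = e ⟨b.1, b.2.1⟩ := Subtype.mk.inj hab
    have h2 : (⟨a.1, a.2.1⟩ : K) = ⟨b.1, b.2.1⟩ := e.injective (Subtype.ext h1)
    have h3 : a.1 = b.1 := Subtype.mk.inj h2
    exact Subtype.ext h3
  · rintro ⟨g, hg1, hg2⟩
    refine ⟨⟨(e.symm ⟨g, Equiv.Perm.mem_alternatingGroup.mpr hg1⟩ : G), (e.symm _).2, ?_⟩, ?_⟩
    · rw [hP]
      simpa using hg2
    · apply Subtype.ext
      simp

/-- AF1: facts about a subgroup isomorphic to A₅. -/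
theorem a5_facts {G : Type*} [Group G] [Finite G] (K : Subgroup G) (hK : Nonempty (K ≃* alternatingGroup (Fin 5))) :
    Nat.card K = 60 ∧
    Nat.card {k : G // k ∈ K ∧ orderOf k = 2} = 15 ∧
    (∃ g ∈ K, orderOf g = 5) ∧
    (∀ k ∈ K, orderOf k = 2 →
      Nat.card {c : G // c ∈ K ∧ c * k = k * c} = 4 ∧ ∀ c ∈ K, c * k = k * c → c ^ 2 = 1) ∧
    (∀ N : Subgroup G, N ≤ K → (∀ k ∈ K, ∀ n ∈ N, k * n * k⁻¹ ∈ N) → N = ⊥ ∨ N = K) := by
  obtain ⟨e⟩ := hK
  have hp2 : Fact (Nat.Prime 2) := ⟨Nat.prime_two⟩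
  have hp5 : Fact (Nat.Prime 5) := ⟨by norm_num⟩
  refine ⟨?_, ?_, ?_, ?_, ?_⟩
  · rw [Nat.card_congr e.toEquiv, nat_card_alternatingGroup]
    simp [Nat.factorial]
  · rw [af_card_transport K e (fun k => orderOf k = 2) (fun g => g ^ 2 = 1 ∧ g ≠ 1)
      (fun k => by rw [af_orderOf K e k, orderOf_eq_prime_iff])]
    exact af_cnt2
  · obtain ⟨h1, h2, h3⟩ := af_rot
    refine ⟨(e.symm ⟨finRotate 5, Equiv.Perm.mem_alternatingGroup.mpr h1⟩ : G), (e.symm _).2, ?_⟩
    rw [af_orderOf K e, MulEquiv.apply_symm_apply]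
    exact orderOf_eq_prime h2 h3
  · intro k hk hk2
    set κ : Equiv.Perm (Fin 5) := (e ⟨k, hk⟩ : Equiv.Perm (Fin 5)) with hκ
    have hκ1 : Equiv.Perm.sign κ = 1 := Equiv.Perm.mem_alternatingGroup.mp (e ⟨k, hk⟩).2
    have hκ2 : κ ^ 2 = 1 ∧ κ ≠ 1 := by
      have := af_orderOf K e ⟨k, hk⟩
      rw [hk2] at this
      exact orderOf_eq_prime_iff.mp this.symm
    have hP : ∀ c : K, (c : G) * k = k * (c : G) ↔
        (e c : Equiv.Perm (Fin 5)) * κ = κ * (e c : Equiv.Perm (Fin 5)) := by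
      intro c
      constructor
      · intro h
        have h1 : c * ⟨k, hk⟩ = ⟨k, hk⟩ * c := Subtype.ext h
        have h2 := congrArg (fun t => (e t : Equiv.Perm (Fin 5))) h1
        simpa using h2
      · intro h
        have h1 : e (c * ⟨k, hk⟩) = e (⟨k, hk⟩ * c) := by
          apply Subtype.ext
          simpa using h
        have h2 := e.injective h1
        exact congrArg Subtype.val h2
    obtain ⟨hc1, hc2⟩ := af_cent κ hκ1 hκ2.1 hκ2.2
    refine ⟨?_, ?_⟩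
    · rw [af_card_transport K e (fun c => c * k = k * c) (fun g => g * κ = κ * g) hP]
      exact hc1
    · intro c hc hck
      have h1 := hc2 (e ⟨c, hc⟩ : Equiv.Perm (Fin 5))
        (Equiv.Perm.mem_alternatingGroup.mp (e ⟨c, hc⟩).2) ((hP ⟨c, hc⟩).mp hck)
      have h2 : e ((⟨c, hc⟩ : K) ^ 2) = e 1 := by
        rw [map_pow, map_one]
        exact Subtype.ext h1
      have h3 : (⟨c, hc⟩ : K) ^ 2 = 1 := e.injective h2
      exact congrArg Subtype.val h3
  · intro N hNK hinv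
    have : IsSimpleGroup K := e.isSimpleGroup
    have hnorm : (N.subgroupOf K).Normal := by
      constructor
      intro n hn k
      rw [Subgroup.mem_subgroupOf] at hn ⊢
      exact hinv k k.2 n hn
    rcases hnorm.eq_bot_or_eq_top with h | h
    · left
      rw [Subgroup.subgroupOf_eq_bot, disjoint_iff, inf_eq_left.mpr hNK] at h
      exact h
    · right
      rw [Subgroup.subgroupOf_eq_top] at h
      exact le_antisymm hNK h

end Cfsg.Agent.Lib.helper46.S3313
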