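import Mathlib
import Cfsg.Agent.Lib.helper6.S3313Defs
import Cfsg.Agent.Lib.helper46.S3313AF1

/-!
# S3313 split, piece AF2: the count of pairs in `A₅` (helper46)
-/

set_option autoImplicit false

namespace Cfsg.Agent.Lib.helper46.S3313

open Cfsg.Agent.Lib.helper6.S3313

set_option maxRecDepth 1000000 in
theorem af_pairs_sum : (∑ x ∈ Finset.univ.filter (fun x : Equiv.Perm (Fin 5) =>
    Equiv.Perm.sign x = 1 ∧ x ^ 2 = 1 ∧ x ≠ 1),
    (Finset.univ.filter (fun b : Equiv.Perm (Fin 5) =>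
      Equiv.Perm.sign b = 1 ∧ b ^ 2 = 1 ∧ (x * b) ^ 15 = 1)).card) = 195 := by
  decide +kernel

theorem af_card_filter_prod {α β : Type*} [Fintype α] [Fintype β] (A : α → Prop)
    (B : α → β → Prop) [DecidablePred A] [∀ a, DecidablePred (B a)] :
    (Finset.univ.filter (fun q : α × β => A q.1 ∧ B q.1 q.2)).card =
      ∑ a ∈ Finset.univ.filter A, (Finset.univ.filter (B a)).card := by
  rw [Finset.card_filter, ← Finset.univ_product_univ, Finset.sum_product, Finset.sum_filter]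
  refine Finset.sum_congr rfl fun a _ => ?_
  by_cases ha : A a
  · rw [if_pos ha, Finset.card_filter]
    refine Finset.sum_congr rfl fun b _ => ?_
    simp [ha]
  · simp [ha]

theorem af_pairs_card : (Finset.univ.filter
    (fun q : Equiv.Perm (Fin 5) × Equiv.Perm (Fin 5) =>
      (Equiv.Perm.sign q.1 = 1 ∧ q.1 ^ 2 = 1 ∧ q.1 ≠ 1) ∧
        (Equiv.Perm.sign q.2 = 1 ∧ q.2 ^ 2 = 1 ∧ (q.1 * q.2) ^ 15 = 1))).card = 195 := by
  rw [af_card_filter_prod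
    (fun x : Equiv.Perm (Fin 5) => Equiv.Perm.sign x = 1 ∧ x ^ 2 = 1 ∧ x ≠ 1)
    (fun (x : Equiv.Perm (Fin 5)) (b : Equiv.Perm (Fin 5)) =>
      Equiv.Perm.sign b = 1 ∧ b ^ 2 = 1 ∧ (x * b) ^ 15 = 1)]
  exact af_pairs_sum

variable {G : Type*} [Group G]

/-- Counting pairs of elements of a subgroup isomorphic to `A₅`. -/
theorem af_card_transport2 (B : Subgroup G) (e : B ≃* alternatingGroup (Fin 5))
    (P : G → G → Prop) (P' : Equiv.Perm (Fin 5) → Equiv.Perm (Fin 5) → Prop)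
    [∀ a b, Decidable (P' a b)]
    (hP : ∀ a b : B, P (a : G) (b : G) ↔
      P' (e a : Equiv.Perm (Fin 5)) (e b : Equiv.Perm (Fin 5))) :
    Nat.card {p : G × G // p.1 ∈ B ∧ p.2 ∈ B ∧ P p.1 p.2} =
      (Finset.univ.filter (fun q : Equiv.Perm (Fin 5) × Equiv.Perm (Fin 5) =>
        Equiv.Perm.sign q.1 = 1 ∧ Equiv.Perm.sign q.2 = 1 ∧ P' q.1 q.2)).card := by
  rw [← Fintype.card_subtype, ← Nat.card_eq_fintype_card]
  apply Nat.card_congr
  refine Equiv.ofBijective (fun p => ⟨((e ⟨p.1.1, p.2.1⟩ : Equiv.Perm (Fin 5)),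
      (e ⟨p.1.2, p.2.2.1⟩ : Equiv.Perm (Fin 5))),
    Equiv.Perm.mem_alternatingGroup.mp (e ⟨p.1.1, p.2.1⟩).2,
    Equiv.Perm.mem_alternatingGroup.mp (e ⟨p.1.2, p.2.2.1⟩).2,
    (hP ⟨p.1.1, p.2.1⟩ ⟨p.1.2, p.2.2.1⟩).mp p.2.2.2⟩) ⟨?_, ?_⟩
  · intro a b hab
    have h0 := Subtype.mk.inj hab
    have h1 : (e ⟨a.1.1, a.2.1⟩ : Equiv.Perm (Fin 5)) = e ⟨b.1.1, b.2.1⟩ := (Prod.mk.inj h0).1
    have h2 : (e ⟨a.1.2, a.2.2.1⟩ : Equiv.Perm (Fin 5)) = e ⟨b.1.2, b.2.2.1⟩ :=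
      (Prod.mk.inj h0).2
    have h3 : (⟨a.1.1, a.2.1⟩ : B) = ⟨b.1.1, b.2.1⟩ := e.injective (Subtype.ext h1)
    have h4 : (⟨a.1.2, a.2.2.1⟩ : B) = ⟨b.1.2, b.2.2.1⟩ := e.injective (Subtype.ext h2)
    apply Subtype.ext
    exact Prod.ext (Subtype.mk.inj h3) (Subtype.mk.inj h4)
  · rintro ⟨⟨g1, g2⟩, hg1, hg2, hg3⟩
    refine ⟨⟨((e.symm ⟨g1, Equiv.Perm.mem_alternatingGroup.mpr hg1⟩ : G),
      (e.symm ⟨g2, Equiv.Perm.mem_alternatingGroup.mpr hg2⟩ : G)),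
      (e.symm _).2, (e.symm _).2, ?_⟩, ?_⟩
    · rw [hP]
      simpa using hg3
    · apply Subtype.ext
      simp

/-- AF2: the count of pairs in A₅. -/
theorem a5_pairs {G : Type*} [Group G] [Finite G] (B : Subgroup G)
    (hB : Nonempty (B ≃* alternatingGroup (Fin 5))) :
    Nat.card {p : G × G // p.1 ∈ B ∧ orderOf p.1 = 2 ∧ p.2 ∈ B ∧ p.2 ^ 2 = 1 ∧
      Odd (orderOf (p.1 * p.2))} = 195 := by
  obtain ⟨e⟩ := hB
  have hp2 : Fact (Nat.Prime 2) := ⟨Nat.prime_two⟩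
  have h60 : Nat.card (alternatingGroup (Fin 5)) = 60 := by
    rw [nat_card_alternatingGroup]
    simp [Nat.factorial]
  have hodd : ∀ a : alternatingGroup (Fin 5),
      Odd (orderOf (a : Equiv.Perm (Fin 5))) ↔ (a : Equiv.Perm (Fin 5)) ^ 15 = 1 := by
    intro a
    constructor
    · intro ho
      have h1 : orderOf (a : Equiv.Perm (Fin 5)) ∣ 15 * 4 := by
        rw [Subgroup.orderOf_coe]
        have := orderOf_dvd_natCard a
        rw [h60] at this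
        exact this
      have h2 : Nat.Coprime (orderOf (a : Equiv.Perm (Fin 5))) 4 := by
        have h3 : Nat.Coprime (orderOf (a : Equiv.Perm (Fin 5))) 2 := by
          rw [Nat.coprime_comm, Nat.prime_two.coprime_iff_not_dvd]
          intro h2
          rw [← even_iff_two_dvd, ← Nat.not_odd_iff_even] at h2
          exact h2 ho
        exact Nat.Coprime.pow_right 2 h3
      have h3 : orderOf (a : Equiv.Perm (Fin 5)) ∣ 15 := Nat.Coprime.dvd_of_dvd_mul_right h2 h1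
      exact orderOf_dvd_iff_pow_eq_one.mp h3
    · intro h
      exact Odd.of_dvd_nat (by decide) (orderOf_dvd_of_pow_eq_one h)
  have hP : ∀ a b : B,
      (orderOf (a : G) = 2 ∧ (b : G) ^ 2 = 1 ∧ Odd (orderOf ((a : G) * (b : G)))) ↔
      (((e a : Equiv.Perm (Fin 5)) ^ 2 = 1 ∧ (e a : Equiv.Perm (Fin 5)) ≠ 1) ∧
        (e b : Equiv.Perm (Fin 5)) ^ 2 = 1 ∧
        ((e a : Equiv.Perm (Fin 5)) * (e b : Equiv.Perm (Fin 5))) ^ 15 = 1) := by
    intro a b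
    have h1 : orderOf (a : G) = 2 ↔
        ((e a : Equiv.Perm (Fin 5)) ^ 2 = 1 ∧ (e a : Equiv.Perm (Fin 5)) ≠ 1) := by
      rw [af_orderOf B e a, orderOf_eq_prime_iff]
    have h2 : (b : G) ^ 2 = 1 ↔ (e b : Equiv.Perm (Fin 5)) ^ 2 = 1 := by
      constructor
      · intro h
        have h' : b ^ 2 = 1 := Subtype.ext h
        have h'' : e b ^ 2 = 1 := by rw [← map_pow, h', map_one]
        exact congrArg Subtype.val h''
      · intro h
        have h' : e (b ^ 2) = e 1 := by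
          rw [map_pow, map_one]
          exact Subtype.ext h
        have h'' : b ^ 2 = 1 := e.injective h'
        exact congrArg Subtype.val h''
    have h3 : Odd (orderOf ((a : G) * (b : G))) ↔
        ((e a : Equiv.Perm (Fin 5)) * (e b : Equiv.Perm (Fin 5))) ^ 15 = 1 := by
      have h4 := af_orderOf B e (a * b)
      rw [Subgroup.coe_mul] at h4
      rw [h4, map_mul, hodd]
      rfl
    rw [h1, h2, h3]
  have hcongr : Nat.card {p : G × G // p.1 ∈ B ∧ orderOf p.1 = 2 ∧ p.2 ∈ B ∧ p.2 ^ 2 = 1 ∧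
        Odd (orderOf (p.1 * p.2))} =
      Nat.card {p : G × G // p.1 ∈ B ∧ p.2 ∈ B ∧
        (orderOf p.1 = 2 ∧ p.2 ^ 2 = 1 ∧ Odd (orderOf (p.1 * p.2)))} :=
    Nat.card_congr (Equiv.subtypeEquivRight (fun p => by tauto))
  rw [hcongr, af_card_transport2 B e (fun a b => orderOf a = 2 ∧ b ^ 2 = 1 ∧ Odd (orderOf (a * b)))
    (fun a b => (a ^ 2 = 1 ∧ a ≠ 1) ∧ b ^ 2 = 1 ∧ (a * b) ^ 15 = 1) hP]
  rw [← af_pairs_card]
  refine congrArg Finset.card ?_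
  apply Finset.filter_congr
  intro q _
  constructor
  · rintro ⟨h1, h2, ⟨h3, h4⟩, h5, h6⟩
    exact ⟨⟨h1, h3, h4⟩, h2, h5, h6⟩
  · rintro ⟨⟨h1, h3, h4⟩, h2, h5, h6⟩
    exact ⟨h1, h2, ⟨h3, h4⟩, h5, h6⟩

end Cfsg.Agent.Lib.helper46.S3313
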