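import Mathlib

/-!
# S4067 piece C2 (helper46)

If the number of "big" elements (centralizer index `> p`, `p` the least prime divisor of `|G|`)
of a nonabelian finite group `G` is `< (p² - 1) |Z(G)|`, then `G' ≤ Z(G)`.
-/

set_option autoImplicit false

namespace Cfsg.Agent.Lib.helper46.S4067

open Subgroup MulAction

variable {G : Type*} [Group G] [Finite G]

omit [Finite G] in
/-- A normal subgroup with commutative quotient contains the commutator subgroup. -/
theorem c2_commutator_le_of_quot_comm (N : Subgroup G) [N.Normal]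
    (h : ∀ x y : G ⧸ N, x * y = y * x) : commutator G ≤ N := by
  rw [commutator_eq_closure, Subgroup.closure_le]
  rintro x ⟨a, b, rfl⟩
  rw [SetLike.mem_coe, ← QuotientGroup.eq_one_iff, commutatorElement_def]
  simp only [QuotientGroup.mk_mul, QuotientGroup.mk_inv]
  rw [h (a : G ⧸ N) (b : G ⧸ N)]
  group

omit [Finite G] in
/-- A subgroup whose index is the least prime divisor of `|G|` contains the commutator
subgroup. -/
theorem c2_commutator_le_of_index (hn1 : Nat.card G ≠ 1) (H : Subgroup G)
    (h : H.index = (Nat.card G).minFac) : commutator G ≤ H := by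
  have hN : H.Normal := Subgroup.normal_of_index_eq_minFac_card h
  have hpp : Fact ((Nat.card G).minFac).Prime := ⟨Nat.minFac_prime hn1⟩
  have hcard : Nat.card (G ⧸ H) = (Nat.card G).minFac := by
    rw [← h]
    exact (Subgroup.index_eq_card H).symm
  have hcyc : IsCyclic (G ⧸ H) := isCyclic_of_prime_card hcard
  apply c2_commutator_le_of_quot_comm H
  intro x y
  obtain ⟨gen, hgen⟩ := hcyc.exists_generator
  obtain ⟨i, rfl⟩ := Subgroup.mem_zpowers_iff.mp (hgen x)
  obtain ⟨j, rfl⟩ := Subgroup.mem_zpowers_iff.mp (hgen y)
  exact zpow_mul_comm gen i j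

/-- Statement J, proved locally: `p² ≤ |G : Z(G)|` for nonabelian `G`. -/
theorem c2_sq_minFac_le_index_center (hna : ¬ IsMulCommutative G) :
    (Nat.card G).minFac ^ 2 ≤ (center G).index := by
  by_contra hlt
  push Not at hlt
  apply hna
  have hj1 : (center G).index ≠ 1 := by
    intro h
    apply hna
    rw [Subgroup.index_eq_one] at h
    refine ⟨⟨fun a b => ?_⟩⟩
    have ha : a ∈ center G := h ▸ Subgroup.mem_top a
    exact (Subgroup.mem_center_iff.mp ha b).symm
  have hjn : (center G).index ∣ Nat.card G := Subgroup.index_dvd_card _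
  have hjpos : 0 < (center G).index := Nat.pos_of_ne_zero (Subgroup.index_ne_zero_of_finite)
  have hq : ((center G).index).minFac.Prime := Nat.minFac_prime hj1
  have hqj : ((center G).index).minFac ∣ (center G).index := Nat.minFac_dvd _
  have hpq : (Nat.card G).minFac ≤ ((center G).index).minFac :=
    Nat.minFac_le_of_dvd hq.two_le (hqj.trans hjn)
  obtain ⟨m, hm⟩ := hqj
  have hm1 : m = 1 := by
    by_contra hne
    have hmpos : 0 < m := by
      rcases Nat.eq_zero_or_pos m with h | h
      · rw [h, mul_zero] at hm
        omega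
      · exact h
    have hm2 : 2 ≤ m := by omega
    have hmj : m ∣ (center G).index := ⟨_, by rw [hm, mul_comm]⟩
    have hpm : (Nat.card G).minFac ≤ m := Nat.minFac_le_of_dvd hm2 (hmj.trans hjn)
    have h1 : (Nat.card G).minFac ^ 2 ≤ ((center G).index).minFac * m := by
      rw [pow_two]
      exact Nat.mul_le_mul hpq hpm
    omega
  rw [hm1, mul_one] at hm
  have hpj : Fact ((center G).index).Prime := ⟨by rw [hm]; exact hq⟩
  have hcyc : IsCyclic (G ⧸ center G) :=
    isCyclic_of_prime_card (p := (center G).index) (Subgroup.index_eq_card _).symm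
  exact MonoidHom.isMulCommutative_of_isCyclic_of_ker_le_center (QuotientGroup.mk' (center G))
    (by rw [QuotientGroup.ker_mk'])

/-- C2 -/
theorem commutator_le_center_of_card_big_lt (hna : ¬ IsMulCommutative G)
    (hb : Nat.card {g : G // (Nat.card G).minFac < (centralizer ({g} : Set G)).index}
      < ((Nat.card G).minFac ^ 2 - 1) * Nat.card (center G)) :
    commutator G ≤ center G := by
  have hn1 : Nat.card G ≠ 1 := by
    intro h
    apply hna
    have hsub : Subsingleton G := (Nat.card_eq_one_iff_unique.mp h).1
    exact ⟨⟨fun a b => Subsingleton.elim _ _⟩⟩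
  have hpp : (Nat.card G).minFac.Prime := Nat.minFac_prime hn1
  have hJ := c2_sq_minFac_le_index_center hna
  obtain ⟨p, hp⟩ : ∃ p, p = (Nat.card G).minFac := ⟨_, rfl⟩
  rw [← hp] at hb hJ hpp
  obtain ⟨T, hT⟩ : ∃ T : Subgroup G, T = centralizer (commutator G : Set G) := ⟨_, rfl⟩
  -- `T = ⊤` gives the claim
  have htop : T = ⊤ → commutator G ≤ center G := by
    intro h x hx
    rw [Subgroup.mem_center_iff]
    intro g
    have hg : g ∈ T := h ▸ Subgroup.mem_top g
    rw [hT, Subgroup.mem_centralizer_iff] at hg
    exact (hg x hx).symm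
  -- non-big elements lie in `T`
  have hnb : ∀ g : G, g ∉ T → p < (centralizer ({g} : Set G)).index := by
    intro g hgT
    by_contra hle
    push Not at hle
    apply hgT
    by_cases hgZ : g ∈ center G
    · rw [hT, Subgroup.mem_centralizer_iff]
      intro h _
      exact Subgroup.mem_center_iff.mp hgZ h
    · have hne : (centralizer ({g} : Set G)).index ≠ 1 := by
        intro h1
        apply hgZ
        rw [Subgroup.index_eq_one] at h1
        rw [Subgroup.mem_center_iff]
        intro h
        have hh : h ∈ centralizer ({g} : Set G) := h1 ▸ Subgroup.mem_top h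
        exact Subgroup.mem_centralizer_singleton_iff.mp hh
      have hpos : 0 < (centralizer ({g} : Set G)).index :=
        Nat.pos_of_ne_zero (Subgroup.index_ne_zero_of_finite)
      have hge : (Nat.card G).minFac ≤ (centralizer ({g} : Set G)).index :=
        Nat.minFac_le_of_dvd (by omega) (Subgroup.index_dvd_card _)
      have hidx : (centralizer ({g} : Set G)).index = (Nat.card G).minFac := by
        rw [← hp] at hge ⊢
        omega
      have hcl := c2_commutator_le_of_index hn1 _ hidx
      rw [hT, Subgroup.mem_centralizer_iff]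
      intro h hh
      exact Subgroup.mem_centralizer_singleton_iff.mp (hcl hh)
  -- counting
  have hcount : Nat.card G - Nat.card T < (p ^ 2 - 1) * Nat.card (center G) := by
    refine lt_of_le_of_lt ?_ hb
    have h1 : Nat.card {g : G // p < (centralizer ({g} : Set G)).index}
        = Set.ncard {g : G | p < (centralizer ({g} : Set G)).index} :=
      Nat.card_coe_set_eq {g : G | p < (centralizer ({g} : Set G)).index}
    have h2 : Nat.card T = Set.ncard (T : Set G) := Nat.card_coe_set_eq (T : Set G)
    have h3 := Set.ncard_add_ncard_compl (T : Set G)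
    have h4 : Set.ncard ((T : Set G)ᶜ) ≤ Set.ncard {g : G | p < (centralizer ({g} : Set G)).index} :=
      Set.ncard_le_ncard (fun g hg => hnb g hg) (Set.toFinite _)
    rw [h1, h2]
    omega
  by_cases hTtop : T = ⊤
  · exact htop hTtop
  -- `T ≠ ⊤`
  have hZT : center G ≤ T := by
    intro g hg
    rw [hT, Subgroup.mem_centralizer_iff]
    intro h _
    exact Subgroup.mem_center_iff.mp hg h
  obtain ⟨a, ha⟩ : ∃ a, a = T.index := ⟨_, rfl⟩
  obtain ⟨t, ht⟩ : ∃ t, t = (center G).relIndex T := ⟨_, rfl⟩
  obtain ⟨z, hz⟩ : ∃ z, z = Nat.card (center G) := ⟨_, rfl⟩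
  have hTa : Nat.card T * a = Nat.card G := by
    rw [ha]
    exact Subgroup.card_mul_index T
  have hta : t * a = (center G).index := by
    rw [ht, ha]
    exact Subgroup.relIndex_mul_index hZT
  have hzj : z * (center G).index = Nat.card G := by
    rw [hz]
    exact Subgroup.card_mul_index _
  have hzpos : 0 < z := by
    rw [hz]
    exact Nat.card_pos
  have hapos : 0 < a := by
    rw [ha]
    exact Nat.pos_of_ne_zero (Subgroup.index_ne_zero_of_finite)
  have ha1 : a ≠ 1 := by
    rw [ha]
    intro h
    exact hTtop (Subgroup.index_eq_one.mp h)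
  have hap : p ≤ a := by
    rw [hp]
    exact Nat.minFac_le_of_dvd (by omega) (by rw [ha]; exact Subgroup.index_dvd_card _)
  have hTz : Nat.card T = z * t := by
    have h1 : z * t * a = Nat.card T * a := by
      rw [hTa, mul_assoc, hta, hzj]
    exact (Nat.eq_of_mul_eq_mul_right hapos h1).symm
  have htpos : 0 < t := by
    rcases Nat.eq_zero_or_pos t with h | h
    · rw [h, mul_zero] at hTz
      have : 0 < Nat.card T := Nat.card_pos
      omega
    · exact h
  rw [← hz, ← hTa, hTz] at hcount
  -- `(a - 1) * t < p ^ 2 - 1`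
  have hkey : (a - 1) * t < p ^ 2 - 1 := by
    have h1 : z * t * a - z * t = z * ((a - 1) * t) := by
      have : z * t * a = z * t + z * ((a - 1) * t) := by
        obtain ⟨a', rfl⟩ : ∃ a', a = a' + 1 := ⟨a - 1, by omega⟩
        simp only [Nat.add_sub_cancel]
        ring
      omega
    rw [h1, mul_comm (p ^ 2 - 1) z] at hcount
    exact lt_of_mul_lt_mul_left hcount (Nat.zero_le z)
  have hp2 : 2 ≤ p := hpp.two_le
  have hpsq : p ^ 2 = p * p := pow_two p
  by_cases ht1 : t = 1
  · exfalso
    rw [ht1, one_mul] at hta
    rw [ht1, mul_one] at hkey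
    rw [← hta] at hJ
    omega
  · have ht2 : 2 ≤ t := by omega
    have htn : t ∣ Nat.card G := by
      refine ⟨a * z, ?_⟩
      rw [← hzj, ← hta]
      ring
    have htp : p ≤ t := by
      rw [hp]
      exact Nat.minFac_le_of_dvd ht2 htn
    have hap' : a = p := by
      by_contra hne
      have h1 : p + 1 ≤ a := by omega
      have h2 : p * p ≤ (a - 1) * t := Nat.mul_le_mul (by omega) htp
      omega
    have htp' : t = p := by
      by_contra hne
      have h1 : p + 1 ≤ t := by omega
      rw [hap'] at hkey
      have h2 : (p - 1) * (p + 1) ≤ (p - 1) * t := Nat.mul_le_mul_left _ h1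
      have h3 : (p - 1) * (p + 1) = p * p - 1 := by
        obtain ⟨q, rfl⟩ : ∃ q, p = q + 1 := ⟨p - 1, by omega⟩
        simp only [Nat.add_sub_cancel]
        have : (q + 1) * (q + 1) = q * (q + 1 + 1) + 1 := by ring
        omega
      omega
    have hj : (center G).index = p ^ 2 := by
      rw [← hta, hap', htp', pow_two]
    have hfp : Fact p.Prime := ⟨hpp⟩
    have hc := IsPGroup.isMulCommutative_of_card_eq_prime_sq (p := p) (G := G ⧸ center G)
      (by rw [← Subgroup.index_eq_card]; exact hj)
    exact c2_commutator_le_of_quot_comm (center G) (fun x y => hc.is_comm.comm x y)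

end Cfsg.Agent.Lib.helper46.S4067
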