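import Mathlib
import Cfsg.Agent.Lib.helper89.S60Defs

/-!
S6000 piece ACEN (racer copy by helper46): the centre of `R` consists of scalars `c • 1` with `c ^ 4 = 1`, and contains
`w • 1` with `w * w = -1`.
-/

set_option autoImplicit false

namespace Cfsg.Agent.Lib.helper89.S60

open Matrix Cfsg Cfsg.Geo

theorem helper46_s60_center {F : Type*} [Field F] [Fintype F] (h2 : (2 : F) ≠ 0) (R : Subgroup (GL (Fin 4) F))
    (hRs : IsSymplecticTypeGroup 2 R) (hRi : ActsAbsolutelyIrreducibly (matrixSet R))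
    (hRZ : Nat.card (Subgroup.center R) = 4) :
    (∃ w : F, w * w = -1 ∧ ∃ z ∈ R, (z : Matrix (Fin 4) (Fin 4) F) = w • (1 : Matrix (Fin 4) (Fin 4) F)) ∧
    ∀ s ∈ R, ∀ c : F, (s : Matrix (Fin 4) (Fin 4) F) = c • (1 : Matrix (Fin 4) (Fin 4) F) → c ^ 4 = 1 := by
  classical
  have hexp : Monoid.exponent ↥R = 4 := by
    rw [hRs.exponent_eq]
    rfl
  -- scalars in `R` have `c ^ 4 = 1`
  have hscal : ∀ s ∈ R, ∀ c : F, (s : Matrix (Fin 4) (Fin 4) F) = c • (1 : Matrix (Fin 4) (Fin 4) F) → c ^ 4 = 1 := by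
    intro s hs c hc
    have h1 : (⟨s, hs⟩ : ↥R) ^ 4 = 1 := by
      have h0 := Monoid.pow_exponent_eq_one (⟨s, hs⟩ : ↥R)
      rw [hexp] at h0
      exact h0
    have h3 : s ^ 4 = 1 := by
      have := congrArg (fun x : ↥R => (x : GL (Fin 4) F)) h1
      simpa using this
    have h4 : (s : Matrix (Fin 4) (Fin 4) F) ^ 4 = 1 := by
      rw [← Units.val_pow_eq_pow_val, h3, Units.val_one]
    rw [hc, smul_pow, one_pow] at h4
    have h5 := congrFun (congrFun h4 0) 0
    simpa using h5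
  refine ⟨?_, hscal⟩
  by_contra hcon
  -- every central element is `±1`
  have hpm : ∀ z : Subgroup.center ↥R, (((z : ↥R) : GL (Fin 4) F) : Matrix (Fin 4) (Fin 4) F) = 1 ∨
      (((z : ↥R) : GL (Fin 4) F) : Matrix (Fin 4) (Fin 4) F) = -1 := by
    intro z
    have hsc : ∃ c : F, (((z : ↥R) : GL (Fin 4) F) : Matrix (Fin 4) (Fin 4) F) = c • (1 : Matrix (Fin 4) (Fin 4) F) := by
      apply hRi.2
      rintro M ⟨t, ht, rfl⟩
      have h1 := Subgroup.mem_center_iff.mp z.2 ⟨t, ht⟩
      have h3 := congrArg (fun x : ↥R => ((x : GL (Fin 4) F) : Matrix (Fin 4) (Fin 4) F)) h1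
      simp only [Subgroup.coe_mul, Units.val_mul] at h3
      exact h3.symm
    obtain ⟨c, hc⟩ := hsc
    have hc4 := hscal _ (z : ↥R).2 c hc
    have hfac : (c * c - 1) * (c * c + 1) = 0 := by linear_combination hc4
    rcases mul_eq_zero.mp hfac with h | h
    · have hfac2 : (c - 1) * (c + 1) = 0 := by linear_combination h
      rcases mul_eq_zero.mp hfac2 with h' | h'
      · left
        rw [hc, sub_eq_zero.mp h', one_smul]
      · right
        rw [hc, eq_neg_of_add_eq_zero_left h', neg_smul, one_smul]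
    · exfalso
      exact hcon ⟨c, eq_neg_of_add_eq_zero_left h, ((z : ↥R) : GL (Fin 4) F), (z : ↥R).2, hc⟩
  have hinj : Function.Injective (fun z : Subgroup.center ↥R =>
      decide ((((z : ↥R) : GL (Fin 4) F) : Matrix (Fin 4) (Fin 4) F) = 1)) := by
    intro z z' hzz
    simp only [decide_eq_decide] at hzz
    have hmat : (((z : ↥R) : GL (Fin 4) F) : Matrix (Fin 4) (Fin 4) F) =
        (((z' : ↥R) : GL (Fin 4) F) : Matrix (Fin 4) (Fin 4) F) := by
      rcases hpm z with h | h
      · rw [h, hzz.mp h]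
      · rcases hpm z' with h' | h'
        · rw [hzz.mpr h', h']
        · rw [h, h']
    exact Subtype.ext (Subtype.ext (Units.ext hmat))
  have hle := Nat.card_le_card_of_injective _ hinj
  rw [hRZ] at hle
  simp at hle

end Cfsg.Agent.Lib.helper89.S60
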