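import Mathlib
import Cfsg.Agent.Lib.helper89.S60Defs

/-!
S6000 piece HALF: for a non-scalar `s₀ ∈ R` exactly half of `R` anticommutes with `s₀`.
-/

set_option autoImplicit false

namespace Cfsg.Agent.Lib.helper89.S60

open Matrix Cfsg Cfsg.Geo

/-- Abstract counting: if every element of `R` satisfies exactly one of `P`, `Q` and left multiplication by
`t₁ ∈ R` exchanges them, then `P` holds on half of `R`. -/
theorem helper46_half_count {G : Type*} [Group G] [Finite G] (R : Subgroup G) (P Q : G → Prop) (t₁ : G)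
    (ht₁ : t₁ ∈ R) (hPQ : ∀ t ∈ R, P t ∨ Q t) (hex : ∀ t, P t → Q t → False)
    (hmap : ∀ t, Q t ↔ P (t₁ * t)) : Nat.card R = 2 * Nat.card {t : G // t ∈ R ∧ P t} := by
  classical
  have e1 : {t : G // t ∈ R ∧ Q t} ≃ {t : G // t ∈ R ∧ P t} :=
    Equiv.subtypeEquiv (Equiv.mulLeft t₁) (fun t => by
      show (t ∈ R ∧ Q t) ↔ (t₁ * t ∈ R ∧ P (t₁ * t))
      rw [hmap t, Subgroup.mul_mem_cancel_left R ht₁])
  have e2 : {t : ↥R // P t} ⊕ {t : ↥R // ¬ P t} ≃ ↥R := Equiv.sumCompl (fun t : ↥R => P t)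
  have e3 : {t : ↥R // P t} ≃ {t : G // t ∈ R ∧ P t} :=
    Equiv.subtypeSubtypeEquivSubtypeInter (fun t => t ∈ R) P
  have e4 : {t : ↥R // ¬ P t} ≃ {t : G // t ∈ R ∧ Q t} :=
    (Equiv.subtypeSubtypeEquivSubtypeInter (fun t => t ∈ R) (fun t => ¬ P t)).trans
      (Equiv.subtypeEquivRight (fun t => ⟨fun h => ⟨h.1, (hPQ t h.1).resolve_left h.2⟩,
        fun h => ⟨h.1, fun hp => hex t hp h.2⟩⟩))
  rw [← Nat.card_congr e2, Nat.card_sum, Nat.card_congr e3, Nat.card_congr e4, Nat.card_congr e1]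
  ring

theorem s60_half {F : Type*} [Field F] [Fintype F] (h2 : (2 : F) ≠ 0) (R : Subgroup (GL (Fin 4) F)) (w : F) (hG : Good R w)
    (s₀ : GL (Fin 4) F) (hs : s₀ ∈ R) (hns : ∀ c : F, (s₀ : Matrix (Fin 4) (Fin 4) F) ≠ c • (1 : Matrix (Fin 4) (Fin 4) F)) :
    Nat.card {t : GL (Fin 4) F // t ∈ R ∧ (t : Matrix (Fin 4) (Fin 4) F) * (s₀ : Matrix (Fin 4) (Fin 4) F) = -((s₀ : Matrix (Fin 4) (Fin 4) F) * (t : Matrix (Fin 4) (Fin 4) F))} = 32 := by
  classical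
  obtain ⟨t₁, ht₁, hne⟩ : ∃ t₁ ∈ R, (s₀ : Matrix (Fin 4) (Fin 4) F) * (t₁ : Matrix (Fin 4) (Fin 4) F) ≠
      (t₁ : Matrix (Fin 4) (Fin 4) F) * (s₀ : Matrix (Fin 4) (Fin 4) F) := by
    by_contra hcon
    push Not at hcon
    obtain ⟨c, hc⟩ := hG.schur _ hcon
    exact hns c hc
  have hanti₁ : (s₀ : Matrix (Fin 4) (Fin 4) F) * (t₁ : Matrix (Fin 4) (Fin 4) F) =
      -((t₁ : Matrix (Fin 4) (Fin 4) F) * (s₀ : Matrix (Fin 4) (Fin 4) F)) := by
    rcases hG.comm s₀ hs t₁ ht₁ with h | h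
    · exact absurd h hne
    · exact h
  have hanti₁' : (t₁ : Matrix (Fin 4) (Fin 4) F) * (s₀ : Matrix (Fin 4) (Fin 4) F) =
      -((s₀ : Matrix (Fin 4) (Fin 4) F) * (t₁ : Matrix (Fin 4) (Fin 4) F)) := by
    rw [hanti₁, neg_neg]
  have hfin : Finite (GL (Fin 4) F) := inferInstance
  have hcount := helper46_half_count R
    (fun t : GL (Fin 4) F => (t : Matrix (Fin 4) (Fin 4) F) * (s₀ : Matrix (Fin 4) (Fin 4) F) =
      -((s₀ : Matrix (Fin 4) (Fin 4) F) * (t : Matrix (Fin 4) (Fin 4) F)))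
    (fun t : GL (Fin 4) F => (t : Matrix (Fin 4) (Fin 4) F) * (s₀ : Matrix (Fin 4) (Fin 4) F) =
      (s₀ : Matrix (Fin 4) (Fin 4) F) * (t : Matrix (Fin 4) (Fin 4) F)) t₁ ht₁ ?_ ?_ ?_
  · rw [hG.card] at hcount
    omega
  · intro t ht
    rcases hG.comm t ht s₀ hs with h | h
    · exact Or.inr h
    · exact Or.inl h
  · intro t h3 h1
    rw [h1] at h3
    have h5 : (s₀ : Matrix (Fin 4) (Fin 4) F) * (t : Matrix (Fin 4) (Fin 4) F) +
        (s₀ : Matrix (Fin 4) (Fin 4) F) * (t : Matrix (Fin 4) (Fin 4) F) = 0 := by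
      nth_rewrite 1 [h3]
      exact neg_add_cancel _
    have h6 : (2 : F) • ((s₀ : Matrix (Fin 4) (Fin 4) F) * (t : Matrix (Fin 4) (Fin 4) F)) = 0 := by
      rw [two_smul]
      exact h5
    have h4 : ((s₀ * t : GL (Fin 4) F) : Matrix (Fin 4) (Fin 4) F) = 0 := by
      rw [Units.val_mul]
      exact (smul_eq_zero.mp h6).resolve_left h2
    exact (s₀ * t).ne_zero h4
  · intro t
    simp only [Units.val_mul]
    constructor
    · intro h
      rw [mul_assoc, h, ← mul_assoc, hanti₁', neg_mul, mul_assoc]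
    · intro h
      have h3 : (t₁ : Matrix (Fin 4) (Fin 4) F) * ((t : Matrix (Fin 4) (Fin 4) F) * (s₀ : Matrix (Fin 4) (Fin 4) F)) =
          (t₁ : Matrix (Fin 4) (Fin 4) F) * ((s₀ : Matrix (Fin 4) (Fin 4) F) * (t : Matrix (Fin 4) (Fin 4) F)) := by
        rw [← mul_assoc, h, ← mul_assoc (t₁ : Matrix (Fin 4) (Fin 4) F), hanti₁', neg_mul, mul_assoc]
      have h4 := congrArg (fun X => ((t₁⁻¹ : GL (Fin 4) F) : Matrix (Fin 4) (Fin 4) F) * X) h3
      simp only [Units.inv_mul_cancel_left] at h4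
      exact h4

end Cfsg.Agent.Lib.helper89.S60
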