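import Mathlib
import Cfsg.Agent.Lib.helper46.SL2Klein
import Cfsg.Agent.Lib.helper46.DicksonSylow

/-!
# Conjugacy of Klein four-subgroups of `PSL₂(q)`, `q` odd (helper46)

Pairs `(A, B)` in `SL₂(F)` with `tr A = 0`, `B A B⁻¹ = A⁻¹` ("quaternion pairs") are permuted
transitively by `GL₂(F)`, the determinant of the conjugating matrix being well defined modulo
squares.  Consequently the Klein four-subgroups of `PSL₂(F)` form one class when `2` is not a
square and two classes when it is.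
-/

set_option autoImplicit false
set_option linter.unusedSectionVars false

namespace Cfsg.Agent.Lib.helper46

open Matrix

section QuatPairs

variable {F : Type*} [Field F] [DecidableEq F]

/-- A quaternion pair: `tr A = 0` and `B A B⁻¹ = A⁻¹`. -/
def invPair (A B : Matrix.SpecialLinearGroup (Fin 2) F) : Prop :=
  A.1 0 0 + A.1 1 1 = 0 ∧ B * A * B⁻¹ = A⁻¹

theorem invPair_iff (h2 : (2 : F) ≠ 0) (A B : Matrix.SpecialLinearGroup (Fin 2) F) :
    invPair A B ↔ kleinPairCond
      (QuotientGroup.mk A : Matrix.ProjectiveSpecialLinearGroup (Fin 2) F) (QuotientGroup.mk B) :=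
  (kleinPairCond_mk_iff h2 A B).symm

theorem kleinPairCond_symm {G : Type*} [Group G] {a b : G} (h : kleinPairCond a b) :
    kleinPairCond b a :=
  ⟨h.2.1, h.1, h.2.2.2.1, h.2.2.1, fun e => h.2.2.2.2.1 e.symm, h.2.2.2.2.2.symm⟩

theorem invPair_symm (h2 : (2 : F) ≠ 0) {A B : Matrix.SpecialLinearGroup (Fin 2) F}
    (h : invPair A B) : invPair B A :=
  (invPair_iff h2 B A).mpr (kleinPairCond_symm ((invPair_iff h2 A B).mp h))

theorem invPair_sqA {A B : Matrix.SpecialLinearGroup (Fin 2) F} (h : invPair A B) :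
    A * A = -1 := sl_sq_of_trace_zero A h.1

theorem invPair_sqB (h2 : (2 : F) ≠ 0) {A B : Matrix.SpecialLinearGroup (Fin 2) F}
    (h : invPair A B) : B * B = -1 := sl_sq_of_trace_zero B (invPair_symm h2 h).1

theorem invPair_anti {A B : Matrix.SpecialLinearGroup (Fin 2) F} (h : invPair A B) :
    B * A = -(A * B) := by
  have h1 := h.2
  rw [mul_inv_eq_iff_eq_mul] at h1
  rw [h1, sl_inv_eq_neg_of_sq A (invPair_sqA h), neg_mul]

theorem invPair_of_anti {A B : Matrix.SpecialLinearGroup (Fin 2) F}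
    (htr : A.1 0 0 + A.1 1 1 = 0) (h : B * A = -(A * B)) : invPair A B := by
  refine ⟨htr, ?_⟩
  rw [sl_inv_eq_neg_of_sq A (sl_sq_of_trace_zero A htr), h, neg_mul, mul_inv_cancel_right]

/-- Matrix form of the relations of a quaternion pair. -/
theorem invPair_mat (h2 : (2 : F) ≠ 0) {A B : Matrix.SpecialLinearGroup (Fin 2) F}
    (h : invPair A B) :
    A.1 * A.1 = -1 ∧ B.1 * B.1 = -1 ∧ B.1 * A.1 = -(A.1 * B.1) := by
  refine ⟨?_, ?_, ?_⟩
  · have := congrArg (fun m : Matrix.SpecialLinearGroup (Fin 2) F => m.1) (invPair_sqA h)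
    simpa using this
  · have := congrArg (fun m : Matrix.SpecialLinearGroup (Fin 2) F => m.1) (invPair_sqB h2 h)
    simpa using this
  · have := congrArg (fun m : Matrix.SpecialLinearGroup (Fin 2) F => m.1) (invPair_anti h)
    simpa using this

/-- Conjugation preserves quaternion pairs. -/
theorem invPair_conj {A B : Matrix.SpecialLinearGroup (Fin 2) F} (h : invPair A B)
    (g : Matrix.SpecialLinearGroup (Fin 2) F) : invPair (g * A * g⁻¹) (g * B * g⁻¹) := by
  refine ⟨by rw [dk_trace_conj]; exact h.1, ?_⟩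
  have e : g * B * g⁻¹ * (g * A * g⁻¹) * (g * B * g⁻¹)⁻¹ = g * (B * A * B⁻¹) * g⁻¹ := by group
  rw [e, h.2]
  group

omit [DecidableEq F] in
theorem quat_scalar_aux (h2 : (2 : F) ≠ 0) (a b c x y z n₁ n₂ n₃ n₄ : F)
    (hA : -a ^ 2 - b * c = 1) (hB : -x ^ 2 - y * z = 1) (hR : 2 * a * x + y * c + b * z = 0)
    (C1 : n₂ * c - b * n₃ = 0) (C2 : b * (n₁ - n₄) - 2 * a * n₂ = 0)
    (C3 : c * (n₁ - n₄) - 2 * a * n₃ = 0)
    (D1 : n₂ * z - y * n₃ = 0) (D2 : y * (n₁ - n₄) - 2 * x * n₂ = 0)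
    (D3 : z * (n₁ - n₄) - 2 * x * n₃ = 0) :
    n₂ = 0 ∧ n₃ = 0 ∧ n₁ = n₄ := by
  have s1 : (n₁ - n₄) = -((n₁ - n₄) * a + n₂ * c + n₃ * b) * a := by
    linear_combination (-(n₁ - n₄)) * hA - c * C2 - a * C1
  have s2 : 2 * n₂ = -((n₁ - n₄) * a + n₂ * c + n₃ * b) * b := by
    linear_combination (-2 * n₂) * hA + a * C2 - b * C1
  have s3 : 2 * n₃ = -((n₁ - n₄) * a + n₂ * c + n₃ * b) * c := by
    linear_combination (-2 * n₃) * hA + a * C3 + c * C1
  have t1 : (n₁ - n₄) = -((n₁ - n₄) * x + n₂ * z + n₃ * y) * x := by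
    linear_combination (-(n₁ - n₄)) * hB - z * D2 - x * D1
  have t2 : 2 * n₂ = -((n₁ - n₄) * x + n₂ * z + n₃ * y) * y := by
    linear_combination (-2 * n₂) * hB + x * D2 - y * D1
  have t3 : 2 * n₃ = -((n₁ - n₄) * x + n₂ * z + n₃ * y) * z := by
    linear_combination (-2 * n₃) * hB + x * D3 + z * D1
  have hS : (2 : F) * ((n₁ - n₄) * a + n₂ * c + n₃ * b) = 0 := by
    linear_combination (2 * a) * t1 + c * t2 + b * t3
      - ((n₁ - n₄) * x + n₂ * z + n₃ * y) * hR
  have hS0 : (n₁ - n₄) * a + n₂ * c + n₃ * b = 0 := by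
    rcases mul_eq_zero.mp hS with h | h
    · exact absurd h h2
    · exact h
  rw [hS0] at s1 s2 s3
  refine ⟨?_, ?_, ?_⟩
  · have : (2 : F) * n₂ = 0 := by linear_combination s2
    rcases mul_eq_zero.mp this with h | h
    · exact absurd h h2
    · exact h
  · have : (2 : F) * n₃ = 0 := by linear_combination s3
    rcases mul_eq_zero.mp this with h | h
    · exact absurd h h2
    · exact h
  · linear_combination s1

/-- A matrix commuting with both members of a quaternion pair is scalar. -/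
theorem scalar_of_commute (h2 : (2 : F) ≠ 0) {A B : Matrix.SpecialLinearGroup (Fin 2) F}
    (h : invPair A B) (N : Matrix (Fin 2) (Fin 2) F) (hA : N * A.1 = A.1 * N)
    (hB : N * B.1 = B.1 * N) : N = N 0 0 • (1 : Matrix (Fin 2) (Fin 2) F) := by
  obtain ⟨-, -, hanti⟩ := invPair_mat h2 h
  have htrA := h.1
  have htrB := (invPair_symm h2 h).1
  have hdA := sl_det A
  have hdB := sl_det B
  have a00 := congrFun (congrFun hA 0) 0
  have a01 := congrFun (congrFun hA 0) 1
  have a10 := congrFun (congrFun hA 1) 0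
  have b00 := congrFun (congrFun hB 0) 0
  have b01 := congrFun (congrFun hB 0) 1
  have b10 := congrFun (congrFun hB 1) 0
  have r00 := congrFun (congrFun hanti 0) 0
  simp only [Matrix.mul_apply, Fin.sum_univ_two, Matrix.neg_apply] at a00 a01 a10 b00 b01 b10 r00
  have hA11 : A.1 1 1 = -A.1 0 0 := by linear_combination htrA
  have hB11 : B.1 1 1 = -B.1 0 0 := by linear_combination htrB
  rw [hA11] at hdA a01 a10
  rw [hB11] at hdB b01 b10
  obtain ⟨e1, e2, e3⟩ := quat_scalar_aux h2 (A.1 0 0) (A.1 0 1) (A.1 1 0) (B.1 0 0) (B.1 0 1)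
    (B.1 1 0) (N 0 0) (N 0 1) (N 1 0) (N 1 1)
    (by linear_combination hdA) (by linear_combination hdB) (by linear_combination r00)
    (by linear_combination a00) (by linear_combination a01) (by linear_combination (-1 : F) * a10)
    (by linear_combination b00) (by linear_combination b01) (by linear_combination (-1 : F) * b10)
  ext i j
  fin_cases i <;> fin_cases j <;> simp [e1, e2, ← e3]

/-! ### Intertwiners -/

/-- `M` intertwines the pair `(A, B)` with `(A', B')`. -/
def intw (M : Matrix (Fin 2) (Fin 2) F) (A B A' B' : Matrix.SpecialLinearGroup (Fin 2) F) : Prop :=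
  M * A.1 = A'.1 * M ∧ M * B.1 = B'.1 * M

omit [DecidableEq F] in
theorem det_one_add (u : Matrix (Fin 2) (Fin 2) F) (hdet : u.det = 1) :
    (1 + u).det = 2 + (u 0 0 + u 1 1) := by
  rw [Matrix.det_fin_two] at hdet ⊢
  simp only [Matrix.add_apply, Matrix.one_apply_eq, Matrix.one_apply_ne, ne_eq, Fin.isValue,
    zero_ne_one, one_ne_zero, not_false_eq_true, zero_add]
  linear_combination hdet

omit [DecidableEq F] in
theorem det_one_sub (u : Matrix (Fin 2) (Fin 2) F) (hdet : u.det = 1) :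
    (1 - u).det = 2 - (u 0 0 + u 1 1) := by
  rw [Matrix.det_fin_two] at hdet ⊢
  simp only [Matrix.sub_apply, Matrix.one_apply_eq, Matrix.one_apply_ne, ne_eq, Fin.isValue,
    zero_ne_one, one_ne_zero, not_false_eq_true, zero_sub]
  linear_combination hdet

theorem intw_comp {M M' : Matrix (Fin 2) (Fin 2) F}
    {A B A' B' A'' B'' : Matrix.SpecialLinearGroup (Fin 2) F}
    (h : intw M A B A' B') (h' : intw M' A' B' A'' B'') : intw (M' * M) A B A'' B'' := by
  constructor
  · rw [mul_assoc, h.1, ← mul_assoc, h'.1, mul_assoc]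
  · rw [mul_assoc, h.2, ← mul_assoc, h'.2, mul_assoc]

theorem intw_of_conj (g A B : Matrix.SpecialLinearGroup (Fin 2) F) :
    intw g.1 A B (g * A * g⁻¹) (g * B * g⁻¹) := by
  constructor
  · have : g * A = (g * A * g⁻¹) * g := by group
    have h := congrArg (fun m : Matrix.SpecialLinearGroup (Fin 2) F => m.1) this
    simp only [Matrix.SpecialLinearGroup.coe_mul] at h
    rw [Matrix.SpecialLinearGroup.coe_mul, Matrix.SpecialLinearGroup.coe_mul]
    exact h
  · have : g * B = (g * B * g⁻¹) * g := by group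
    have h := congrArg (fun m : Matrix.SpecialLinearGroup (Fin 2) F => m.1) this
    simp only [Matrix.SpecialLinearGroup.coe_mul] at h
    rw [Matrix.SpecialLinearGroup.coe_mul, Matrix.SpecialLinearGroup.coe_mul]
    exact h

/-- `(A, B)` and `(A', B')` are conjugate under `SL₂(F)`. -/
def conjPair (A B A' B' : Matrix.SpecialLinearGroup (Fin 2) F) : Prop :=
  ∃ g : Matrix.SpecialLinearGroup (Fin 2) F, g * A * g⁻¹ = A' ∧ g * B * g⁻¹ = B'

theorem conjPair_refl (A B : Matrix.SpecialLinearGroup (Fin 2) F) : conjPair A B A B :=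
  ⟨1, by group, by group⟩

theorem conjPair_trans {A B A' B' A'' B'' : Matrix.SpecialLinearGroup (Fin 2) F}
    (h : conjPair A B A' B') (h' : conjPair A' B' A'' B'') : conjPair A B A'' B'' := by
  obtain ⟨g, rfl, rfl⟩ := h
  obtain ⟨g', rfl, rfl⟩ := h'
  exact ⟨g' * g, by group, by group⟩

theorem invPair_of_conjPair {A B A' B' : Matrix.SpecialLinearGroup (Fin 2) F}
    (hx : invPair A B) (h : conjPair A B A' B') : invPair A' B' := by
  obtain ⟨g, rfl, rfl⟩ := h
  exact invPair_conj hx g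

/-- An intertwiner of square determinant gives a conjugating element of `SL₂`. -/
theorem conj_of_intw_sq {A B A' B' : Matrix.SpecialLinearGroup (Fin 2) F}
    (M : Matrix (Fin 2) (Fin 2) F) (hint : intw M A B A' B') (l : F) (hl0 : l ≠ 0)
    (hl : M.det = l ^ 2) : conjPair A B A' B' := by
  have hdet : (l⁻¹ • M).det = 1 := by
    rw [Matrix.det_smul, Fintype.card_fin, hl]
    field_simp
  obtain ⟨g, hg⟩ : ∃ g : Matrix.SpecialLinearGroup (Fin 2) F, g.1 = l⁻¹ • M :=
    ⟨⟨l⁻¹ • M, hdet⟩, rfl⟩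
  refine ⟨g, ?_, ?_⟩
  · rw [mul_inv_eq_iff_eq_mul]
    apply Subtype.ext
    rw [Matrix.SpecialLinearGroup.coe_mul, Matrix.SpecialLinearGroup.coe_mul, hg,
      Matrix.smul_mul, Matrix.mul_smul, hint.1]
  · rw [mul_inv_eq_iff_eq_mul]
    apply Subtype.ext
    rw [Matrix.SpecialLinearGroup.coe_mul, Matrix.SpecialLinearGroup.coe_mul, hg,
      Matrix.smul_mul, Matrix.mul_smul, hint.2]

/-- Two intertwiners between the same quaternion pairs have determinants in the same square
class. -/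
theorem isSquare_det_mul_det (h2 : (2 : F) ≠ 0) {A B A' B' : Matrix.SpecialLinearGroup (Fin 2) F}
    (hx : invPair A B) (M M' : Matrix (Fin 2) (Fin 2) F) (hM : intw M A B A' B')
    (hM' : intw M' A B A' B') (hM0 : M.det ≠ 0) : IsSquare (M.det * M'.det) := by
  have key : ∀ X X' : Matrix (Fin 2) (Fin 2) F, M * X = X' * M →
      X * M.adjugate = M.adjugate * X' := by
    intro X X' hX
    have h1 : M.adjugate * (M * X) * M.adjugate = M.adjugate * (X' * M) * M.adjugate := by
      rw [hX]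
    rw [← mul_assoc, Matrix.adjugate_mul, mul_assoc (M.adjugate) (X' * M), mul_assoc X' M,
      Matrix.mul_adjugate, Matrix.smul_mul, one_mul, Matrix.mul_smul, Matrix.mul_smul, mul_one,
      Matrix.smul_mul] at h1
    exact smul_right_injective _ hM0 h1
  have hNA : (M.adjugate * M') * A.1 = A.1 * (M.adjugate * M') := by
    rw [mul_assoc, hM'.1, ← mul_assoc, ← key _ _ hM.1, mul_assoc]
  have hNB : (M.adjugate * M') * B.1 = B.1 * (M.adjugate * M') := by
    rw [mul_assoc, hM'.2, ← mul_assoc, ← key _ _ hM.2, mul_assoc]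
  obtain ⟨μ, hμ⟩ : ∃ μ : F, M.adjugate * M' = μ • (1 : Matrix (Fin 2) (Fin 2) F) :=
    ⟨_, scalar_of_commute h2 hx _ hNA hNB⟩
  have hdet := congrArg Matrix.det hμ
  rw [Matrix.det_mul, Matrix.det_adjugate, Fintype.card_fin, Matrix.det_smul, Matrix.det_one,
    Fintype.card_fin] at hdet
  refine ⟨μ, ?_⟩
  rw [show (2 - 1 : ℕ) = 1 from rfl, pow_one] at hdet
  rw [hdet]
  ring

/-- Any two quaternion pairs are conjugate under `GL₂(F)`. -/
theorem exists_intw [Fintype F] (hodd : Odd (Fintype.card F))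
    {A B A' B' : Matrix.SpecialLinearGroup (Fin 2) F} (hx : invPair A B) (hx' : invPair A' B') :
    ∃ M : Matrix (Fin 2) (Fin 2) F, M.det ≠ 0 ∧ intw M A B A' B' := by
  have h2 : (2 : F) ≠ 0 := two_ne_zero_of_odd_card hodd
  obtain ⟨h, hh⟩ := conj_of_trace_zero hodd A A' hx.1 hx'.1
  obtain ⟨B'', hB''⟩ : ∃ B'' : Matrix.SpecialLinearGroup (Fin 2) F, B'' = h * B * h⁻¹ := ⟨_, rfl⟩
  have hx'' : invPair A' B'' := by
    rw [← hh, hB'']
    exact invPair_conj hx h
  have hint := intw_of_conj h A B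
  rw [hh, ← hB''] at hint
  obtain ⟨ha2, hb2, hba⟩ := invPair_mat h2 hx'
  obtain ⟨-, hc2, hca⟩ := invPair_mat h2 hx''
  obtain ⟨U, hU⟩ : ∃ U : Matrix.SpecialLinearGroup (Fin 2) F, U = B' * B''⁻¹ := ⟨_, rfl⟩
  have hu : U.1 = -(B'.1 * B''.1) := by
    rw [hU, sl_inv_eq_neg_of_sq B'' (invPair_sqB h2 hx''), Matrix.SpecialLinearGroup.coe_mul,
      Matrix.SpecialLinearGroup.coe_neg, mul_neg]
  have l1 : U.1 * A'.1 = A'.1 * U.1 := by
    rw [hu, neg_mul, mul_assoc, hca, mul_neg, neg_neg, ← mul_assoc, hba, neg_mul, mul_assoc,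
      mul_neg]
  have l2 : U.1 * B''.1 = B'.1 := by
    rw [hu, neg_mul, mul_assoc, hc2, mul_neg, mul_one, neg_neg]
  have l3 : B'.1 * U.1 = B''.1 := by
    rw [hu, mul_neg, ← mul_assoc, hb2, neg_mul, one_mul, neg_neg]
  by_cases htr : U.1 0 0 + U.1 1 1 = -2
  · refine ⟨A'.1 * (1 - U.1) * h.1, ?_, ?_, ?_⟩
    · rw [Matrix.det_mul, Matrix.det_mul, A'.det_coe, h.det_coe, det_one_sub _ U.det_coe, htr]
      intro h4
      have : (2 : F) * 2 = 0 := by linear_combination h4
      rcases mul_eq_zero.mp this with h5 | h5 <;> exact h2 h5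
    · have l4 : (1 - U.1) * A'.1 = A'.1 * (1 - U.1) := by
        rw [sub_mul, one_mul, l1, mul_sub, mul_one]
      rw [mul_assoc, hint.1, ← mul_assoc, mul_assoc A'.1 (1 - U.1) A'.1, l4]
      simp only [mul_assoc]
    · have l5 : (1 - U.1) * B''.1 = B''.1 - B'.1 := by
        rw [sub_mul, one_mul, l2]
      have l6 : B'.1 * (A'.1 * (1 - U.1)) = A'.1 * (B''.1 - B'.1) := by
        rw [← mul_assoc, hba, neg_mul, mul_assoc, mul_sub, mul_one, l3, ← mul_neg, neg_sub]
      rw [mul_assoc, hint.2, ← mul_assoc, mul_assoc A'.1 (1 - U.1) B''.1, l5, ← mul_assoc B'.1,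
        l6]
  · refine ⟨(1 + U.1) * h.1, ?_, ?_, ?_⟩
    · rw [Matrix.det_mul, h.det_coe, det_one_add _ U.det_coe, mul_one]
      intro h4
      apply htr
      linear_combination h4
    · rw [mul_assoc, hint.1, ← mul_assoc, add_mul, one_mul, l1, ← mul_assoc, mul_add, mul_one]
    · rw [mul_assoc, hint.2, ← mul_assoc, add_mul, one_mul, l2, ← mul_assoc, mul_add, mul_one, l3,
        add_comm]

/-! ### Moves inside a Klein four-group -/

theorem move_negA {X Y : Matrix.SpecialLinearGroup (Fin 2) F} (hx : invPair X Y) :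
    conjPair X Y (-X) Y :=
  ⟨Y, by rw [hx.2, sl_inv_eq_neg_of_sq X (invPair_sqA hx)], by group⟩

theorem move_negB (h2 : (2 : F) ≠ 0) {X Y : Matrix.SpecialLinearGroup (Fin 2) F}
    (hx : invPair X Y) : conjPair X Y X (-Y) :=
  ⟨X, by group, by
    rw [(invPair_symm h2 hx).2, sl_inv_eq_neg_of_sq Y (invPair_sqB h2 hx)]⟩

theorem intw_tau (h2 : (2 : F) ≠ 0) {X Y : Matrix.SpecialLinearGroup (Fin 2) F}
    (hx : invPair X Y) : intw (1 + X.1) X Y X (X * Y) := by
  obtain ⟨x2, y2, hyx⟩ := invPair_mat h2 hx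
  constructor
  · rw [add_mul, mul_add, one_mul, mul_one]
  · rw [Matrix.SpecialLinearGroup.coe_mul, add_mul, mul_add, one_mul, mul_one, mul_assoc, hyx,
      mul_neg, ← mul_assoc, x2, neg_mul, one_mul, neg_neg, add_comm]

theorem invPair_tau (_h2 : (2 : F) ≠ 0) {X Y : Matrix.SpecialLinearGroup (Fin 2) F}
    (hx : invPair X Y) : invPair X (X * Y) := by
  apply invPair_of_anti hx.1
  have h1 := invPair_anti hx
  have h3 := invPair_sqA hx
  have e : X * Y * X = X * (Y * X) := by group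
  rw [e, h1, mul_neg, ← mul_assoc]

theorem move_tau (h2 : (2 : F) ≠ 0) (s : F) (hs : s ^ 2 = 2)
    {X Y : Matrix.SpecialLinearGroup (Fin 2) F} (hx : invPair X Y) : conjPair X Y X (X * Y) := by
  have hs0 : s ≠ 0 := by
    intro h
    rw [h] at hs
    apply h2
    rw [← hs]
    ring
  apply conj_of_intw_sq (1 + X.1) (intw_tau h2 hx) s hs0
  rw [det_one_add _ X.det_coe, hx.1, add_zero, hs]

theorem move_swap (h2 : (2 : F) ≠ 0) (s : F) (hs : s ^ 2 = 2)
    {X Y : Matrix.SpecialLinearGroup (Fin 2) F} (hx : invPair X Y) : conjPair X Y Y X := by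
  have hs0 : s ≠ 0 := by
    intro h
    rw [h] at hs
    apply h2
    rw [← hs]
    ring
  obtain ⟨x2, y2, hyx⟩ := invPair_mat h2 hx
  apply conj_of_intw_sq (X.1 + Y.1) ⟨?_, ?_⟩ s hs0 ?_
  · rw [add_mul, mul_add, x2, y2, add_comm]
  · rw [add_mul, mul_add, x2, y2, add_comm]
  · have hdX := sl_det X
    have hdY := sl_det Y
    have htrX := hx.1
    have htrY := (invPair_symm h2 hx).1
    have r00 := congrFun (congrFun hyx 0) 0
    simp only [Matrix.mul_apply, Fin.sum_univ_two, Matrix.neg_apply] at r00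
    rw [Matrix.det_fin_two, hs]
    simp only [Matrix.add_apply]
    linear_combination hdX + hdY + X.1 0 0 * htrY + Y.1 0 0 * htrX - r00

theorem conjPair_signs (h2 : (2 : F) ≠ 0) {A B X Y : Matrix.SpecialLinearGroup (Fin 2) F}
    (hx : invPair A B) (h : conjPair A B X Y) {A' B' : Matrix.SpecialLinearGroup (Fin 2) F}
    (hA' : A' = X ∨ A' = -X) (hB' : B' = Y ∨ B' = -Y) : conjPair A B A' B' := by
  have hxy := invPair_of_conjPair hx h
  rcases hA' with rfl | rfl <;> rcases hB' with rfl | rfl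
  · exact h
  · exact conjPair_trans h (move_negB h2 hxy)
  · exact conjPair_trans h (move_negA hxy)
  · exact conjPair_trans h (conjPair_trans (move_negA hxy)
      (move_negB h2 (invPair_of_conjPair hxy (move_negA hxy))))

theorem invPair_not_same (h2 : (2 : F) ≠ 0) {A' B' : Matrix.SpecialLinearGroup (Fin 2) F}
    (hx' : invPair A' B') (Z : Matrix.SpecialLinearGroup (Fin 2) F) (hA' : A' = Z ∨ A' = -Z)
    (hB' : B' = Z ∨ B' = -Z) : False := by
  have hne := ((invPair_iff h2 A' B').mp hx').2.2.2.2.1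
  apply hne
  rw [mk_eq_mk_iff_pm]
  rcases hA' with rfl | rfl <;> rcases hB' with rfl | rfl
  · exact Or.inl rfl
  · exact Or.inr rfl
  · exact Or.inr (neg_neg _).symm
  · exact Or.inl rfl

/-- If `2` is a square, all quaternion pairs generating the same quaternion group are conjugate
under `SL₂(F)`. -/
theorem conjPair_of_mem (h2 : (2 : F) ≠ 0) (s : F) (hs : s ^ 2 = 2)
    {A B A' B' : Matrix.SpecialLinearGroup (Fin 2) F} (hx : invPair A B) (hx' : invPair A' B')
    (hA' : (A' = A ∨ A' = -A) ∨ (A' = B ∨ A' = -B) ∨ (A' = A * B ∨ A' = -(A * B)))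
    (hB' : (B' = A ∨ B' = -A) ∨ (B' = B ∨ B' = -B) ∨ (B' = A * B ∨ B' = -(A * B))) :
    conjPair A B A' B' := by
  have c1 : conjPair A B A (A * B) := move_tau h2 s hs hx
  have c2 : conjPair A B B A := move_swap h2 s hs hx
  have hBA := invPair_symm h2 hx
  have c3 : conjPair A B B (A * B) := by
    have h1 : conjPair A B B (B * A) := conjPair_trans c2 (move_tau h2 s hs hBA)
    apply conjPair_signs h2 hx h1 (Or.inl rfl)
    right
    rw [invPair_anti hx, neg_neg]
  have hAAB := invPair_tau h2 hx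
  have c4 : conjPair A B (A * B) A := conjPair_trans c1 (move_swap h2 s hs hAAB)
  have c5 : conjPair A B (A * B) B := by
    have h1 : conjPair A B (A * B) (A * B * A) :=
      conjPair_trans c4 (move_tau h2 s hs (invPair_symm h2 hAAB))
    have e : A * B * A = B := by
      have e' : A * B * A = A * (B * A) := by group
      rw [e', invPair_anti hx, mul_neg, ← mul_assoc, invPair_sqA hx, neg_mul, one_mul, neg_neg]
    rw [e] at h1
    exact h1
  rcases hA' with hA' | hA' | hA' <;> rcases hB' with hB' | hB' | hB'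
  · exact (invPair_not_same h2 hx' _ hA' hB').elim
  · exact conjPair_signs h2 hx (conjPair_refl A B) hA' hB'
  · exact conjPair_signs h2 hx c1 hA' hB'
  · exact conjPair_signs h2 hx c2 hA' hB'
  · exact (invPair_not_same h2 hx' _ hA' hB').elim
  · exact conjPair_signs h2 hx c3 hA' hB'
  · exact conjPair_signs h2 hx c4 hA' hB'
  · exact conjPair_signs h2 hx c5 hA' hB'
  · exact (invPair_not_same h2 hx' _ hA' hB').elim

/-! ### Klein four-subgroups of `PSL₂` attached to quaternion pairs -/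

/-- The Klein four-subgroup of `PSL₂(F)` which is the image of the quaternion group `⟨A, B⟩`. -/
def kleinOf (h2 : (2 : F) ≠ 0) (A B : Matrix.SpecialLinearGroup (Fin 2) F) (hx : invPair A B) :
    Subgroup (Matrix.ProjectiveSpecialLinearGroup (Fin 2) F) :=
  kleinSub (QuotientGroup.mk A) (QuotientGroup.mk B) ((invPair_iff h2 A B).mp hx).1
    ((invPair_iff h2 A B).mp hx).2.1 ((invPair_iff h2 A B).mp hx).2.2.2.2.2

theorem mem_kleinOf (h2 : (2 : F) ≠ 0) (A B : Matrix.SpecialLinearGroup (Fin 2) F)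
    (hx : invPair A B) (x : Matrix.ProjectiveSpecialLinearGroup (Fin 2) F) :
    x ∈ kleinOf h2 A B hx ↔ x = 1 ∨ x = QuotientGroup.mk A ∨ x = QuotientGroup.mk B ∨
      x = QuotientGroup.mk A * QuotientGroup.mk B := Iff.rfl

theorem kleinOf_isKleinFour (h2 : (2 : F) ≠ 0) (A B : Matrix.SpecialLinearGroup (Fin 2) F)
    (hx : invPair A B) : IsKleinFour (kleinOf h2 A B hx) :=
  kleinSub_isKleinFour _ _ ((invPair_iff h2 A B).mp hx)

/-- Every Klein four-subgroup of `PSL₂(F)` comes from a quaternion pair. -/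
theorem exists_pair_of_klein (h2 : (2 : F) ≠ 0)
    (V : Subgroup (Matrix.ProjectiveSpecialLinearGroup (Fin 2) F)) (hV : IsKleinFour V) :
    ∃ (A B : Matrix.SpecialLinearGroup (Fin 2) F) (hx : invPair A B), kleinOf h2 A B hx = V := by
  have h6 := card_pairs_of_card_four V hV.card_four
  have hne : Nonempty {w : V × V // w.1 ≠ 1 ∧ w.2 ≠ 1 ∧ w.1 ≠ w.2} := by
    by_contra hcon
    rw [not_nonempty_iff] at hcon
    rw [Nat.card_of_isEmpty] at h6
    omega
  obtain ⟨⟨⟨a, b⟩, ha1, hb1, hab⟩⟩ := hne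
  obtain ⟨A, hA⟩ := QuotientGroup.mk_surjective a.1
  obtain ⟨B, hB⟩ := QuotientGroup.mk_surjective b.1
  have hcond : kleinPairCond (QuotientGroup.mk A : Matrix.ProjectiveSpecialLinearGroup (Fin 2) F)
      (QuotientGroup.mk B) := by
    rw [hA, hB]
    exact kleinPairCond_of_mem V a.1 b.1 a.2 b.2 (fun h => ha1 (Subtype.ext h))
      (fun h => hb1 (Subtype.ext h)) (fun h => hab (Subtype.ext h))
  refine ⟨A, B, (invPair_iff h2 A B).mpr hcond, ?_⟩
  exact kleinSub_eq V _ _ hcond (by rw [hA]; exact a.2) (by rw [hB]; exact b.2)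

theorem kleinOf_conj (h2 : (2 : F) ≠ 0) (A B : Matrix.SpecialLinearGroup (Fin 2) F)
    (hx : invPair A B) (g : Matrix.SpecialLinearGroup (Fin 2) F) :
    kleinOf h2 (g * A * g⁻¹) (g * B * g⁻¹) (invPair_conj hx g) =
      (kleinOf h2 A B hx).map (MulAut.conj
        (QuotientGroup.mk g : Matrix.ProjectiveSpecialLinearGroup (Fin 2) F)).toMonoidHom := by
  ext x
  rw [mem_kleinOf, Subgroup.mem_map]
  constructor
  · rintro (rfl | rfl | rfl | rfl)
    · exact ⟨1, Subgroup.one_mem _, map_one _⟩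
    · exact ⟨QuotientGroup.mk A, Or.inr (Or.inl rfl), rfl⟩
    · exact ⟨QuotientGroup.mk B, Or.inr (Or.inr (Or.inl rfl)), rfl⟩
    · refine ⟨QuotientGroup.mk A * QuotientGroup.mk B, Or.inr (Or.inr (Or.inr rfl)), ?_⟩
      rw [map_mul]
      rfl
  · rintro ⟨y, (rfl | rfl | rfl | rfl), rfl⟩
    · exact Or.inl (map_one _)
    · exact Or.inr (Or.inl rfl)
    · exact Or.inr (Or.inr (Or.inl rfl))
    · refine Or.inr (Or.inr (Or.inr ?_))
      rw [map_mul]
      rfl

theorem kleinOf_of_conjPair (h2 : (2 : F) ≠ 0) {A B A' B' : Matrix.SpecialLinearGroup (Fin 2) F}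
    (hx : invPair A B) (hx' : invPair A' B') (h : conjPair A B A' B') :
    ∃ g : Matrix.ProjectiveSpecialLinearGroup (Fin 2) F,
      kleinOf h2 A' B' hx' = (kleinOf h2 A B hx).map (MulAut.conj g).toMonoidHom := by
  obtain ⟨g, rfl, rfl⟩ := h
  exact ⟨QuotientGroup.mk g, kleinOf_conj h2 A B hx g⟩

theorem kleinOf_tau (h2 : (2 : F) ≠ 0) (A B : Matrix.SpecialLinearGroup (Fin 2) F)
    (hx : invPair A B) : kleinOf h2 A (A * B) (invPair_tau h2 hx) = kleinOf h2 A B hx := by
  have := kleinOf_isKleinFour h2 A B hx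
  exact kleinSub_eq (kleinOf h2 A B hx) _ _ ((invPair_iff h2 A (A * B)).mp (invPair_tau h2 hx))
    (Or.inr (Or.inl rfl)) (Or.inr (Or.inr (Or.inr rfl)))

/-! ### Square classes in a finite field -/

omit [DecidableEq F] in
theorem isSquare_of_mul' {c d : F} (hc : IsSquare c) (hc0 : c ≠ 0) (h : IsSquare (c * d)) :
    IsSquare d := by
  obtain ⟨u, rfl⟩ := hc
  obtain ⟨v, hv⟩ := h
  have hu : u ≠ 0 := by
    rintro rfl
    simp at hc0
  refine ⟨v / u, ?_⟩
  field_simp
  linear_combination hv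

theorem isSquare_mul_of_not' [Fintype F] {a b : F} (ha : ¬IsSquare a) (hb : ¬IsSquare b) :
    IsSquare (a * b) := by
  have ha0 : a ≠ 0 := by
    rintro rfl
    exact ha ⟨0, by ring⟩
  have hb0 : b ≠ 0 := by
    rintro rfl
    exact hb ⟨0, by ring⟩
  rw [← quadraticChar_one_iff_isSquare (mul_ne_zero ha0 hb0), map_mul,
    quadraticChar_neg_one_iff_not_isSquare.mpr ha, quadraticChar_neg_one_iff_not_isSquare.mpr hb]
  norm_num

/-- The key dichotomy: if `ε` is a non-square and `(A, B) → (A₁, B₁)` has an intertwiner of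
determinant `ε` (up to squares), then every quaternion pair is `SL₂`-conjugate to `(A, B)` or to
`(A₁, B₁)`. -/
theorem conjPair_or [Fintype F] (hodd : Odd (Fintype.card F))
    {A B A₁ B₁ A' B' : Matrix.SpecialLinearGroup (Fin 2) F} (hx : invPair A B)
    (hx₁ : invPair A₁ B₁) (hx' : invPair A' B') (D : Matrix (Fin 2) (Fin 2) F)
    (hD : intw D A B A₁ B₁) (hDdet : ¬IsSquare D.det) :
    conjPair A B A' B' ∨ conjPair A₁ B₁ A' B' := by
  have h2 : (2 : F) ≠ 0 := two_ne_zero_of_odd_card hodd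
  obtain ⟨M, hM0, hM⟩ := exists_intw hodd hx hx'
  by_cases hsq : IsSquare M.det
  · left
    obtain ⟨l, hl⟩ := hsq
    have hl0 : l ≠ 0 := by
      rintro rfl
      apply hM0
      rw [hl, mul_zero]
    exact conj_of_intw_sq M hM l hl0 (by rw [hl]; ring)
  · right
    obtain ⟨M₂, hM₂0, hM₂⟩ := exists_intw hodd hx₁ hx'
    have hcomp := intw_comp hD hM₂
    have h1 := isSquare_det_mul_det h2 hx M (M₂ * D) hM hcomp hM0
    rw [Matrix.det_mul] at h1
    have h3 : IsSquare (M.det * D.det) := isSquare_mul_of_not' hsq hDdet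
    have hD0 : D.det ≠ 0 := by
      intro h
      apply hDdet
      rw [h]
      exact ⟨0, by ring⟩
    have h4 : IsSquare (M₂.det) := by
      apply isSquare_of_mul' h3 (mul_ne_zero hM0 hD0)
      rw [show M.det * D.det * M₂.det = M.det * (M₂.det * D.det) by ring]
      exact h1
    obtain ⟨l, hl⟩ := h4
    have hl0 : l ≠ 0 := by
      rintro rfl
      apply hM₂0
      rw [hl, mul_zero]
    exact conj_of_intw_sq M₂ hM₂ l hl0 (by rw [hl]; ring)

/-- If `2` is not a square in `F`, all Klein four-subgroups of `PSL₂(F)` are conjugate. -/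
theorem klein_one_class [Fintype F] (hodd : Odd (Fintype.card F)) (hns : ¬IsSquare (2 : F))
    (V W : Subgroup (Matrix.ProjectiveSpecialLinearGroup (Fin 2) F)) (hV : IsKleinFour V)
    (hW : IsKleinFour W) :
    ∃ g : Matrix.ProjectiveSpecialLinearGroup (Fin 2) F, W = V.map (MulAut.conj g).toMonoidHom := by
  have h2 : (2 : F) ≠ 0 := two_ne_zero_of_odd_card hodd
  obtain ⟨A, B, hx, rfl⟩ := exists_pair_of_klein h2 V hV
  obtain ⟨A', B', hx', rfl⟩ := exists_pair_of_klein h2 W hW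
  have hD : intw (1 + A.1) A B A (A * B) := intw_tau h2 hx
  have hDdet : ¬IsSquare (1 + A.1).det := by
    rw [det_one_add _ A.det_coe, hx.1, add_zero]
    exact hns
  rcases conjPair_or hodd hx (invPair_tau h2 hx) hx' _ hD hDdet with h | h
  · exact kleinOf_of_conjPair h2 hx hx' h
  · obtain ⟨g, hg⟩ := kleinOf_of_conjPair h2 (invPair_tau h2 hx) hx' h
    rw [kleinOf_tau h2 A B hx] at hg
    exact ⟨g, hg⟩

omit [DecidableEq F] in
theorem exists_nonsquare_of_two_ne_zero [Fintype F] (h2 : (2 : F) ≠ 0) : ∃ ν : F, ¬IsSquare ν := by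
  apply FiniteField.exists_nonsquare
  intro h
  have := CharP.cast_eq_zero F (ringChar F)
  rw [h] at this
  exact h2 (by exact_mod_cast this)

/-- If `2` is a square in `F`, the Klein four-subgroups of `PSL₂(F)` form exactly two conjugacy
classes. -/
theorem klein_two_classes [Fintype F] (hodd : Odd (Fintype.card F)) (s : F) (hs : s ^ 2 = 2) :
    ∃ V₁ V₂ : Subgroup (Matrix.ProjectiveSpecialLinearGroup (Fin 2) F),
      IsKleinFour V₁ ∧ IsKleinFour V₂ ∧
      (¬ ∃ g : Matrix.ProjectiveSpecialLinearGroup (Fin 2) F,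
        V₂ = V₁.map (MulAut.conj g).toMonoidHom) ∧
      ∀ W : Subgroup (Matrix.ProjectiveSpecialLinearGroup (Fin 2) F), IsKleinFour W →
        (∃ g : Matrix.ProjectiveSpecialLinearGroup (Fin 2) F,
          W = V₁.map (MulAut.conj g).toMonoidHom) ∨
        (∃ g : Matrix.ProjectiveSpecialLinearGroup (Fin 2) F,
          W = V₂.map (MulAut.conj g).toMonoidHom) := by
  have h2 : (2 : F) ≠ 0 := two_ne_zero_of_odd_card hodd
  -- a Klein four-subgroup exists
  have hcard := card_klein_four_PSL2 (F := F) hodd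
  have hpos : 0 < Nat.card (Matrix.ProjectiveSpecialLinearGroup (Fin 2) F) := Nat.card_pos
  have hne : Nonempty {V : Subgroup (Matrix.ProjectiveSpecialLinearGroup (Fin 2) F) //
      IsKleinFour V} := by
    by_contra hcon
    rw [not_nonempty_iff] at hcon
    rw [Nat.card_of_isEmpty] at hcard
    omega
  obtain ⟨⟨V₀, hV₀⟩⟩ := hne
  obtain ⟨A, B, hx, rfl⟩ := exists_pair_of_klein h2 V₀ hV₀
  obtain ⟨ν, hν⟩ := exists_nonsquare_of_two_ne_zero h2
  have hν0 : ν ≠ 0 := by
    rintro rfl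
    exact hν ⟨0, by ring⟩
  obtain ⟨A₂, hA₂⟩ : ∃ A₂, A₂ = dkDiag ν hν0 A := ⟨_, rfl⟩
  obtain ⟨B₂, hB₂⟩ : ∃ B₂, B₂ = dkDiag ν hν0 B := ⟨_, rfl⟩
  have hx₂ : invPair A₂ B₂ := by
    refine ⟨?_, ?_⟩
    · rw [hA₂, dkDiag_apply]
      simpa using hx.1
    · rw [hA₂, hB₂, ← map_inv, ← map_mul, ← map_mul, hx.2, map_inv]
  have hD : intw !![1, 0; 0, ν] A B A₂ B₂ := by
    constructor
    · rw [hA₂, dkDiag_apply]
      ext i j
      fin_cases i <;> fin_cases j <;> simp [Matrix.mul_apply, Fin.sum_univ_two] <;> field_simp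
    · rw [hB₂, dkDiag_apply]
      ext i j
      fin_cases i <;> fin_cases j <;> simp [Matrix.mul_apply, Fin.sum_univ_two] <;> field_simp
  have hDdet : (!![1, 0; 0, ν] : Matrix (Fin 2) (Fin 2) F).det = ν := by
    rw [Matrix.det_fin_two_of]
    ring
  refine ⟨kleinOf h2 A B hx, kleinOf h2 A₂ B₂ hx₂, kleinOf_isKleinFour h2 A B hx,
    kleinOf_isKleinFour h2 A₂ B₂ hx₂, ?_, ?_⟩
  · rintro ⟨g, hg⟩
    obtain ⟨h, rfl⟩ := QuotientGroup.mk_surjective g
    rw [← kleinOf_conj h2 A B hx h] at hg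
    have hxh := invPair_conj hx h
    have hc₂ := (invPair_iff h2 A₂ B₂).mp hx₂
    have memA : (QuotientGroup.mk A₂ : Matrix.ProjectiveSpecialLinearGroup (Fin 2) F) ∈
        kleinOf h2 A₂ B₂ hx₂ := Or.inr (Or.inl rfl)
    have memB : (QuotientGroup.mk B₂ : Matrix.ProjectiveSpecialLinearGroup (Fin 2) F) ∈
        kleinOf h2 A₂ B₂ hx₂ := Or.inr (Or.inr (Or.inl rfl))
    rw [hg, mem_kleinOf] at memA memB
    have hA' : (A₂ = h * A * h⁻¹ ∨ A₂ = -(h * A * h⁻¹)) ∨ (A₂ = h * B * h⁻¹ ∨ A₂ = -(h * B * h⁻¹)) ∨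
        (A₂ = h * A * h⁻¹ * (h * B * h⁻¹) ∨ A₂ = -(h * A * h⁻¹ * (h * B * h⁻¹))) := by
      rcases memA with e | e | e | e
      · exact absurd e hc₂.2.2.1
      · exact Or.inl ((mk_eq_mk_iff_pm _ _).mp e.symm)
      · exact Or.inr (Or.inl ((mk_eq_mk_iff_pm _ _).mp e.symm))
      · exact Or.inr (Or.inr ((mk_eq_mk_iff_pm _ _).mp e.symm))
    have hB' : (B₂ = h * A * h⁻¹ ∨ B₂ = -(h * A * h⁻¹)) ∨ (B₂ = h * B * h⁻¹ ∨ B₂ = -(h * B * h⁻¹)) ∨
        (B₂ = h * A * h⁻¹ * (h * B * h⁻¹) ∨ B₂ = -(h * A * h⁻¹ * (h * B * h⁻¹))) := by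
      rcases memB with e | e | e | e
      · exact absurd e hc₂.2.2.2.1
      · exact Or.inl ((mk_eq_mk_iff_pm _ _).mp e.symm)
      · exact Or.inr (Or.inl ((mk_eq_mk_iff_pm _ _).mp e.symm))
      · exact Or.inr (Or.inr ((mk_eq_mk_iff_pm _ _).mp e.symm))
    have hc1 : conjPair (h * A * h⁻¹) (h * B * h⁻¹) A₂ B₂ :=
      conjPair_of_mem h2 s hs hxh hx₂ hA' hB'
    have hc2 : conjPair A B A₂ B₂ := conjPair_trans ⟨h, rfl, rfl⟩ hc1
    obtain ⟨g', e1, e2⟩ := hc2
    have hint := intw_of_conj g' A B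
    rw [e1, e2] at hint
    have hsq := isSquare_det_mul_det h2 hx g'.1 _ hint hD (by rw [g'.det_coe]; exact one_ne_zero)
    rw [g'.det_coe, one_mul, hDdet] at hsq
    exact hν hsq
  · intro W hW
    obtain ⟨A', B', hx', rfl⟩ := exists_pair_of_klein h2 W hW
    rcases conjPair_or hodd hx hx₂ hx' _ hD (by rw [hDdet]; exact hν) with h | h
    · exact Or.inl (kleinOf_of_conjPair h2 hx hx' h)
    · exact Or.inr (kleinOf_of_conjPair h2 hx₂ hx' h)

end QuatPairs

end Cfsg.Agent.Lib.helper46
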