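import Mathlib
import Cfsg.Agent.Lib.helper46.RedundantSylow
import Cfsg.Agent.Lib.helper46.SL2Order4
import Cfsg.Agent.Lib.helper46.SL2Klein
import Cfsg.Agent.Lib.helper46.DicksonCount

/-!
# Redundant Sylow subgroups of `SL₂(q)` and `PSL₂(q)` (helper46)

`SL₂(q)` (and `PSL₂(q)`) has a redundant Sylow `p`-subgroup iff `p = 2` and `q` is not of the
form `2ᵏ - 1`, `2ᵏ`, `2ᵏ + 1`.
-/

set_option autoImplicit false
set_option linter.unusedSectionVars false

namespace Cfsg.Agent.Lib.helper46

open Matrix

section SL2Redundant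

variable {F : Type*} [Field F] [DecidableEq F]

/-- The upper unitriangular subgroup of `SL₂(F)`. -/
def unipSub (F : Type*) [Field F] [DecidableEq F] : Subgroup (Matrix.SpecialLinearGroup (Fin 2) F) where
  carrier := Set.range dkX
  one_mem' := ⟨0, dkX_zero⟩
  mul_mem' := by
    rintro _ _ ⟨a, rfl⟩ ⟨b, rfl⟩
    exact ⟨a + b, dkX_add a b⟩
  inv_mem' := by
    rintro _ ⟨a, rfl⟩
    exact ⟨-a, dkX_neg a⟩

theorem mem_unipSub (g : Matrix.SpecialLinearGroup (Fin 2) F) :
    g ∈ unipSub F ↔ ∃ b : F, dkX b = g := Iff.rfl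

variable [Fintype F]

theorem card_unipSub : Nat.card (unipSub F) = Fintype.card F := by
  rw [← Nat.card_eq_fintype_card]
  exact (Nat.card_congr (Equiv.ofInjective dkX dkX_injective)).symm

/-- In the defining characteristic no Sylow subgroup of `SL₂(q)` is redundant. -/
theorem sl2_char_not_redundant (p : ℕ) [Fact p.Prime] [CharP F p] :
    ¬ redundantSylow (Matrix.SpecialLinearGroup (Fin 2) F) p := by
  have hp : p.Prime := Fact.out
  obtain ⟨f, -, hf⟩ := FiniteField.card F p
  have hq2 : 2 ≤ Fintype.card F := Fintype.one_lt_card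
  have hcard := card_SL2_factored (F := F)
  have hndvd : ¬ p ∣ (Fintype.card F - 1) * (Fintype.card F + 1) := by
    intro h
    have hpq : p ∣ Fintype.card F := by rw [hf]; exact dvd_pow_self p f.pos.ne'
    rcases (Nat.Prime.dvd_mul hp).mp h with h1 | h1
    · have : p ∣ Fintype.card F - (Fintype.card F - 1) := Nat.dvd_sub hpq h1
      have e : Fintype.card F - (Fintype.card F - 1) = 1 := by omega
      rw [e] at this
      exact hp.one_lt.ne' (Nat.dvd_one.mp this)
    · have : p ∣ Fintype.card F + 1 - Fintype.card F := Nat.dvd_sub h1 hpq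
      have e : Fintype.card F + 1 - Fintype.card F = 1 := by omega
      rw [e] at this
      exact hp.one_lt.ne' (Nat.dvd_one.mp this)
  have hfac : (Nat.card (Matrix.SpecialLinearGroup (Fin 2) F)).factorization p = (f : ℕ) := by
    rw [hcard, Nat.factorization_mul (by omega) (Nat.mul_ne_zero (by omega) (by omega))]
    simp only [Finsupp.add_apply]
    rw [Nat.factorization_eq_zero_of_not_dvd hndvd, hf, Nat.Prime.factorization_pow hp,
      Finsupp.single_eq_same, add_zero]
  have hU : Nat.card (unipSub F) =
      p ^ (Nat.card (Matrix.SpecialLinearGroup (Fin 2) F)).factorization p := by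
    rw [card_unipSub, hfac, hf]
  apply not_redundant_of_unique p (Sylow.ofCard (unipSub F) hU) (dkX 1) ⟨1, ?_⟩ ?_
  · rw [pow_one]
    apply orderOf_eq_prime
    · rw [← dkX_nsmul, nsmul_one, CharP.cast_eq_zero, dkX_zero]
    · intro h
      exact one_ne_zero (dkX_injective (h.trans dkX_zero.symm))
  · intro P hP
    obtain ⟨g, hg⟩ := MulAction.exists_smul_eq (Matrix.SpecialLinearGroup (Fin 2) F)
      (Sylow.ofCard (unipSub F) hU) P
    rw [← hg, sylow_mem_smul_iff] at hP
    obtain ⟨b, hb⟩ : ∃ b : F, dkX b = g⁻¹ * dkX 1 * g := hP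
    have hc : g.1 1 0 = 0 := by
      have h1 : g * dkX b = dkX 1 * g := by rw [hb]; group
      have h2 := congrArg (fun m : Matrix.SpecialLinearGroup (Fin 2) F => m.1 0 0) h1
      simp only [Matrix.SpecialLinearGroup.coe_mul, Matrix.mul_apply, Fin.sum_univ_two, dkX_coe,
        Matrix.of_apply, Matrix.cons_val', Matrix.cons_val_zero, Matrix.cons_val_one,
        Matrix.cons_val_fin_one] at h2
      linear_combination (-1 : F) * h2
    rw [← hg]
    apply Sylow.ext
    apply Subgroup.eq_of_le_of_card_ge
    · intro x hx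
      have hx' : g⁻¹ * x * g ∈ Sylow.ofCard (unipSub F) hU := (sylow_mem_smul_iff p g x _).mp hx
      obtain ⟨c, hc'⟩ : ∃ c : F, dkX c = g⁻¹ * x * g := hx'
      have : x = g * dkX c * g⁻¹ := by rw [hc']; group
      rw [this, conj_dkX g hc]
      exact ⟨_, rfl⟩
    · rw [Sylow.card_eq_multiplicity, Sylow.card_eq_multiplicity]

/-- For an odd prime different from the characteristic, no Sylow subgroup of `SL₂(q)` is
redundant (they are cyclic). -/
theorem sl2_odd_not_redundant (p : ℕ) [Fact p.Prime] (hp2 : p ≠ 2)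
    (hpq : ¬ p ∣ Fintype.card F) : ¬ redundantSylow (Matrix.SpecialLinearGroup (Fin 2) F) p := by
  have hp : p.Prime := Fact.out
  have hq2 : 2 ≤ Fintype.card F := Fintype.one_lt_card
  have hcard := card_SL2_factored (F := F)
  have hcop : ∀ a : ℕ, Nat.Coprime (p ^ a) (Nat.gcd 2 (Fintype.card F - 1)) := by
    intro a
    apply Nat.Coprime.pow_left
    apply Nat.Coprime.coprime_dvd_right (Nat.gcd_dvd_left 2 _)
    exact (Nat.coprime_primes hp Nat.prime_two).mpr hp2
  obtain ⟨x₀, hx₀⟩ : ∃ x₀ : Matrix.SpecialLinearGroup (Fin 2) F,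
      orderOf x₀ = p ^ (Nat.card (Matrix.SpecialLinearGroup (Fin 2) F)).factorization p := by
    rw [hcard, Nat.factorization_mul (by omega) (Nat.mul_ne_zero (by omega) (by omega)),
      Nat.factorization_mul (by omega) (by omega)]
    simp only [Finsupp.add_apply]
    rw [Nat.factorization_eq_zero_of_not_dvd hpq, zero_add]
    by_cases h1 : p ∣ Fintype.card F - 1
    · have h2 : ¬ p ∣ Fintype.card F + 1 := by
        intro h
        have : p ∣ Fintype.card F + 1 - (Fintype.card F - 1) := Nat.dvd_sub h h1
        have e : Fintype.card F + 1 - (Fintype.card F - 1) = 2 := by omega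
        rw [e] at this
        exact hp2 ((Nat.prime_dvd_prime_iff_eq hp Nat.prime_two).mp this)
      rw [Nat.factorization_eq_zero_of_not_dvd h2, add_zero]
      have h4 : 4 ≤ Fintype.card F := by
        have h3 : 3 ≤ p := by
          have := hp.two_le
          omega
        have := Nat.le_of_dvd (by omega) h1
        omega
      obtain ⟨h, hh⟩ := exists_split_order (F := F) h4
      have hd : p ^ (Fintype.card F - 1).factorization p ∣ orderOf h := by
        have e1 : p ^ (Fintype.card F - 1).factorization p ∣ Fintype.card F - 1 :=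
          Nat.ordProj_dvd _ _
        have e3 : Nat.gcd 2 (Fintype.card F - 1) *
            ((Fintype.card F - 1) / Nat.gcd 2 (Fintype.card F - 1)) = Fintype.card F - 1 :=
          Nat.mul_div_cancel' (Nat.gcd_dvd_right _ _)
        have e1' : p ^ (Fintype.card F - 1).factorization p ∣ Nat.gcd 2 (Fintype.card F - 1) *
            ((Fintype.card F - 1) / Nat.gcd 2 (Fintype.card F - 1)) := by rw [e3]; exact e1
        have e2 := Nat.Coprime.dvd_of_dvd_mul_left (hcop _) e1'
        rw [← hh] at e2
        exact e2.trans (orderOf_map_dvd (QuotientGroup.mk' _) h)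
      exact exists_orderOf_eq_of_dvd h _ hd (orderOf_pos h).ne'
    · rw [Nat.factorization_eq_zero_of_not_dvd h1, zero_add]
      obtain ⟨h, hh⟩ := exists_nonsplit_order (F := F)
      have hd : p ^ (Fintype.card F + 1).factorization p ∣ orderOf h := by
        have e1 : p ^ (Fintype.card F + 1).factorization p ∣ Fintype.card F + 1 :=
          Nat.ordProj_dvd _ _
        have e0 : Nat.gcd 2 (Fintype.card F - 1) ∣ Fintype.card F + 1 := by
          have h1' : Nat.gcd 2 (Fintype.card F - 1) ∣ Fintype.card F - 1 := Nat.gcd_dvd_right _ _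
          have h2' : Nat.gcd 2 (Fintype.card F - 1) ∣ 2 := Nat.gcd_dvd_left _ _
          have := Nat.dvd_add h1' h2'
          have e : Fintype.card F - 1 + 2 = Fintype.card F + 1 := by omega
          rwa [e] at this
        have e3 : Nat.gcd 2 (Fintype.card F - 1) *
            ((Fintype.card F + 1) / Nat.gcd 2 (Fintype.card F - 1)) = Fintype.card F + 1 :=
          Nat.mul_div_cancel' e0
        have e1' : p ^ (Fintype.card F + 1).factorization p ∣ Nat.gcd 2 (Fintype.card F - 1) *
            ((Fintype.card F + 1) / Nat.gcd 2 (Fintype.card F - 1)) := by rw [e3]; exact e1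
        have e2 := Nat.Coprime.dvd_of_dvd_mul_left (hcop _) e1'
        rw [← hh] at e2
        exact e2.trans (orderOf_map_dvd (QuotientGroup.mk' _) h)
      exact exists_orderOf_eq_of_dvd h _ hd (orderOf_pos h).ne'
  exact not_redundant_of_cyclic p x₀ hx₀

/-- For `q` odd, `SL₂(q)` has a redundant Sylow `2`-subgroup iff neither `q + 1` nor `q - 1` is
a power of `2`. -/
theorem sl2_two_redundant_iff (hodd : Odd (Fintype.card F)) :
    redundantSylow (Matrix.SpecialLinearGroup (Fin 2) F) 2 ↔
      ((¬ ∃ k : ℕ, Fintype.card F + 1 = 2 ^ k) ∧ ¬ ∃ k : ℕ, Fintype.card F = 2 ^ k + 1) := by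
  have h2 : (2 : F) ≠ 0 := two_ne_zero_of_odd_card hodd
  obtain ⟨n, t, w, hn2, heven, hcase, ht, hC, hconj, hinv, hw, htn, hcent⟩ :=
    torus4_data (F := F) hodd
  have hq2 : 2 ≤ Fintype.card F := Fintype.one_lt_card
  have hcard := card_SL2_factored (F := F)
  have hqodd : ¬ 2 ∣ Fintype.card F := by
    obtain ⟨k, hk⟩ := hodd
    omega
  have hfac : (Nat.card (Matrix.SpecialLinearGroup (Fin 2) F)).factorization 2 =
      (2 * n).factorization 2 + 1 := by
    rcases hcase with ⟨hq4, hn⟩ | ⟨hq4, hn⟩
    · obtain ⟨r, hr⟩ : ∃ r, Fintype.card F + 1 = 2 * r := ⟨(Fintype.card F + 1) / 2, by omega⟩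
      rw [hcard, ← hn, hr, Nat.factorization_mul (by omega) (Nat.mul_ne_zero (by omega) (by omega)),
        Nat.factorization_mul (by omega) (by omega),
        Nat.factorization_mul (a := 2) (b := r) (by norm_num) (by omega)]
      simp only [Finsupp.add_apply]
      rw [Nat.factorization_eq_zero_of_not_dvd hqodd,
        Nat.factorization_eq_zero_of_not_dvd (n := r) (by omega),
        Nat.Prime.factorization_self Nat.prime_two]
      omega
    · obtain ⟨r, hr⟩ : ∃ r, Fintype.card F - 1 = 2 * r := ⟨(Fintype.card F - 1) / 2, by omega⟩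
      rw [hcard, ← hn, hr, Nat.factorization_mul (by omega) (Nat.mul_ne_zero (by omega) (by omega)),
        Nat.factorization_mul (by omega) (by omega),
        Nat.factorization_mul (a := 2) (b := r) (by norm_num) (by omega)]
      simp only [Finsupp.add_apply]
      rw [Nat.factorization_eq_zero_of_not_dvd hqodd,
        Nat.factorization_eq_zero_of_not_dvd (n := r) (by omega),
        Nat.Prime.factorization_self Nat.prime_two]
      omega
  by_cases hpow : ∃ k : ℕ, 2 * n = 2 ^ k
  · have hnr := not_redundant_of_torus_pow_two n t ht hC hconj hfac hpow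
    constructor
    · intro h
      exact absurd h hnr
    · rintro ⟨hA, hC'⟩
      exfalso
      obtain ⟨k, hk⟩ := hpow
      rcases hcase with ⟨hq4, hn⟩ | ⟨hq4, hn⟩
      · exact hC' ⟨k, by omega⟩
      · exact hA ⟨k, by omega⟩
  · have hnpow : ¬ ∃ k : ℕ, n = 2 ^ k := by
      rintro ⟨k, hk⟩
      exact hpow ⟨k + 1, by rw [hk, pow_succ]; ring⟩
    constructor
    · intro _
      constructor
      · rintro ⟨k, hk⟩
        rcases hcase with ⟨hq4, hn⟩ | ⟨hq4, hn⟩
        · rcases k with _ | _ | k
          · simp at hk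
          · omega
          · have : 4 ∣ 2 ^ (k + 2) := ⟨2 ^ k, by ring⟩
            omega
        · exact hpow ⟨k, by omega⟩
      · rintro ⟨k, hk⟩
        rcases hcase with ⟨hq4, hn⟩ | ⟨hq4, hn⟩
        · exact hpow ⟨k, by omega⟩
        · rcases k with _ | _ | k
          · omega
          · exact hpow ⟨2, by omega⟩
          · have : 4 ∣ 2 ^ (k + 2) := ⟨2 ^ k, by ring⟩
            omega
    · intro _
      have h4 : 4 ∣ 2 * n := by
        obtain ⟨r, hr⟩ := heven
        exact ⟨r, by omega⟩
      obtain ⟨P₁, P₂, hne, hP⟩ := two_sylow_of_torus n t ht h4 hC hconj hcent hfac hnpow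
      apply redundant_of_two
      intro x hx
      -- conjugate `x` into the torus
      obtain ⟨g, hg⟩ : ∃ g : Matrix.SpecialLinearGroup (Fin 2) F,
          g * x * g⁻¹ ∈ Subgroup.zpowers t := by
        obtain ⟨k, hk⟩ := hx
        by_cases hxx : x * x = 1
        · refine ⟨1, ?_⟩
          rcases hinv x hxx with rfl | rfl
          · simp
          · simp
        · have hk2 : 2 ≤ k := by
            by_contra hlt
            have : k = 0 ∨ k = 1 := by omega
            rcases this with rfl | rfl
            · apply hxx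
              have : x = 1 := orderOf_eq_one_iff.mp (by simpa using hk)
              rw [this, one_mul]
            · apply hxx
              have := pow_orderOf_eq_one x
              rw [hk, pow_one, pow_two] at this
              exact this
          obtain ⟨j, rfl⟩ : ∃ j, k = j + 2 := ⟨k - 2, by omega⟩
          obtain ⟨y, hy⟩ : ∃ y, y = x ^ (2 ^ j) := ⟨_, rfl⟩
          have hy2 : y * y = x ^ (2 ^ (j + 1)) := by
            rw [hy, ← pow_add]
            congr 1
            ring
          have hyy : y * y ≠ 1 := by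
            rw [hy2]
            apply pow_ne_one_of_lt_orderOf (by positivity)
            rw [hk]
            exact Nat.pow_lt_pow_right (by norm_num) (by omega)
          have hy4 : y * y * (y * y) = 1 := by
            rw [hy2, ← pow_add]
            have : 2 ^ (j + 1) + 2 ^ (j + 1) = 2 ^ (j + 2) := by ring
            rw [this, ← hk]
            exact pow_orderOf_eq_one x
          have hym : y * y = -1 := by
            rcases sl_sq_eq_one_cases h2 (y * y) hy4 with h | h
            · exact absurd h hyy
            · exact h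
          have htry := sl_trace_zero_of_sq y hym
          obtain ⟨r, hr⟩ := heven
          have hy₀ : t ^ r * t ^ r = -1 := by
            rw [← pow_add, ← hr]
            apply Subtype.ext
            rw [htn, Matrix.SpecialLinearGroup.coe_neg, Matrix.SpecialLinearGroup.coe_one]
          have htr₀ := sl_trace_zero_of_sq (t ^ r) hy₀
          obtain ⟨g, hg⟩ := conj_of_trace_zero hodd y (t ^ r) htry htr₀
          refine ⟨g, ?_⟩
          apply hcent (t ^ r) (Subgroup.pow_mem _ (Subgroup.mem_zpowers t) r)
            (by rw [hy₀]; exact sl_neg_one_ne_one h2)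
          rw [← hg]
          have hcomm : x * y = y * x := by rw [hy, ← pow_succ', ← pow_succ]
          calc g * x * g⁻¹ * (g * y * g⁻¹) = g * (x * y) * g⁻¹ := by group
            _ = g * (y * x) * g⁻¹ := by rw [hcomm]
            _ = g * y * g⁻¹ * (g * x * g⁻¹) := by group
      have hord : ∃ k : ℕ, orderOf (g * x * g⁻¹) = 2 ^ k := by
        obtain ⟨k, hk⟩ := hx
        exact ⟨k, by rw [← hk]; exact MulEquiv.orderOf_eq (MulAut.conj g) x⟩
      obtain ⟨h1, h2'⟩ := hP _ hg hord
      refine ⟨g⁻¹ • P₁, g⁻¹ • P₂, ?_, ?_, ?_⟩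
      · intro h
        apply hne
        have := congrArg (fun P : Sylow 2 (Matrix.SpecialLinearGroup (Fin 2) F) => g • P) h
        simpa [smul_smul] using this
      · rw [sylow_mem_smul_iff, inv_inv]
        exact h1
      · rw [sylow_mem_smul_iff, inv_inv]
        exact h2'

/-- **Redundant Sylow subgroups of `SL₂(q)`.** -/
theorem sl2_redundant_iff (p : ℕ) [Fact p.Prime] :
    redundantSylow (Matrix.SpecialLinearGroup (Fin 2) F) p ↔
      (p = 2 ∧ (¬ ∃ k : ℕ, Fintype.card F + 1 = 2 ^ k) ∧ (¬ ∃ k : ℕ, Fintype.card F = 2 ^ k) ∧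
        ¬ ∃ k : ℕ, Fintype.card F = 2 ^ k + 1) := by
  obtain ⟨ℓ, hℓ⟩ := CharP.exists F
  have hℓp : Fact ℓ.Prime := ⟨CharP.char_is_prime F ℓ⟩
  obtain ⟨f, -, hf⟩ := FiniteField.card F ℓ
  by_cases hpℓ : p = ℓ
  · subst hpℓ
    constructor
    · intro h
      exact absurd h (sl2_char_not_redundant p)
    · rintro ⟨rfl, -, hB, -⟩
      exact absurd ⟨f, hf⟩ hB
  · by_cases hp2 : p = 2
    · subst hp2
      have hodd : Odd (Fintype.card F) := by
        rw [hf]
        apply Odd.pow
        exact hℓp.out.odd_of_ne_two (fun h => hpℓ h.symm)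
      rw [sl2_two_redundant_iff hodd]
      constructor
      · rintro ⟨hA, hC⟩
        refine ⟨rfl, hA, ?_, hC⟩
        rintro ⟨k, hk⟩
        rcases k with _ | k
        · have := Fintype.one_lt_card (α := F)
          omega
        · rw [hk] at hodd
          exact (Nat.not_odd_iff_even.mpr ⟨2 ^ k, by ring⟩) hodd
      · rintro ⟨-, hA, -, hC⟩
        exact ⟨hA, hC⟩
    · have hpq : ¬ p ∣ Fintype.card F := by
        rw [hf]
        intro h
        have := (Fact.out : p.Prime).dvd_of_dvd_pow h
        exact hpℓ ((Nat.prime_dvd_prime_iff_eq Fact.out hℓp.out).mp this)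
      constructor
      · intro h
        exact absurd h (sl2_odd_not_redundant p hp2 hpq)
      · rintro ⟨h, -⟩
        exact absurd h hp2

/-- **Redundant Sylow subgroups of `PSL₂(q)`.** -/
theorem psl2_redundant_iff (p : ℕ) [Fact p.Prime] :
    redundantSylow (Matrix.ProjectiveSpecialLinearGroup (Fin 2) F) p ↔
      (p = 2 ∧ (¬ ∃ k : ℕ, Fintype.card F + 1 = 2 ^ k) ∧ (¬ ∃ k : ℕ, Fintype.card F = 2 ^ k) ∧
        ¬ ∃ k : ℕ, Fintype.card F = 2 ^ k + 1) := by
  rw [← sl2_redundant_iff p]
  exact redundant_quotient_center_iff p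

end SL2Redundant

end Cfsg.Agent.Lib.helper46
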