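import Mathlib
import Cfsg.Agent.Lib.helper49.SPEDefs

/-!
# S2333, piece ECOUNT: there are at least `(q^n - 1)(q^n - q)` independent pairs in `F^n`
-/

set_option autoImplicit false

namespace Cfsg.Agent.Lib.helper49.SPE

open Matrix

theorem helper46_indep_of {F : Type*} [Field F] {n : ℕ} (u v : Fin n → F) (hu : u ≠ 0)
    (hv : ∀ κ : F, v ≠ κ • u) : Indep u v := by
  intro s t hst
  by_cases ht : t = 0
  · rw [ht, zero_smul, add_zero] at hst
    rcases smul_eq_zero.1 hst with h1 | h1
    · exact ⟨h1, ht⟩
    · exact absurd h1 hu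
  · exfalso
    apply hv (-(t⁻¹ * s))
    have h1 : t • v = -(s • u) := eq_neg_of_add_eq_zero_right hst
    calc v = t⁻¹ • (t • v) := by rw [smul_smul, inv_mul_cancel₀ ht, one_smul]
      _ = t⁻¹ • (-(s • u)) := by rw [h1]
      _ = (-(t⁻¹ * s)) • u := by rw [smul_neg, smul_smul, neg_smul]

/-- ECOUNT (L) -/
theorem card_indep {F : Type*} [Field F] [Fintype F] {n : ℕ} :
    (Fintype.card F ^ n - 1) * (Fintype.card F ^ n - Fintype.card F) ≤
      Nat.card {p : (Fin n → F) × (Fin n → F) // Indep p.1 p.2} := by
  classical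
  have hcardV : Fintype.card (Fin n → F) = Fintype.card F ^ n := by
    rw [Fintype.card_fun, Fintype.card_fin]
  have hline : ∀ u : Fin n → F, u ≠ 0 →
      (Finset.univ.image (fun κ : F => κ • u)).card = Fintype.card F := by
    intro u hu
    rw [Finset.card_image_of_injective, Finset.card_univ]
    intro κ κ' h
    by_contra hne
    apply hu
    have h0 : κ • u = κ' • u := h
    have h1 : (κ - κ') • u = 0 := by rw [sub_smul, h0, sub_self]
    rcases smul_eq_zero.1 h1 with h2 | h2
    · exact absurd (sub_eq_zero.1 h2) hne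
    · exact h2
  let S : Finset (Σ _ : Fin n → F, Fin n → F) :=
    (Finset.univ.filter (fun u : Fin n → F => u ≠ 0)).sigma
      (fun u => Finset.univ \ Finset.univ.image (fun κ : F => κ • u))
  have hS : S.card = (Fintype.card F ^ n - 1) * (Fintype.card F ^ n - Fintype.card F) := by
    rw [Finset.card_sigma]
    rw [Finset.sum_const_nat (m := Fintype.card F ^ n - Fintype.card F)]
    · rw [Finset.filter_ne' Finset.univ (0 : Fin n → F),
        Finset.card_erase_of_mem (Finset.mem_univ _), Finset.card_univ, hcardV]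
    · intro u hu
      rw [Finset.mem_filter] at hu
      rw [Finset.card_univ_sdiff, hline u hu.2, hcardV]
  let T : Finset ((Fin n → F) × (Fin n → F)) :=
    Finset.univ.filter (fun p : (Fin n → F) × (Fin n → F) => Indep p.1 p.2)
  have hST : S.card ≤ T.card := by
    apply Finset.card_le_card_of_injOn (fun x => (x.1, x.2))
    · intro x hx
      have hx' : x ∈ S := hx
      rw [Finset.mem_sigma, Finset.mem_filter, Finset.mem_sdiff, Finset.mem_image] at hx'
      obtain ⟨⟨-, hu⟩, -, hv⟩ := hx'
      have hmem : ((x.1, x.2) : (Fin n → F) × (Fin n → F)) ∈ T := by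
        rw [Finset.mem_filter]
        refine ⟨Finset.mem_univ _, helper46_indep_of x.1 x.2 hu ?_⟩
        intro κ hκ
        exact hv ⟨κ, Finset.mem_univ _, hκ.symm⟩
      exact hmem
    · intro x _ y _ hxy
      have h1 : x.1 = y.1 := congrArg Prod.fst hxy
      have h2 : x.2 = y.2 := congrArg Prod.snd hxy
      exact Sigma.ext h1 (heq_of_eq h2)
  rw [Nat.card_eq_fintype_card, Fintype.card_subtype, ← hS]
  exact hST

end Cfsg.Agent.Lib.helper49.SPE
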