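import Mathlib
import Cfsg.Agent.S0270
import Cfsg.Agent.Lib.helper4.CharTheory
import Cfsg.Agent.Lib.helper49.SPEDefs

/-!
# S2333, piece NT: an irreducible complex representation of degree at least 2 of `Sp_{2n}(F)`
is non-trivial on every non-central element
-/

set_option autoImplicit false

namespace Cfsg.Agent.Lib.helper49.SPE

open Matrix

/-- NT (M) -/
theorem rep_ne_one {F : Type*} [Field F] [Fintype F] [DecidableEq F] {n : ℕ} (hn : 2 ≤ n)
    (hex : (n, Fintype.card F) ≠ (2, 2)) {k : ℕ} (hk : 2 ≤ k)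
    (ρ : Representation ℂ ↥(Matrix.symplecticGroup (Fin n) F) (Fin k → ℂ)) (hρ : ρ.IsIrreducible)
    (g : ↥(Matrix.symplecticGroup (Fin n) F))
    (hg : g ∉ Subgroup.center ↥(Matrix.symplecticGroup (Fin n) F)) : ρ g ≠ 1 := by
  classical
  intro h1
  let _ : Fintype ↥(Matrix.symplecticGroup (Fin n) F) := Fintype.ofFinite _
  have hq2 : 2 ≤ Fintype.card F := Fintype.one_lt_card
  have hperf : commutator (Matrix.symplecticGroup (Fin n) F) = ⊤ := by
    apply Cfsg.Agent.S0269.result n
    by_cases h3 : 3 ≤ n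
    · exact Or.inl h3
    · have hn2 : n = 2 := by omega
      refine Or.inr (Or.inl ⟨hn2, ?_⟩)
      by_contra hlt
      apply hex
      have h4 : Fintype.card F = 2 := by omega
      rw [hn2, h4]
  have hker : MonoidHom.ker ρ = ⊤ := by
    have : (MonoidHom.ker ρ).Normal := MonoidHom.normal_ker ρ
    apply Cfsg.Agent.S0270.sp_normal n (MonoidHom.ker ρ) _ hperf
    intro hle
    apply hg
    apply hle
    rw [MonoidHom.mem_ker]
    exact h1
  have hdeg : ρ.character 1 = (k : ℂ) := by
    rw [Representation.char_one]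
    simp
  have hall : ∀ x : ↥(Matrix.symplecticGroup (Fin n) F), ρ.character x = (k : ℂ) := by
    intro x
    have hx : x ∈ MonoidHom.ker ρ := by
      rw [hker]
      trivial
    rw [MonoidHom.mem_ker] at hx
    show LinearMap.trace ℂ _ (ρ x) = (k : ℂ)
    rw [hx, ← map_one ρ]
    exact hdeg
  have hχirr : Cfsg.IsIrrCharacter ↥(Matrix.symplecticGroup (Fin n) F) ρ.character :=
    ⟨k, ρ, hρ, rfl⟩
  have hinner := Cfsg.Agent.Lib.helper4.classInner_irr_self hχirr
  unfold Cfsg.classInner at hinner
  simp only [hall] at hinner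
  have hcard : (Nat.card ↥(Matrix.symplecticGroup (Fin n) F) : ℂ) ≠ 0 := by
    exact_mod_cast Nat.card_pos.ne'
  rw [Finset.sum_const, Finset.card_univ, ← Nat.card_eq_fintype_card, nsmul_eq_mul,
    ← mul_assoc, inv_mul_cancel₀ hcard, one_mul] at hinner
  simp only [map_natCast] at hinner
  have hk1 : k * k = 1 := by exact_mod_cast hinner
  nlinarith

end Cfsg.Agent.Lib.helper49.SPE
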