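import Mathlib
import Cfsg.Agent.Lib.helper24.SffDefs
import Cfsg.Agent.Lib.helper32.SffCRIT

/-! S5965 split (helper24), piece DIAG (helper46 copy, prefixed name): the diagonal criterion. -/

set_option autoImplicit false

namespace Cfsg.Agent.Lib.helper24

open Module Matrix

/-- Nullity of a diagonal matrix. -/
theorem h46_finrank_ker_diagonal {F : Type*} [Field F] [DecidableEq F] {n : ℕ}
    (d : Fin n → F) :
    Module.finrank F (LinearMap.ker (Matrix.toLin' (Matrix.diagonal d))) =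
      (Finset.univ.filter (fun j => d j = 0)).card := by
  classical
  have h1 := LinearMap.finrank_range_add_finrank_ker (Matrix.toLin' (Matrix.diagonal d))
  have h2 : Module.finrank F (LinearMap.range (Matrix.toLin' (Matrix.diagonal d))) =
      (Matrix.diagonal d).rank := by
    rw [Matrix.toLin'_apply']
    rfl
  have h3 : (Matrix.diagonal d).rank + (Finset.univ.filter (fun j => d j = 0)).card = n := by
    rw [Matrix.rank_diagonal, Fintype.card_subtype]
    have h4 := Finset.card_filter_add_card_filter_not (s := (Finset.univ : Finset (Fin n)))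
      (fun j => d j = 0)
    rw [Finset.card_univ, Fintype.card_fin] at h4
    rw [add_comm]
    convert h4 using 2
  rw [Module.finrank_fin_fun, h2] at h1
  omega

/-- Powers of a matrix over a subfield stay over the subfield. -/
theorem h46_pow_mem_subfield {F : Type*} [Field F] (F₀ : Subfield F) {n : ℕ}
    (M : Matrix (Fin n) (Fin n) F) (hM : ∀ i j, M i j ∈ F₀) (k : ℕ) :
    ∀ i j, (M ^ k) i j ∈ F₀ := by
  classical
  induction k with
  | zero =>
    intro i j
    rw [pow_zero, Matrix.one_apply]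
    split_ifs
    · exact F₀.one_mem
    · exact F₀.zero_mem
  | succ k ih =>
    intro i j
    rw [pow_succ, Matrix.mul_apply]
    exact F₀.sum_mem (fun l _ => F₀.mul_mem (ih i l) (hM l j))

/-- DIAG (helper46 copy). -/
theorem h46_sff_diag_crit {F : Type*} [Field F] [Fintype F] (F₀ : Subfield F) {n : ℕ} (r : ℕ)
    [Fact r.Prime] (ζ : F) (hζ : orderOf ζ = r) (a : Fin n → ZMod r) (w : F) (hw : w ≠ 0)
    (h : SffWeakConj F₀ (w • Matrix.diagonal (fun j => ζ ^ (a j).val))) :
    ∃ c : ZMod r, ∀ b : ZMod r, (Finset.univ.filter (fun j => a j = b)).card =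
      (Finset.univ.filter (fun j => a j = (Nat.card F₀ : ZMod r) * b + c)).card := by
  classical
  have hr : r.Prime := Fact.out
  have hrne : NeZero r := ⟨hr.ne_zero⟩
  rcases Nat.eq_zero_or_pos n with hn0 | hnpos
  · subst hn0
    exact ⟨0, fun b => by simp⟩
  obtain ⟨P, M₀, σ, hP, hσ, hM₀, hx⟩ := h
  have hprim : IsPrimitiveRoot ζ r := hζ ▸ IsPrimitiveRoot.orderOf ζ
  have hζr : ζ ^ r = 1 := hprim.pow_eq_one
  -- x ^ r = w ^ r • 1
  have hpow : (w • Matrix.diagonal (fun j => ζ ^ (a j).val)) ^ r =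
      (w ^ r) • (1 : Matrix (Fin n) (Fin n) F) := by
    rw [smul_pow, Matrix.diagonal_pow]
    congr 1
    rw [← Matrix.diagonal_one]
    congr 1
    funext j
    simp only [Pi.pow_apply]
    rw [← pow_mul, mul_comm, pow_mul, hζr, one_pow]
  -- x ^ k * P = P * (σ • M₀) ^ k
  have hconj : ∀ k : ℕ, (w • Matrix.diagonal (fun j => ζ ^ (a j).val)) ^ k * P =
      P * (σ • M₀) ^ k := by
    intro k
    induction k with
    | zero => rw [pow_zero, pow_zero, one_mul, mul_one]
    | succ k ih => rw [pow_succ, mul_assoc, hx, ← mul_assoc, ih, mul_assoc, ← pow_succ]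
  have hPunit : IsUnit P.det := isUnit_iff_ne_zero.mpr hP
  have hM₀r : M₀ ^ r = ((w / σ) ^ r) • (1 : Matrix (Fin n) (Fin n) F) := by
    have h5 := hconj r
    rw [hpow, smul_pow] at h5
    have h6 : P⁻¹ * ((w ^ r • (1 : Matrix (Fin n) (Fin n) F)) * P) =
        P⁻¹ * (P * (σ ^ r • M₀ ^ r)) := by rw [h5]
    rw [← mul_assoc P⁻¹ P, Matrix.nonsing_inv_mul P hPunit, one_mul, Matrix.smul_mul, one_mul,
      Matrix.mul_smul, Matrix.nonsing_inv_mul P hPunit] at h6
    have hσr : σ ^ r ≠ 0 := pow_ne_zero r hσ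
    have h7 : M₀ ^ r = (σ ^ r)⁻¹ • (σ ^ r • M₀ ^ r) := by
      rw [smul_smul, inv_mul_cancel₀ hσr, one_smul]
    rw [h7, ← h6, smul_smul, div_pow, div_eq_inv_mul]
  obtain ⟨τ, hτ⟩ : ∃ τ : F, τ = w / σ := ⟨_, rfl⟩
  have hτ0 : τ ≠ 0 := by
    rw [hτ]
    exact div_ne_zero hw hσ
  rw [← hτ] at hM₀r
  have hτmem : τ ^ r ∈ F₀ := by
    have h5 := h46_pow_mem_subfield F₀ M₀ hM₀ r ⟨0, hnpos⟩ ⟨0, hnpos⟩
    rw [hM₀r, Matrix.smul_apply, Matrix.one_apply_eq, smul_eq_mul, mul_one] at h5
    exact h5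
  have hq0pos : 0 < Nat.card F₀ := Nat.card_pos
  have hfrob : ∀ t : F, t ∈ F₀ → t ^ Nat.card F₀ = t := by
    intro t ht
    have : Fintype F₀ := Fintype.ofFinite F₀
    have h5 := FiniteField.pow_card (⟨t, ht⟩ : F₀)
    rw [← Nat.card_eq_fintype_card] at h5
    have h6 := congrArg (fun u : F₀ => (u : F)) h5
    simpa using h6
  obtain ⟨θ, hθ⟩ : ∃ θ : F, θ = τ ^ (Nat.card F₀ - 1) := ⟨_, rfl⟩
  have hθr : θ ^ r = 1 := by
    have h5 := hfrob _ hτmem
    have h6 : τ ^ r * θ ^ r = τ ^ r * 1 := by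
      rw [mul_one, hθ, ← pow_mul, ← pow_add]
      have h7 : r + (Nat.card F₀ - 1) * r = r * Nat.card F₀ := by
        have h8 : Nat.card F₀ = (Nat.card F₀ - 1) + 1 := by omega
        conv_rhs => rw [h8]
        ring
      rw [h7, pow_mul]
      exact h5
    exact mul_left_cancel₀ (pow_ne_zero r hτ0) h6
  obtain ⟨c', _, hc'⟩ := hprim.eq_pow_of_pow_eq_one hθr
  have hτq : τ ^ Nat.card F₀ = τ * θ := by
    rw [hθ, ← pow_succ']
    congr 1
    omega
  -- reduction of exponents
  have hexp : ∀ m : ℕ, ζ ^ m = ζ ^ ((m : ZMod r)).val := by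
    intro m
    rw [ZMod.val_natCast]
    have := pow_mod_orderOf ζ m
    rw [hζ] at this
    exact this.symm
  -- kernel dimension for the diagonal matrix
  have hker : ∀ e : ZMod r,
      Module.finrank F (LinearMap.ker (Matrix.toLin' (w • Matrix.diagonal
        (fun j => ζ ^ (a j).val)) - (w * ζ ^ e.val) • 1)) =
      (Finset.univ.filter (fun j => a j = e)).card := by
    intro e
    have h5 : Matrix.toLin' (w • Matrix.diagonal (fun j => ζ ^ (a j).val)) -
        (w * ζ ^ e.val) • (1 : Module.End F (Fin n → F)) =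
        Matrix.toLin' (Matrix.diagonal (fun j => w * ζ ^ (a j).val - w * ζ ^ e.val)) := by
      have h6 : (Matrix.diagonal (fun j => w * ζ ^ (a j).val - w * ζ ^ e.val) :
          Matrix (Fin n) (Fin n) F) =
          w • Matrix.diagonal (fun j => ζ ^ (a j).val) -
            (w * ζ ^ e.val) • (1 : Matrix (Fin n) (Fin n) F) := by
        rw [← Matrix.diagonal_one, ← Matrix.diagonal_smul, ← Matrix.diagonal_smul,
          Matrix.diagonal_sub]
        congr 1
        funext j
        simp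
      rw [h6, map_sub, map_smul, map_smul, Matrix.toLin'_one]
      rfl
    rw [h5, h46_finrank_ker_diagonal]
    apply congrArg Finset.card
    ext j
    simp only [Finset.mem_filter, Finset.mem_univ, true_and]
    constructor
    · intro h7
      have h8 : ζ ^ (a j).val = ζ ^ e.val := by
        have h9 : w * ζ ^ (a j).val = w * ζ ^ e.val := sub_eq_zero.mp h7
        exact mul_left_cancel₀ hw h9
      exact ZMod.val_injective r (hprim.pow_inj (ZMod.val_lt _) (ZMod.val_lt _) h8)
    · intro h7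
      rw [h7, sub_self]
  refine ⟨(c' : ZMod r), fun b => ?_⟩
  rw [← hker b, ← hker ((Nat.card F₀ : ZMod r) * b + (c' : ZMod r))]
  have hcrit := sff_crit F₀ (w • Matrix.diagonal (fun j => ζ ^ (a j).val)) P M₀ σ hP hσ hM₀ hx
    (w * ζ ^ b.val)
  rw [hcrit]
  have h5 : σ * (w * ζ ^ b.val / σ) ^ Nat.card F₀ =
      w * ζ ^ ((Nat.card F₀ : ZMod r) * b + (c' : ZMod r)).val := by
    have h6 : w * ζ ^ b.val / σ = τ * ζ ^ b.val := by
      rw [hτ]
      field_simp
    have h7 : ((Nat.card F₀ : ZMod r) * b + (c' : ZMod r)) =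
        ((Nat.card F₀ * b.val + c' : ℕ) : ZMod r) := by
      rw [Nat.cast_add, Nat.cast_mul, ZMod.natCast_zmod_val]
    rw [h6, mul_pow, hτq, h7, ← hexp, ← hc', ← pow_mul, pow_add, hτ]
    field_simp
    ring
  rw [h5]

end Cfsg.Agent.Lib.helper24
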