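/-
S5988 piece PT (helper99's split): `sre_plus_ty`, characteristic-free, by a direct count:
`W = U₁ ⊕ U₀` with `U₀` totally singular, `Q (y + x) = Q y + ω (y, x)`, and the pairing
`U₁ × U₀ → F` is perfect.
-/
import Mathlib
import Cfsg.Agent.Lib.helper24.SroReal

set_option autoImplicit false
set_option linter.unusedSectionVars false
set_option linter.unusedVariables false

namespace Cfsg.Agent.Lib.helper46

open Module Cfsg.Agent.Lib.helper24 Cfsg.Agent.Lib.helper45 Cfsg.Agent.Lib.helper49

universe u

section generic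

variable {F : Type u} [Field F] [Fintype F]

/-- twisted version of helper45 `unif_pairing`: the value distribution of
`(x, y) ↦ g x + b x y` for a pairing `b` separating the points of `X` and `g 0 = 0`. -/
theorem sre46_unif_pairing_twist {X Y : Type*} [AddCommGroup X] [Module F X] [AddCommGroup Y]
    [Module F Y] [Finite X] [Finite Y] (b : X →ₗ[F] Y →ₗ[F] F) (hb : ∀ x, x ≠ 0 → b x ≠ 0)
    (hcard : Nat.card X = Nat.card Y) (g : X → F) (hg : g 0 = 0) :
    Unif (Nat.card X : ℤ) (fun c => Nat.card {p : X × Y // g p.1 + b p.1 p.2 = c}) := by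
  classical
  intro c
  have := Fintype.ofFinite X
  have h1 : Nat.card {p : X × Y // g p.1 + b p.1 p.2 = c} =
      ∑ x : X, Nat.card {y : Y // g x + b x y = c} := by
    rw [← Nat.card_sigma]
    exact Nat.card_congr (Equiv.subtypeProdEquivSigmaSubtype (fun x y => g x + b x y = c))
  have h2 : ∀ x : X, x ≠ 0 →
      Fintype.card F * Nat.card {y : Y // g x + b x y = c} = Nat.card Y := by
    intro x hx
    have h := card_fiber_functional (b x) (hb x hx) (c - g x)
    rw [← h]
    congr 1
    apply Nat.card_congr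
    refine Equiv.subtypeEquivRight (fun y => ?_)
    constructor
    · intro h'
      rw [← h']
      ring
    · intro h'
      rw [h']
      ring
  have h3 : Nat.card {y : Y // g 0 + b 0 y = c} = if c = 0 then Nat.card Y else 0 := by
    by_cases hc : c = 0
    · rw [if_pos hc]
      apply Nat.card_congr
      exact (Equiv.subtypeUnivEquiv (fun y => by
        rw [hg, map_zero, LinearMap.zero_apply, hc, add_zero]))
    · rw [if_neg hc]
      have : IsEmpty {y : Y // g 0 + b 0 y = c} :=
        ⟨fun ⟨y, hy⟩ => hc (by rw [← hy, hg, map_zero, LinearMap.zero_apply, add_zero])⟩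
      exact Nat.card_of_isEmpty
  show (Fintype.card F : ℤ) * ((Nat.card {p : X × Y // g p.1 + b p.1 p.2 = c} : ℕ) : ℤ)
    = (Nat.card X : ℤ) ^ 2
      + (Nat.card X : ℤ) * ((if c = 0 then (Fintype.card F : ℤ) else 0) - 1)
  rw [h1, ← Finset.add_sum_erase Finset.univ _ (Finset.mem_univ (0 : X))]
  push_cast
  rw [mul_add, Finset.mul_sum]
  have h4 : ∀ x ∈ Finset.univ.erase (0 : X),
      (Fintype.card F : ℤ) * (Nat.card {y : Y // g x + b x y = c} : ℤ) = (Nat.card Y : ℤ) := by
    intro x hx
    exact_mod_cast h2 x (Finset.ne_of_mem_erase hx)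
  have hX : Fintype.card X = Nat.card X := Nat.card_eq_fintype_card.symm
  rw [Finset.sum_congr rfl h4, Finset.sum_const, Finset.card_erase_of_mem (Finset.mem_univ _),
    Finset.card_univ, h3, ← hcard, hX]
  have hpos : 1 ≤ Nat.card X := Nat.card_pos
  rw [nsmul_eq_mul, Nat.cast_sub hpos]
  by_cases hc : c = 0
  · rw [if_pos hc, if_pos hc]
    push_cast
    ring
  · rw [if_neg hc, if_neg hc]
    push_cast
    ring

/-- A nondegenerate subspace with a totally singular subspace of half its dimension has type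
`+1`, in every characteristic. -/
theorem sre_plus_ty {V : Type u} [AddCommGroup V] [Module F V] [FiniteDimensional F V]
    (Q : QuadraticForm F V) (W : Submodule F V)
    (hW : SpNd (QuadraticMap.polarBilin Q) W) (hpl : SrPlus Q W) : SrTy Q W 1 := by
  classical
  obtain ⟨U, hUW, hU, hUdim⟩ := hpl
  obtain ⟨e, he⟩ : ∃ e, e = finrank F U := ⟨_, rfl⟩
  have hdim : finrank F W = 2 * e := by omega
  have : Finite V := Module.finite_of_finite F
  have hUU : ∀ u ∈ U, ∀ v ∈ U, QuadraticMap.polar Q u v = 0 := by
    intro u hu v hv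
    unfold QuadraticMap.polar
    rw [hU _ (U.add_mem hu hv), hU _ hu, hU _ hv]
    ring
  obtain ⟨U₀, hU₀⟩ : ∃ U₀ : Submodule F W, U₀ = U.comap W.subtype := ⟨_, rfl⟩
  have hU₀mem : ∀ x : W, x ∈ U₀ → (x : V) ∈ U := by
    intro x hx
    rw [hU₀] at hx
    exact hx
  have hU₀dim : finrank F U₀ = e := by
    rw [hU₀, he]
    exact LinearEquiv.finrank_eq (Submodule.comapSubtypeEquivOfLe hUW)
  obtain ⟨U₁, hc⟩ := Submodule.exists_isCompl U₀
  have hU₁dim : finrank F U₁ = e := by
    have := Submodule.finrank_add_eq_of_isCompl hc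
    omega
  obtain ⟨b, hb⟩ : ∃ b : U₁ →ₗ[F] U₀ →ₗ[F] F, ∀ (y : U₁) (x : U₀),
      b y x = QuadraticMap.polar Q ((y : W) : V) ((x : W) : V) :=
    ⟨(QuadraticMap.polarBilin Q).compl₁₂ (W.subtype.comp U₁.subtype)
      (W.subtype.comp U₀.subtype), fun y x => rfl⟩
  have hinj : Function.Injective b.flip := by
    rw [injective_iff_map_eq_zero]
    intro x hx
    have hx0 : ((x : W) : V) = 0 := by
      apply hW _ (x : W).2
      intro w hw
      rw [QuadraticMap.polarBilin_apply_apply]
      have hmem : (⟨w, hw⟩ : W) ∈ U₀ ⊔ U₁ := by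
        rw [hc.sup_eq_top]
        exact Submodule.mem_top
      obtain ⟨x', hx', y', hy', hsum⟩ := Submodule.mem_sup.mp hmem
      have hw' : w = (x' : V) + (y' : V) := by
        have h := congrArg Subtype.val hsum
        rw [Submodule.coe_add] at h
        exact h.symm
      rw [hw', QuadraticMap.polar_add_right]
      have h1 : QuadraticMap.polar Q ((x : W) : V) (x' : V) = 0 :=
        hUU _ (hU₀mem _ x.2) _ (hU₀mem _ hx')
      have h2 : QuadraticMap.polar Q ((x : W) : V) (y' : V) = 0 := by
        have h := congrArg (fun φ : U₁ →ₗ[F] F => φ ⟨y', hy'⟩) hx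
        simp only [LinearMap.flip_apply, LinearMap.zero_apply] at h
        rw [hb] at h
        rw [QuadraticMap.polar_comm]
        exact h
      rw [h1, h2, add_zero]
    exact Subtype.ext (Subtype.ext hx0)
  have hsurj : Function.Surjective b.flip := by
    refine (LinearMap.injective_iff_surjective_of_finrank_eq_finrank ?_).mp hinj
    rw [hU₀dim]
    exact (Subspace.dual_finrank_eq.trans hU₁dim).symm
  have hbnz : ∀ y : U₁, y ≠ 0 → b y ≠ 0 := by
    intro y hy hby
    apply hy
    rw [← Module.forall_dual_apply_eq_zero_iff F y]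
    intro φ
    obtain ⟨x, rfl⟩ := hsurj φ
    rw [LinearMap.flip_apply, hby, LinearMap.zero_apply]
  have hcardX : Nat.card U₁ = Fintype.card F ^ e := by
    rw [← hU₁dim, Module.natCard_eq_pow_finrank (K := F), Nat.card_eq_fintype_card]
  have hcardY : Nat.card U₀ = Fintype.card F ^ e := by
    rw [← hU₀dim, Module.natCard_eq_pow_finrank (K := F), Nat.card_eq_fintype_card]
  have key := sre46_unif_pairing_twist b hbnz (hcardX.trans hcardY.symm)
    (fun y => Q ((y : W) : V)) (by simp)
  have hnu : srNu Q W =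
      fun c => Nat.card {p : U₁ × U₀ // Q ((p.1 : W) : V) + b p.1 p.2 = c} := by
    funext c
    unfold srNu
    apply Nat.card_congr
    refine (Equiv.subtypeEquiv (Submodule.prodEquivOfIsCompl U₁ U₀ hc.symm).toEquiv
      (fun p => ?_)).symm
    rw [LinearEquiv.coe_toEquiv, Submodule.coe_prodEquivOfIsCompl', QuadraticMap.comp_apply, hb]
    have h0 : Q ((p.2 : W) : V) = 0 := hU _ (hU₀mem _ p.2.2)
    have hQ : Q (W.subtype ((p.1 : W) + (p.2 : W))) =
        Q ((p.1 : W) : V) + QuadraticMap.polar Q ((p.1 : W) : V) ((p.2 : W) : V) := by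
      rw [map_add]
      unfold QuadraticMap.polar
      simp only [Submodule.subtype_apply]
      rw [h0]
      ring
    rw [hQ]
  have h2e : finrank F W / 2 = e := by omega
  have hcast : ((Nat.card U₁ : ℕ) : ℤ) = (Fintype.card F : ℤ) ^ e := by
    rw [hcardX]
    push_cast
    rfl
  unfold SrTy
  rw [h2e, one_mul, hnu, ← hcast]
  exact key

end generic

end Cfsg.Agent.Lib.helper46
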