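/-
S5988 piece UGEN (helper99's split): `sre_unip_generic`.
-/
import Mathlib
import Cfsg.Agent.Lib.helper24.SroReal

set_option autoImplicit false
set_option linter.unusedSectionVars false
set_option linter.unusedVariables false

namespace Cfsg.Agent.Lib.helper46

open Module Cfsg.Agent.Lib.helper24 Cfsg.Agent.Lib.helper45 Cfsg.Agent.Lib.helper49

universe u

section generic

variable {F : Type u} [Field F] [Fintype F]

/-- a subspace of every smaller dimension -/
theorem sre46_exists_sub_finrank {V : Type u} [AddCommGroup V] [Module F V]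
    [FiniteDimensional F V] (E : Submodule F V) (m : ℕ) (hm : m ≤ finrank F E) :
    ∃ W : Submodule F V, W ≤ E ∧ finrank F W = m := by
  classical
  obtain ⟨b, -⟩ : ∃ b : Basis (Fin (finrank F E)) F E, b = Module.finBasis F E := ⟨_, rfl⟩
  have h1 : LinearIndependent F (fun i : Fin m => b (Fin.castLE hm i)) :=
    b.linearIndependent.comp _ (Fin.castLE_injective hm)
  have hli : LinearIndependent F (fun i : Fin m => ((b (Fin.castLE hm i) : E) : V)) :=
    h1.map' E.subtype (Submodule.ker_subtype E)
  refine ⟨Submodule.span F (Set.range (fun i : Fin m => ((b (Fin.castLE hm i) : E) : V))),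
    ?_, ?_⟩
  · rw [Submodule.span_le]
    rintro _ ⟨i, rfl⟩
    exact (b (Fin.castLE hm i)).2
  · rw [finrank_span_eq_card hli, Fintype.card_fin]

/-- rank-nullity for the restriction of an endomorphism to a subspace -/
theorem sre46_rank_nullity {V : Type u} [AddCommGroup V] [Module F V] [FiniteDimensional F V]
    (N : V →ₗ[F] V) (W : Submodule F V) :
    finrank F ↥(W.map N) + finrank F ↥(W ⊓ LinearMap.ker N) = finrank F W := by
  have h1 := LinearMap.finrank_range_add_finrank_ker (N.comp W.subtype)
  have h2 : LinearMap.range (N.comp W.subtype) = W.map N := by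
    rw [LinearMap.range_comp, Submodule.range_subtype]
  have h3 : finrank F ↥(LinearMap.ker (N.comp W.subtype)) = finrank F ↥(W ⊓ LinearMap.ker N) := by
    rw [LinearMap.ker_comp, ← Submodule.map_comap_subtype]
    exact (Submodule.equivSubtypeMap W _).finrank_eq
  rw [h2, h3] at h1
  exact h1

/-- UGEN: if `Q (T v - v) = 0` for all `v` and `ker (T - 1)` contains a totally singular
subspace `S` of codimension at most one, then every `T`-invariant subspace `W` of even
dimension contains a totally singular subspace of half its dimension, namely inside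
`(T - 1) W + (W ∩ S)`. -/
theorem sre_unip_generic {V : Type u} [AddCommGroup V] [Module F V] [FiniteDimensional F V]
    (Q : QuadraticForm F V) (T : Module.End F V) (hT : ∀ v, Q (T v) = Q v)
    (hN : ∀ v, Q (T v - v) = 0) (S : Submodule F V) (hS : ∀ s ∈ S, Q s = 0)
    (hSK : S ≤ LinearMap.ker (T - 1))
    (hdim : finrank F (LinearMap.ker (T - 1)) ≤ finrank F S + 1)
    (W : Submodule F V) (hWinv : ∀ w ∈ W, T w ∈ W) (hev : Even (finrank F W)) :
    SrPlus Q W := by
  obtain ⟨N, hNdef⟩ : ∃ N : V →ₗ[F] V, N = T - 1 := ⟨_, rfl⟩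
  rw [← hNdef] at hSK hdim
  have hNapp : ∀ v, N v = T v - v := fun v => by
    rw [hNdef, LinearMap.sub_apply]; rfl
  obtain ⟨U₀, hU₀⟩ : ∃ U₀ : Submodule F V, U₀ = W.map N ⊔ (W ⊓ S) := ⟨_, rfl⟩
  have hU₀W : U₀ ≤ W := by
    rw [hU₀]
    apply sup_le
    · rintro x ⟨w, hw, rfl⟩
      rw [hNapp]
      exact W.sub_mem (hWinv w hw) hw
    · exact inf_le_left
  have hpol : ∀ a b, QuadraticMap.polar Q (T a) (T b) = QuadraticMap.polar Q a b := by
    intro a b
    unfold QuadraticMap.polar
    rw [← map_add, hT, hT, hT]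
  have hU₀s : ∀ x ∈ U₀, Q x = 0 := by
    intro x hx
    rw [hU₀] at hx
    obtain ⟨y, hy, s, hs, rfl⟩ := Submodule.mem_sup.mp hx
    obtain ⟨w, hw, rfl⟩ := hy
    have hsS : s ∈ S := hs.2
    have hTs : T s = s := by
      have h1 := hSK hsS
      rw [LinearMap.mem_ker, hNapp] at h1
      exact sub_eq_zero.mp h1
    have h1 : Q (N w + s) = Q (N w) + Q s + QuadraticMap.polar Q (N w) s := by
      unfold QuadraticMap.polar
      ring
    have h2 : QuadraticMap.polar Q (T w) s = QuadraticMap.polar Q w s := by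
      conv_lhs => rw [← hTs]
      exact hpol w s
    rw [h1, hNapp, hN, hS s hsS, QuadraticMap.polar_sub_left, h2, sub_self, add_zero, add_zero]
  obtain ⟨n, hn⟩ := hev
  have hge : n ≤ finrank F U₀ := by
    have hrn := sre46_rank_nullity N W
    have hcod : finrank F ↥(W ⊓ LinearMap.ker N) ≤ finrank F ↥(W ⊓ S) + 1 := by
      have h1 := Submodule.finrank_sup_add_finrank_inf_eq (W ⊓ LinearMap.ker N) S
      have h2 : (W ⊓ LinearMap.ker N) ⊓ S = W ⊓ S := by
        rw [inf_assoc, inf_eq_right.mpr hSK]
      have h3 : finrank F ↥((W ⊓ LinearMap.ker N) ⊔ S) ≤ finrank F ↥(LinearMap.ker N) :=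
        Submodule.finrank_mono (sup_le inf_le_right hSK)
      rw [h2] at h1
      omega
    have h1 : finrank F ↥(W.map N) ≤ finrank F U₀ := by
      rw [hU₀]; exact Submodule.finrank_mono le_sup_left
    have h2 : finrank F ↥(W ⊓ S) ≤ finrank F U₀ := by
      rw [hU₀]; exact Submodule.finrank_mono le_sup_right
    omega
  obtain ⟨U, hUU₀, hUdim⟩ := sre46_exists_sub_finrank U₀ n hge
  exact ⟨U, le_trans hUU₀ hU₀W, fun u hu => hU₀s u (hUU₀ hu), by rw [hUdim, hn]; ring⟩

end generic

end Cfsg.Agent.Lib.helper46
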