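import Mathlib
import Cfsg.Agent.Lib.helper50.T97GS
import Cfsg.Agent.Lib.helper57.T97FIX
import Cfsg.Agent.Lib.helper57.T97SQ1
import Cfsg.Agent.Lib.helper32.T97CHAR

/-!
# S3797 piece SQ2: an automorphism of odd prime order fixing `V` pointwise is trivial or
has all its fixed points in `V`.
-/

set_option autoImplicit false

namespace Cfsg.Agent.Lib.helper46.T97

/-- The arithmetic of the fixed-point count. -/
theorem sq2_arith (r n m : ℕ) (hrn : r ≤ n) (hn : n ≤ 3 * r) (hm : 2 * m = n + r)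
    (hdvd : (2 : ℤ) ^ (m + 1) ∣ 2 ^ (2 * r) - 2 ^ n + 2 ^ m) : n = r ∨ n = 3 * r := by
  by_contra hcon
  push Not at hcon
  obtain ⟨h1, h2⟩ := hcon
  have hm1 : m + 1 ≤ 2 * r := by omega
  have hm2 : m + 1 ≤ n := by omega
  have d1 : (2 : ℤ) ^ (m + 1) ∣ 2 ^ (2 * r) := pow_dvd_pow 2 hm1
  have d2 : (2 : ℤ) ^ (m + 1) ∣ 2 ^ n := pow_dvd_pow 2 hm2
  have d3 : (2 : ℤ) ^ (m + 1) ∣ 2 ^ m := by
    have h3 := dvd_add (dvd_sub hdvd d1) d2
    have e : (2 : ℤ) ^ (2 * r) - 2 ^ n + 2 ^ m - 2 ^ (2 * r) + 2 ^ n = 2 ^ m := by ring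
    rwa [e] at h3
  have h4 := Int.le_of_dvd (by positivity) d3
  have h5 : (2 : ℤ) ^ (m + 1) = 2 * 2 ^ m := by ring
  have h6 : (0 : ℤ) < 2 ^ m := by positivity
  linarith

/-- PIECE SQ2 of the S3797 split. -/
theorem sq_fixed {R : Type*} [Group R] [Finite R] (hR : IsPGroup 2 R) (V : Subgroup R)
    (hVc : V ≤ Subgroup.center R) (hsq : ∀ a : R, a * a ∈ V) (hV : ∀ a : R, a * a = 1 → a ∈ V)
    (hV2 : ∀ v ∈ V, v * v = 1) (hR3 : Nat.card R = Nat.card V ^ 3)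
    (hrad : ∀ χ : V →* ℤˣ, χ ≠ 1 → ∀ c : R,
        (∀ a : R, ∀ h : c⁻¹ * a⁻¹ * c * a ∈ V, χ ⟨c⁻¹ * a⁻¹ * c * a, h⟩ = 1) → c ∈ V)
    (σ : MulAut R) (p : ℕ) (hp : p.Prime) (hp2 : p ≠ 2) (hσ : σ ^ p = 1)
    (hσV : ∀ v ∈ V, σ v = v) :
    σ = 1 ∨ ∀ a : R, σ a = a → a ∈ V := by
  classical
  have hfinR : Fintype R := Fintype.ofFinite R
  have hfinV : Fintype V := Fintype.ofFinite V
  have hfinX : Fintype (V →* ℤˣ) := Fintype.ofFinite _
  have hcomm : ∀ v ∈ V, ∀ a : R, v * a = a * v := fun v hv a =>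
    (Subgroup.mem_center_iff.mp (hVc hv) a).symm
  -- commutator identities
  have hκV : ∀ c a : R, c⁻¹ * a⁻¹ * c * a ∈ V := by
    intro c a
    have h1 := hcomm (a⁻¹ * a⁻¹) (hsq a⁻¹) c
    have h2 : c⁻¹ * a⁻¹ * c * a = (c⁻¹ * c⁻¹) * (a⁻¹ * a⁻¹) * ((c * a) * (c * a)) := by
      calc c⁻¹ * a⁻¹ * c * a = c⁻¹ * c⁻¹ * (c * (a⁻¹ * a⁻¹)) * a * c * a := by group
        _ = c⁻¹ * c⁻¹ * ((a⁻¹ * a⁻¹) * c) * a * c * a := by rw [← h1]
        _ = (c⁻¹ * c⁻¹) * (a⁻¹ * a⁻¹) * ((c * a) * (c * a)) := by group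
    rw [h2]
    exact V.mul_mem (V.mul_mem (hsq c⁻¹) (hsq a⁻¹)) (hsq (c * a))
  have hκmulR : ∀ c a₁ a₂ : R, c⁻¹ * (a₁ * a₂)⁻¹ * c * (a₁ * a₂) =
      (c⁻¹ * a₁⁻¹ * c * a₁) * (c⁻¹ * a₂⁻¹ * c * a₂) := by
    intro c a₁ a₂
    calc c⁻¹ * (a₁ * a₂)⁻¹ * c * (a₁ * a₂)
        = c⁻¹ * a₂⁻¹ * c * ((c⁻¹ * a₁⁻¹ * c * a₁) * a₂) := by group
      _ = c⁻¹ * a₂⁻¹ * c * (a₂ * (c⁻¹ * a₁⁻¹ * c * a₁)) := by rw [hcomm _ (hκV c a₁) a₂]
      _ = (c⁻¹ * a₂⁻¹ * c * a₂) * (c⁻¹ * a₁⁻¹ * c * a₁) := by group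
      _ = (c⁻¹ * a₁⁻¹ * c * a₁) * (c⁻¹ * a₂⁻¹ * c * a₂) := (hcomm _ (hκV c a₁) _).symm
  -- the fixed subgroup
  obtain ⟨U, hmemU⟩ : ∃ U : Subgroup R, ∀ a : R, a ∈ U ↔ σ a = a :=
    ⟨{ carrier := {a | σ a = a}
       one_mem' := map_one σ
       mul_mem' := by
         intro a b ha hb
         have ha' : σ a = a := ha
         have hb' : σ b = b := hb
         show σ (a * b) = a * b
         rw [map_mul, ha', hb']
       inv_mem' := by
         intro a ha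
         have ha' : σ a = a := ha
         show σ a⁻¹ = a⁻¹
         rw [map_inv, ha'] }, fun a => Iff.rfl⟩
  have hVU : V ≤ U := fun v hv => (hmemU v).mpr (hσV v hv)
  have hfinU : Fintype U := Fintype.ofFinite U
  obtain ⟨r, hr⟩ := (IsPGroup.iff_card (p := 2) (G := V)).mp (hR.to_subgroup V)
  obtain ⟨n, hn⟩ := (IsPGroup.iff_card (p := 2) (G := U)).mp (hR.to_subgroup U)
  have hRc : Nat.card R = 2 ^ (3 * r) := by
    rw [hR3, hr, ← pow_mul]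
    congr 1
    omega
  by_cases hr0 : r = 0
  · left
    have h1 : Nat.card R = 1 := by rw [hRc, hr0]; rfl
    have hsub : Subsingleton R := (Nat.card_eq_one_iff_unique.mp h1).1
    exact MulEquiv.ext fun a => Subsingleton.elim _ _
  have hr1 : 1 ≤ r := by omega
  have hrn : r ≤ n := by
    have h1 := Subgroup.card_dvd_of_le hVU
    rw [hr, hn] at h1
    exact (Nat.pow_dvd_pow_iff_le_right (by norm_num)).mp h1
  have hn3 : n ≤ 3 * r := by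
    have h1 := Subgroup.card_subgroup_dvd_card U
    rw [hn, hRc] at h1
    exact (Nat.pow_dvd_pow_iff_le_right (by norm_num)).mp h1
  suffices hmain : n = r ∨ n = 3 * r by
    rcases hmain with h | h
    · right
      have hEq : V = U := Subgroup.eq_of_le_of_card_ge hVU (by rw [hn, hr, h])
      intro a ha
      rw [hEq]
      exact (hmemU a).mpr ha
    · left
      have hEq : U = ⊤ := Subgroup.eq_top_of_card_eq U (by rw [hn, hRc, h])
      refine MulEquiv.ext fun a => ?_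
      have h1 : a ∈ U := by rw [hEq]; exact Subgroup.mem_top a
      exact (hmemU a).mp h1
  -- the Gauss sums
  obtain ⟨T, hTdef⟩ : ∃ T : (V →* ℤˣ) → ℤ, ∀ χ : V →* ℤˣ,
      T χ = ∑ a : U, ((χ ⟨(a : R) * (a : R), hsq _⟩ : ℤˣ) : ℤ) := ⟨_, fun χ => rfl⟩
  have hcnt : (∑ c : U, (if (c : R) ∈ V then (1 : ℤ) else 0)) = (2 : ℤ) ^ r := by
    rw [Finset.sum_boole]
    have h1 : (Finset.univ.filter fun c : U => (c : R) ∈ V).card = Nat.card V := by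
      rw [Nat.card_eq_fintype_card, ← Fintype.card_subtype]
      exact Fintype.card_congr
        { toFun := fun c => ⟨c.1.1, c.2⟩
          invFun := fun v => ⟨⟨v.1, hVU v.2⟩, v.2⟩
          left_inv := fun c => rfl
          right_inv := fun v => rfl }
    rw [h1, hr]
    push_cast
    rfl
  -- step A: a fixed element with commutator character `-1`
  have hA : ∀ χ : V →* ℤˣ, χ ≠ 1 → ∀ c : R, σ c = c → c ∉ V →
      ∃ a : R, σ a = a ∧ χ ⟨c⁻¹ * a⁻¹ * c * a, hκV c a⟩ = -1 := by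
    intro χ hχ c hcU hcV
    have hex : ∃ a : R, χ ⟨c⁻¹ * a⁻¹ * c * a, hκV c a⟩ ≠ 1 := by
      by_contra hcon
      push Not at hcon
      exact hcV (hrad χ hχ c (fun a h => hcon a))
    obtain ⟨a₁, ha₁⟩ := hex
    let g : R →* ℤˣ := MonoidHom.mk' (fun a => χ ⟨c⁻¹ * a⁻¹ * c * a, hκV c a⟩) (by
      intro a₁ a₂
      have e : (⟨c⁻¹ * (a₁ * a₂)⁻¹ * c * (a₁ * a₂), hκV c (a₁ * a₂)⟩ : V) =
          ⟨c⁻¹ * a₁⁻¹ * c * a₁, hκV c a₁⟩ * ⟨c⁻¹ * a₂⁻¹ * c * a₂, hκV c a₂⟩ :=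
        Subtype.ext (hκmulR c a₁ a₂)
      show χ ⟨c⁻¹ * (a₁ * a₂)⁻¹ * c * (a₁ * a₂), hκV c (a₁ * a₂)⟩ = _
      rw [e, map_mul])
    have hg : ∀ a, g (σ a) = g a := by
      intro a
      show χ ⟨c⁻¹ * (σ a)⁻¹ * c * (σ a), hκV c (σ a)⟩ = χ ⟨c⁻¹ * a⁻¹ * c * a, hκV c a⟩
      have h1 : σ (c⁻¹ * a⁻¹ * c * a) = c⁻¹ * (σ a)⁻¹ * c * (σ a) := by
        simp only [map_mul, map_inv, hcU]
      have h2 : c⁻¹ * (σ a)⁻¹ * c * (σ a) = c⁻¹ * a⁻¹ * c * a := by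
        rw [← h1]
        exact hσV _ (hκV c a)
      have h3 : (⟨c⁻¹ * (σ a)⁻¹ * c * (σ a), hκV c (σ a)⟩ : V) =
          ⟨c⁻¹ * a⁻¹ * c * a, hκV c a⟩ := Subtype.ext h2
      rw [h3]
    have hne : ∃ a, g a = -1 := ⟨a₁, (Int.units_eq_one_or _).resolve_left ha₁⟩
    obtain ⟨a, ha, hga⟩ :=
      Cfsg.Agent.Lib.helper57.T97.exists_fixed_neg hR σ p hp hp2 hσ g hg hne
    exact ⟨a, ha, hga⟩
  -- step B: the square of the Gauss sum of a nontrivial character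
  have hB : ∀ χ : V →* ℤˣ, χ ≠ 1 → (T χ) ^ 2 = (2 : ℤ) ^ n * 2 ^ r := by
    intro χ hχ
    obtain ⟨f, hfdef⟩ : ∃ f : R → ℤ, f = fun x => if h : x ∈ V then ((χ ⟨x, h⟩ : ℤˣ) : ℤ) else 0 :=
      ⟨_, rfl⟩
    have hf_mem : ∀ (x : R) (h : x ∈ V), f x = ((χ ⟨x, h⟩ : ℤˣ) : ℤ) := by
      intro x h
      rw [hfdef]
      exact dif_pos h
    have hf1 : f 1 = 1 := by
      rw [hf_mem 1 V.one_mem]
      have h1 : (⟨1, V.one_mem⟩ : V) = 1 := rfl
      rw [h1, map_one]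
      rfl
    have hfm : ∀ v ∈ V, ∀ w ∈ V, f (v * w) = f v * f w := by
      intro v hv w hw
      rw [hf_mem _ (V.mul_mem hv hw), hf_mem v hv, hf_mem w hw]
      have h1 : (⟨v * w, V.mul_mem hv hw⟩ : V) = ⟨v, hv⟩ * ⟨w, hw⟩ := rfl
      rw [h1, map_mul]
      rfl
    have hG := Cfsg.Agent.Lib.helper50.T97.gauss_sq V hVc hsq hV2 f hf1 hfm U
    have hS1 : ∑ a : U, f ((a : R) * (a : R)) = T χ := by
      rw [hTdef]
      exact Finset.sum_congr rfl fun a _ => hf_mem _ (hsq _)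
    have hS2 : (∑ c : U,
        (if ∀ a : U, f ((c : R)⁻¹ * (a : R)⁻¹ * (c : R) * (a : R)) = 1
          then f ((c : R) * (c : R)) else 0)) =
        ∑ c : U, (if (c : R) ∈ V then (1 : ℤ) else 0) := by
      refine Finset.sum_congr rfl fun c _ => ?_
      by_cases hc : (c : R) ∈ V
      · have hall : ∀ a : U, f ((c : R)⁻¹ * (a : R)⁻¹ * (c : R) * (a : R)) = 1 := by
          intro a
          have h1 := hcomm _ hc (a : R)⁻¹
          have h2 : (c : R)⁻¹ * (a : R)⁻¹ * (c : R) * (a : R) = 1 := by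
            calc (c : R)⁻¹ * (a : R)⁻¹ * (c : R) * (a : R)
                = (c : R)⁻¹ * ((a : R)⁻¹ * (c : R)) * (a : R) := by group
              _ = (c : R)⁻¹ * ((c : R) * (a : R)⁻¹) * (a : R) := by rw [h1]
              _ = 1 := by group
          rw [h2]
          exact hf1
        rw [if_pos hc, if_pos hall, hV2 _ hc, hf1]
      · have hnall : ¬ ∀ a : U, f ((c : R)⁻¹ * (a : R)⁻¹ * (c : R) * (a : R)) = 1 := by
          intro hall
          obtain ⟨a, ha, hga⟩ := hA χ hχ (c : R) ((hmemU _).mp c.2) hc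
          have h1 : f ((c : R)⁻¹ * a⁻¹ * (c : R) * a) = 1 := hall ⟨a, (hmemU a).mpr ha⟩
          rw [hf_mem _ (hκV _ _), hga] at h1
          norm_num at h1
        rw [if_neg hc, if_neg hnall]
    rw [hS1, hS2, hcnt] at hG
    rw [hG, ← Nat.card_eq_fintype_card, hn]
    push_cast
    rfl
  -- step C: the trivial character
  have hC : T 1 = (2 : ℤ) ^ n := by
    rw [hTdef]
    simp only [MonoidHom.one_apply, Units.val_one, Finset.sum_const, Finset.card_univ,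
      nsmul_eq_mul, mul_one]
    rw [← Nat.card_eq_fintype_card, hn]
    push_cast
    rfl
  -- step D: orthogonality
  have horth : ∀ v : V, v ≠ 1 → ∑ χ : V →* ℤˣ, ((χ v : ℤˣ) : ℤ) = 0 := by
    intro v hv
    have hex : ∃ χ₀ : V →* ℤˣ, χ₀ v = -1 := by
      letI : CommGroup V :=
        { (inferInstance : Group V) with
          mul_comm := fun a b => Subtype.ext (hcomm a.1 a.2 b.1) }
      exact Cfsg.Agent.Lib.helper32.T97.char_exists (fun w => Subtype.ext (hV2 w.1 w.2)) v hv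
    obtain ⟨χ₀, hχ₀⟩ := hex
    have h1 : ∑ χ : V →* ℤˣ, ((χ v : ℤˣ) : ℤ) = ∑ χ : V →* ℤˣ, (((χ₀ * χ) v : ℤˣ) : ℤ) :=
      (Fintype.sum_equiv (Equiv.mulLeft χ₀) _ _ (fun χ => rfl)).symm
    have h2 : ∑ χ : V →* ℤˣ, (((χ₀ * χ) v : ℤˣ) : ℤ) = - ∑ χ : V →* ℤˣ, ((χ v : ℤˣ) : ℤ) := by
      rw [← Finset.sum_neg_distrib]
      refine Finset.sum_congr rfl fun χ _ => ?_
      rw [MonoidHom.mul_apply, hχ₀]
      simp
    linarith
  have hcardX : Fintype.card (V →* ℤˣ) = 2 ^ r := by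
    rw [← Nat.card_eq_fintype_card, ← hr]
    letI : CommGroup V :=
      { (inferInstance : Group V) with
        mul_comm := fun a b => Subtype.ext (hcomm a.1 a.2 b.1) }
    exact Cfsg.Agent.Lib.helper32.T97.char_card (fun w => Subtype.ext (hV2 w.1 w.2))
  have hD : ∑ χ : V →* ℤˣ, T χ = (2 : ℤ) ^ r * 2 ^ r := by
    rw [Finset.sum_congr rfl (fun χ _ => hTdef χ), Finset.sum_comm]
    have h1 : ∀ a : U, ∑ χ : V →* ℤˣ, ((χ ⟨(a : R) * (a : R), hsq _⟩ : ℤˣ) : ℤ) =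
        (2 : ℤ) ^ r * (if (a : R) ∈ V then (1 : ℤ) else 0) := by
      intro a
      by_cases ha : (a : R) ∈ V
      · rw [if_pos ha, mul_one]
        have e : (⟨(a : R) * (a : R), hsq _⟩ : V) = 1 := Subtype.ext (hV2 _ ha)
        rw [e]
        simp only [map_one, Units.val_one, Finset.sum_const, Finset.card_univ, nsmul_eq_mul,
          mul_one]
        rw [hcardX]
        push_cast
        rfl
      · rw [if_neg ha, mul_zero]
        apply horth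
        intro h
        exact ha (hV _ (congrArg Subtype.val h))
    rw [Finset.sum_congr rfl (fun a _ => h1 a), ← Finset.mul_sum, hcnt]
  -- arithmetic
  obtain ⟨χ₀, hχ₀⟩ := Cfsg.Agent.Lib.helper57.T97.exists_char_ne_one (V := V) (hR.to_subgroup V)
    (by
      rw [hr]
      calc 2 = 2 ^ 1 := by norm_num
        _ ≤ 2 ^ r := Nat.pow_le_pow_right (by norm_num) hr1)
  have hT0 := hB χ₀ hχ₀
  have hdvd : (T χ₀).natAbs ∣ 2 ^ (n + r) := by
    have h3 : (T χ₀) ∣ ((2 ^ (n + r) : ℕ) : ℤ) := by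
      refine ⟨T χ₀, ?_⟩
      push_cast
      rw [pow_add, ← hT0]
      ring
    exact Int.natAbs_dvd_natAbs.mpr h3 |>.trans (by simp)
  obtain ⟨m, -, hm⟩ := (Nat.dvd_prime_pow Nat.prime_two).mp hdvd
  have hm2 : 2 * m = n + r := by
    have h4 : (T χ₀) ^ 2 = (((T χ₀).natAbs : ℤ)) ^ 2 := by rw [Int.natAbs_sq]
    rw [hm] at h4
    rw [h4] at hT0
    have h5 : (2 : ℤ) ^ (2 * m) = 2 ^ (n + r) := by
      rw [pow_add, ← hT0]
      push_cast
      ring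
    have h6 : (2 : ℕ) ^ (2 * m) = 2 ^ (n + r) := by exact_mod_cast h5
    exact Nat.pow_right_injective (le_refl 2) h6
  have hTm : ∀ χ : V →* ℤˣ, χ ≠ 1 → (2 : ℤ) ^ (m + 1) ∣ T χ - 2 ^ m := by
    intro χ hχ
    have h1 : (T χ) ^ 2 = ((2 : ℤ) ^ m) ^ 2 := by
      rw [hB χ hχ, ← pow_add, ← pow_mul, ← hm2]
      congr 1
      omega
    rcases sq_eq_sq_iff_eq_or_eq_neg.mp h1 with h | h
    · rw [h, sub_self]
      exact dvd_zero _
    · rw [h]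
      refine ⟨-1, ?_⟩
      ring
  have hsum : ∑ χ : V →* ℤˣ, T χ = T 1 + ∑ χ ∈ Finset.univ.erase (1 : V →* ℤˣ), T χ :=
    (Finset.add_sum_erase Finset.univ T (Finset.mem_univ _)).symm
  have hsum2 : ∑ χ ∈ Finset.univ.erase (1 : V →* ℤˣ), T χ =
      ∑ χ ∈ Finset.univ.erase (1 : V →* ℤˣ), (T χ - 2 ^ m) + ((2 : ℤ) ^ r - 1) * 2 ^ m := by
    rw [Finset.sum_sub_distrib, Finset.sum_const, Finset.card_erase_of_mem (Finset.mem_univ _),
      Finset.card_univ, hcardX, nsmul_eq_mul]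
    have h1 : ((2 ^ r - 1 : ℕ) : ℤ) = (2 : ℤ) ^ r - 1 := by
      rw [Nat.cast_sub Nat.one_le_two_pow]
      push_cast
      rfl
    rw [h1]
    ring
  have hd1 : (2 : ℤ) ^ (m + 1) ∣ ∑ χ ∈ Finset.univ.erase (1 : V →* ℤˣ), (T χ - 2 ^ m) :=
    Finset.dvd_sum fun χ hχ => hTm χ (Finset.ne_of_mem_erase hχ)
  have hd2 : (2 : ℤ) ^ (m + 1) ∣ 2 ^ r * 2 ^ m := by
    obtain ⟨r', rfl⟩ : ∃ r', r = r' + 1 := ⟨r - 1, by omega⟩
    refine ⟨2 ^ r', ?_⟩
    ring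
  have hfinal : (2 : ℤ) ^ (m + 1) ∣ 2 ^ (2 * r) - 2 ^ n + 2 ^ m := by
    obtain ⟨k, hk⟩ := hd1
    obtain ⟨k2, hk2⟩ := hd2
    refine ⟨k + k2, ?_⟩
    have e : (2 : ℤ) ^ (2 * r) = 2 ^ r * 2 ^ r := by
      rw [← pow_add]
      congr 1
      omega
    have h7 := hD
    rw [hsum, hsum2, hC] at h7
    rw [e, mul_add, ← hk, ← hk2]
    linarith
  exact sq2_arith r n m hrn hn3 hm2 hfinal

end Cfsg.Agent.Lib.helper46.T97
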