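import Mathlib
import Cfsg.Agent.Lib.helper38.TN3
import Cfsg.Agent.Lib.helper89.TNJ
import Cfsg.Agent.Lib.helper1.Coprime

/-!
helper46: piece D of S4415 (helper38's split): if the common fixed space of the four-group is a
line, then `R` is a 2-group.
-/

set_option autoImplicit false

namespace Cfsg.Agent.Lib.helper46

open Cfsg.Agent.Lib.helper38.TN Module

variable {G : Type*} [Group G] [Finite G] {V : Type*} [AddCommGroup V] [Module (ZMod 3) V] [Finite V]
variable {ρ : Representation (ZMod 3) G V} {R : Subgroup G} {b q₁ q₂ q₃ : G} {u₁ u₂ u₃ : V}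

omit [Finite G] [Finite V] in
/-- the space has 81 elements. -/
theorem tnd_card_V (h : Ctx ρ R b q₁ q₂ q₃ u₁ u₂ u₃) (u₄ : V) (hu₄ : CLine ρ q₁ q₂ u₄) :
    Nat.card V = 81 := by
  obtain ⟨B, -⟩ := Cfsg.Agent.Lib.helper89.tnj_basis h u₄ hu₄
  rw [Nat.card_congr B.equivFun.toEquiv, Nat.card_eq_fintype_card, Fintype.card_fun,
    ZMod.card, Fintype.card_fin]
  norm_num

omit [Finite G] [Finite V] in
/-- the order of `R` divides `2 ^ 9 * 5 * 13`. -/
theorem tnd_card_R (h : Ctx ρ R b q₁ q₂ q₃ u₁ u₂ u₃) (u₄ : V) (hu₄ : CLine ρ q₁ q₂ u₄) :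
    Nat.card ↥R ∣ 33280 := by
  obtain ⟨B, -⟩ := Cfsg.Agent.Lib.helper89.tnj_basis h u₄ hu₄
  let φ : G →* GL (Fin 4) (ZMod 3) :=
    (Units.map (LinearMap.toMatrixAlgEquiv B : (V →ₗ[ZMod 3] V) →* Matrix (Fin 4) (Fin 4) (ZMod 3))).comp
      ρ.asGroupHom
  have hinj : Function.Injective (φ.comp R.subtype) := by
    rw [injective_iff_map_eq_one]
    intro r hr
    have h1 : (φ (r : G) : Matrix (Fin 4) (Fin 4) (ZMod 3)) = 1 := by
      have : φ (r : G) = 1 := hr
      rw [this]; rfl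
    have h2 : LinearMap.toMatrixAlgEquiv B (ρ (r : G)) = 1 := h1
    have h3 : ρ (r : G) = 1 := by
      have := congrArg (LinearMap.toMatrixAlgEquiv B).symm h2
      simpa using this
    have h4 : (r : G) = 1 := h.faith r r.2 (fun v => by rw [h3]; rfl)
    exact Subtype.ext h4
  have hdvd := Subgroup.card_dvd_of_injective _ hinj
  have hGL : Nat.card (GL (Fin 4) (ZMod 3)) = 24261120 := by
    rw [Matrix.card_GL_field, ZMod.card]
    simp [Fin.prod_univ_four]
  rw [hGL] at hdvd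
  have hcop : (Nat.card ↥R).Coprime 729 := by
    have : (729 : ℕ) = 3 ^ 6 := by norm_num
    rw [this]
    exact Nat.Coprime.pow_right 6 h.cop
  have e : (24261120 : ℕ) = 33280 * 729 := by norm_num
  rw [e] at hdvd
  exact hcop.dvd_of_dvd_mul_right hdvd

omit [Finite G] in
/-- fixed-point count of an element of prime order. -/
theorem tnd_fix (h : Ctx ρ R b q₁ q₂ q₃ u₁ u₂ u₃) (u₄ : V) (hu₄ : CLine ρ q₁ q₂ u₄)
    (g : G) (r : ℕ) [Fact r.Prime] (hg : g ^ r = 1) :
    ∃ j : ℕ, j ≤ 4 ∧ Nat.card {v : V // ρ g v = v} = 3 ^ j ∧ 81 ≡ 3 ^ j [MOD r] := by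
  classical
  haveI := Fintype.ofFinite V
  let F : AddSubgroup V :=
    { carrier := {v | ρ g v = v}
      add_mem' := fun {a c} ha hc => by
        have ha' : ρ g a = a := ha
        have hc' : ρ g c = c := hc
        show ρ g (a + c) = a + c
        rw [map_add, ha', hc']
      zero_mem' := map_zero _
      neg_mem' := fun {a} ha => by
        have ha' : ρ g a = a := ha
        show ρ g (-a) = -a
        rw [map_neg, ha'] }
  have hdvd : Nat.card F ∣ Nat.card V := AddSubgroup.card_addSubgroup_dvd_card F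
  rw [tnd_card_V h u₄ hu₄] at hdvd
  have e81 : (81 : ℕ) = 3 ^ 4 := by norm_num
  rw [e81] at hdvd
  obtain ⟨j, hj, hF⟩ := (Nat.dvd_prime_pow Nat.prime_three).mp hdvd
  have hF' : Nat.card {v : V // ρ g v = v} = 3 ^ j := hF
  refine ⟨j, hj, hF', ?_⟩
  let f : Function.End V := fun v => ρ g v
  have hpow : ∀ n : ℕ, ∀ v, (f ^ n) v = ρ (g ^ n) v := by
    intro n
    induction n with
    | zero => intro v; rw [pow_zero, pow_zero, rho_one]; rfl
    | succ n ih =>
      intro v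
      rw [pow_succ, Function.End.mul_def]
      show (f ^ n) (f v) = _
      rw [ih, pow_succ, rho_mul]
  have hf : f ^ r ^ 1 = 1 := by
    funext v
    rw [pow_one, hpow, hg, rho_one]; rfl
  have hmod := Equiv.Perm.card_fixedPoints_modEq (p := r) (n := 1) hf
  have e1 : Fintype.card V = 81 := by rw [← Nat.card_eq_fintype_card, tnd_card_V h u₄ hu₄]
  have e2 : Fintype.card ↥(Function.fixedPoints f) = 3 ^ j := by
    rw [← Nat.card_eq_fintype_card]; exact hF'
  rw [e1, e2] at hmod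
  exact hmod

omit [Finite G] in
/-- an element of `R` with fifth power one fixing a nonzero vector is trivial. -/
theorem tnd_five (h : Ctx ρ R b q₁ q₂ q₃ u₁ u₂ u₃) (u₄ : V) (hu₄ : CLine ρ q₁ q₂ u₄)
    (g : G) (hgR : g ∈ R) (hg : g ^ 5 = 1) (v : V) (hv : v ≠ 0) (hfix : ρ g v = v) : g = 1 := by
  classical
  haveI : Fact (Nat.Prime 5) := ⟨by norm_num⟩
  haveI := Fintype.ofFinite V
  obtain ⟨j, hj, hcard, hmod⟩ := tnd_fix h u₄ hu₄ g 5 hg
  interval_cases j
  · exfalso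
    have hsub : Subsingleton {v : V // ρ g v = v} :=
      (Nat.card_eq_one_iff_unique.mp (by simpa using hcard)).1
    have := hsub.elim ⟨v, hfix⟩ ⟨0, map_zero _⟩
    exact hv (congrArg Subtype.val this)
  · exact absurd hmod (by decide)
  · exact absurd hmod (by decide)
  · exact absurd hmod (by decide)
  · apply h.faith g hgR
    intro x
    by_contra hx
    have hlt := Fintype.card_subtype_lt (p := fun v : V => ρ g v = v) hx
    rw [← Nat.card_eq_fintype_card, ← Nat.card_eq_fintype_card, hcard, tnd_card_V h u₄ hu₄] at hlt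
    norm_num at hlt

omit [Finite G] [Finite V] in
/-- three-fold conjugation by `b` is trivial. -/
theorem tnd_conj3 (h : Ctx ρ R b q₁ q₂ q₃ u₁ u₂ u₃) (x : G) :
    b * (b * (b * x * b⁻¹) * b⁻¹) * b⁻¹ = x := by
  have hb3 : b ^ 3 = 1 := h.frame.b3
  have hbbb : b * b * b = 1 := by rw [← hb3, pow_succ, pow_two]
  calc b * (b * (b * x * b⁻¹) * b⁻¹) * b⁻¹ = (b * b * b) * x * (b * b * b)⁻¹ := by
        simp only [mul_inv_rev, mul_assoc]
    _ = x := by rw [hbbb]; simp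

omit [Finite G] [Finite V] in
/-- `b` normalizes `R`. -/
theorem tnd_b_normalizer (h : Ctx ρ R b q₁ q₂ q₃ u₁ u₂ u₃) :
    Subgroup.zpowers b ≤ Subgroup.normalizer (R : Set G) := by
  rw [Subgroup.zpowers_le, Subgroup.mem_normalizer_iff]
  intro r
  constructor
  · exact h.bR r
  · intro hr
    have h1 := h.bR _ (h.bR _ hr)
    rwa [tnd_conj3 h r] at h1

theorem tnd_cube_mod_five (n : ℕ) (h : n * (n * n) ≡ 1 [MOD 5]) : n ≡ 1 [MOD 5] := by
  have hm : n % 5 ≡ n [MOD 5] := Nat.mod_modEq n 5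
  have h5 := Nat.mod_lt n (by norm_num : 5 > 0)
  have key : n % 5 * (n % 5 * (n % 5)) ≡ 1 [MOD 5] := (hm.mul (hm.mul hm)).trans h
  refine hm.symm.trans ?_
  generalize n % 5 = m at h5 key ⊢
  interval_cases m <;> first | rfl | exact absurd key (by decide)

/-- `5` does not divide the order of `R`. -/
theorem tnd_not_five (h : Ctx ρ R b q₁ q₂ q₃ u₁ u₂ u₃) (u₄ : V) (hu₄ : CLine ρ q₁ q₂ u₄) :
    ¬ 5 ∣ Nat.card ↥R := by
  intro h5
  have F := h.frame
  have hp5 : Fact (Nat.Prime 5) := ⟨by norm_num⟩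
  have hb3 : b ^ 3 = 1 := F.b3
  have hAK := tnd_b_normalizer h
  have hcop : (Nat.card (Subgroup.zpowers b)).Coprime (Nat.card R) := by
    rw [Nat.card_zpowers]
    have hdvd : orderOf b ∣ 3 := orderOf_dvd_of_pow_eq_one hb3
    exact Nat.Coprime.coprime_dvd_left hdvd h.cop.symm
  obtain ⟨P, hPb⟩ := Cfsg.Agent.Lib.helper1.exists_invariant_sylow (p := 5) (Subgroup.zpowers b) R
    hAK hcop (Or.inr h.solv)
  have hRd := tnd_card_R h u₄ hu₄
  have hfac : (Nat.card ↥R).factorization 5 = 1 := by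
    have hpos : 0 < (Nat.card ↥R).factorization 5 :=
      Nat.Prime.factorization_pos_of_dvd (by norm_num) Nat.card_pos.ne' h5
    have hle : (Nat.card ↥R).factorization 5 ≤ 1 := by
      by_contra hgt
      have hgt : 2 ≤ (Nat.card ↥R).factorization 5 := by omega
      have h25 : 5 ^ 2 ∣ Nat.card ↥R :=
        (pow_dvd_pow 5 hgt).trans (Nat.ordProj_dvd _ _)
      have : 5 ^ 2 ∣ 33280 := h25.trans hRd
      norm_num at this
    omega
  have hP5 : Nat.card (P : Subgroup ↥R) = 5 := by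
    rw [Sylow.card_eq_multiplicity, hfac, pow_one]
  set S : Subgroup G := (P : Subgroup ↥R).map R.subtype with hS
  have hS5 : Nat.card S = 5 := by
    rw [hS, Subgroup.card_map_of_injective R.subtype_injective, hP5]
  have hSR : S ≤ R := by
    rw [hS]; exact Subgroup.map_subtype_le _
  -- a generator
  have hnt : Nontrivial S := by
    rw [← Finite.one_lt_card_iff_nontrivial, hS5]; norm_num
  obtain ⟨⟨k, hkS⟩, hk1⟩ := exists_ne (1 : S)
  have hk1' : k ≠ 1 := fun e => hk1 (Subtype.ext e)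
  have hord : orderOf k = 5 := by
    have hd : orderOf k ∣ 5 := by
      have := Subgroup.orderOf_dvd_natCard S hkS
      rwa [hS5] at this
    rcases (Nat.dvd_prime (by norm_num)).mp hd with h1 | h1
    · exact absurd (orderOf_eq_one_iff.mp h1) hk1'
    · exact h1
  have hzS : Subgroup.zpowers k = S := by
    apply Subgroup.eq_of_le_of_card_ge
    · rw [Subgroup.zpowers_le]; exact hkS
    · rw [Nat.card_zpowers, hord, hS5]
  have hbk : b * k * b⁻¹ ∈ S :=
    (Subgroup.mem_normalizer_iff.mp (hPb (Subgroup.mem_zpowers b)) k).mp hkS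
  rw [← hzS] at hbk
  have hfin : IsOfFinOrder k := isOfFinOrder_of_finite k
  rw [← mem_powers_iff_mem_zpowers, Submonoid.mem_powers_iff] at hbk
  obtain ⟨n, hn⟩ := hbk
  have hc2 : b * (b * k * b⁻¹) * b⁻¹ = k ^ (n * n) := by
    rw [← hn, ← conj_pow, ← hn, ← pow_mul]
  have hc3 : b * (b * (b * k * b⁻¹) * b⁻¹) * b⁻¹ = k ^ (n * (n * n)) := by
    rw [hc2, ← conj_pow, ← hn, ← pow_mul]
  rw [tnd_conj3 h k] at hc3
  have hmod : n * (n * n) ≡ 1 [MOD 5] := by
    rw [← hord]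
    apply pow_eq_pow_iff_modEq.mp
    rw [← hc3, pow_one]
  have hn1 : n ≡ 1 [MOD 5] := tnd_cube_mod_five n hmod
  have hkn : k ^ n = k := by
    have := pow_eq_pow_iff_modEq.mpr (by rw [hord]; exact hn1 : n ≡ 1 [MOD orderOf k])
    rwa [pow_one] at this
  have hcomm : b * k = k * b := by
    have : b * k * b⁻¹ = k := by rw [← hn, hkn]
    calc b * k = (b * k * b⁻¹) * b := by group
      _ = k * b := by rw [this]
  have hkR : k ∈ R := hSR hkS
  -- k acts on w
  have hbkv : ∀ v, ρ b (ρ k v) = ρ k (ρ b v) := by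
    intro v; rw [← rho_mul, hcomm, rho_mul]
  have hnb : ∀ v, nb ρ b (ρ k v) = ρ k (nb ρ b v) := by
    intro v; unfold nb; rw [hbkv, map_sub]
  have hw : nb ρ b (nb ρ b u₁) = u₁ + u₂ + u₃ := by
    have := F.nbnb_apply 1 0 0 (c := 0) (Submodule.zero_mem _)
    simpa using this
  obtain ⟨a₁, a₂, a₃, c, hc, hdec⟩ := F.decomp (ρ k u₁)
  have hkw : ρ k (u₁ + u₂ + u₃) = (a₁ + a₂ + a₃) • (u₁ + u₂ + u₃) := by
    rw [← hw, ← hnb, ← hnb, hdec, F.nbnb_apply a₁ a₂ a₃ hc, hw]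
  have hw0 : u₁ + u₂ + u₃ ≠ 0 := by
    intro e
    have e' : (1 : ZMod 3) • u₁ + (1 : ZMod 3) • u₂ + (1 : ZMod 3) • u₃ + 0 = 0 := by
      simpa using e
    have := (F.indep (Submodule.zero_mem _) e').1
    exact one_ne_zero this
  have hε : a₁ + a₂ + a₃ ≠ 0 := by
    intro e
    rw [e, zero_smul] at hkw
    exact hw0 (rho_inj ρ k (by rw [hkw, map_zero]))
  have hsq : ∀ x : ZMod 3, x ≠ 0 → x * x = 1 := by decide
  have hkkw : ρ (k * k) (u₁ + u₂ + u₃) = u₁ + u₂ + u₃ := by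
    rw [rho_mul, hkw, map_smul, hkw, smul_smul, hsq _ hε, one_smul]
  have hkk5 : (k * k) ^ 5 = 1 := by
    have hk5 : k ^ 5 = 1 := by rw [← hord]; exact pow_orderOf_eq_one k
    calc (k * k) ^ 5 = (k ^ 2) ^ 5 := by rw [pow_two]
      _ = k ^ (2 * 5) := (pow_mul k 2 5).symm
      _ = (k ^ 5) ^ 2 := pow_mul' k 2 5
      _ = 1 := by rw [hk5, one_pow]
  have hkk := tnd_five h u₄ hu₄ (k * k) (R.mul_mem hkR hkR) hkk5 _ hw0 hkkw
  have h52 : orderOf k ∣ 2 := orderOf_dvd_of_pow_eq_one (by rw [pow_two]; exact hkk)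
  rw [hord] at h52
  norm_num at h52

theorem tnd_sq_mod_thirteen (n : ℕ) (h : n * n ≡ 1 [MOD 13]) :
    n ≡ 1 [MOD 13] ∨ n ≡ 12 [MOD 13] := by
  have hm : n % 13 ≡ n [MOD 13] := Nat.mod_modEq n 13
  have h13 := Nat.mod_lt n (by norm_num : 13 > 0)
  have key : n % 13 * (n % 13) ≡ 1 [MOD 13] := (hm.mul hm).trans h
  have hgoal : n % 13 ≡ 1 [MOD 13] ∨ n % 13 ≡ 12 [MOD 13] := by
    generalize n % 13 = m at h13 key ⊢
    interval_cases m <;> first | exact Or.inl rfl | exact Or.inr rfl | exact absurd key (by decide)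
  rcases hgoal with h1 | h1
  · exact Or.inl (hm.symm.trans h1)
  · exact Or.inr (hm.symm.trans h1)

/-- `13` does not divide the order of `R`. -/
theorem tnd_not_thirteen (h : Ctx ρ R b q₁ q₂ q₃ u₁ u₂ u₃) (u₄ : V) (hu₄ : CLine ρ q₁ q₂ u₄) :
    ¬ 13 ∣ Nat.card ↥R := by
  intro h13
  have F := h.frame
  have T := F.tri
  have hp13 : Fact (Nat.Prime 13) := ⟨by norm_num⟩
  have hRd := tnd_card_R h u₄ hu₄
  have h5 := tnd_not_five h u₄ hu₄
  have hRd' : Nat.card ↥R ∣ 6656 := by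
    have e : (33280 : ℕ) = 6656 * 5 := by norm_num
    rw [e] at hRd
    exact Nat.Coprime.dvd_of_dvd_mul_right
      ((Nat.Prime.coprime_iff_not_dvd (by norm_num)).mpr h5).symm hRd
  obtain ⟨P⟩ := (Sylow.nonempty : Nonempty (Sylow 13 ↥R))
  have hfac : (Nat.card ↥R).factorization 13 = 1 := by
    have hpos : 0 < (Nat.card ↥R).factorization 13 :=
      Nat.Prime.factorization_pos_of_dvd (by norm_num) Nat.card_pos.ne' h13
    have hle : (Nat.card ↥R).factorization 13 ≤ 1 := by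
      by_contra hgt
      have hgt : 2 ≤ (Nat.card ↥R).factorization 13 := by omega
      have h169 : 13 ^ 2 ∣ Nat.card ↥R :=
        (pow_dvd_pow 13 hgt).trans (Nat.ordProj_dvd _ _)
      have : 13 ^ 2 ∣ 6656 := h169.trans hRd'
      norm_num at this
    omega
  have hP13 : Nat.card (P : Subgroup ↥R) = 13 := by
    rw [Sylow.card_eq_multiplicity, hfac, pow_one]
  have hidx : (P : Subgroup ↥R).index ∣ 512 := by
    have hmul := (P : Subgroup ↥R).card_mul_index
    rw [hP13] at hmul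
    have : 13 * (P : Subgroup ↥R).index ∣ 13 * 512 := by
      rw [hmul]; exact hRd'
    exact (Nat.mul_dvd_mul_iff_left (by norm_num)).mp this
  have hn : Nat.card (Sylow 13 ↥R) = 1 := by
    have h1 := card_sylow_modEq_one 13 ↥R
    have h2 := (Sylow.card_dvd_index P).trans hidx
    have e512 : (512 : ℕ) = 2 ^ 9 := by norm_num
    rw [e512] at h2
    obtain ⟨j, hj, hjn⟩ := (Nat.dvd_prime_pow Nat.prime_two).mp h2
    rw [hjn] at h1 ⊢
    interval_cases j <;> first | rfl | exact absurd h1 (by decide)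
  have hsub : Subsingleton (Sylow 13 ↥R) := (Nat.card_eq_one_iff_unique.mp hn).1
  -- a generator of the Sylow 13-subgroup
  have hnt : Nontrivial (P : Subgroup ↥R) := by
    rw [← Finite.one_lt_card_iff_nontrivial, hP13]; norm_num
  obtain ⟨⟨k₀, hk₀P⟩, hk₀1⟩ := exists_ne (1 : (P : Subgroup ↥R))
  have hk₀1' : k₀ ≠ 1 := fun e => hk₀1 (Subtype.ext e)
  have hord₀ : orderOf k₀ = 13 := by
    have hd : orderOf k₀ ∣ 13 := by
      have := Subgroup.orderOf_dvd_natCard (P : Subgroup ↥R) hk₀P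
      rwa [hP13] at this
    rcases (Nat.dvd_prime (by norm_num)).mp hd with h1 | h1
    · exact absurd (orderOf_eq_one_iff.mp h1) hk₀1'
    · exact h1
  have hzP : Subgroup.zpowers k₀ = (P : Subgroup ↥R) := by
    apply Subgroup.eq_of_le_of_card_ge
    · rw [Subgroup.zpowers_le]; exact hk₀P
    · rw [Nat.card_zpowers, hord₀, hP13]
  set k : G := (k₀ : G) with hk
  have hkR : k ∈ R := k₀.2
  have hord : orderOf k = 13 := by rw [hk, Subgroup.orderOf_coe, hord₀]
  have hk13 : k ^ 13 = 1 := by rw [← hord]; exact pow_orderOf_eq_one k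
  have hk1 : k ≠ 1 := by
    intro e
    rw [e, orderOf_one] at hord
    norm_num at hord
  -- every element of `R` with thirteenth power one is a power of `k`
  have hstar : ∀ x ∈ R, x ^ 13 = 1 → ∃ n : ℕ, k ^ n = x := by
    intro x hx hx13
    have hx13' : (⟨x, hx⟩ : ↥R) ^ 13 = 1 := Subtype.ext (by simpa using hx13)
    have hpg : IsPGroup 13 (Subgroup.zpowers (⟨x, hx⟩ : ↥R)) := by
      rintro ⟨y, hy⟩
      obtain ⟨m, rfl⟩ := Subgroup.mem_zpowers_iff.mp hy
      refine ⟨1, Subtype.ext ?_⟩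
      show ((⟨x, hx⟩ : ↥R) ^ m) ^ 13 ^ 1 = 1
      rw [pow_one, ← zpow_natCast, ← zpow_mul, mul_comm, zpow_mul, zpow_natCast, hx13', one_zpow]
    obtain ⟨Q, hQ⟩ := hpg.exists_le_sylow
    have hQP : Q = P := hsub.elim Q P
    have hxP : (⟨x, hx⟩ : ↥R) ∈ (P : Subgroup ↥R) := by
      rw [← hQP]; exact hQ (Subgroup.mem_zpowers _)
    rw [← hzP, ← mem_powers_iff_mem_zpowers, Submonoid.mem_powers_iff] at hxP
    obtain ⟨n, hn⟩ := hxP
    refine ⟨n, ?_⟩
    have := congrArg Subtype.val hn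
    simpa using this
  have hconj : ∀ g : G, g * k * g⁻¹ ∈ R → ∃ n : ℕ, k ^ n = g * k * g⁻¹ := by
    intro g hg
    apply hstar _ hg
    rw [conj_pow, hk13]; simp
  have hq2R : q₂ ∈ R := by rw [← T.c1]; exact h.bR _ h.q1R
  have hq3R : q₃ ∈ R := by rw [← T.c2]; exact h.bR _ hq2R
  have hinv : ∀ q ∈ R, q * q = 1 → q * k * q⁻¹ = k ∨ q * k * q⁻¹ = k⁻¹ := by
    intro q hq hqq
    obtain ⟨n, hn⟩ := hconj q (R.mul_mem (R.mul_mem hq hkR) (R.inv_mem hq))
    have hqi : q⁻¹ = q := inv_eq_of_mul_eq_one_right hqq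
    have e1 : q * (q * k * q⁻¹) * q⁻¹ = k := by
      rw [hqi]
      calc q * (q * k * q) * q = (q * q) * k * (q * q) := by simp only [mul_assoc]
        _ = k := by rw [hqq]; simp
    have e2 : q * (q * k * q⁻¹) * q⁻¹ = k ^ (n * n) := by
      rw [← hn, ← conj_pow, ← hn, ← pow_mul]
    have hmod : n * n ≡ 1 [MOD 13] := by
      rw [← hord]
      apply pow_eq_pow_iff_modEq.mp
      rw [← e2, e1, pow_one]
    rcases tnd_sq_mod_thirteen n hmod with h1 | h1
    · left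
      rw [← hn]
      have := pow_eq_pow_iff_modEq.mpr (by rw [hord]; exact h1 : n ≡ 1 [MOD orderOf k])
      rwa [pow_one] at this
    · right
      rw [← hn]
      have h12 := pow_eq_pow_iff_modEq.mpr (by rw [hord]; exact h1 : n ≡ 12 [MOD orderOf k])
      rw [h12]
      apply eq_inv_of_mul_eq_one_left
      rw [← pow_succ]; exact hk13
  have hprop : ∀ q q' : G, q' ∈ R → q' * q' = 1 → b * q * b⁻¹ = q' → q * k * q⁻¹ = k →
      q' * k * q'⁻¹ = k := by
    intro q q' hq'R hq'q' hbq hqk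
    obtain ⟨m, hm⟩ := hconj b (h.bR k hkR)
    have hcomm : q' * (b * k * b⁻¹) * q'⁻¹ = b * k * b⁻¹ := by
      rw [← hbq]
      calc b * q * b⁻¹ * (b * k * b⁻¹) * (b * q * b⁻¹)⁻¹ = b * (q * k * q⁻¹) * b⁻¹ := by group
        _ = b * k * b⁻¹ := by rw [hqk]
    rcases hinv q' hq'R hq'q' with h1 | h1
    · exact h1
    · exfalso
      rw [← hm, ← conj_pow, h1, inv_pow] at hcomm
      have h2 : k ^ m * k ^ m = 1 := by
        nth_rewrite 1 [← hcomm]
        exact inv_mul_cancel _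
      have h3 : k ^ (2 * m) = 1 := by rw [two_mul, pow_add]; exact h2
      have h4 : 13 ∣ 2 * m := by rw [← hord]; exact orderOf_dvd_of_pow_eq_one h3
      have h5 : 13 ∣ m := by
        have hc : Nat.Coprime 13 2 := by norm_num
        exact hc.dvd_of_dvd_mul_left h4
      have h6 : k ^ m = 1 := by
        obtain ⟨t, rfl⟩ := h5
        rw [pow_mul, hk13, one_pow]
      rw [h6] at hm
      have h7 : k = 1 := by
        calc k = b⁻¹ * (b * k * b⁻¹) * b := by group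
          _ = 1 := by rw [← hm]; group
      exact hk1 h7
  have hboth : q₁ * k * q₁⁻¹ = k ∧ q₂ * k * q₂⁻¹ = k := by
    rcases hinv q₁ h.q1R T.sq with c1 | i1
    · exact ⟨c1, hprop q₁ q₂ hq2R T.sq2 T.c1 c1⟩
    · rcases hinv q₂ hq2R T.sq2 with c2 | i2
      · have c3 := hprop q₂ q₃ hq3R T.sq3 T.c2 c2
        exact ⟨hprop q₃ q₁ h.q1R T.sq T.c3 c3, c2⟩
      · have c3 : q₃ * k * q₃⁻¹ = k := by
          rw [← T.m12]
          calc q₁ * q₂ * k * (q₁ * q₂)⁻¹ = q₁ * (q₂ * k * q₂⁻¹) * q₁⁻¹ := by group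
            _ = (q₁ * k * q₁⁻¹)⁻¹ := by rw [i2]; group
            _ = k := by rw [i1, inv_inv]
        have c1 := hprop q₃ q₁ h.q1R T.sq T.c3 c3
        exact ⟨c1, hprop q₁ q₂ hq2R T.sq2 T.c1 c1⟩
  have hc1 : k * q₁ = q₁ * k := by
    have := hboth.1
    calc k * q₁ = (q₁ * k * q₁⁻¹) * q₁ := by rw [this]
      _ = q₁ * k := by group
  have hc2 : k * q₂ = q₂ * k := by
    have := hboth.2
    calc k * q₂ = (q₂ * k * q₂⁻¹) * q₂ := by rw [this]
      _ = q₂ * k := by group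
  obtain ⟨⟨ε₁, hε₁, hu1⟩, ⟨ε₂, hε₂, hu2⟩, ⟨ε₃, hε₃, hu3⟩, hfix⟩ := F.comm_diag hc1 hc2
  have hsq : ∀ x : ZMod 3, x = 1 ∨ x = -1 → x * x = 1 := by decide
  have hsq' : ∀ x : ZMod 3, x ≠ 0 → x * x = 1 := by decide
  have hu4fix : u₄ ∈ fixQ ρ q₁ q₂ := ⟨hu₄.2.1, hu₄.2.2.1⟩
  obtain ⟨c₄, hc₄⟩ := hu₄.2.2.2 _ (hfix u₄ hu4fix).1 (hfix u₄ hu4fix).2
  have hc₄0 : c₄ ≠ 0 := by
    intro e
    rw [e, zero_smul] at hc₄
    exact hu₄.1 (rho_inj ρ k (by rw [hc₄, map_zero]))
  have k1 : ρ (k * k) u₁ = u₁ := by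
    rw [rho_mul, hu1, map_smul, hu1, smul_smul, hsq _ hε₁, one_smul]
  have k2 : ρ (k * k) u₂ = u₂ := by
    rw [rho_mul, hu2, map_smul, hu2, smul_smul, hsq _ hε₂, one_smul]
  have k3 : ρ (k * k) u₃ = u₃ := by
    rw [rho_mul, hu3, map_smul, hu3, smul_smul, hsq _ hε₃, one_smul]
  have k4 : ρ (k * k) u₄ = u₄ := by
    rw [rho_mul, hc₄, map_smul, hc₄, smul_smul, hsq' _ hc₄0, one_smul]
  have hkk : k * k = 1 := by
    apply h.faith _ (R.mul_mem hkR hkR)
    intro v
    obtain ⟨a₁, a₂, a₃, c, hc, rfl⟩ := F.decomp v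
    obtain ⟨a₄, rfl⟩ := hu₄.2.2.2 c hc.1 hc.2
    simp only [map_add, map_smul, k1, k2, k3, k4]
  have h132 : orderOf k ∣ 2 := orderOf_dvd_of_pow_eq_one (by rw [pow_two]; exact hkk)
  rw [hord] at h132
  norm_num at h132

/-- PIECE D: if the common fixed space of the four-group is a line then `R` is a `2`-group. -/
theorem two_group_of_cline (h : Ctx ρ R b q₁ q₂ q₃ u₁ u₂ u₃) (u₄ : V) (hu₄ : CLine ρ q₁ q₂ u₄) :
    IsPGroup 2 ↥R := by
  have hRd := tnd_card_R h u₄ hu₄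
  have h5 := tnd_not_five h u₄ hu₄
  have h13 := tnd_not_thirteen h u₄ hu₄
  have h512 : Nat.card ↥R ∣ 2 ^ 9 := by
    have e : (33280 : ℕ) = 2 ^ 9 * 65 := by norm_num
    rw [e] at hRd
    have hc5 : (Nat.card ↥R).Coprime 5 :=
      ((Nat.Prime.coprime_iff_not_dvd (by norm_num)).mpr h5).symm
    have hc13 : (Nat.card ↥R).Coprime 13 :=
      ((Nat.Prime.coprime_iff_not_dvd (by norm_num)).mpr h13).symm
    have hc65 : (Nat.card ↥R).Coprime 65 := by
      have e65 : (65 : ℕ) = 5 * 13 := by norm_num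
      rw [e65]; exact Nat.Coprime.mul_right hc5 hc13
    exact hc65.dvd_of_dvd_mul_right hRd
  obtain ⟨j, -, hj⟩ := (Nat.dvd_prime_pow Nat.prime_two).mp h512
  exact IsPGroup.of_card hj

end Cfsg.Agent.Lib.helper46
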