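import Cfsg.Agent.Lib.helper81.WTDefs

/-!
# S4414, piece B (core): if the fixed space of `T` lies in a span of two vectors, it is not
`Q`-invariant.  The conclusions of the pieces A, IND, B1, B3, B4, LA, CNT1, QF, P1 are hypotheses.
-/

set_option autoImplicit false

namespace Cfsg.Agent.Lib.helper81.WT

open scoped TensorProduct

universe u v w

theorem helper46_not_invariant_core {S : Type u} [Group S] {F : Type w} [Field F]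
    {V : Type v} [AddCommGroup V] [Module F V]
    (R : Representation F S V) (Y : Subgroup S) [Y.Normal] [Fintype ↥Y]
    (T : Subgroup S) (Q : Subgroup S)
    (w₁ w₂ : V) (hspan : ∀ v ∈ fixT R T, v ∈ Submodule.span F {w₁, w₂})
    (hA : ∃ (μ₀ : ↥Y →* Fˣ) (v₁ v₂ : V), v₁ ≠ 0 ∧ v₂ ≠ 0 ∧ v₁ ∈ fixT R T ∧ v₂ ∈ fixT R T ∧
      supp R Y v₁ ⊆ orb Y T μ₀ ∧ Disjoint (supp R Y v₂) (orb Y T μ₀))
    (hIND : ∀ (v₁ v₂ : V), v₁ ≠ 0 → v₂ ≠ 0 → Disjoint (supp R Y v₁) (supp R Y v₂) →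
      ∀ a b : F, a • v₁ + b • v₂ = 0 → a = 0 ∧ b = 0)
    (hB1 : ∀ (μ₀ : ↥Y →* Fˣ) (v : V), v ≠ 0 → v ∈ fixT R T → supp R Y v ⊆ orb Y T μ₀ →
      supp R Y v = orb Y T μ₀)
    (hB3 : ∀ (v₁ v₂ : V), v₁ ≠ 0 → v₂ ≠ 0 → Disjoint (supp R Y v₁) (supp R Y v₂) →
      ∀ (g : S) (a b : F), R g v₁ = a • v₁ + b • v₂ →
        cj Y g '' supp R Y v₁ = supp R Y v₁ ∨ cj Y g '' supp R Y v₁ = supp R Y v₂)
    (hB4 : ∀ (Θ₁ Θ₂ : Set (↥Y →* Fˣ)), Θ₁.Nonempty → Disjoint Θ₁ Θ₂ → ∀ c : ℕ,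
      Nat.card ↥Θ₁ = 2 ^ c → (∀ x ∈ Q, x ≠ 1 → ∀ μ ∈ Θ₁, cj Y x μ ≠ μ) →
      (∀ g ∈ Q, cj Y g '' Θ₁ = Θ₁ ∨ cj Y g '' Θ₁ = Θ₂) → False)
    (hLA : ∀ (v₁ v₂ : V), v₁ ∈ Submodule.span F {w₁, w₂} → v₂ ∈ Submodule.span F {w₁, w₂} →
      (∀ a b : F, a • v₁ + b • v₂ = 0 → a = 0 ∧ b = 0) → ∀ v : V,
      v ∈ Submodule.span F {w₁, w₂} → ∃ a b : F, v = a • v₁ + b • v₂)
    (hCNT1 : ∀ μ : ↥Y →* Fˣ, ∃ c : ℕ, Nat.card ↥(orb Y T μ) = 2 ^ c)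
    (hQF : ∀ x ∈ Q, x ≠ 1 → ∀ μ : ↥Y →* Fˣ, cj Y x μ = μ → μ = 1)
    (hP1 : proj R Y (1 : ↥Y →* Fˣ) = 0) :
    ∃ x ∈ Q, ∃ v ∈ fixT R T, R x v ∉ fixT R T := by
  by_contra hcon
  push Not at hcon
  obtain ⟨μ₀, v₁, v₂, h1, h2, hf1, hf2, hs1, hd2⟩ := hA
  have hs1' : supp R Y v₁ = orb Y T μ₀ := hB1 μ₀ v₁ h1 hf1 hs1
  have hd : Disjoint (supp R Y v₁) (supp R Y v₂) := by
    rw [hs1']
    exact hd2.symm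
  have hind := hIND v₁ v₂ h1 h2 hd
  have hcomb := hLA v₁ v₂ (hspan v₁ hf1) (hspan v₂ hf2) hind
  obtain ⟨c, hc⟩ := hCNT1 μ₀
  refine hB4 (supp R Y v₁) (supp R Y v₂) ?_ hd c (by rw [hs1']; exact hc) ?_ ?_
  · rw [hs1']
    exact ⟨μ₀, 1, T.one_mem, (cj_one Y μ₀).symm⟩
  · intro x hx hx1 μ hμ heq
    have h3 := hQF x hx hx1 μ heq
    subst h3
    apply hμ
    rw [hP1]
    rfl
  · intro g hg
    obtain ⟨a, b, hab⟩ := hcomb (R g v₁) (hspan _ (hcon g hg v₁ hf1))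
    exact hB3 v₁ v₂ h1 h2 hd g a b hab

end Cfsg.Agent.Lib.helper81.WT
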